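import Cfsg.Agent.Lib.Invol.BrauerL3.AlgSd
import Mathlib.Algebra.Field.ZMod

/-!
# The semidihedral case: the second branch is empty, and the values of `g₀`

In the second branch `D = Q³(Q+1)² + 4 w N₁ N₂²` divides `4 Q³ (Q-1)²`, which bounds `|Q|`.
-/

set_option autoImplicit false
set_option maxRecDepth 100000

namespace Cfsg.Agent.Invol.BrauerL3

/-- No solution with `|Q| ≤ 24`. -/
theorem sd_small : ∀ i ∈ Finset.range 49, ∀ j ∈ Finset.range 601,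
    (((i : ℤ) - 24) % 4 = 3 ∧ 3 ≤ |(i : ℤ) - 24| ∧ ((j : ℤ) - 300) % 2 = 1 ∧
      (((i : ℤ) - 24) * ((i : ℤ) - 24 - 1)) % ((j : ℤ) - 300) = 0) →
      ((fun Q w : ℤ => (Q * (Q * (Q + 1) + 2 * ((Q ^ 2 - 1 - w) * (Q ^ 2 + Q - w))) ^ 2) %
        (Q ^ 3 * (Q + 1) ^ 2 + 4 * w * (Q ^ 2 - 1 - w) * (Q ^ 2 + Q - w) ^ 2)) ((i : ℤ) - 24) ((j : ℤ) - 300)) ≠ 0 := by
  decide +kernel

theorem natAbs_coprime {x y : ℤ} (h : IsCoprime x y) : Nat.Coprime x.natAbs y.natAbs :=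
  Int.isCoprime_iff_nat_coprime.1 h

theorem sd_second {Q w b : ℤ} {p n : ℕ} (hp : p.Prime) (hn : 0 < n)
    (hQ : Q = (p : ℤ) ^ n ∨ Q = -(p : ℤ) ^ n) (h4 : Q % 4 = 3) (hq : 3 ≤ |Q|) (hw : Odd w)
    (hwd : w ∣ Q * (Q - 1)) (hco : IsCoprime w (Q + 1))
    (hb : b * (Q ^ 3 * (Q + 1) ^ 2 + 4 * w * (Q ^ 2 - 1 - w) * (Q ^ 2 + Q - w) ^ 2) =
      -Q * (Q * (Q + 1) + 2 * ((Q ^ 2 - 1 - w) * (Q ^ 2 + Q - w))) ^ 2) : False := by
  set N1 := Q ^ 2 - 1 - w with hN1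
  set N2 := Q ^ 2 + Q - w with hN2
  set P := Q * (Q + 1) + 2 * (N1 * N2) with hP
  obtain ⟨q1, hq1⟩ : ∃ q1, Q + 1 = 4 * q1 := ⟨(Q + 1) / 4, by omega⟩
  set D := Q ^ 3 * (2 * q1) ^ 2 + w * N1 * N2 ^ 2 with hD
  have hD4 : Q ^ 3 * (Q + 1) ^ 2 + 4 * w * N1 * N2 ^ 2 = 4 * D := by rw [hq1, hD]; ring
  have hQodd : Odd Q := Int.odd_iff.2 (by omega)
  have hN1o : Odd N1 := by
    rw [hN1]
    have : Even (Q ^ 2 - 1) := by
      obtain ⟨k, hk⟩ := hQodd; exact ⟨2 * k * k + 2 * k, by rw [hk]; ring⟩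
    exact this.sub_odd hw
  have hN2o : Odd N2 := by
    rw [hN2]
    have : Even (Q ^ 2 + Q) := by
      obtain ⟨k, hk⟩ := hQodd; exact ⟨(k + 1) * (2 * k + 1), by rw [hk]; ring⟩
    exact this.sub_odd hw
  have hDo : Odd D := by
    rw [hD]
    exact (even_two.mul_right q1 |>.pow_of_ne_zero two_ne_zero |>.mul_left _).add_odd ((hw.mul hN1o).mul (hN2o.pow))
  rw [hD4] at hb
  have hDdvd : D ∣ Q * P ^ 2 := ⟨-4 * b, by linear_combination hb⟩
  -- `D` is prime to `Q + 1`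
  have hDQ1 : IsCoprime D (Q + 1) := by
    rw [Int.isCoprime_iff_gcd_eq_one]
    by_contra hne
    obtain ⟨l, hl, hlg⟩ := Nat.exists_prime_and_dvd hne
    have hlD : (l : ℤ) ∣ D := (Int.natCast_dvd_natCast.2 hlg).trans (Int.gcd_dvd_left _ _)
    have hlQ : (l : ℤ) ∣ Q + 1 := (Int.natCast_dvd_natCast.2 hlg).trans (Int.gcd_dvd_right _ _)
    have hl' := Nat.prime_iff_prime_int.1 hl
    have hl2 : ¬ (l : ℤ) ∣ 4 := fun h => by
      have h2 : l ∣ 2 ^ 2 := by exact_mod_cast h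
      rw [(Nat.prime_dvd_prime_iff_eq hl Nat.prime_two).1 (hl.dvd_of_dvd_pow h2)] at hlD
      exact Int.not_even_iff_odd.2 hDo (even_iff_two_dvd.2 hlD)
    have h3 : (l : ℤ) ∣ 4 * (w * N1 * N2 ^ 2) := by
      have := dvd_sub (hlD.mul_left 4) (dvd_mul_of_dvd_right (dvd_pow hlQ two_ne_zero) (Q ^ 3))
      rwa [← hD4, add_sub_cancel_left, mul_assoc, mul_assoc, ← mul_assoc w] at this
    have hlw : ¬ (l : ℤ) ∣ w := fun h => hl'.not_dvd_one (by
      obtain ⟨x, y, hxy⟩ := hco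
      rw [← hxy]; exact dvd_add (dvd_mul_of_dvd_right h _) (dvd_mul_of_dvd_right hlQ _))
    have e1 : (l : ℤ) ∣ Q ^ 2 - 1 := by rw [show Q ^ 2 - 1 = (Q + 1) * (Q - 1) by ring]; exact hlQ.mul_right _
    have e2 : (l : ℤ) ∣ Q ^ 2 + Q := by rw [show Q ^ 2 + Q = (Q + 1) * Q by ring]; exact hlQ.mul_right _
    rcases hl'.dvd_mul.1 h3 with h | h
    · exact hl2 h
    rcases hl'.dvd_mul.1 h with h | h
    · rcases hl'.dvd_mul.1 h with h | h
      · exact hlw h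
      · exact hlw ((dvd_sub_right e1).1 h)
    · exact hlw ((dvd_sub_right e2).1 (hl'.dvd_of_dvd_pow h))
  -- `D ∣ Q gcd(D, P)²`
  set G := (Int.gcd D P : ℤ) with hG
  have hDG : D ∣ Q * G ^ 2 := by
    rw [← Int.natAbs_dvd_natAbs] at hDdvd ⊢
    rw [Int.natAbs_mul, Int.natAbs_pow] at hDdvd ⊢
    rw [hG, Int.natAbs_natCast, Int.gcd_def, ← Nat.pow_gcd_pow, ← Nat.gcd_mul_left]
    exact Nat.dvd_gcd (dvd_mul_of_dvd_right (dvd_pow_self _ two_ne_zero) _) hDdvd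
  have hGD : G ∣ D := Int.gcd_dvd_left _ _
  have hGP : G ∣ P := Int.gcd_dvd_right _ _
  have hGQ1 : IsCoprime G (Q + 1) := hDQ1.of_isCoprime_of_dvd_left hGD
  have h1 : G ∣ (Q + 1) * (Q * (Q ^ 2 * (Q + 1) - 2 * w * N2)) := by
    have := dvd_sub (hGD.mul_left 4) (dvd_mul_of_dvd_right hGP (2 * w * N2))
    have e : (Q + 1) * (Q * (Q ^ 2 * (Q + 1) - 2 * w * N2)) = 4 * D - 2 * w * N2 * P := by
      rw [← hD4, hP]; ring
    rwa [e]
  have h2 : G ∣ Q * (Q ^ 2 * (Q + 1) - 2 * w * N2) := hGQ1.dvd_of_dvd_mul_left h1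
  have h3 : G ∣ (Q + 1) * (Q ^ 2 * (Q - 1) * N2) := by
    have e : (Q + 1) * (Q ^ 2 * (Q - 1) * N2) =
        Q * w * P + N1 * (Q * (Q ^ 2 * (Q + 1) - 2 * w * N2)) := by rw [hP, hN1, hN2]; ring
    rw [e]
    exact dvd_add (dvd_mul_of_dvd_right hGP _) (dvd_mul_of_dvd_right h2 _)
  have h4' : G ∣ Q ^ 2 * (Q - 1) * N2 := hGQ1.dvd_of_dvd_mul_left h3
  have h5 : G ∣ (Q + 1) * (Q ^ 3 * (Q - 1)) := by
    have e : (Q + 1) * (Q ^ 3 * (Q - 1)) = Q ^ 2 * (Q - 1) * P - 2 * N1 * (Q ^ 2 * (Q - 1) * N2) := by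
      rw [hP]; ring
    rw [e]
    exact dvd_sub (dvd_mul_of_dvd_right hGP _) (dvd_mul_of_dvd_right h4' _)
  have h6 : D ∣ Q ^ 7 * (Q - 1) ^ 2 := by
    have := hDG.trans (mul_dvd_mul_left Q (pow_dvd_pow_of_dvd (hGQ1.dvd_of_dvd_mul_left h5) 2))
    rwa [show Q * (Q ^ 3 * (Q - 1)) ^ 2 = Q ^ 7 * (Q - 1) ^ 2 by ring] at this
  have hp2 : p ≠ 2 := by
    intro h
    subst h
    have h2 : Even Q := by
      rcases hQ with e | e <;> rw [e]
      · exact even_two.pow_of_ne_zero hn.ne'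
      · exact (even_two.pow_of_ne_zero hn.ne').neg
    exact Int.not_even_iff_odd.2 hQodd h2
  have hpp := Nat.prime_iff_prime_int.1 hp
  have hQp : ∀ k, (p : ℤ) ^ k ∣ Q ↔ k ≤ n := fun k => by
    rcases hQ with e | e <;> rw [e] <;> simp [pow_dvd_pow_iff hpp.ne_zero hpp.not_unit]
  have hpQ : (p : ℤ) ∣ Q := by simpa using (hQp 1).2 hn
  have hp2' : ¬ (p : ℤ) ∣ 2 := fun h => hp2 ((Nat.prime_dvd_prime_iff_eq hp Nat.prime_two).1 (by exact_mod_cast h))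
  have hpQ1 : ¬ (p : ℤ) ∣ Q + 1 := fun h => hpp.not_dvd_one (by simpa using dvd_sub h hpQ)
  -- the power of `p` in `D`
  have hp3 : ¬ (p : ℤ) ^ (3 * n + 1) ∣ D := by
    intro hD'
    have hP1 : (p : ℤ) ^ (n + 1) ∣ P := by
      by_contra hno
      have hP0 : P ≠ 0 := fun e => hno (e ▸ dvd_zero _)
      obtain ⟨j, r, hr, hjr⟩ := Nat.exists_eq_pow_mul_and_not_dvd (Int.natAbs_ne_zero.2 hP0) p hp.ne_one
      have hj : j ≤ n := by
        by_contra hlt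
        push Not at hlt
        refine hno ?_
        rw [← Int.natCast_pow, Int.natCast_dvd, hjr]
        exact dvd_mul_of_dvd_left (pow_dvd_pow p hlt) r
      have h7 : p ^ (3 * n + 1) ∣ p ^ (n + 2 * j) * r ^ 2 := by
        have h8 := Int.natAbs_dvd_natAbs.2 (hD'.trans hDdvd)
        rw [Int.natAbs_pow, Int.natAbs_natCast, Int.natAbs_mul, Int.natAbs_pow, hjr, abs_pow_of hQ, mul_pow,
          ← mul_assoc, ← pow_mul, ← pow_add, mul_comm j] at h8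
        exact h8
      have h9 := (Nat.Coprime.pow _ _ (hp.coprime_iff_not_dvd.2 hr)).dvd_of_dvd_mul_right h7
      have := (Nat.pow_dvd_pow_iff_le_right hp.one_lt).1 h9
      omega
    have hNN : (p : ℤ) ^ n ∣ N1 * N2 := by
      refine (IsCoprime.pow_left (hpp.coprime_iff_not_dvd.2 hp2')).dvd_of_dvd_mul_left ?_
      have := dvd_sub (dvd_trans (pow_dvd_pow _ (Nat.le_succ n)) hP1) (dvd_mul_of_dvd_left ((hQp n).2 le_rfl) (Q + 1))
      rwa [hP, add_sub_cancel_left] at this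
    by_cases hpw : (p : ℤ) ∣ w
    · have hN1u : ¬ (p : ℤ) ∣ N1 := fun h => hpp.not_dvd_one (by
        have := dvd_sub (dvd_sub (dvd_pow hpQ two_ne_zero) h) hpw
        rwa [show Q ^ 2 - N1 - w = 1 by rw [hN1]; ring] at this)
      have hN2d : (p : ℤ) ^ n ∣ N2 :=
        ((hpp.coprime_iff_not_dvd.2 hN1u).pow_left).dvd_of_dvd_mul_left hNN
      obtain ⟨w', hw'⟩ : Q ∣ w := by
        have h7 : (p : ℤ) ^ n ∣ w := by
          have := dvd_sub (dvd_mul_of_dvd_left ((hQp n).2 le_rfl) (Q + 1)) hN2d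
          rwa [show Q * (Q + 1) - N2 = w by rw [hN2]; ring] at this
        rcases hQ with e | e <;> rw [e]
        · exact h7
        · exact neg_dvd.2 h7
      have hQ0 : Q ≠ 0 := by rintro rfl; simp at hq
      have eP : P = Q * ((Q + 1) + 2 * (N1 * (Q + 1 - w'))) := by rw [hP, hN2, hw']; ring
      have eD : D = Q ^ 3 * ((2 * q1) ^ 2 + w' * N1 * (Q + 1 - w') ^ 2) := by rw [hD, hN2, hw']; ring
      have hp1 : ∀ {x : ℤ} {k : ℕ}, (p : ℤ) ^ (k * n + 1) ∣ Q ^ k * x → (p : ℤ) ∣ x := fun {x k} h => by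
        have h7 : Q ^ k * x = (p : ℤ) ^ (k * n) * x ∨ Q ^ k * x = -((p : ℤ) ^ (k * n) * x) := by
          rcases hQ with e | e
          · left; rw [e, ← pow_mul, mul_comm k]
          · rcases neg_one_pow_eq_or ℤ k with s | s <;> rw [e, neg_pow, s, ← pow_mul, mul_comm k] <;> simp
        have h8 : (p : ℤ) ^ (k * n) * (p : ℤ) ∣ (p : ℤ) ^ (k * n) * x := by
          rw [← pow_succ]
          rcases h7 with e | e <;> rw [e] at h
          · exact h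
          · exact dvd_neg.1 h
        exact (mul_dvd_mul_iff_left (pow_ne_zero _ hpp.ne_zero)).1 h8
      have d1 : (p : ℤ) ∣ (Q + 1) + 2 * (N1 * (Q + 1 - w')) :=
        hp1 (k := 1) (by rw [pow_one, one_mul, ← eP]; exact hP1)
      have d2 : (p : ℤ) ∣ (2 * q1) ^ 2 + w' * N1 * (Q + 1 - w') ^ 2 := hp1 (k := 3) (by rw [← eD]; exact hD')
      haveI : Fact p.Prime := ⟨hp⟩
      rw [← ZMod.intCast_zmod_eq_zero_iff_dvd] at d1 d2
      have q0 : ((Q : ℤ) : ZMod p) = 0 := (ZMod.intCast_zmod_eq_zero_iff_dvd _ p).2 hpQ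
      have q1' : ((Q + 1 : ℤ) : ZMod p) = ((4 * q1 : ℤ) : ZMod p) := by rw [hq1]
      rw [hN1, hw'] at d1 d2
      push_cast [q0] at d1 d2 q1'
      ring_nf at d1 d2 q1'
      have two : (2 : ZMod p) * (w' : ZMod p) = 1 := by linear_combination d1
      have h8 : (1 : ZMod p) = 0 := by
        linear_combination 8 * d2 + (1 + 4 * (q1 : ZMod p)) * q1' * 2 +
          (4 * (w' : ZMod p) ^ 2 - 6 * (w' : ZMod p) + 1) * two
      exact one_ne_zero h8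
    · have hN2u : ¬ (p : ℤ) ∣ N2 := fun h => hpw (by
        have := dvd_sub (dvd_mul_of_dvd_left hpQ (Q + 1)) h
        rwa [show Q * (Q + 1) - N2 = w by rw [hN2]; ring] at this)
      have h7 : (p : ℤ) ^ (3 * n) ∣ w * N1 * N2 ^ 2 := by
        have h7' : (p : ℤ) ^ (3 * n) ∣ Q ^ 3 * (2 * q1) ^ 2 := by
          rw [mul_comm 3 n, pow_mul]
          exact dvd_mul_of_dvd_left (pow_dvd_pow_of_dvd ((hQp n).2 le_rfl) 3) _
        have := dvd_sub ((pow_dvd_pow _ (Nat.le_succ (3 * n))).trans hD') h7'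
        rwa [hD, add_sub_cancel_left] at this
      have h8 : (p : ℤ) ^ (3 * n) ∣ N1 := by
        refine (hpp.coprime_iff_not_dvd.2 hpw).pow_left.dvd_of_dvd_mul_left ?_
        exact ((hpp.coprime_iff_not_dvd.2 hN2u).pow (m := 3 * n) (n := 2)).dvd_of_dvd_mul_right h7
      have h9 : (p : ℤ) ^ (n + 1) ∣ Q * (Q + 1) := by
        have := dvd_sub hP1 (((pow_dvd_pow _ (show n + 1 ≤ 3 * n by omega)).trans h8).mul_left 2 |>.mul_right N2)
        rwa [hP, show Q * (Q + 1) + 2 * (N1 * N2) - 2 * N1 * N2 = Q * (Q + 1) by ring] at this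
      exact absurd ((hQp (n + 1)).1 ((hpp.coprime_iff_not_dvd.2 hpQ1).pow_left.dvd_of_dvd_mul_right h9)) (by omega)
  -- the bound
  clear_value N1 N2 P D
  have hQ0 : Q ≠ 0 := by rintro rfl; simp at hq
  have hQ1 : Q - 1 ≠ 0 := by omega
  have hD0 : D ≠ 0 := fun e => Int.not_even_iff_odd.2 hDo (e ▸ ⟨0, rfl⟩)
  have hbound : |D| ≤ |Q| ^ 3 * (|Q| + 1) ^ 2 := by
    obtain ⟨i, m, hm, him⟩ := Nat.exists_eq_pow_mul_and_not_dvd (Int.natAbs_ne_zero.2 hD0) p hp.ne_one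
    have hi : i ≤ 3 * n := by
      by_contra hlt
      push Not at hlt
      refine hp3 ?_
      rw [← Int.natCast_pow, Int.natCast_dvd, him]
      exact dvd_mul_of_dvd_left (pow_dvd_pow p hlt) m
    have h7 : m ∣ (Q - 1).natAbs ^ 2 := by
      have h8 := Int.natAbs_dvd_natAbs.2 h6
      rw [Int.natAbs_mul, Int.natAbs_pow, Int.natAbs_pow, abs_pow_of hQ, ← pow_mul, him] at h8
      exact (((hp.coprime_iff_not_dvd.2 hm).symm).pow_right _).dvd_of_dvd_mul_left ((dvd_mul_left m _).trans h8)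
    have h8 : D.natAbs ≤ p ^ (3 * n) * (Q - 1).natAbs ^ 2 := by
      rw [him]
      exact Nat.mul_le_mul (Nat.pow_le_pow_right hp.pos hi)
        (Nat.le_of_dvd (pow_pos (Int.natAbs_pos.2 hQ1) 2) h7)
    rw [mul_comm 3 n, pow_mul, ← abs_pow_of hQ] at h8
    have h9 : (D.natAbs : ℤ) ≤ (Q.natAbs : ℤ) ^ 3 * ((Q - 1).natAbs : ℤ) ^ 2 := by exact_mod_cast h8
    simp only [Int.natCast_natAbs] at h9
    refine h9.trans (mul_le_mul_of_nonneg_left (pow_le_pow_left₀ (abs_nonneg _) ?_ 2) (by positivity))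
    exact (abs_sub Q 1).trans (by rw [abs_one])
  have hw0 : w ≠ 0 := fun e => by simp [e] at hw
  have hwle : 2 * |w| ≤ |Q| * (|Q| + 1) := by
    obtain ⟨e, he⟩ := hwd
    have he2 : Even e := by
      have h5 : Even (Q * (Q - 1)) := Even.mul_left (Int.even_iff.2 (by omega)) Q
      rw [he] at h5
      exact (Int.even_mul.1 h5).resolve_left fun h6 => Int.not_even_iff_odd.2 hw h6
    obtain ⟨e', rfl⟩ := he2
    have he0 : e' ≠ 0 := fun e0 => mul_ne_zero hQ0 hQ1 (by rw [he, e0]; ring)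
    have h5 : |Q * (Q - 1)| = |w| * (2 * |e'|) := by rw [he, abs_mul, ← two_mul, abs_mul, abs_two]
    have h6 : |Q * (Q - 1)| ≤ |Q| * (|Q| + 1) := by
      rw [abs_mul]
      exact mul_le_mul_of_nonneg_left ((abs_sub Q 1).trans (by rw [abs_one])) (abs_nonneg Q)
    have h7 : 1 ≤ |e'| := abs_pos.2 he0
    nlinarith [abs_nonneg w]
  rcases le_or_gt |Q| 24 with hs | hs
  · obtain ⟨i, hi⟩ : ∃ i : ℕ, (i : ℤ) = Q + 24 := ⟨(Q + 24).toNat, by rcases abs_cases Q with e | e <;> omega⟩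
    obtain ⟨j, hj⟩ : ∃ j : ℕ, (j : ℤ) = w + 300 := ⟨(w + 300).toNat, by
      have : |Q| * (|Q| + 1) ≤ 24 * 25 := mul_le_mul hs (by omega) (by positivity) (by norm_num)
      rcases abs_cases w with e | e <;> omega⟩
    have hir : i ∈ Finset.range 49 := Finset.mem_range.2 (by rcases abs_cases Q with e | e <;> omega)
    have hjr : j ∈ Finset.range 601 := Finset.mem_range.2 (by
      have : |Q| * (|Q| + 1) ≤ 24 * 25 := mul_le_mul hs (by omega) (by positivity) (by norm_num)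
      rcases abs_cases w with e | e <;> omega)
    have h := sd_small i hir j hjr
    rw [show (i : ℤ) - 24 = Q by omega, show (j : ℤ) - 300 = w by omega] at h
    refine h ⟨h4, hq, Int.odd_iff.1 hw, Int.emod_eq_zero_of_dvd hwd⟩ (Int.emod_eq_zero_of_dvd ⟨-b, ?_⟩)
    simp only [← hN1, ← hN2, ← hP, hD4]
    linear_combination hb
  · have hsq : Q ^ 2 = |Q| * |Q| := by rw [abs_mul_abs_self, pow_two]
    have hwle' : 2 * w ≤ |Q| * |Q| + |Q| := by linarith [le_abs_self w]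
    have hn1 : |Q| * |Q| - |Q| - 2 ≤ 2 * |N1| := by
      linarith [le_abs_self N1]
    have hn2 : |Q| * |Q| - 3 * |Q| ≤ 2 * |N2| := by
      linarith [le_abs_self N2, neg_abs_le Q]
    have hwN : |w * N1 * N2 ^ 2| ≤ 2 * (|Q| ^ 3 * (|Q| + 1) ^ 2) := by
      have h7 : |Q ^ 3 * (2 * q1) ^ 2| ≤ |Q| ^ 3 * (|Q| + 1) ^ 2 := by
        rw [abs_mul, abs_pow, abs_pow]
        refine mul_le_mul_of_nonneg_left (pow_le_pow_left₀ (abs_nonneg _) ?_ 2) (by positivity)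
        rcases abs_cases (2 * q1) with e | e <;> rcases abs_cases Q with e1 | e1 <;> omega
      have h8 : |w * N1 * N2 ^ 2| ≤ |D| + |Q ^ 3 * (2 * q1) ^ 2| := by
        have := abs_sub D (Q ^ 3 * (2 * q1) ^ 2)
        rwa [hD, add_sub_cancel_left, ← hD] at this
      linarith
    have hw1 : 1 ≤ |w| := abs_pos.2 hw0
    set q := |Q|
    have hge : (q * q - q - 2) * (q * q - 3 * q) ^ 2 ≤ 8 * |w * N1 * N2 ^ 2| := by
      rw [abs_mul, abs_mul, abs_pow]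
      have ha : 0 ≤ q * q - q - 2 := by nlinarith
      have hb' : 0 ≤ q * q - 3 * q := by nlinarith
      calc (q * q - q - 2) * (q * q - 3 * q) ^ 2 ≤ 2 * |N1| * (2 * |N2|) ^ 2 :=
            mul_le_mul hn1 (pow_le_pow_left₀ hb' hn2 2) (sq_nonneg _) (by positivity)
        _ = 8 * (1 * |N1| * |N2| ^ 2) := by ring
        _ ≤ 8 * (|w| * |N1| * |N2| ^ 2) := mul_le_mul_of_nonneg_left
            (mul_le_mul_of_nonneg_right (mul_le_mul_of_nonneg_right hw1 (abs_nonneg N1)) (sq_nonneg |N2|))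
            (by norm_num)
    have hfin : (q - 2) * (q - 3) ^ 2 ≤ 16 * q * (q + 1) := by
      have e : (q * q - q - 2) * (q * q - 3 * q) ^ 2 = ((q - 2) * (q - 3) ^ 2) * (q ^ 2 * (q + 1)) := by ring
      have e' : 8 * (2 * (q ^ 3 * (q + 1) ^ 2)) = (16 * q * (q + 1)) * (q ^ 2 * (q + 1)) := by ring
      have : ((q - 2) * (q - 3) ^ 2) * (q ^ 2 * (q + 1)) ≤ (16 * q * (q + 1)) * (q ^ 2 * (q + 1)) := by
        linarith
      exact le_of_mul_le_mul_right this (mul_pos (pow_pos (by omega) 2) (by omega))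
    have e : (q - 2) * (q - 3) ^ 2 - 16 * q * (q + 1) = q ^ 2 * (q - 24) + 5 * q - 18 := by ring
    have h5 : 0 ≤ q ^ 2 * (q - 24) := mul_nonneg (sq_nonneg q) (by omega)
    linarith

/-- The values of `|G| / |C|` for `Q ≡ 3 mod 4`. -/
theorem SdEqs.solve {Q : ℤ} {R : ℚ} (E : SdEqs Q R) (hR : R ≠ 0) {p n : ℕ} (hp : p.Prime) (hn : 0 < n)
    (hQ : Q = (p : ℤ) ^ n ∨ Q = -(p : ℤ) ^ n) (h4 : Q % 4 = 3) {g₀ : ℤ}
    (hg : R * g₀ = ((Q : ℚ) * (Q + 1)) ^ 2) (hgo : Odd g₀)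
    (hE : ∀ l : ℕ, l.Prime → l ≠ 2 → (l : ℤ) ∣ Q + 1 → ¬ (l : ℤ) ∣ g₀) :
    g₀ = Q ^ 2 * (Q ^ 2 + Q + 1) ∨ g₀ = (Q ^ 2 + Q - 1) * (Q ^ 2 + 2 * Q) ∨
      (Q = -5 ∧ g₀ = 357) ∨ (Q = -9 ∧ g₀ = 5025) := by
  have hqp : (3 : ℤ) ≤ |Q| := by
    have h2 : (2 : ℤ) ≤ (p : ℤ) ^ n :=
      le_trans (by exact_mod_cast hp.two_le) (le_self_pow₀ (by exact_mod_cast hp.one_lt.le) hn.ne')
    rcases abs_cases Q with e | e <;> rcases hQ with h | h <;> omega
  have h1 : Q ≠ 1 := by omega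
  have h0 : Q ≠ 0 := by omega
  obtain ⟨hu, hgu, hi, hii⟩ := E.cleared hR h1 h0 hg
  obtain ⟨w, hwu, hgw⟩ := exists_w hu hgu
  have hw : Odd w := by
    rw [hgw] at hgo
    have h5 := (Int.odd_mul.1 hgo).1
    by_contra h
    have h6 : Even (Q ^ 2 - 1 - w) := by
      refine Even.sub ?_ (Int.not_odd_iff_even.1 h)
      obtain ⟨k, hk⟩ : ∃ k, Q = 2 * k + 1 := ⟨Q / 2, by omega⟩
      exact ⟨2 * k * k + 2 * k, by rw [hk]; ring⟩
    exact Int.not_even_iff_odd.2 h5 h6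
  have hco : IsCoprime w (Q + 1) := by
    rw [Int.isCoprime_iff_gcd_eq_one]
    by_contra hne
    obtain ⟨l, hl, hlg⟩ := Nat.exists_prime_and_dvd hne
    have hlw : (l : ℤ) ∣ w := (Int.natCast_dvd_natCast.2 hlg).trans (Int.gcd_dvd_left _ _)
    have hlQ : (l : ℤ) ∣ Q + 1 := (Int.natCast_dvd_natCast.2 hlg).trans (Int.gcd_dvd_right _ _)
    refine hE l hl ?_ hlQ ?_
    · rintro rfl
      exact Int.not_even_iff_odd.2 hw (even_iff_two_dvd.2 hlw)
    · rw [hgw]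
      refine dvd_mul_of_dvd_left (dvd_sub ?_ hlw) _
      rw [show Q ^ 2 - 1 = (Q + 1) * (Q - 1) by ring]
      exact hlQ.mul_right _
  have hwd : w ∣ Q * (Q - 1) := hco.dvd_of_dvd_mul_right
    ⟨E.a + Q, by rw [hwu]; ring⟩
  have e1 : w * E.a = Q * (Q ^ 2 - 1 - w) := by linear_combination hwu
  have e2 : w * (E.a + 1) = (Q - 1) * (Q ^ 2 + Q - w) := by linear_combination hwu
  have hres : ∀ v : ℤ, w = v → g₀ = (Q ^ 2 - 1 - v) * (Q ^ 2 + Q - v) := fun v hv => hv ▸ hgw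
  rcases sd_branches rfl E.a0 E.a1 E.b0 hi hii with h | h
  · have hbr : E.b * (Q + 1 + w) = -(Q * (Q ^ 2 + Q - w)) := by
      refine mul_left_cancel₀ (mul_ne_zero h0 (show Q - 1 ≠ 0 by omega)) ?_
      linear_combination w * h - (E.b + Q ^ 2) * e2 + E.b * (e2 - e1)
    rcases sd_first hp hQ h4 hqp hw hwd hco ((dvd_neg).1 ⟨E.b, by linear_combination -hbr⟩) with h | h | h | h
    · exact Or.inl (by rw [hres _ h]; ring)
    · exact Or.inr (Or.inl (by rw [hres _ h]; ring))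
    · exact Or.inr (Or.inr (Or.inl ⟨h.1, by rw [hres _ h.2, h.1]; norm_num⟩))
    · exact Or.inr (Or.inr (Or.inr ⟨h.1, by rw [hres _ h.2, h.1]; norm_num⟩))
  · exfalso
    refine sd_second hp hn hQ h4 hqp hw hwd hco (b := E.b) ?_
    refine mul_left_cancel₀ (show (Q ^ 2 - 1) ^ 2 * (Q - 1) ^ 2 * Q ≠ 0 from mul_ne_zero (mul_ne_zero
      (pow_ne_zero 2 (by intro e; have : (Q - 1) * (Q + 1) = 0 := by linear_combination e
                         rcases mul_eq_zero.1 this with e | e <;> rcases abs_cases Q with ⟨e', -⟩ | ⟨e', -⟩ <;> omega))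
      (pow_ne_zero 2 (sub_ne_zero.2 h1))) h0) ?_
    set Y := -2 * (Q ^ 2 - 1) * (1 + E.a)
    have eY : w * Y = -2 * (Q ^ 2 - 1) * ((Q - 1) * (Q ^ 2 + Q - w)) := by
      rw [← e2]; simp only [Y]; ring
    have hw4 : E.b * ((w * (E.a + Q)) ^ 4 + w * (w * E.a) * (w * Y) ^ 2) +
        ((w * (E.a + Q)) ^ 2 - (w * E.a) * (w * Y)) ^ 2 = 0 := by
      linear_combination w ^ 4 * h
    rw [hwu, e1, eY] at hw4
    linear_combination hw4

end Cfsg.Agent.Invol.BrauerL3
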