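import Mathlib
import Cfsg.Prelude.Def_Characters

/-!
# Centralisers of type `GL(2, q)`, `GU(2, q)`: the functions used by the order formula

`Q` is `q` in the linear case and `-q` in the unitary case; `N` is `n² / c`, where `n` is the number of non-central
involutions of the centraliser and `c` its order.

`SdFuns` (`Q ≡ 3 mod 4`): five functions `1 - S - λ + λS`, `1 + λS - I(1,λ)`, `1 - S - R(θ)` for three regular `θ` of
2-power order, of which the first has `θ(-1) = 1`, the others `θ(-1) = -1`.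

`WrFuns` (`Q ≡ 1 mod 4`): the same (with an odd prime order `ω`, trivial on the scalars, for the first `θ`), together
with `1 - S - μ + μS`, its complex conjugate and `μ + μ⁻¹S - I(μ, μ⁻¹)` for a character `μ` of order four of the
determinant.  Here `S` is the signed Steinberg character, `R(θ)` the signed cuspidal one.
-/

set_option autoImplicit false

open scoped ComplexConjugate Classical

namespace Cfsg.Agent.Invol.BrauerL3

open Cfsg

universe u

variable {C : Type u} [Group C] [Fintype C]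

/-- The number of ways of writing `x` as a product of two involutions. -/
noncomputable def invPairs (x : C) : ℕ := Nat.card {i : C // orderOf i = 2 ∧ orderOf (i * x) = 2}

/-- The average of a function over the products of two involutions. -/
noncomputable def pairSum (φ : C → ℂ) : ℂ := (Nat.card C : ℂ)⁻¹ * ∑ x : C, φ x * (invPairs x : ℂ)

/-- The inner products of the first five functions. -/
def gramSd : Fin 5 → Fin 5 → ℤ :=
  ![![4, 2, 2, 2, 2], ![2, 3, 1, 1, 1], ![2, 1, 3, 2, 2], ![2, 1, 2, 3, 2], ![2, 1, 2, 2, 3]]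

/-- The inner products of the eight functions. -/
def gramWr : Fin 8 → Fin 8 → ℤ :=
  ![![4, 2, 2, 2, 2, 2, 2, 0], ![2, 3, 1, 1, 1, 1, 1, 0], ![2, 1, 3, 2, 2, 2, 2, 0], ![2, 1, 2, 3, 2, 2, 2, 0],
    ![2, 1, 2, 2, 3, 2, 2, 0], ![2, 1, 2, 2, 2, 4, 2, -1], ![2, 1, 2, 2, 2, 2, 4, 1], ![0, 0, 0, 0, 0, -1, 1, 3]]

/-- The values at the central involution for `Q ≡ 3 mod 4`. -/
def valSd (Q : ℤ) : Fin 5 → ℤ := ![0, 2 * (1 + Q), 0, 2 * (1 - Q), 2 * (1 - Q)]

/-- The values at the central involution for `Q ≡ 1 mod 4`. -/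
def valWr (Q : ℤ) : Fin 8 → ℤ := ![0, 0, 0, 2 * (1 - Q), 2 * (1 - Q), 0, 0, 0]

/-- The averages over pairs of involutions, divided by `N`, for `Q ≡ 3 mod 4`. -/
def pairSd (Q : ℤ) : Fin 5 → ℚ :=
  ![0, ((Q : ℚ) + 1) / Q, ((Q : ℚ) - 1) / Q, ((Q : ℚ) - 1) / Q, ((Q : ℚ) - 1) / Q]

/-- The averages over pairs of involutions, divided by `N`, for `Q ≡ 1 mod 4`. -/
def pairWr (Q : ℤ) : Fin 8 → ℚ :=
  ![0, ((Q : ℚ) - 1) ^ 2 / (Q * (Q + 1)), ((Q : ℚ) - 1) / Q, ((Q : ℚ) - 1) / Q, ((Q : ℚ) - 1) / Q, 0, 0,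
    ((Q : ℚ) - 1) ^ 2 / (Q * (Q + 1))]

/-- Generalised characters supported on `X` with prescribed inner products, multiplicities of the trivial character,
values at `t` and averages. -/
structure Funs (C : Type u) [Group C] [Fintype C] (X : Set C) (t : C) (N : ℚ) {k : ℕ} (gram : Fin k → Fin k → ℤ)
    (tr val : Fin k → ℤ) (pr : Fin k → ℚ) where
  /-- the functions -/
  f : Fin k → C → ℂ
  gen : ∀ i, IsGeneralizedCharacter C (f i)
  supp : ∀ i, ∀ x, f i x ≠ 0 → x ∈ X
  inner : ∀ i j, classInner (f i) (f j) = (gram i j : ℂ)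
  inner_one : ∀ i, classInner (f i) (fun _ => 1) = (tr i : ℂ)
  at_t : ∀ i, f i t = (val i : ℂ)
  pair : ∀ i, pairSum (f i) = ((pr i * N : ℚ) : ℂ)

/-- The functions for `Q ≡ 3 mod 4`. -/
abbrev SdFuns (C : Type u) [Group C] [Fintype C] (X : Set C) (t : C) (Q : ℤ) (N : ℚ) :=
  Funs C X t N gramSd (fun _ => 1) (valSd Q) (pairSd Q)

/-- The functions for `Q ≡ 1 mod 4`. -/
structure WrFuns (C : Type u) [Group C] [Fintype C] (X : Set C) (t : C) (Q : ℤ) (N : ℚ) extends
    Funs C X t N gramWr ![1, 1, 1, 1, 1, 1, 1, 0] (valWr Q) (pairWr Q) where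
  conj_mu : ∀ x, conj (f 5 x) = f 6 x

/-- The elements with `t` among their powers. -/
def rootSet (t : C) : Set C := {x | t ∈ Subgroup.zpowers x}

end Cfsg.Agent.Invol.BrauerL3
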