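import Mathlib
import Cfsg.Agent.Lib.Invol.BrauerL3.Funs
import Cfsg.Agent.Lib.Char.Integral
import Cfsg.Agent.Lib.Char.Quotient

/-!
# The functions from signed irreducible characters

`Funs` is obtained from orthonormal signed irreducible characters, given their values at `1`, at `t` and at a
non-central involution `u`: the averages over pairs of involutions come from the class sum acting as a scalar.
-/

set_option autoImplicit false

open scoped ComplexConjugate Classical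

namespace Cfsg.Agent.Invol.BrauerL3

open Cfsg Finset

universe u w

variable {C : Type u} [Group C]

/-- An irreducible character up to sign. -/
def SgnIrr (C : Type u) [Group C] (f : C → ℂ) : Prop := IsIrrCharacter C f ∨ IsIrrCharacter C (-f)

theorem SgnIrr.neg {f : C → ℂ} (h : SgnIrr C f) : SgnIrr C (-f) := by
  rcases h with h | h
  · exact Or.inr (by rwa [neg_neg])
  · exact Or.inl h

theorem SgnIrr.gen {f : C → ℂ} (h : SgnIrr C f) : IsGeneralizedCharacter C f := by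
  rcases h with h | h
  · exact Cfsg.Agent.Char.IsGenChar.of_isCharacter (Cfsg.Agent.Char.IsIrr.isCharacter h)
  · simpa using Cfsg.Agent.Char.IsGenChar.neg
      (Cfsg.Agent.Char.IsGenChar.of_isCharacter (Cfsg.Agent.Char.IsIrr.isCharacter h))

theorem SgnIrr.classFun {f : C → ℂ} (h : SgnIrr C f) : IsClassFunction C f :=
  Cfsg.Agent.Char.IsGenChar.classFun h.gen

theorem SgnIrr.mul_linear [Finite C] {f : C → ℂ} (h : SgnIrr C f) (l : C →* ℂˣ) :
    SgnIrr C (fun g => (l g : ℂ) * f g) := by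
  rcases h with h | h
  · exact Or.inl (Cfsg.Agent.Char.IsIrr.mul_linear h l)
  · refine Or.inr ?_
    have e : -(fun g => (l g : ℂ) * f g) = fun g => (l g : ℂ) * (-f) g := funext fun g => by simp
    rw [e]
    exact Cfsg.Agent.Char.IsIrr.mul_linear h l

theorem SgnIrr.linear (l : C →* ℂˣ) : SgnIrr C (fun g => (l g : ℂ)) :=
  Or.inl (Cfsg.Agent.Char.isIrr_linear l)

theorem SgnIrr.comp_surjective [Finite C] {H : Type w} [Group H] [Finite H] (φ : H →* C)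
    (hφ : Function.Surjective φ) {f : C → ℂ} (h : SgnIrr C f) : SgnIrr H (fun g => f (φ g)) := by
  rcases h with h | h
  · exact Or.inl (Cfsg.Agent.Char.IsIrr.comp_surjective φ hφ h)
  · exact Or.inr (Cfsg.Agent.Char.IsIrr.comp_surjective φ hφ h)

/-- A signed irreducible character that is constant on the kernel factors through the quotient. -/
theorem SgnIrr.exists_factor {H : Type w} [Group H] [Finite H] {f : H → ℂ} (h : SgnIrr H f) (φ : H →* C)
    (hφ : Function.Surjective φ) (hker : ∀ k ∈ φ.ker, f k = f 1) :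
    ∃ ψ : C → ℂ, SgnIrr C ψ ∧ ∀ g, ψ (φ g) = f g := by
  rcases h with h | h
  · obtain ⟨ψ, hψ, e⟩ := Cfsg.Agent.Char.IsIrr.exists_factor h φ hφ hker
    exact ⟨ψ, Or.inl hψ, e⟩
  · obtain ⟨ψ, hψ, e⟩ := Cfsg.Agent.Char.IsIrr.exists_factor h φ hφ (fun k hk => by simp [hker k hk])
    exact ⟨-ψ, Or.inr (by rwa [neg_neg]), fun g => by simp [e]⟩

theorem SgnIrr.one_ne_zero [Fintype C] {f : C → ℂ} (h : SgnIrr C f) : f 1 ≠ 0 := by
  rcases h with h | h
  · exact Cfsg.Agent.Char.IsIrr.one_ne_zero h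
  · simpa using Cfsg.Agent.Char.IsIrr.one_ne_zero h

theorem SgnIrr.inner_self [Fintype C] {f : C → ℂ} (h : SgnIrr C f) : classInner f f = 1 := by
  rcases h with h | h
  · exact Cfsg.Agent.Char.classInner_self_irr h
  · simpa [Cfsg.Agent.Char.classInner_neg_left, Cfsg.Agent.Char.classInner_neg_right] using
      Cfsg.Agent.Char.classInner_self_irr h

theorem SgnIrr.inner_ne [Fintype C] {f g : C → ℂ} (hf : SgnIrr C f) (hg : SgnIrr C g) (h1 : f ≠ g)
    (h2 : f ≠ -g) : classInner f g = 0 := by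
  have h3 : -f ≠ g := fun e => h2 (by rw [← e, neg_neg])
  have h4 : -f ≠ -g := fun e => h1 (neg_injective e)
  rcases hf with hf | hf <;> rcases hg with hg | hg
  · exact Cfsg.Agent.Char.classInner_irr_ne hf hg h1
  · simpa [Cfsg.Agent.Char.classInner_neg_right] using Cfsg.Agent.Char.classInner_irr_ne hf hg h2
  · simpa [Cfsg.Agent.Char.classInner_neg_left] using Cfsg.Agent.Char.classInner_irr_ne hf hg h3
  · simpa [Cfsg.Agent.Char.classInner_neg_left, Cfsg.Agent.Char.classInner_neg_right] using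
      Cfsg.Agent.Char.classInner_irr_ne hf hg h4

/-- A normal subset acts as a scalar in an irreducible representation. -/
theorem sum_normal_mul [Fintype C] {ψ : C → ℂ} (hψ : IsIrrCharacter C ψ) (S : Finset C)
    (hS : ∀ y ∈ S, ∀ h : C, h * y * h⁻¹ ∈ S) (g : C) :
    ∑ y ∈ S, ψ (g * y) = ψ g * (∑ y ∈ S, ψ y) / ψ 1 := by
  have h1 : ψ 1 ≠ 0 := Cfsg.Agent.Char.IsIrr.one_ne_zero hψ
  obtain ⟨n, ρ, hρ, rfl⟩ := hψ
  haveI := hρ
  have hcomm : ∀ h : C, (∑ y ∈ S, ρ y) ∘ₗ ρ h = ρ h ∘ₗ (∑ y ∈ S, ρ y) := fun h => by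
    show (∑ y ∈ S, ρ y) * ρ h = ρ h * ∑ y ∈ S, ρ y
    rw [Finset.sum_mul, Finset.mul_sum]
    refine Finset.sum_bij' (fun y _ => h⁻¹ * y * h) (fun y _ => h * y * h⁻¹) ?_ ?_ ?_ ?_ ?_
    · exact fun y hy => by simpa using hS y hy h⁻¹
    · exact fun y hy => hS y hy h
    · intro y _; group
    · intro y _; group
    · intro y _
      rw [← map_mul, ← map_mul]
      congr 1
      group
  obtain ⟨c, hc⟩ := Cfsg.Agent.Char.schur_scalar ρ _ hcomm
  have hsum : ∑ y ∈ S, ρ.character y = c * ρ.character 1 := by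
    have h2 := congrArg (LinearMap.trace ℂ (Fin n → ℂ)) hc
    rw [map_sum, map_smul, LinearMap.trace_id, smul_eq_mul] at h2
    rw [Representation.char_one]
    exact h2
  have hmul : ∑ y ∈ S, ρ.character (g * y) = c * ρ.character g := by
    have h2 := congrArg (fun T => LinearMap.trace ℂ (Fin n → ℂ) (ρ g * T)) hc
    simp only [Finset.mul_sum, map_sum, ← map_mul] at h2
    refine h2.trans ?_
    rw [← Module.End.one_eq_id, mul_smul_comm, mul_one, map_smul, smul_eq_mul]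
    rfl
  rw [hmul, hsum]
  field_simp

/-- The involutions of a group. -/
noncomputable def invols (C : Type u) [Group C] [Fintype C] : Finset C := univ.filter fun i => orderOf i = 2

theorem mem_invols [Fintype C] {i : C} : i ∈ invols C ↔ orderOf i = 2 := by simp [invols]

theorem sum_invPairs [Fintype C] (φ : C → ℂ) :
    ∑ x : C, φ x * (invPairs x : ℂ) = ∑ i ∈ invols C, ∑ j ∈ invols C, φ (i * j) := by
  have h : ∀ x : C, (invPairs x : ℂ) = ∑ i ∈ invols C, if i * x ∈ invols C then (1 : ℂ) else 0 := fun x => by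
    rw [← sum_filter, sum_const, nsmul_one, invPairs, Nat.card_eq_fintype_card, Fintype.card_subtype]
    congr 2
    ext i
    simp [mem_invols]
  simp only [h, mul_sum, mul_ite, mul_one, mul_zero]
  rw [sum_comm]
  refine sum_congr rfl fun i hi => ?_
  have hi2 : i * i = 1 := by
    have := pow_orderOf_eq_one i
    rwa [mem_invols.1 hi, sq] at this
  rw [← sum_filter]
  refine sum_nbij' (fun x => i * x) (fun j => i * j) ?_ ?_ ?_ ?_ ?_
  · exact fun x hx => (mem_filter.1 hx).2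
  · exact fun j hj => mem_filter.2 ⟨mem_univ _, by rwa [← mul_assoc, hi2, one_mul]⟩
  · exact fun x _ => by rw [← mul_assoc, hi2, one_mul]
  · exact fun x _ => by rw [← mul_assoc, hi2, one_mul]
  · exact fun x _ => by rw [← mul_assoc, hi2, one_mul]

theorem pairSum_irr [Fintype C] {ψ : C → ℂ} (hψ : IsIrrCharacter C ψ) :
    pairSum ψ = (Nat.card C : ℂ)⁻¹ * ((∑ i ∈ invols C, ψ i) ^ 2 / ψ 1) := by
  have hS : ∀ y ∈ invols C, ∀ h : C, h * y * h⁻¹ ∈ invols C := fun y hy h => by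
    rw [mem_invols] at hy ⊢
    rw [← hy]
    exact orderOf_injective (MulAut.conj h).toMonoidHom (MulAut.conj h).injective y
  rw [pairSum, sum_invPairs]
  simp only [sum_normal_mul hψ _ hS]
  rw [← sum_div, ← sum_mul, sq]

theorem SgnIrr.pairSum [Fintype C] {f : C → ℂ} (h : SgnIrr C f) :
    BrauerL3.pairSum f = (Nat.card C : ℂ)⁻¹ * ((∑ i ∈ invols C, f i) ^ 2 / f 1) := by
  rcases h with h | h
  · exact pairSum_irr h
  · have e := pairSum_irr h
    simp only [BrauerL3.pairSum, Pi.neg_apply, neg_mul, sum_neg_distrib, mul_neg, neg_sq, div_neg] at e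
    exact neg_injective e

/-- `Funs` from orthonormal signed irreducible characters. -/
theorem funs_of_atoms [Fintype C] {k m : ℕ} (v : Fin (k + 1) → C → ℂ) (d a b : Fin (k + 1) → ℤ)
    (M : Fin m → Fin (k + 1) → ℤ) (X : Set C) (t u : C) (n : ℤ) (N : ℚ) (hN : N = (n : ℚ) ^ 2 / Nat.card C)
    (gram : Fin m → Fin m → ℤ) (tr val : Fin m → ℤ) (pr : Fin m → ℚ)
    (hirr : ∀ j, SgnIrr C (v j)) (horth : ∀ i j, i ≠ j → classInner (v i) (v j) = 0)
    (h0 : v 0 = fun _ => 1) (hd : ∀ j, v j 1 = d j) (ha : ∀ j, v j t = a j) (hb : ∀ j, v j u = b j)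
    (hinv : ∀ φ : C → ℂ, IsClassFunction C φ → ∑ i ∈ invols C, φ i = φ t + n * φ u)
    (hgram : ∀ i l, ∑ j, M i j * M l j = gram i l) (htr : ∀ i, M i 0 = tr i) (hval : ∀ i, ∑ j, M i j * a j = val i)
    (hpr : ∀ i, ∑ j, (M i j : ℚ) * (((a j : ℚ) + n * b j) ^ 2 / d j) = pr i * n ^ 2)
    (hsupp : ∀ i x, (∑ j, (M i j : ℂ) * v j x) ≠ 0 → x ∈ X) :
    ∃ Fn : Funs C X t N gram tr val pr, ∀ i x, Fn.f i x = ∑ j, (M i j : ℂ) * v j x := by
  let f : Fin m → C → ℂ := fun i x => ∑ j, (M i j : ℂ) * v j x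
  have hf : ∀ i, f i = ∑ j, (M i j : ℂ) • v j := fun i => funext fun x => by simp [f]
  have hδ : ∀ i j, classInner (v i) (v j) = if i = j then 1 else 0 := fun i j => by
    split_ifs with h
    · exact h ▸ (hirr i).inner_self
    · exact horth i j h
  have hsm : ∀ (r : ℤ) (a c : C → ℂ), classInner a ((r : ℂ) • c) = (r : ℂ) * classInner a c := fun r a c => by
    rw [Cfsg.Agent.Char.classInner_smul_right]; simp
  refine ⟨⟨f, fun i => ?_, hsupp, fun i l => ?_, fun i => ?_, fun i => ?_, fun i => ?_⟩, fun _ _ => rfl⟩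
  · rw [hf]
    exact Cfsg.Agent.Char.IsGenChar.sum fun j _ => Cfsg.Agent.Char.IsGenChar.zsmul (hirr j).gen (M i j)
  · rw [hf, hf, Cfsg.Agent.Char.classInner_sum_left]
    simp only [Cfsg.Agent.Char.classInner_smul_left, Cfsg.Agent.Char.classInner_sum_right, hsm, hδ, mul_ite,
      mul_one, mul_zero, sum_ite_eq, mem_univ, if_true]
    rw [← hgram i l]
    push_cast
    exact sum_congr rfl fun j _ => mul_comm _ _
  · rw [← h0, hf, Cfsg.Agent.Char.classInner_sum_left]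
    simp only [Cfsg.Agent.Char.classInner_smul_left, hδ, mul_ite, mul_one, mul_zero, sum_ite_eq', mem_univ, if_true]
    rw [htr]
  · simp only [f, ha]
    exact_mod_cast hval i
  · have h1 : pairSum (f i) = ∑ j, (M i j : ℂ) * pairSum (v j) := by
      simp only [pairSum, f, Finset.mul_sum, Finset.sum_mul]
      rw [sum_comm]
      exact sum_congr rfl fun j _ => sum_congr rfl fun x _ => by ring
    rw [h1, hN]
    simp only [fun j => (hirr j).pairSum, fun j => hinv _ (hirr j).classFun, ha, hb, hd]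
    have h2 := congrArg (fun r : ℚ => (r : ℂ)) (hpr i)
    push_cast at h2 ⊢
    calc ∑ j, (M i j : ℂ) * ((Nat.card C : ℂ)⁻¹ * (((a j : ℂ) + n * b j) ^ 2 / d j))
        = (Nat.card C : ℂ)⁻¹ * ∑ j, (M i j : ℂ) * (((a j : ℂ) + n * b j) ^ 2 / d j) := by
          rw [mul_sum]; exact sum_congr rfl fun j _ => by ring
      _ = _ := by rw [h2]; ring

/-- Coefficients of the five functions in `1, S, λ, λS, I(1,λ), R₁, R₂, R₃`. -/
def matSd : Fin 5 → Fin 8 → ℤ :=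
  ![![1, -1, -1, 1, 0, 0, 0, 0], ![1, 0, 0, 1, -1, 0, 0, 0], ![1, -1, 0, 0, 0, -1, 0, 0],
    ![1, -1, 0, 0, 0, 0, -1, 0], ![1, -1, 0, 0, 0, 0, 0, -1]]

/-- Degrees. -/
def degSd (Q : ℤ) : Fin 8 → ℤ := ![1, Q, 1, Q, Q + 1, 1 - Q, 1 - Q, 1 - Q]

/-- Values at the central involution. -/
def tSd (Q : ℤ) : Fin 8 → ℤ := ![1, Q, 1, Q, -(Q + 1), 1 - Q, -(1 - Q), -(1 - Q)]

/-- Values at the other involutions. -/
def uSd : Fin 8 → ℤ := ![1, 1, -1, -1, 0, 0, 0, 0]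

theorem gramSd_eq : ∀ i l, ∑ j, matSd i j * matSd l j = gramSd i l := by decide

theorem prSd_eq (Q : ℤ) (h0 : Q ≠ 0) (h1 : Q ≠ 1) (h2 : Q ≠ -1) (i : Fin 5) :
    ∑ j, (matSd i j : ℚ) * (((tSd Q j : ℚ) + (Q * (Q + 1) : ℤ) * uSd j) ^ 2 / degSd Q j) =
      pairSd Q i * ((Q * (Q + 1) : ℤ) : ℚ) ^ 2 := by
  have e0 : (Q : ℚ) ≠ 0 := by exact_mod_cast h0
  have e1 : (1 : ℚ) - Q ≠ 0 := sub_ne_zero.2 (by exact_mod_cast Ne.symm h1)
  have e2 : (Q : ℚ) + 1 ≠ 0 := fun e => h2 (by exact_mod_cast eq_neg_of_add_eq_zero_left e)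
  fin_cases i <;>
    simp [Fin.sum_univ_succ, matSd, tSd, uSd, degSd, pairSd] <;> field_simp <;> ring

theorem sdFuns_of_atoms [Fintype C] (v : Fin 8 → C → ℂ) (X : Set C) (t u : C) (Q : ℤ) (N : ℚ)
    (h0Q : Q ≠ 0) (h1Q : Q ≠ 1) (h2Q : Q ≠ -1)
    (hN : N = ((Q * (Q + 1) : ℤ) : ℚ) ^ 2 / Nat.card C) (hirr : ∀ j, SgnIrr C (v j))
    (horth : ∀ i j, i ≠ j → classInner (v i) (v j) = 0) (h0 : v 0 = fun _ => 1)
    (hd : ∀ j, v j 1 = degSd Q j) (ha : ∀ j, v j t = tSd Q j) (hb : ∀ j, v j u = uSd j)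
    (hinv : ∀ φ : C → ℂ, IsClassFunction C φ → ∑ i ∈ invols C, φ i = φ t + ((Q * (Q + 1) : ℤ) : ℂ) * φ u)
    (hsupp : ∀ i x, (∑ j, (matSd i j : ℂ) * v j x) ≠ 0 → x ∈ X) :
    ∃ F : SdFuns C X t Q N, ∀ i x, F.f i x = ∑ j, (matSd i j : ℂ) * v j x := by
  obtain ⟨Fn, hFn⟩ := funs_of_atoms v _ _ _ matSd X t u (Q * (Q + 1)) N hN gramSd (fun _ => 1) (valSd Q) (pairSd Q)
    hirr horth h0 hd ha hb hinv gramSd_eq (by decide)
    (fun i => by fin_cases i <;> simp [Fin.sum_univ_succ, matSd, tSd, valSd] <;> ring)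
    (prSd_eq Q h0Q h1Q h2Q) hsupp
  exact ⟨Fn, hFn⟩

/-- Coefficients of the eight functions in `1, S, λ, λS, I(1,λ), R₁, R₂, R₃, μ, μS, μ⁻¹, μ⁻¹S, I(μ,μ⁻¹)`. -/
def matWr : Fin 8 → Fin 13 → ℤ :=
  ![![1, -1, -1, 1, 0, 0, 0, 0, 0, 0, 0, 0, 0], ![1, 0, 0, 1, -1, 0, 0, 0, 0, 0, 0, 0, 0],
    ![1, -1, 0, 0, 0, -1, 0, 0, 0, 0, 0, 0, 0], ![1, -1, 0, 0, 0, 0, -1, 0, 0, 0, 0, 0, 0],
    ![1, -1, 0, 0, 0, 0, 0, -1, 0, 0, 0, 0, 0], ![1, -1, 0, 0, 0, 0, 0, 0, -1, 1, 0, 0, 0],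
    ![1, -1, 0, 0, 0, 0, 0, 0, 0, 0, -1, 1, 0], ![0, 0, 0, 0, 0, 0, 0, 0, 1, 0, 0, 1, -1]]

/-- Degrees. -/
def degWr (Q : ℤ) : Fin 13 → ℤ := ![1, Q, 1, Q, Q + 1, 1 - Q, 1 - Q, 1 - Q, 1, Q, 1, Q, Q + 1]

/-- Values at the central involution. -/
def tWr (Q : ℤ) : Fin 13 → ℤ := ![1, Q, 1, Q, Q + 1, 1 - Q, -(1 - Q), -(1 - Q), 1, Q, 1, Q, Q + 1]

/-- Values at the other involutions; `s` is the value of `μ` at `-1`. -/
def uWr (s : ℤ) : Fin 13 → ℤ := ![1, 1, 1, 1, 2, 0, 0, 0, s, s, s, s, 2 * s]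

theorem gramWr_eq : ∀ i l, ∑ j, matWr i j * matWr l j = gramWr i l := by decide

theorem prWr_eq (Q s : ℤ) (hs : s = 1 ∨ s = -1) (h0 : Q ≠ 0) (h1 : Q ≠ 1) (h2 : Q ≠ -1) (i : Fin 8) :
    ∑ j, (matWr i j : ℚ) * (((tWr Q j : ℚ) + (Q * (Q + 1) : ℤ) * uWr s j) ^ 2 / degWr Q j) =
      pairWr Q i * ((Q * (Q + 1) : ℤ) : ℚ) ^ 2 := by
  have e0 : (Q : ℚ) ≠ 0 := by exact_mod_cast h0
  have e1 : (1 : ℚ) - Q ≠ 0 := sub_ne_zero.2 (by exact_mod_cast Ne.symm h1)
  have e2 : (Q : ℚ) + 1 ≠ 0 := fun e => h2 (by exact_mod_cast eq_neg_of_add_eq_zero_left e)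
  rcases hs with rfl | rfl <;> fin_cases i <;>
    simp [Fin.sum_univ_succ, matWr, tWr, uWr, degWr, pairWr] <;> field_simp <;> ring

theorem wrFuns_of_atoms [Fintype C] (v : Fin 13 → C → ℂ) (X : Set C) (t u : C) (Q s : ℤ) (N : ℚ)
    (hs : s = 1 ∨ s = -1) (h0Q : Q ≠ 0) (h1Q : Q ≠ 1) (h2Q : Q ≠ -1)
    (hN : N = ((Q * (Q + 1) : ℤ) : ℚ) ^ 2 / Nat.card C) (hirr : ∀ j, SgnIrr C (v j))
    (horth : ∀ i j, i ≠ j → classInner (v i) (v j) = 0) (h0 : v 0 = fun _ => 1)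
    (hd : ∀ j, v j 1 = degWr Q j) (ha : ∀ j, v j t = tWr Q j) (hb : ∀ j, v j u = uWr s j)
    (hinv : ∀ φ : C → ℂ, IsClassFunction C φ → ∑ i ∈ invols C, φ i = φ t + ((Q * (Q + 1) : ℤ) : ℂ) * φ u)
    (hsupp : ∀ i x, (∑ j, (matWr i j : ℂ) * v j x) ≠ 0 → x ∈ X)
    (hS : ∀ x, conj (v 1 x) = v 1 x) (hμ : ∀ x, conj (v 8 x) = v 10 x) (hμS : ∀ x, conj (v 9 x) = v 11 x) :
    ∃ F : WrFuns C X t Q N, ∀ i x, F.f i x = ∑ j, (matWr i j : ℂ) * v j x := by
  obtain ⟨Fn, hFn⟩ := funs_of_atoms v _ _ _ matWr X t u (Q * (Q + 1)) N hN gramWr ![1, 1, 1, 1, 1, 1, 1, 0] (valWr Q) (pairWr Q)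
    hirr horth h0 hd ha hb hinv gramWr_eq (by decide)
    (fun i => by fin_cases i <;> simp [Fin.sum_univ_succ, matWr, tWr, valWr] <;> ring)
    (prWr_eq Q s hs h0Q h1Q h2Q) hsupp
  refine ⟨⟨Fn, fun x => ?_⟩, hFn⟩
  have hμ' : conj (v (8 : Fin 13) x) = v 10 x := hμ x
  have h1 : v 0 x = 1 := congrFun h0 x
  simp only [hFn, map_sum, map_mul, map_intCast]
  simp [Fin.sum_univ_succ, matWr]
  rw [show conj (v 0 x) = v 0 x by rw [h1, map_one]]
  simp [hS x]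
  rw [hμ', hμS x]

end Cfsg.Agent.Invol.BrauerL3
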