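import Mathlib
import Cfsg.Agent.Lib.Block.SL2Char.Homs

/-!
# Linear characters of a cyclic group of order `Q² - 1`

The characters used for the functions of `Funs`: `λ`, `μ` on the elements killed by `Q - 1`, and on the whole group
the characters `θ` of order four (resp. of odd prime order `l ∣ Q + 1`) and of full 2-power order.
-/

set_option autoImplicit false

namespace Cfsg.Agent.Invol.BrauerL3

open Cfsg.Agent.Block.SL2Char (cv)

universe v

variable {K : Type v} [CommGroup K]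

/-- The elements killed by `Q - 1`. -/
abbrev scal (K : Type v) [CommGroup K] (Q : ℤ) : Subgroup K := (zpowGroupHom (Q - 1) : K →* K).ker

theorem mem_scal {Q : ℤ} {x : K} : x ∈ scal K Q ↔ x ^ (Q - 1) = 1 := by
  simp [scal, MonoidHom.mem_ker, zpowGroupHom]

theorem mem_scal_iff_fix {Q : ℤ} {x : K} : x ∈ scal K Q ↔ x ^ Q = x := by
  rw [mem_scal, zpow_sub_one, mul_inv_eq_one]

theorem zpow_fix {Q : ℤ} (hN : ∀ x : K, x ^ (Q * Q) = x) (x : K) : (x ^ Q) ^ Q = x := by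
  rw [← zpow_mul, hN]

/-- A faithful linear character of a finite cyclic group. -/
theorem exists_faithful [Finite K] [IsCyclic K] : ∃ χ : K →* ℂˣ, Function.Injective χ := by
  haveI : NeZero (Nat.card K) := ⟨Nat.card_pos.ne'⟩
  haveI : IsCyclic (rootsOfUnity (Nat.card K) ℂ) := rootsOfUnity.isCyclic ℂ _
  have hc : Nat.card K = Nat.card (rootsOfUnity (Nat.card K) ℂ) := (Complex.card_rootsOfUnity _).symm
  refine ⟨(rootsOfUnity (Nat.card K) ℂ).subtype.comp (mulEquivOfCyclicCardEq hc).toMonoidHom, ?_⟩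
  exact Subtype.val_injective.comp (mulEquivOfCyclicCardEq hc).injective

theorem units_sq_eq_one {z : ℂˣ} (h : z * z = 1) : z = 1 ∨ z = -1 := by
  have h' : (z : ℂ) * z = 1 := by rw [← Units.val_mul, h, Units.val_one]
  rcases mul_self_eq_one_iff.1 h' with h1 | h1
  · exact Or.inl (Units.ext h1)
  · exact Or.inr (Units.ext (by simpa using h1))

/-- The involution of a cyclic group of even order. -/
theorem exists_invol [Finite K] [IsCyclic K] (h : 2 ∣ Nat.card K) :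
    ∃ e : K, e ≠ 1 ∧ e * e = 1 ∧ (∀ x : K, x * x = 1 → x = 1 ∨ x = e) ∧
      (∀ x : K, Even (orderOf x) → x ^ (orderOf x / 2) = e) := by
  classical
  haveI : Fintype K := Fintype.ofFinite K
  obtain ⟨g, hg⟩ := IsCyclic.exists_ofOrder_eq_natCard (α := K)
  set e := g ^ (Nat.card K / 2) with he
  have hee : e * e = 1 := by
    rw [he, ← pow_add, show Nat.card K / 2 + Nat.card K / 2 = orderOf g by rw [hg]; omega, pow_orderOf_eq_one]
  have hne : e ≠ 1 := fun e1 => by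
    have := orderOf_dvd_of_pow_eq_one e1
    rw [hg] at this
    obtain ⟨k, hk⟩ := h
    have h2 := Nat.le_of_dvd (by have := Nat.card_pos (α := K); omega) this
    have := Nat.card_pos (α := K)
    omega
  have huniq : ∀ x : K, x * x = 1 → x = 1 ∨ x = e := by
    intro x hx
    by_contra hc
    push Not at hc
    have h2 := IsCyclic.card_pow_eq_one_le (α := K) (n := 2) (by norm_num)
    have hsub : ({1, e, x} : Finset K) ⊆ Finset.univ.filter fun a : K => a ^ 2 = 1 := by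
      intro y hy
      simp only [Finset.mem_insert, Finset.mem_singleton] at hy
      simp only [Finset.mem_filter, Finset.mem_univ, true_and, sq]
      rcases hy with rfl | rfl | rfl
      · simp
      · exact hee
      · exact hx
    have h3 := (Finset.card_le_card hsub).trans h2
    rw [Finset.card_insert_of_notMem (by simp [Ne.symm hne, Ne.symm hc.1]),
      Finset.card_insert_of_notMem (by simpa using Ne.symm hc.2), Finset.card_singleton] at h3
    omega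
  refine ⟨e, hne, hee, huniq, fun x hx => ?_⟩
  have hpos := orderOf_pos x
  obtain ⟨k, hk⟩ := hx
  have hk2 : orderOf x / 2 = k := by omega
  rw [hk2]
  refine (huniq _ ?_).resolve_left fun h1 => ?_
  · rw [← pow_add, ← hk, pow_orderOf_eq_one]
  · have := Nat.le_of_dvd (by omega) (orderOf_dvd_of_pow_eq_one h1)
    omega

theorem odd_pow_eq_one {x : K} (hx : Odd (orderOf x)) {n m : ℕ} (hn : x ^ n = 1) {r : ℕ} (h : n = 2 ^ r * m) :
    x ^ m = 1 := by
  refine orderOf_dvd_iff_pow_eq_one.1 ?_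
  refine (Nat.Coprime.dvd_of_dvd_mul_left ?_ (h ▸ orderOf_dvd_of_pow_eq_one hn))
  exact Nat.Coprime.pow_right r (Nat.coprime_two_right.2 hx)

/-- The kernel and values of `χ ∘ (· ^ k)` for a faithful `χ`. -/
theorem comp_pow_eq_one {χ : K →* ℂˣ} (hχ : Function.Injective χ) (k : ℕ) (x : K) :
    (χ.comp (powMonoidHom k)) x = 1 ↔ x ^ k = 1 := by
  rw [MonoidHom.comp_apply, powMonoidHom_apply, ← map_one χ, hχ.eq_iff]

theorem comp_pow_invol {χ : K →* ℂˣ} (hχ : Function.Injective χ) (k : ℕ) {e : K} (hne : e ≠ 1) (hee : e * e = 1) :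
    (χ.comp (powMonoidHom k)) e = if Even k then 1 else -1 := by
  have he : e ^ k = if Even k then 1 else e := by
    rcases Nat.even_or_odd k with hk | hk
    · rw [if_pos hk]
      obtain ⟨j, rfl⟩ := hk
      rw [← two_mul, pow_mul, sq, hee, one_pow]
    · rw [if_neg (Nat.not_even_iff_odd.2 hk)]
      obtain ⟨j, rfl⟩ := hk
      rw [pow_succ, pow_mul, sq, hee, one_pow, one_mul]
  rw [MonoidHom.comp_apply, powMonoidHom_apply, he]
  split_ifs with h
  · exact map_one χ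
  · refine (units_sq_eq_one (by rw [← map_mul, hee, map_one])).resolve_left fun h1 => hne ?_
    exact hχ (h1.trans (map_one χ).symm)

theorem natAbs_card_scal [Finite K] [IsCyclic K] {Q : ℤ} (hK : (Nat.card K : ℤ) = Q ^ 2 - 1) :
    Nat.card (scal K Q) = (Q - 1).natAbs := by
  have h : scal K Q = (powMonoidHom (Q - 1).natAbs : K →* K).ker := by
    ext x
    rw [mem_scal, MonoidHom.mem_ker, powMonoidHom_apply, pow_natAbs_eq_one]
  rw [h, IsCyclic.card_powMonoidHom_ker, Nat.gcd_eq_right]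
  rw [← Int.natCast_dvd_natCast, hK, Int.natAbs_dvd]
  exact ⟨Q + 1, by ring⟩

variable [Finite K] [IsCyclic K] {Q : ℤ}

/-- The quadratic character of the scalars. -/
theorem exists_lam (hQ : Odd Q) (hQ1 : Q ≠ 1) (hK : (Nat.card K : ℤ) = Q ^ 2 - 1) :
    ∃ lam : scal K Q →* ℂˣ, (∀ x, lam x * lam x = 1) ∧ (∀ x, Odd (orderOf x) → lam x = 1) ∧
      (∀ e : scal K Q, e ≠ 1 → e * e = 1 → lam e = if Q % 4 = 1 then 1 else -1) ∧ (∃ g, lam g = -1) := by
  obtain ⟨χ, hχ⟩ := exists_faithful (K := scal K Q)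
  have hc := natAbs_card_scal hK
  obtain ⟨m, hm⟩ : 2 ∣ (Q - 1).natAbs := by obtain ⟨k, rfl⟩ := hQ; omega
  obtain ⟨g, hg⟩ := IsCyclic.exists_ofOrder_eq_natCard (α := scal K Q)
  have hsq : ∀ x : scal K Q, x ^ (2 * m) = 1 := fun x => by rw [← hm, ← hc]; exact pow_card_eq_one'
  have hl2 : ∀ x, (χ.comp (powMonoidHom m)) x * (χ.comp (powMonoidHom m)) x = 1 := fun x => by
    simp only [MonoidHom.comp_apply, powMonoidHom_apply]
    rw [← map_mul, ← pow_add, ← two_mul, hsq, map_one]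
  refine ⟨χ.comp (powMonoidHom m), hl2, fun x hx => ?_, fun e hne hee => ?_, g, ?_⟩
  · exact (comp_pow_eq_one hχ m x).2 (odd_pow_eq_one hx (hsq x) (r := 1) (by simp))
  · rw [comp_pow_invol hχ m hne hee]
    refine if_congr ?_ rfl rfl
    rw [Nat.even_iff]
    omega
  · refine (units_sq_eq_one (hl2 g)).resolve_left fun h => ?_
    have := orderOf_dvd_of_pow_eq_one ((comp_pow_eq_one hχ m g).1 h)
    rw [hg, hc, hm] at this
    have h2 := Nat.le_of_dvd (by omega) this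
    omega

/-- A square root of the quadratic character. -/
theorem exists_mu (hQ : Q % 4 = 1) (hQ1 : Q ≠ 1) (hK : (Nat.card K : ℤ) = Q ^ 2 - 1) :
    ∃ lam mu : scal K Q →* ℂˣ, (∀ x, mu x * mu x = lam x) ∧ (∀ x, lam x * lam x = 1) ∧
      (∀ x, Odd (orderOf x) → mu x = 1) ∧ (∀ e : scal K Q, e ≠ 1 → e * e = 1 → lam e = 1) ∧
      (∃ g, lam g = -1) := by
  obtain ⟨χ, hχ⟩ := exists_faithful (K := scal K Q)
  have hc := natAbs_card_scal hK
  obtain ⟨m, hm⟩ : 4 ∣ (Q - 1).natAbs := by omega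
  obtain ⟨g, hg⟩ := IsCyclic.exists_ofOrder_eq_natCard (α := scal K Q)
  have hsq : ∀ x : scal K Q, x ^ (4 * m) = 1 := fun x => by rw [← hm, ← hc]; exact pow_card_eq_one'
  set mu := χ.comp (powMonoidHom m) with hmu
  have hmu2 : ∀ x, (mu * mu) x = (χ.comp (powMonoidHom (2 * m))) x := fun x => by
    simp only [hmu, MonoidHom.mul_apply, MonoidHom.comp_apply, powMonoidHom_apply]
    rw [← map_mul, ← pow_add, ← two_mul]
  have hl2 : ∀ x, (mu * mu) x * (mu * mu) x = 1 := fun x => by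
    simp only [hmu, MonoidHom.mul_apply, MonoidHom.comp_apply, powMonoidHom_apply]
    rw [← map_mul, ← map_mul, ← pow_add, ← pow_add, show m + m + (m + m) = 4 * m by ring, hsq, map_one]
  refine ⟨mu * mu, mu, fun x => rfl, hl2, fun x hx => ?_, fun e hne hee => ?_, g, ?_⟩
  · exact (comp_pow_eq_one hχ m x).2 (odd_pow_eq_one hx (hsq x) (r := 2) (by norm_num))
  · rw [hmu2, comp_pow_invol hχ (2 * m) hne hee, if_pos ⟨m, two_mul m⟩]
  · refine (units_sq_eq_one (hl2 g)).resolve_left fun h => ?_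
    rw [hmu2, comp_pow_eq_one hχ] at h
    have := orderOf_dvd_of_pow_eq_one h
    rw [hg, hc, hm] at this
    have h2 := Nat.le_of_dvd (by omega) this
    omega

theorem gen_zpow_eq_one {g : K} (hg : orderOf g = Nat.card K) (k : ℕ) (j : ℤ) :
    (g ^ k) ^ j = 1 ↔ (Nat.card K : ℤ) ∣ k * j := by
  rw [← zpow_natCast, ← zpow_mul, ← orderOf_dvd_iff_zpow_eq_one, hg]

/-- Two conjugate characters of full 2-power order. -/
theorem exists_theta_two (hQ : Odd Q) (hQ1 : Q ≠ 1) (hQ2 : Q ≠ -1) (hK : (Nat.card K : ℤ) = Q ^ 2 - 1) :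
    ∃ θ : K →* ℂˣ, (∀ x, Odd (orderOf x) → θ x = 1) ∧ (∀ e, e ≠ 1 → e * e = 1 → θ e = -1) ∧
      (∃ l, θ (l ^ Q) ≠ θ l) ∧ (∃ l, θ⁻¹ (l ^ Q) ≠ θ⁻¹ l) ∧ (∃ l, θ⁻¹ l ≠ θ l) ∧
      (∃ l, θ⁻¹ l ≠ θ (l ^ Q)) := by
  obtain ⟨χ, hχ⟩ := exists_faithful (K := K)
  obtain ⟨g, hg⟩ := IsCyclic.exists_ofOrder_eq_natCard (α := K)
  obtain ⟨a, o, ho, hno⟩ := Nat.exists_eq_two_pow_mul_odd (Nat.card_pos (α := K)).ne'
  have hsq : ∀ x : K, x ^ (2 ^ a * o) = 1 := fun x => by rw [← hno]; exact pow_card_eq_one'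
  set θ := χ.comp (powMonoidHom o) with hθ
  have key : ∀ j : ℤ, θ (g ^ j) = 1 → (2 : ℤ) ^ a ∣ j := fun j h => by
    have h1 := (comp_pow_eq_one hχ o (g ^ j)).1 h
    rw [← zpow_natCast, ← zpow_mul, ← orderOf_dvd_iff_zpow_eq_one, hg, hno] at h1
    push_cast at h1
    rw [mul_comm j] at h1
    exact Int.dvd_of_mul_dvd_mul_left (show (o : ℤ) ≠ 0 by exact_mod_cast ho.pos.ne') (by rwa [mul_comm (o : ℤ)])
  -- the 2-part of `Q² - 1`
  obtain ⟨k, rfl⟩ := hQ
  have hn : ((2 : ℤ) ^ a) * o = 4 * k * (k + 1) := by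
    have : ((Nat.card K : ℕ) : ℤ) = (2 : ℤ) ^ a * o := by rw [hno]; push_cast; rfl
    rw [← this, hK]; ring
  have hk0 : k ≠ 0 := fun h => hQ1 (by omega)
  have hk1 : k + 1 ≠ 0 := fun h => hQ2 (by omega)
  have hoI : Odd (o : ℤ) := by exact_mod_cast ho
  have hbad : ∀ c : ℤ, c ≠ 0 → ∀ d : ℤ, (2 : ℤ) ^ a * o = c * (2 * d) → ¬ (2 : ℤ) ^ a ∣ c := by
    rintro c hc d hcd ⟨r, rfl⟩
    have h2 : (o : ℤ) = 2 * (r * d) := mul_left_cancel₀ (pow_ne_zero a two_ne_zero) (by rw [hcd]; ring)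
    rw [h2] at hoI
    exact (Int.not_odd_iff_even.2 ⟨r * d, by ring⟩) hoI
  refine ⟨θ, fun x hx => ?_, fun e hne hee => ?_, ⟨g, ?_⟩, ⟨g, ?_⟩, ⟨g, ?_⟩, ⟨g, ?_⟩⟩
  · exact (comp_pow_eq_one hχ o x).2 (odd_pow_eq_one hx (hsq x) rfl)
  · rw [hθ, comp_pow_invol hχ o hne hee, if_neg (Nat.not_even_iff_odd.2 ho)]
  · intro h
    refine hbad (2 * k) (by omega) (k + 1) (by rw [hn]; ring) ?_
    have h1 : θ (g ^ (2 * k)) = 1 := by
      rw [show g ^ (2 * k) = g ^ (2 * k + 1) * g⁻¹ by rw [zpow_add_one, mul_inv_cancel_right], map_mul, h, map_inv,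
        mul_inv_cancel]
    exact key _ h1
  · intro h
    refine hbad (2 * k) (by omega) (k + 1) (by rw [hn]; ring) ?_
    have h' : θ (g ^ (2 * k + 1)) = θ g := inv_injective h
    have h1 : θ (g ^ (2 * k)) = 1 := by
      rw [show g ^ (2 * k) = g ^ (2 * k + 1) * g⁻¹ by rw [zpow_add_one, mul_inv_cancel_right], map_mul, h', map_inv,
        mul_inv_cancel]
    exact key _ h1
  · intro h
    have h1 : θ (g ^ (2 : ℤ)) = 1 := by
      rw [zpow_two, map_mul]
      nth_rewrite 1 [← show θ⁻¹ g = θ g from h]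
      exact inv_mul_cancel _
    exact hbad 2 two_ne_zero (k * (k + 1)) (by rw [hn]; ring) (key _ h1)
  · intro h
    refine hbad (2 * (k + 1)) (by omega) k (by rw [hn]; ring) (key _ ?_)
    rw [show g ^ (2 * (k + 1)) = g ^ (2 * k + 1) * g by rw [← zpow_add_one]; ring_nf, map_mul, ← h]
    exact inv_mul_cancel _

/-- A character of order four, for `Q ≡ 3 mod 4`. -/
theorem exists_theta_four (hQ : Q % 4 = 3) (hQ2 : Q ≠ -1) (hK : (Nat.card K : ℤ) = Q ^ 2 - 1) :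
    ∃ θ : K →* ℂˣ, (∀ x, Odd (orderOf x) → θ x = 1) ∧ (∀ e, e ≠ 1 → e * e = 1 → θ e = 1) ∧
      (∃ l, θ (l ^ Q) ≠ θ l) := by
  obtain ⟨χ, hχ⟩ := exists_faithful (K := K)
  obtain ⟨g, hg⟩ := IsCyclic.exists_ofOrder_eq_natCard (α := K)
  obtain ⟨b, rfl⟩ : ∃ b, Q = 4 * b + 3 := ⟨Q / 4, by omega⟩
  obtain ⟨m, hm⟩ : 8 ∣ Nat.card K := by
    rw [← Int.natCast_dvd_natCast, hK]
    exact ⟨(2 * b + 1) * (b + 1), by push_cast; ring⟩
  have hsq : ∀ x : K, x ^ (4 * (2 * m)) = 1 := fun x => by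
    rw [show 4 * (2 * m) = Nat.card K by omega]; exact pow_card_eq_one'
  refine ⟨χ.comp (powMonoidHom (2 * m)), fun x hx => ?_, fun e hne hee => ?_, g, fun h => ?_⟩
  · exact (comp_pow_eq_one hχ _ x).2 (odd_pow_eq_one hx (hsq x) (r := 2) (by norm_num))
  · rw [comp_pow_invol hχ _ hne hee, if_pos ⟨m, two_mul m⟩]
  · have h1 : (χ.comp (powMonoidHom (2 * m))) (g ^ (4 * b + 2)) = 1 := by
      rw [show g ^ (4 * b + 2) = g ^ (4 * b + 3) * g⁻¹ by
        rw [show 4 * b + 3 = 4 * b + 2 + 1 by ring, zpow_add_one, mul_inv_cancel_right], map_mul, h, map_inv,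
        mul_inv_cancel]
    rw [comp_pow_eq_one hχ, ← zpow_natCast, ← zpow_mul, ← orderOf_dvd_iff_zpow_eq_one, hg, hm] at h1
    obtain ⟨r, hr⟩ := h1
    have hm0 : (m : ℤ) ≠ 0 := by
      intro h0
      have := Nat.card_pos (α := K)
      omega
    push_cast at hr
    have h2 : 2 * b + 1 = 2 * r := mul_left_cancel₀ (mul_ne_zero (show (4 : ℤ) ≠ 0 by norm_num) hm0)
      (by linear_combination hr)
    omega

/-- A character of odd prime order `l ∣ Q + 1`, trivial on the scalars. -/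
theorem exists_theta_odd (hQ : Odd Q) (hQ1 : Q ≠ 1) (hK : (Nat.card K : ℤ) = Q ^ 2 - 1) {l : ℕ} (hl : l.Prime)
    (hl2 : l ≠ 2) (hlQ : (l : ℤ) ∣ Q + 1) :
    ∃ θ : K →* ℂˣ, (∀ x, x ∈ scal K Q → θ x = 1) ∧ (∀ x, θ x ^ l = 1) ∧ (∃ y, θ (y ^ Q) ≠ θ y) := by
  obtain ⟨χ, hχ⟩ := exists_faithful (K := K)
  obtain ⟨g, hg⟩ := IsCyclic.exists_ofOrder_eq_natCard (α := K)
  obtain ⟨c, hc⟩ := hlQ
  have hn : (Nat.card K : ℤ) = l * ((Q - 1) * c) := by rw [hK]; linear_combination (Q - 1) * hc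
  obtain ⟨m, hm⟩ : l ∣ Nat.card K := Int.natCast_dvd_natCast.1 ⟨_, hn⟩
  have hl0 : (l : ℤ) ≠ 0 := by exact_mod_cast hl.ne_zero
  have hmI : (m : ℤ) = (Q - 1) * c := mul_left_cancel₀ hl0 (by rw [← hn, hm]; push_cast; ring)
  refine ⟨χ.comp (powMonoidHom m), fun x hx => ?_, fun x => ?_, g, fun h => ?_⟩
  · rw [comp_pow_eq_one hχ, ← zpow_natCast, hmI, zpow_mul, mem_scal.1 hx, one_zpow]
  · rw [MonoidHom.comp_apply, powMonoidHom_apply, ← map_pow, ← pow_mul, mul_comm, ← hm, pow_card_eq_one', map_one]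
  · have h1 : (χ.comp (powMonoidHom m)) (g ^ (Q - 1)) = 1 := by
      rw [zpow_sub_one, map_mul, h, map_inv, mul_inv_cancel]
    rw [comp_pow_eq_one hχ, ← zpow_natCast, ← zpow_mul, ← orderOf_dvd_iff_zpow_eq_one, hg, hn, ← hmI] at h1
    have hm0 : (m : ℤ) ≠ 0 := by
      intro h0
      have := Nat.card_pos (α := K)
      rw [hm] at this
      have : m = 0 := by exact_mod_cast h0
      simp_all
    have h2 : (l : ℤ) ∣ Q - 1 := Int.dvd_of_mul_dvd_mul_right hm0 h1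
    have h3 : (l : ℤ) ∣ 2 := by
      have := dvd_sub (show (l : ℤ) ∣ Q + 1 from ⟨c, hc⟩) h2
      simpa using this
    exact hl2 ((Nat.prime_dvd_prime_iff_eq hl Nat.prime_two).1 (Int.natCast_dvd_natCast.1 h3))

/-- An odd prime dividing `Q + 1`. -/
theorem exists_odd_prime (hQ : Q % 4 = 1) (hQ1 : Q ≠ 1) (hQ3 : Q ≠ -3) :
    ∃ l : ℕ, l.Prime ∧ l ≠ 2 ∧ (l : ℤ) ∣ Q + 1 := by
  obtain ⟨l, hl, hd⟩ := Nat.exists_prime_and_dvd (n := (Q + 1).natAbs / 2) (by omega)
  refine ⟨l, hl, fun h => ?_, ?_⟩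
  · subst h; omega
  · exact Int.natCast_dvd.2 (hd.trans (Nat.div_dvd_of_dvd (by omega)))

end Cfsg.Agent.Invol.BrauerL3
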