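import Mathlib
import Cfsg.Agent.Lib.Invol.BrauerL3.Atoms
import Cfsg.Agent.Lib.Invol.BrauerL3.Chars

/-!
# The part of the character table of `GL(2, q)` and `GU(2, q)` needed for `Funs`

`K` is cyclic of order `Q² - 1`; the scalars are `scal K Q`, `D` is the split torus, `E` the other one, `U a` a
scalar times a transvection, `dt` the determinant.
-/

set_option autoImplicit false

open scoped ComplexConjugate Classical

namespace Cfsg.Agent.Invol.BrauerL3

open Cfsg Finset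
open Cfsg.Agent.Block.SL2Char (cv)

universe u v w

/-- The classes and the characters used. -/
structure Tbl (H : Type u) [Group H] (K : Type v) [CommGroup K] (Q : ℤ) where
  cyc : IsCyclic K
  card : (Nat.card K : ℤ) = Q ^ 2 - 1
  odd : Odd Q
  big : 2 < Q.natAbs
  D : scal K Q × scal K Q →* H
  U : scal K Q → H
  E : K →* H
  dt : H →* scal K Q
  D_inj : Function.Injective D
  E_inj : Function.Injective E
  E_eq : ∀ a : scal K Q, E (a : K) = D (a, a)
  U_pow : ∀ a, ∃ k : ℕ, Odd k ∧ U a ^ k = D (a ^ k, a ^ k)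
  U_sq : ∀ a, U a * U a ≠ 1
  D_swap : ∀ a b, IsConj (D (a, b)) (D (b, a))
  cover : ∀ g, (∃ a, IsConj (U a) g) ∨ (∃ p, IsConj (D p) g) ∨ ∃ l, l ∉ scal K Q ∧ IsConj (E l) g
  central : ∀ z ∈ Subgroup.center H, ∃ a, z = D (a, a)
  D_center : ∀ a, D (a, a) ∈ Subgroup.center H
  card_class : ∀ a b, a ≠ b → (Nat.card {g : H // IsConj (D (a, b)) g} : ℤ) = Q * (Q + 1)
  dt_D : ∀ a b, dt (D (a, b)) = a * b
  dt_U : ∀ a, dt (U a) = a * a
  dt_E : ∀ l : K, (dt (E l) : K) = l * l ^ Q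
  St : H → ℂ
  St_irr : SgnIrr H St
  St_sc : ∀ a, St (D (a, a)) = Q
  St_D : ∀ a b, a ≠ b → St (D (a, b)) = 1
  St_U : ∀ a, St (U a) = 0
  St_E : ∀ l, l ∉ scal K Q → St (E l) = -1
  PS : (scal K Q →* ℂˣ) → (scal K Q →* ℂˣ) → H → ℂ
  PS_irr : ∀ α β, α ≠ β → SgnIrr H (PS α β)
  PS_sc : ∀ α β a, α ≠ β → PS α β (D (a, a)) = ((Q : ℂ) + 1) * (cv α a * cv β a)
  PS_D : ∀ α β a b, α ≠ β → a ≠ b → PS α β (D (a, b)) = cv α a * cv β b + cv α b * cv β a
  PS_U : ∀ α β a, α ≠ β → PS α β (U a) = cv α a * cv β a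
  PS_E : ∀ α β l, α ≠ β → l ∉ scal K Q → PS α β (E l) = 0
  DS : (K →* ℂˣ) → H → ℂ
  DS_irr : ∀ θ, (∃ l, θ (l ^ Q) ≠ θ l) → SgnIrr H (DS θ)
  DS_sc : ∀ θ (a : scal K Q), (∃ l, θ (l ^ Q) ≠ θ l) → DS θ (D (a, a)) = (1 - (Q : ℂ)) * cv θ (a : K)
  DS_D : ∀ θ a b, (∃ l, θ (l ^ Q) ≠ θ l) → a ≠ b → DS θ (D (a, b)) = 0
  DS_U : ∀ θ (a : scal K Q), (∃ l, θ (l ^ Q) ≠ θ l) → DS θ (U a) = cv θ (a : K)
  DS_E : ∀ θ l, (∃ m, θ (m ^ Q) ≠ θ m) → l ∉ scal K Q → DS θ (E l) = cv θ l + cv θ (l ^ Q)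

namespace Tbl

variable {H : Type u} [Group H] {K : Type v} [CommGroup K] {Q : ℤ} (T : Tbl H K Q)

include T

theorem ne_zero : Q ≠ 0 := by have := T.big; omega

theorem ne_one : Q ≠ 1 := by have := T.big; omega

theorem ne_neg_one : Q ≠ -1 := by have := T.big; omega

theorem card_pos : 0 < Nat.card K := by
  have h1 := T.card
  have h2 : (3 : ℤ) ≤ |Q| := by have := T.big; rw [Int.abs_eq_natAbs]; omega
  have h3 : 9 ≤ Q ^ 2 := by rw [← sq_abs]; nlinarith
  omega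

theorem finiteK : Finite K := Nat.finite_of_card_ne_zero T.card_pos.ne'

theorem D_one : T.D (1, 1) = 1 := map_one T.D

theorem St_one : T.St 1 = Q := by rw [← T.D_one]; exact T.St_sc 1

theorem PS_one {α β : scal K Q →* ℂˣ} (h : α ≠ β) : T.PS α β 1 = (Q : ℂ) + 1 := by
  rw [← T.D_one, T.PS_sc α β 1 h]; simp [cv]

theorem DS_one {θ : K →* ℂˣ} (h : ∃ l, θ (l ^ Q) ≠ θ l) : T.DS θ 1 = 1 - (Q : ℂ) := by
  rw [← T.D_one, T.DS_sc θ 1 h]; simp [cv]

theorem exists_e : ∃ e : scal K Q, e ≠ 1 ∧ e * e = 1 ∧ (∀ x : K, x * x = 1 → x = 1 ∨ x = e) ∧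
    (∀ x : K, Even (orderOf x) → x ^ (orderOf x / 2) = e) := by
  haveI := T.cyc
  haveI := T.finiteK
  obtain ⟨e, h1, h2, h3, h4⟩ := exists_invol (K := K) (by
    obtain ⟨k, hk⟩ := T.odd
    rw [← Int.natCast_dvd_natCast, T.card, hk]
    exact ⟨2 * k * (k + 1), by push_cast; ring⟩)
  obtain ⟨k, hk⟩ := T.odd
  refine ⟨⟨e, mem_scal.2 ?_⟩, fun h => h1 (congrArg Subtype.val h), Subtype.ext h2, h3, h4⟩
  rw [hk, show (2 * k + 1 - 1 : ℤ) = (2 : ℤ) * k by ring, zpow_mul, zpow_two, h2, one_zpow]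

/-- Two characters of `K` with the same discrete series. -/
theorem DS_inj {θ φ : K →* ℂˣ} (hθ : ∃ l, θ (l ^ Q) ≠ θ l) (hφ : ∃ l, φ (l ^ Q) ≠ φ l)
    (h : T.DS θ = T.DS φ) : (∀ l, φ l = θ l) ∨ ∀ l, φ l = θ (l ^ Q) := by
  haveI := T.finiteK
  haveI := Fintype.ofFinite K
  have h1 : (1 - (Q : ℂ)) ≠ 0 := sub_ne_zero.2 (by exact_mod_cast T.ne_one.symm)
  have key : ∀ l, cv φ l + cv (φ.comp (zpowGroupHom Q)) l = cv θ l + cv (θ.comp (zpowGroupHom Q)) l := by
    intro l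
    show cv φ l + cv φ (l ^ Q) = cv θ l + cv θ (l ^ Q)
    by_cases hl : l ∈ scal K Q
    · have e := congrFun h (T.D (⟨l, hl⟩, ⟨l, hl⟩))
      rw [T.DS_sc θ ⟨l, hl⟩ hθ, T.DS_sc φ ⟨l, hl⟩ hφ] at e
      rw [mem_scal_iff_fix.1 hl, mul_left_cancel₀ h1 e]
    · have e := congrFun h (T.E l)
      rw [T.DS_E θ l hθ hl, T.DS_E φ l hφ hl] at e
      exact e.symm
  rcases Cfsg.Agent.Block.SL2Char.pair_eq key with ⟨e, -⟩ | ⟨e, -⟩
  · exact Or.inl fun l => by rw [e]
  · exact Or.inr fun l => by rw [e]; rfl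

variable {C : Type w} [Group C] (π : H →* C)

theorem ker_eq (hc : π.ker ≤ Subgroup.center H) (ho : Odd (Nat.card π.ker)) {z : H} (hz : z ∈ π.ker) :
    ∃ a, z = T.D (a, a) ∧ Odd (orderOf a) := by
  obtain ⟨a, rfl⟩ := T.central z (hc hz)
  refine ⟨a, rfl, ?_⟩
  have e : orderOf (T.D (a, a)) = orderOf a := by
    rw [orderOf_injective T.D T.D_inj]
    simp [Prod.orderOf_mk]
  rw [← e, ← Subgroup.orderOf_mk (T.D (a, a)) hz]
  exact ho.of_dvd_nat (orderOf_dvd_natCard _)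

theorem descend [Finite H] (hπ : Function.Surjective π) (hc : π.ker ≤ Subgroup.center H)
    (ho : Odd (Nat.card π.ker)) {f : H → ℂ} (hf : SgnIrr H f)
    (hodd : ∀ a : scal K Q, Odd (orderOf a) → f (T.D (a, a)) = f 1) :
    ∃ ψ : C → ℂ, SgnIrr C ψ ∧ ∀ g, ψ (π g) = f g :=
  hf.exists_factor π hπ fun z hz => by
    obtain ⟨a, rfl, ha⟩ := T.ker_eq π hc ho hz
    exact hodd a ha

theorem orderOf_two_lift (hπ : Function.Surjective π) (hc : π.ker ≤ Subgroup.center H)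
    (ho : Odd (Nat.card π.ker)) {i : C} (hi : orderOf i = 2) : ∃ g, orderOf g = 2 ∧ π g = i := by
  obtain ⟨g, rfl⟩ := hπ i
  have h2 : g * g ∈ π.ker := by
    rw [MonoidHom.mem_ker, map_mul, ← sq, ← hi, pow_orderOf_eq_one]
  obtain ⟨k, hk⟩ := ho
  have hzk : (g * g) ^ (2 * k + 1) = 1 := by
    rw [← hk]
    exact congrArg Subtype.val (pow_card_eq_one' (G := π.ker) (x := ⟨g * g, h2⟩))
  refine ⟨g * (g * g) ^ k, ?_, ?_⟩
  · refine orderOf_eq_prime ?_ fun h => ?_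
    · rw [sq, ← sq g, ← pow_mul, ← pow_succ', ← pow_add,
        show 2 * k + 1 + (2 * k + 1) = 2 * (2 * k + 1) by ring, pow_mul, sq g, hzk]
    · have h3 : π g = 1 := by
        have := congrArg π h
        rwa [map_mul, map_pow, MonoidHom.mem_ker.1 h2, one_pow, mul_one, map_one] at this
      rw [h3, orderOf_one] at hi
      omega
  · rw [map_mul, map_pow, MonoidHom.mem_ker.1 h2, one_pow, mul_one]

theorem orderOf_two_map (ho : Odd (Nat.card π.ker)) {g : H} (hg : orderOf g = 2) : orderOf (π g) = 2 := by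
  refine orderOf_eq_prime (by rw [← map_pow, ← hg, pow_orderOf_eq_one, map_one]) fun h => ?_
  have hd := orderOf_dvd_natCard (⟨g, MonoidHom.mem_ker.2 h⟩ : π.ker)
  rw [Subgroup.orderOf_mk, hg] at hd
  obtain ⟨k, hk⟩ := ho
  omega

theorem map_inj_invol (hc : π.ker ≤ Subgroup.center H) (ho : Odd (Nat.card π.ker)) {g g' : H} (hg : g * g = 1)
    (hg' : g' * g' = 1) (h : π g = π g') : g = g' := by
  have hk : g⁻¹ * g' ∈ π.ker := by rw [MonoidHom.mem_ker, map_mul, map_inv, h, inv_mul_cancel]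
  have hcomm := Subgroup.mem_center_iff.1 (hc hk)
  set z := g⁻¹ * g' with hz
  have hg'eq : g' = g * z := by rw [hz, mul_inv_cancel_left]
  have hz2 : z * z = 1 := by
    have : g * z * (g * z) = 1 := hg'eq ▸ hg'
    rw [mul_assoc, ← mul_assoc z g z, ← hcomm g, mul_assoc g z z, ← mul_assoc, hg, one_mul] at this
    exact this
  have hd := orderOf_dvd_natCard (⟨z, hk⟩ : π.ker)
  rw [Subgroup.orderOf_mk] at hd
  have h1 : orderOf z ∣ 2 := orderOf_dvd_of_pow_eq_one (by rw [sq, hz2])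
  have h3 : orderOf z = 1 := by
    rcases (Nat.dvd_prime Nat.prime_two).1 h1 with h3 | h3
    · exact h3
    · obtain ⟨k, hk'⟩ := ho
      rw [h3] at hd
      omega
  rw [hg'eq, orderOf_eq_one_iff.1 h3, mul_one]

/-- The involutions upstairs. -/
theorem invol_cases {e : scal K Q} (heu : ∀ x : K, x * x = 1 → x = 1 ∨ x = e) {g : H} (hg : orderOf g = 2) :
    g = T.D (e, e) ∨ IsConj (T.D (1, e)) g := by
  have hg2 : g * g = 1 := by rw [← sq, ← hg, pow_orderOf_eq_one]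
  have hgne : g ≠ 1 := fun h => by rw [h, orderOf_one] at hg; omega
  have hsq : ∀ r, IsConj r g → r * r = 1 := fun r hr => by
    obtain ⟨c, hc⟩ := isConj_iff.1 hr
    have : c * (r * r) * c⁻¹ = 1 := by rw [← hg2, ← hc]; group
    rwa [conj_eq_one_iff] at this
  have hS : ∀ a : scal K Q, a * a = 1 → a = 1 ∨ a = e := fun a ha =>
    (heu a (congrArg Subtype.val ha)).imp (fun h => Subtype.ext h) fun h => Subtype.ext h
  rcases T.cover g with ⟨a, ha⟩ | ⟨⟨a, b⟩, ha⟩ | ⟨l, hl, ha⟩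
  · exact absurd (hsq _ ha) (T.U_sq a)
  · have h := hsq _ ha
    rw [← map_mul, ← map_one T.D] at h
    have h' := T.D_inj h
    simp only [Prod.mk_mul_mk, Prod.mk_eq_one] at h'
    rcases hS a h'.1 with rfl | rfl <;> rcases hS b h'.2 with rfl | rfl
    · rw [T.D_one, isConj_one_right] at ha
      exact absurd ha hgne
    · exact Or.inr ha
    · exact Or.inr ((T.D_swap 1 a).trans ha)
    · obtain ⟨c, hc⟩ := isConj_iff.1 ha
      left
      rw [← hc, Subgroup.mem_center_iff.1 (T.D_center _) c, mul_inv_cancel_right]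
  · refine absurd ?_ hl
    have h := hsq _ ha
    rw [← map_mul, ← map_one T.E] at h
    rcases heu l (T.E_inj h) with rfl | rfl
    · exact one_mem _
    · exact e.2

theorem sum_invols [Fintype H] [Fintype C] (hπ : Function.Surjective π) (hc : π.ker ≤ Subgroup.center H)
    (ho : Odd (Nat.card π.ker)) {e : scal K Q} (hne : e ≠ 1) (hee : e * e = 1)
    (heu : ∀ x : K, x * x = 1 → x = 1 ∨ x = e) {φ : C → ℂ} (hφ : IsClassFunction C φ) :
    ∑ i ∈ invols C, φ i = φ (π (T.D (e, e))) + ((Q * (Q + 1) : ℤ) : ℂ) * φ (π (T.D (1, e))) := by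
  set t := T.D (e, e) with ht
  set u := T.D (1, e) with hu
  have hsq1 : ∀ p : scal K Q × scal K Q, p * p = 1 → p ≠ 1 → orderOf (T.D p) = 2 := fun p hp hp1 => by
    refine orderOf_eq_prime (by rw [sq, ← map_mul, hp, map_one]) fun h => hp1 (T.D_inj ?_)
    rw [h, map_one]
  have hto : orderOf t = 2 := hsq1 _ (Prod.ext hee hee) fun h => hne (congrArg Prod.fst h)
  have huo : orderOf u = 2 := hsq1 _ (Prod.ext (one_mul 1) hee) fun h => hne (congrArg Prod.snd h)
  set S : Finset H := univ.filter fun g => IsConj u g with hS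
  have htS : t ∉ S := fun h => by
    simp only [hS, mem_filter, mem_univ, true_and] at h
    obtain ⟨c, hc'⟩ := isConj_iff.1 h.symm
    rw [Subgroup.mem_center_iff.1 (T.D_center e) c, mul_inv_cancel_right] at hc'
    exact hne (congrArg Prod.fst (T.D_inj hc'))
  have himg : invols C = (insert t S).image π := by
    ext i
    simp only [mem_invols, mem_image, mem_insert, hS, mem_filter, mem_univ, true_and]
    constructor
    · intro hi
      obtain ⟨g, hg, rfl⟩ := T.orderOf_two_lift π hπ hc ho hi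
      exact ⟨g, T.invol_cases heu hg, rfl⟩
    · rintro ⟨g, rfl | hg, rfl⟩
      · exact T.orderOf_two_map π ho hto
      · refine T.orderOf_two_map π ho ?_
        obtain ⟨c, rfl⟩ := isConj_iff.1 hg
        exact (orderOf_injective (MulAut.conj c).toMonoidHom (MulAut.conj c).injective u).trans huo
  have hinj : Set.InjOn π ↑(insert t S) := by
    intro g hg g' hg' h
    have hs : ∀ x ∈ (↑(insert t S) : Set H), x * x = 1 := by
      intro x hx
      simp only [coe_insert, Set.mem_insert_iff, hS, coe_filter, mem_univ, true_and, Set.mem_setOf_eq] at hx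
      rcases hx with rfl | hx
      · rw [← sq, ← hto, pow_orderOf_eq_one]
      · obtain ⟨c, rfl⟩ := isConj_iff.1 hx
        have : u * u = 1 := by rw [← sq, ← huo, pow_orderOf_eq_one]
        calc c * u * c⁻¹ * (c * u * c⁻¹) = c * (u * u) * c⁻¹ := by group
          _ = 1 := by rw [this]; group
    exact T.map_inj_invol π hc ho (hs g hg) (hs g' hg') h
  rw [himg, sum_image hinj, sum_insert htS, sum_congr rfl (fun g hg => ?_ : ∀ g ∈ S, φ (π g) = φ (π u)),
    sum_const, nsmul_eq_mul]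
  · congr 2
    have := T.card_class 1 e (Ne.symm hne)
    rw [Nat.card_eq_fintype_card, Fintype.card_subtype] at this
    exact_mod_cast this
  · simp only [hS, mem_filter, mem_univ, true_and] at hg
    obtain ⟨c, rfl⟩ := isConj_iff.1 hg
    rw [map_mul, map_mul, map_inv]
    exact hφ _ _

/-- Class functions on the quotient are supported where they are on the representatives. -/
theorem supp_of_reps (hπ : Function.Surjective π) {F : C → ℂ} (hF : IsClassFunction C F) {X : Set C}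
    (hX : ∀ x ∈ X, ∀ c : C, c * x * c⁻¹ ∈ X)
    (hU : ∀ a, F (π (T.U a)) ≠ 0 → π (T.U a) ∈ X)
    (hD : ∀ p, F (π (T.D p)) ≠ 0 → π (T.D p) ∈ X)
    (hE : ∀ l, l ∉ scal K Q → F (π (T.E l)) ≠ 0 → π (T.E l) ∈ X) (x : C) (hx : F x ≠ 0) : x ∈ X := by
  obtain ⟨g, rfl⟩ := hπ x
  have key : ∀ r, (F (π r) ≠ 0 → π r ∈ X) → IsConj r g → π g ∈ X := fun r hr h => by
    obtain ⟨c, rfl⟩ := isConj_iff.1 h
    rw [map_mul, map_mul, map_inv] at hx ⊢
    rw [hF] at hx
    exact hX _ (hr hx) _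
  rcases T.cover g with ⟨a, ha⟩ | ⟨p, ha⟩ | ⟨l, hl, ha⟩
  · exact key _ (hU a) ha
  · exact key _ (hD p) ha
  · exact key _ (hE l hl) ha

end Tbl

end Cfsg.Agent.Invol.BrauerL3
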