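import Mathlib
import Cfsg.Agent.Lib.Invol.BrauerL3.Table

/-!
# `SdFuns` and `WrFuns` from a table, for quotients by central subgroups of odd order
-/

set_option autoImplicit false
set_option maxHeartbeats 4000000

open scoped ComplexConjugate Classical

namespace Cfsg.Agent.Invol.BrauerL3

open Cfsg Finset
open Cfsg.Agent.Block.SL2Char (cv)

universe u v w

/-- The elements with `t` among their powers, and those with a non-central power of `p`-power order. -/
def rootSetWr {C : Type w} [Group C] (t : C) (p : ℕ) : Set C :=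
  rootSet t ∪ {x | ∃ k : ℕ, (∃ i, orderOf (x ^ k) = p ^ i) ∧ x ^ k ∉ Subgroup.center C}

theorem mem_rootSet_conj {C : Type w} [Group C] {t : C} (ht : t ∈ Subgroup.center C) {x : C} (hx : x ∈ rootSet t)
    (c : C) : c * x * c⁻¹ ∈ rootSet t := by
  obtain ⟨k, hk⟩ := Subgroup.mem_zpowers_iff.1 hx
  refine Subgroup.mem_zpowers_iff.2 ⟨k, ?_⟩
  rw [conj_zpow, hk, Subgroup.mem_center_iff.1 ht c, mul_inv_cancel_right]

theorem mem_rootSetWr_conj {C : Type w} [Group C] {t : C} (ht : t ∈ Subgroup.center C) {p : ℕ} {x : C}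
    (hx : x ∈ rootSetWr t p) (c : C) : c * x * c⁻¹ ∈ rootSetWr t p := by
  rcases hx with hx | ⟨k, ⟨i, hi⟩, hk⟩
  · exact Or.inl (mem_rootSet_conj ht hx c)
  · refine Or.inr ⟨k, ⟨i, ?_⟩, fun h => hk ?_⟩
    · rw [conj_pow, ← hi]
      exact orderOf_injective (MulAut.conj c).toMonoidHom (MulAut.conj c).injective _
    · rw [conj_pow] at h
      have := Subgroup.Normal.conj_mem (inferInstance : (Subgroup.center C).Normal) _ h c⁻¹
      simpa [mul_assoc] using this

theorem mem_rootSet_of_pow {H : Type u} [Group H] {C : Type w} [Group C] (π : H →* C) {t x : H} {k : ℕ}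
    (h : x ^ k = t) : π x ∈ rootSet (π t) :=
  Subgroup.mem_zpowers_iff.2 ⟨(k : ℤ), by rw [zpow_natCast, ← map_pow, h]⟩

theorem pow_half_eq {A : Type v} [CommGroup A] [Finite A] [IsCyclic A] {lam : A →* ℂˣ} (h2 : ∀ x, lam x * lam x = 1)
    {e : A} (heu : ∀ x : A, x * x = 1 → x = 1 ∨ x = e) (heven : 2 ∣ Nat.card A) {x : A} (hx : lam x ≠ 1) :
    x ^ (Nat.card A / 2) = e := by
  obtain ⟨g, hg⟩ := IsCyclic.exists_generator (α := A)
  obtain ⟨i, rfl⟩ := Subgroup.mem_zpowers_iff.1 (hg x)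
  refine (heu _ ?_).resolve_left fun h => hx ?_
  · rw [← pow_add, show Nat.card A / 2 + Nat.card A / 2 = Nat.card A by omega, pow_card_eq_one']
  · rw [← zpow_natCast, ← zpow_mul, ← orderOf_dvd_iff_zpow_eq_one, orderOf_eq_card_of_forall_mem_zpowers hg] at h
    obtain ⟨m, hm⟩ := heven
    rw [hm, Nat.mul_div_cancel_left m two_pos] at h
    push_cast at h
    have hm0 : (m : ℤ) ≠ 0 := by have := Nat.card_pos (α := A); omega
    obtain ⟨r, rfl⟩ := Int.dvd_of_mul_dvd_mul_right hm0 h
    rw [zpow_mul, zpow_two, map_zpow, map_mul, h2, one_zpow]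

theorem orth_of_ne {C : Type w} [Group C] [Fintype C] {k : ℕ} (v : Fin k → C → ℂ) (d : Fin k → ℤ)
    (hirr : ∀ j, SgnIrr C (v j)) (hd : ∀ j, v j 1 = d j) (hneg : ∀ i j, i < j → d i ≠ -d j)
    (hne : ∀ i j, i < j → d i = d j → v i ≠ v j) (i j : Fin k) (hij : i ≠ j) : classInner (v i) (v j) = 0 := by
  have key : ∀ i j, i < j → v i ≠ v j ∧ v i ≠ -v j := fun i j h => by
    constructor
    · intro e
      have e1 : (d i : ℂ) = d j := by rw [← hd, ← hd, e]
      exact hne i j h (Int.cast_injective e1) e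
    · intro e
      have e1 : (d i : ℂ) = ((-d j : ℤ) : ℂ) := by push_cast; rw [← hd, ← hd, e]; rfl
      exact hneg i j h (Int.cast_injective e1)
  rcases lt_or_gt_of_ne hij with h | h
  · exact (hirr i).inner_ne (hirr j) (key i j h).1 (key i j h).2
  · exact (hirr i).inner_ne (hirr j) (fun e => (key j i h).1 e.symm) (fun e => (key j i h).2 (by rw [e, neg_neg]))

theorem central_norm {C : Type w} [Group C] [Fintype C] {ψ : C → ℂ} (hψ : SgnIrr C ψ) {z : C}
    (hz : z ∈ Subgroup.center C) : ‖ψ z‖ = ‖ψ 1‖ := by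
  have key : ∀ {f : C → ℂ}, IsIrrCharacter C f → ‖f z‖ = ‖f 1‖ := fun {f} hf => by
    have h := sum_normal_mul hf {z} (fun y hy c => by
      rw [Finset.mem_singleton] at hy ⊢
      rw [hy, Subgroup.mem_center_iff.1 hz c, mul_inv_cancel_right]) z⁻¹
    simp only [Finset.sum_singleton, inv_mul_cancel] at h
    rw [Cfsg.Agent.Char.IsIrr.apply_inv hf, eq_div_iff (Cfsg.Agent.Char.IsIrr.one_ne_zero hf)] at h
    have h' := congrArg (fun x : ℂ => ‖x‖) h
    simp only [norm_mul, Complex.norm_conj] at h'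
    exact ((mul_self_inj (norm_nonneg _) (norm_nonneg _)).1 h').symm
  rcases hψ with h | h
  · exact key h
  · simpa using key h

namespace Tbl

variable {H : Type u} [Group H] [Fintype H] {K : Type v} [CommGroup K] {Q : ℤ} (T : Tbl H K Q)
  {C : Type w} [Group C] [Fintype C] (π : H →* C)

include T

theorem central_invol (hπ : Function.Surjective π) (hc : π.ker ≤ Subgroup.center H)
    (ho : Odd (Nat.card π.ker)) {e : scal K Q} (hne : e ≠ 1) (heu : ∀ x : K, x * x = 1 → x = 1 ∨ x = e) {t : C}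
    (ht : orderOf t = 2) (htc : t ∈ Subgroup.center C) : t = π (T.D (e, e)) := by
  obtain ⟨g, hg, rfl⟩ := T.orderOf_two_lift π hπ hc ho ht
  rcases T.invol_cases heu hg with rfl | hu
  · rfl
  exfalso
  have hsub : ∀ x, IsConj (T.D (1, e)) x → x = g := fun x hx => by
    obtain ⟨c, hc'⟩ := isConj_iff.1 (hu.symm.trans hx)
    subst hc'
    have hg2 : g * g = 1 := by rw [← sq, ← hg, pow_orderOf_eq_one]
    refine T.map_inj_invol π hc ho ?_ hg2 ?_
    · calc c * g * c⁻¹ * (c * g * c⁻¹) = c * (g * g) * c⁻¹ := by group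
        _ = 1 := by rw [hg2]; group
    · rw [map_mul, map_mul, map_inv, Subgroup.mem_center_iff.1 htc, mul_inv_cancel_right]
  have h1 : Nat.card {x : H // IsConj (T.D (1, e)) x} = 1 :=
    Nat.card_eq_one_iff_unique.2 ⟨⟨fun a b => Subtype.ext ((hsub _ a.2).trans (hsub _ b.2).symm)⟩, ⟨⟨g, hu⟩⟩⟩
  have h2 := T.card_class 1 e (Ne.symm hne)
  rw [h1, Nat.cast_one] at h2
  have hb := T.big
  rcases le_or_gt 0 Q with h | h
  · nlinarith [show (3 : ℤ) ≤ Q by omega]
  · nlinarith [show Q ≤ (-3 : ℤ) by omega]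

theorem exists_pow_U {e : scal K Q} (heo : ∀ x : K, Even (orderOf x) → x ^ (orderOf x / 2) = e) (hee : e * e = 1)
    {a : scal K Q} (ha : ¬ Odd (orderOf a)) : ∃ k, T.U a ^ k = T.D (e, e) := by
  obtain ⟨k, ⟨j, hj⟩, hUk⟩ := T.U_pow a
  refine ⟨k * (orderOf a / 2), ?_⟩
  have h1 : a ^ (orderOf a / 2) = e := by
    refine Subtype.ext ?_
    have := heo (a : K) (by rw [Subgroup.orderOf_coe]; exact Nat.not_odd_iff_even.1 ha)
    rwa [Subgroup.orderOf_coe] at this
  rw [pow_mul, hUk, ← map_pow, Prod.pow_mk, pow_right_comm a k, h1, hj, pow_succ, pow_mul, sq, hee, one_pow, one_mul]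

theorem exists_pow_sc {e : scal K Q} (heo : ∀ x : K, Even (orderOf x) → x ^ (orderOf x / 2) = e) {a : scal K Q}
    (ha : ¬ Odd (orderOf a)) : ∃ k, T.D (a, a) ^ k = T.D (e, e) := by
  refine ⟨orderOf a / 2, ?_⟩
  have h1 : a ^ (orderOf a / 2) = e := by
    refine Subtype.ext ?_
    have := heo (a : K) (by rw [Subgroup.orderOf_coe]; exact Nat.not_odd_iff_even.1 ha)
    rwa [Subgroup.orderOf_coe] at this
  rw [← map_pow, Prod.pow_mk, h1]

theorem exists_pow_E {e : scal K Q} (heo : ∀ x : K, Even (orderOf x) → x ^ (orderOf x / 2) = e) {l : K}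
    (hl : ¬ Odd (orderOf l)) : ∃ k, T.E l ^ k = T.D (e, e) :=
  ⟨orderOf l / 2, by rw [← map_pow, heo l (Nat.not_odd_iff_even.1 hl), T.E_eq]⟩

theorem exists_pow_D {e : scal K Q} (heu : ∀ x : K, x * x = 1 → x = 1 ∨ x = e) {lam : scal K Q →* ℂˣ}
    (h2 : ∀ x, lam x * lam x = 1) {a b : scal K Q} (ha : lam a ≠ 1) (hb : lam b ≠ 1) :
    ∃ k, T.D (a, b) ^ k = T.D (e, e) := by
  haveI := T.cyc
  haveI := T.finiteK
  have heu' : ∀ x : scal K Q, x * x = 1 → x = 1 ∨ x = e := fun x hx =>
    (heu x (congrArg Subtype.val hx)).imp (fun h => Subtype.ext h) fun h => Subtype.ext h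
  have heven : 2 ∣ Nat.card (scal K Q) := by
    rw [natAbs_card_scal T.card]
    obtain ⟨k, hk⟩ := T.odd
    omega
  exact ⟨Nat.card (scal K Q) / 2, by
    rw [← map_pow, Prod.pow_mk, pow_half_eq h2 heu' heven ha, pow_half_eq h2 heu' heven hb]⟩

theorem conj_St (g : H) : conj (T.St g) = T.St g := by
  have key : ∀ r, conj (T.St r) = T.St r → IsConj r g → conj (T.St g) = T.St g := fun r hr h => by
    obtain ⟨c, rfl⟩ := isConj_iff.1 h
    rw [T.St_irr.classFun r c, hr]
  rcases T.cover g with ⟨a, ha⟩ | ⟨⟨a, b⟩, ha⟩ | ⟨l, hl, ha⟩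
  · exact key _ (by rw [T.St_U, map_zero]) ha
  · refine key _ ?_ ha
    by_cases hab : a = b
    · subst hab; rw [T.St_sc, map_intCast]
    · rw [T.St_D a b hab, map_one]
  · exact key _ (by rw [T.St_E l hl, map_neg, map_one]) ha

theorem dt_E_odd {l : K} (hl : Odd (orderOf l)) : Odd (orderOf (T.dt (T.E l))) :=
  hl.of_dvd_nat (orderOf_map_dvd (T.dt.comp T.E) l)

/-- The functions for `Q ≡ 3 mod 4`; the third, fourth and fifth vanish on the regular split torus. -/
theorem sdFuns_vanish (hQ : Q % 4 = 3) (hπ : Function.Surjective π) (hc : π.ker ≤ Subgroup.center H)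
    (ho : Odd (Nat.card π.ker)) (t : C) (ht : orderOf t = 2) (htc : t ∈ Subgroup.center C) :
    ∃ F : SdFuns C (rootSet t) t Q (((Q * (Q + 1) : ℤ) : ℚ) ^ 2 / Nat.card C),
      ∀ (j : Fin 3) a b, a ≠ b → F.f (![2, 3, 4] j) (π (T.D (a, b))) = 0 := by
  haveI := T.cyc
  haveI := T.finiteK
  obtain ⟨e, hne, hee, heu, heo⟩ := T.exists_e
  obtain rfl := T.central_invol π hπ hc ho hne heu ht htc
  obtain ⟨lam, hl2, hlodd, hle, g, hg⟩ := exists_lam T.odd T.ne_one T.card
  obtain ⟨θa, hao, hae, har⟩ := exists_theta_four hQ T.ne_neg_one T.card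
  obtain ⟨θ, hto, hte, htr, htr', htn, htn'⟩ := exists_theta_two T.odd T.ne_one T.ne_neg_one T.card
  have hle' : lam e = -1 := by rw [hle e hne hee, if_neg (by omega)]
  have h1l : (1 : scal K Q →* ℂˣ) ≠ lam := fun h => by
    have := congrArg Units.val (DFunLike.congr_fun h e)
    rw [hle'] at this
    simp only [MonoidHom.one_apply, Units.val_one, Units.val_neg] at this
    norm_num at this
  have hneK : (e : K) ≠ 1 := fun h => hne (Subtype.ext h)
  have heeK : (e : K) * e = 1 := congrArg Subtype.val hee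
  let vH : Fin 8 → H → ℂ := ![fun _ => 1, T.St, fun x => (lam.comp T.dt x : ℂ),
    fun x => (lam.comp T.dt x : ℂ) * T.St x, T.PS 1 lam, T.DS θa, T.DS θ, T.DS θ⁻¹]
  have hirrH : ∀ j, SgnIrr H (vH j) := fun j => by
    fin_cases j
    · exact Or.inl Cfsg.Agent.Char.isIrr_one
    · exact T.St_irr
    · exact SgnIrr.linear _
    · exact T.St_irr.mul_linear _
    · exact T.PS_irr _ _ h1l
    · exact T.DS_irr _ har
    · exact T.DS_irr _ htr
    · exact T.DS_irr _ htr'
  have hoddv : ∀ (a : scal K Q), Odd (orderOf a) → ∀ j, vH j (T.D (a, a)) = vH j 1 := fun a ha j => by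
    have hK : Odd (orderOf (a : K)) := by rwa [Subgroup.orderOf_coe]
    fin_cases j <;>
      simp [vH, cv, T.St_sc, T.St_one, T.PS_sc _ _ a h1l, T.PS_one h1l, T.DS_sc _ a har, T.DS_one har,
        T.DS_sc _ a htr, T.DS_one htr, T.DS_sc _ a htr', T.DS_one htr', T.dt_D, hlodd a ha, hao _ hK, hto _ hK]
  choose ψ hψ hψπ using fun j => T.descend π hπ hc ho (hirrH j) (fun a ha => hoddv a ha j)
  have hd : ∀ j, ψ j 1 = degSd Q j := fun j => by
    rw [← map_one π, hψπ]
    fin_cases j <;>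
      simp [vH, degSd, T.St_one, T.PS_one h1l, T.DS_one har, T.DS_one htr, T.DS_one htr']
  suffices h : ∃ F : SdFuns C (rootSet (π (T.D (e, e)))) (π (T.D (e, e))) Q
      (((Q * (Q + 1) : ℤ) : ℚ) ^ 2 / Nat.card C), ∀ i x, F.f i x = ∑ j, (matSd i j : ℂ) * ψ j x by
    obtain ⟨F, hF⟩ := h
    refine ⟨F, fun j a b hab => ?_⟩
    rw [hF]
    simp only [hψπ]
    fin_cases j <;>
      simp [Fin.sum_univ_succ, matSd, vH, T.St_D a b hab, T.DS_D _ a b har hab, T.DS_D _ a b htr hab,
        T.DS_D _ a b htr' hab]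
  refine sdFuns_of_atoms ψ _ _ (π (T.D (1, e))) Q _ T.ne_zero T.ne_one T.ne_neg_one rfl hψ ?_ ?_ hd ?_ ?_
    (fun φ hφ => T.sum_invols π hπ hc ho hne hee heu hφ) ?_
  · have hv : ∀ {i j}, ψ i = ψ j → ∀ x, vH i x = vH j x := fun {i j} h x => by rw [← hψπ, ← hψπ, h]
    have hb := T.big
    refine orth_of_ne ψ (degSd Q) hψ hd (fun i j h => ?_) fun i j h he hij => ?_
    · fin_cases i <;> fin_cases j <;> simp [degSd] at h ⊢ <;> omega
    have hg1 : g ≠ 1 := fun h => by
      have := congrArg Units.val (hg.symm.trans ((congrArg lam h).trans (map_one lam)))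
      simp only [Units.val_neg, Units.val_one] at this
      norm_num at this
    have hq : (1 : ℂ) - Q ≠ 0 := sub_ne_zero.2 (by exact_mod_cast T.ne_one.symm)
    have n02 : ¬ ψ 0 = ψ 2 := fun h => by
      have := hv h (T.D (g, 1))
      simp [vH, T.dt_D, hg] at this
      norm_num at this
    have n13 : ¬ ψ 1 = ψ 3 := fun h => by
      have := hv h (T.D (g, 1))
      simp [vH, T.dt_D, hg, T.St_D g 1 hg1] at this
      norm_num at this
    have n56 : ¬ ψ 5 = ψ 6 := fun h => by
      have := hv h (T.D (e, e))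
      simp [vH, cv, T.DS_sc _ e har, T.DS_sc _ e htr, hae _ hneK heeK, hte _ hneK heeK] at this
      exact hq (by linear_combination this / 2)
    have n57 : ¬ ψ 5 = ψ 7 := fun h => by
      have := hv h (T.D (e, e))
      simp [vH, cv, T.DS_sc _ e har, T.DS_sc _ e htr', hae _ hneK heeK, hte _ hneK heeK] at this
      exact hq (by linear_combination this / 2)
    have n67 : ¬ ψ 6 = ψ 7 := fun h => by
      rcases T.DS_inj htr htr' (funext fun x => by simpa [vH] using hv h x) with h' | h'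
      · obtain ⟨l, hl⟩ := htn; exact hl (h' l)
      · obtain ⟨l, hl⟩ := htn'; exact hl (h' l)
    fin_cases i <;> fin_cases j <;> simp [degSd] at h he <;>
      first
        | omega
        | exact n02 hij
        | exact n13 hij
        | exact n56 hij
        | exact n57 hij
        | exact n67 hij
  · funext x
    obtain ⟨y, rfl⟩ := hπ x
    rw [hψπ]
    rfl
  · intro j
    rw [hψπ]
    fin_cases j <;>
      simp [vH, cv, tSd, T.St_sc, T.dt_D, hl2, hee, T.PS_sc _ _ e h1l, hle', T.DS_sc _ e har, T.DS_sc _ e htr,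
        T.DS_sc _ e htr', hae _ hneK heeK, hte _ hneK heeK]
  · intro j
    rw [hψπ]
    fin_cases j <;>
      simp [vH, cv, uSd, T.dt_D, hle', T.St_D 1 e (Ne.symm hne), T.PS_D _ _ 1 e h1l (Ne.symm hne),
        T.DS_D _ 1 e har (Ne.symm hne), T.DS_D _ 1 e htr (Ne.symm hne), T.DS_D _ 1 e htr' (Ne.symm hne)]
  intro i x hx
  refine T.supp_of_reps π hπ (F := fun x => ∑ j, (matSd i j : ℂ) * ψ j x) ?_
    (fun x hx c => mem_rootSet_conj htc hx c) ?_ ?_ ?_ x hx
  · exact fun y c => sum_congr rfl fun j _ => by rw [(hψ j).classFun]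
  · intro a hF
    by_cases ha : Odd (orderOf a)
    · refine absurd ?_ hF
      have hK : Odd (orderOf (a : K)) := by rwa [Subgroup.orderOf_coe]
      simp only [hψπ]
      fin_cases i <;>
        simp [Fin.sum_univ_succ, matSd, vH, cv, T.St_U, T.dt_U, hlodd a ha, T.PS_U _ _ a h1l, T.DS_U _ a har,
          T.DS_U _ a htr, T.DS_U _ a htr', hao _ hK, hto _ hK]
    · obtain ⟨k, hk⟩ := T.exists_pow_U heo hee ha
      exact mem_rootSet_of_pow π hk
  · rintro ⟨a, b⟩ hF
    by_cases hab : a = b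
    · subst hab
      by_cases ha : Odd (orderOf a)
      · refine absurd ?_ hF
        simp only [hψπ, fun j => hoddv a ha j]
        fin_cases i <;>
          simp [Fin.sum_univ_succ, matSd, vH, T.St_one, T.PS_one h1l, T.DS_one har, T.DS_one htr, T.DS_one htr'] <;>
            ring
      · obtain ⟨k, hk⟩ := T.exists_pow_sc heo ha
        exact mem_rootSet_of_pow π hk
    by_cases hl : lam a ≠ 1 ∧ lam b ≠ 1
    · obtain ⟨k, hk⟩ := T.exists_pow_D heu hl2 hl.1 hl.2
      exact mem_rootSet_of_pow π hk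
    · refine absurd ?_ hF
      simp only [hψπ]
      rcases not_and_or.1 hl with hl | hl <;> rw [not_not] at hl <;> fin_cases i <;>
        simp [Fin.sum_univ_succ, matSd, vH, cv, T.dt_D, hl, T.St_D a b hab, T.PS_D _ _ a b h1l hab,
          T.DS_D _ a b har hab, T.DS_D _ a b htr hab, T.DS_D _ a b htr' hab]
  · intro l hl hF
    by_cases hlo : Odd (orderOf l)
    · refine absurd ?_ hF
      simp only [hψπ]
      fin_cases i <;>
        simp [Fin.sum_univ_succ, matSd, vH, cv, T.St_E l hl, hlodd _ (T.dt_E_odd hlo), T.PS_E _ _ l h1l hl,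
          T.DS_E _ l har hl, T.DS_E _ l htr hl, T.DS_E _ l htr' hl, map_zpow, hao _ hlo, hto _ hlo] <;> ring
    · obtain ⟨k, hk⟩ := T.exists_pow_E heo hlo
      exact mem_rootSet_of_pow π hk

/-- The functions for `Q ≡ 1 mod 4`; the third, fourth and fifth vanish on the regular split torus. -/
theorem wrFuns_vanish (hQ : Q % 4 = 1) {p : ℕ} (hp : p.Prime) (hp2 : p ≠ 2) (hpQ : (p : ℤ) ∣ Q + 1)
    (hπ : Function.Surjective π) (hc : π.ker ≤ Subgroup.center H)
    (ho : Odd (Nat.card π.ker)) (t : C) (ht : orderOf t = 2) (htc : t ∈ Subgroup.center C) :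
    ∃ F : WrFuns C (rootSetWr t p) t Q (((Q * (Q + 1) : ℤ) : ℚ) ^ 2 / Nat.card C),
      ∀ (j : Fin 3) a b, a ≠ b → F.f (![2, 3, 4] j) (π (T.D (a, b))) = 0 := by
  haveI := T.cyc
  haveI := T.finiteK
  obtain ⟨e, hne, hee, heu, heo⟩ := T.exists_e
  obtain rfl := T.central_invol π hπ hc ho hne heu ht htc
  obtain ⟨lam, mu, hmu2, hl2, hmuo, hle, g, hg⟩ := exists_mu hQ T.ne_one T.card
  haveI := Fintype.ofFinite (scal K Q)
  obtain ⟨ω, hωs, hωp, hωr⟩ := exists_theta_odd T.odd T.ne_one T.card hp hp2 hpQ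
  obtain ⟨θ, hto, hte, htr, htr', htn, htn'⟩ := exists_theta_two T.odd T.ne_one T.ne_neg_one T.card
  have hlo : ∀ a : scal K Q, Odd (orderOf a) → lam a = 1 := fun a ha => by rw [← hmu2, hmuo a ha, mul_one]
  have hle' : lam e = 1 := hle e hne hee
  have hgz : (mu g : ℂ) * mu g = -1 := by rw [← Units.val_mul, hmu2, hg]; simp
  have hg1 : g ≠ 1 := fun h => by
    have := congrArg Units.val (hg.symm.trans ((congrArg lam h).trans (map_one lam)))
    simp only [Units.val_neg, Units.val_one] at this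
    norm_num at this
  have h1l : (1 : scal K Q →* ℂˣ) ≠ lam := fun h => by
    have := congrArg Units.val (DFunLike.congr_fun h g)
    rw [hg] at this
    simp only [MonoidHom.one_apply, Units.val_one, Units.val_neg] at this
    norm_num at this
  have hml : mu ≠ mu * lam := fun h => h1l (mul_left_cancel ((mul_one mu).trans h))
  have hneK : (e : K) ≠ 1 := fun h => hne (Subtype.ext h)
  have heeK : (e : K) * e = 1 := congrArg Subtype.val hee
  have hωe : ω (e : K) = 1 := hωs _ e.2
  let vH : Fin 13 → H → ℂ := ![fun _ => 1, T.St, fun x => (lam.comp T.dt x : ℂ),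
    fun x => (lam.comp T.dt x : ℂ) * T.St x, T.PS 1 lam, T.DS ω, T.DS θ, T.DS θ⁻¹,
    fun x => (mu.comp T.dt x : ℂ), fun x => (mu.comp T.dt x : ℂ) * T.St x,
    fun x => ((mu * lam).comp T.dt x : ℂ), fun x => ((mu * lam).comp T.dt x : ℂ) * T.St x,
    T.PS mu (mu * lam)]
  have hirrH : ∀ j, SgnIrr H (vH j) := fun j => by
    fin_cases j
    · exact Or.inl Cfsg.Agent.Char.isIrr_one
    · exact T.St_irr
    · exact SgnIrr.linear _
    · exact T.St_irr.mul_linear _
    · exact T.PS_irr _ _ h1l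
    · exact T.DS_irr _ hωr
    · exact T.DS_irr _ htr
    · exact T.DS_irr _ htr'
    · exact SgnIrr.linear _
    · exact T.St_irr.mul_linear _
    · exact SgnIrr.linear _
    · exact T.St_irr.mul_linear _
    · exact T.PS_irr _ _ hml
  have hoddv : ∀ (a : scal K Q), Odd (orderOf a) → ∀ j, vH j (T.D (a, a)) = vH j 1 := fun a ha j => by
    have hK : Odd (orderOf (a : K)) := by rwa [Subgroup.orderOf_coe]
    fin_cases j <;>
      simp [vH, cv, T.St_sc, T.St_one, T.PS_sc _ _ a h1l, T.PS_one h1l, T.DS_sc _ a hωr, T.DS_one hωr,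
        T.DS_sc _ a htr, T.DS_one htr, T.DS_sc _ a htr', T.DS_one htr', T.PS_sc _ _ a hml, T.PS_one hml,
        T.dt_D, hlo a ha, hmuo a ha, hωs _ a.2, hto _ hK]
  choose ψ hψ hψπ using fun j => T.descend π hπ hc ho (hirrH j) (fun a ha => hoddv a ha j)
  have hd : ∀ j, ψ j 1 = degWr Q j := fun j => by
    rw [← map_one π, hψπ]
    fin_cases j <;>
      simp [vH, degWr, T.St_one, T.PS_one h1l, T.PS_one hml, T.DS_one hωr, T.DS_one htr, T.DS_one htr']
  obtain ⟨s, hs, hse⟩ : ∃ s : ℤ, (s = 1 ∨ s = -1) ∧ (mu e : ℂ) = s := by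
    rcases units_sq_eq_one (by rw [hmu2, hle'] : mu e * mu e = 1) with h | h
    · exact ⟨1, Or.inl rfl, by simp [h]⟩
    · exact ⟨-1, Or.inr rfl, by simp [h]⟩
  have hmee : mu e * mu e = 1 := by rw [hmu2, hle']
  have hmeeC : (mu e : ℂ) * mu e = 1 := by rw [← Units.val_mul, hmee, Units.val_one]
  have hconj : ∀ a, conj (mu a : ℂ) = (mu a : ℂ) * lam a := fun a => by
    have h : (mu a : ℂ) * ((mu a : ℂ) * lam a) = 1 := by
      rw [← mul_assoc, ← Units.val_mul, hmu2, ← Units.val_mul, hl2, Units.val_one]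
    refine mul_left_cancel₀ (Units.ne_zero (mu a)) ?_
    rw [h]
    exact Cfsg.Agent.Block.SL2Char.mul_conj_cv mu a
  suffices h : ∃ F : WrFuns C (rootSetWr (π (T.D (e, e))) p) (π (T.D (e, e))) Q
      (((Q * (Q + 1) : ℤ) : ℚ) ^ 2 / Nat.card C), ∀ i x, F.f i x = ∑ j, (matWr i j : ℂ) * ψ j x by
    obtain ⟨F, hF⟩ := h
    refine ⟨F, fun j a b hab => ?_⟩
    rw [hF]
    simp only [hψπ]
    fin_cases j <;>
      simp [Fin.sum_univ_succ, matWr, vH, T.St_D a b hab, T.DS_D _ a b hωr hab, T.DS_D _ a b htr hab,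
        T.DS_D _ a b htr' hab]
  refine wrFuns_of_atoms ψ _ _ (π (T.D (1, e))) Q s _ hs T.ne_zero T.ne_one T.ne_neg_one rfl hψ ?_ ?_ hd ?_ ?_
    (fun φ hφ => T.sum_invols π hπ hc ho hne hee heu hφ) ?_ ?_ ?_ ?_
  · have hv : ∀ {i j}, ψ i = ψ j → ∀ x, vH i x = vH j x := fun {i j} h x => by rw [← hψπ, ← hψπ, h]
    have hb := T.big
    refine orth_of_ne ψ (degWr Q) hψ hd (fun i j h => ?_) fun i j h he hij => ?_
    · fin_cases i <;> fin_cases j <;> simp [degWr] at h ⊢ <;> omega
    have hq : (1 : ℂ) - Q ≠ 0 := sub_ne_zero.2 (by exact_mod_cast T.ne_one.symm)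
    have hq' : (Q : ℂ) + 1 ≠ 0 := by
      rw [← sub_neg_eq_add, sub_ne_zero]; exact_mod_cast T.ne_neg_one
    have e2 : ∀ {i j}, ψ i = ψ j → vH i (T.D (g, 1)) = vH j (T.D (g, 1)) := fun h => hv h _
    have two : (2 : ℂ) ≠ 0 := two_ne_zero
    have n02 : ¬ ψ 0 = ψ 2 := fun h => by
      have := e2 h
      simp [vH, T.dt_D, hg] at this
      exact two (by linear_combination this)
    have n08 : ¬ ψ 0 = ψ 8 := fun h => by
      have := e2 h
      simp [vH, T.dt_D] at this
      exact two (by linear_combination hgz + (1 + (mu g : ℂ)) * this)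
    have n010 : ¬ ψ 0 = ψ 10 := fun h => by
      have := e2 h
      simp [vH, T.dt_D, hg] at this
      exact two (by linear_combination hgz + (1 - (mu g : ℂ)) * this)
    have n28 : ¬ ψ 2 = ψ 8 := fun h => by
      have := e2 h
      simp [vH, T.dt_D, hg] at this
      exact two (by linear_combination hgz - (1 - (mu g : ℂ)) * this)
    have n210 : ¬ ψ 2 = ψ 10 := fun h => by
      have := e2 h
      simp [vH, T.dt_D, hg] at this
      exact two (by linear_combination hgz + (1 + (mu g : ℂ)) * this)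
    have n810 : ¬ ψ 8 = ψ 10 := fun h => by
      have := e2 h
      simp [vH, T.dt_D, hg] at this
      exact two (by linear_combination -(mu g : ℂ) * this + 2 * hgz)
    have hS1 := T.St_D g 1 hg1
    have n13 : ¬ ψ 1 = ψ 3 := fun h => n02 (funext fun x => by
      exfalso
      have := e2 h
      simp [vH, T.dt_D, hg, hS1] at this
      exact two (by linear_combination this))
    have n19 : ¬ ψ 1 = ψ 9 := fun h => by
      have := e2 h
      simp [vH, T.dt_D, hS1] at this
      exact two (by linear_combination hgz + (1 + (mu g : ℂ)) * this)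
    have n111 : ¬ ψ 1 = ψ 11 := fun h => by
      have := e2 h
      simp [vH, T.dt_D, hg, hS1] at this
      exact two (by linear_combination hgz + (1 - (mu g : ℂ)) * this)
    have n39 : ¬ ψ 3 = ψ 9 := fun h => by
      have := e2 h
      simp [vH, T.dt_D, hg, hS1] at this
      exact two (by linear_combination hgz - (1 - (mu g : ℂ)) * this)
    have n311 : ¬ ψ 3 = ψ 11 := fun h => by
      have := e2 h
      simp [vH, T.dt_D, hg, hS1] at this
      exact two (by linear_combination hgz + (1 + (mu g : ℂ)) * this)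
    have n911 : ¬ ψ 9 = ψ 11 := fun h => by
      have := e2 h
      simp [vH, T.dt_D, hg, hS1] at this
      exact two (by linear_combination -(mu g : ℂ) * this + 2 * hgz)
    have n412 : ¬ ψ 4 = ψ 12 := fun h => by
      have := hv h (T.D (g, g))
      simp [vH, cv, T.PS_sc _ _ g h1l, T.PS_sc _ _ g hml, hg] at this
      exact mul_ne_zero hq' two (by linear_combination -this + ((Q : ℂ) + 1) * hgz)
    have n56 : ¬ ψ 5 = ψ 6 := fun h => by
      have := hv h (T.D (e, e))
      simp [vH, cv, T.DS_sc _ e hωr, T.DS_sc _ e htr, hωe, hte _ hneK heeK] at this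
      exact hq (by linear_combination this / 2)
    have n57 : ¬ ψ 5 = ψ 7 := fun h => by
      have := hv h (T.D (e, e))
      simp [vH, cv, T.DS_sc _ e hωr, T.DS_sc _ e htr', hωe, hte _ hneK heeK] at this
      exact hq (by linear_combination this / 2)
    have n67 : ¬ ψ 6 = ψ 7 := fun h => by
      rcases T.DS_inj htr htr' (funext fun x => by simpa [vH] using hv h x) with h' | h'
      · obtain ⟨l, hl⟩ := htn; exact hl (h' l)
      · obtain ⟨l, hl⟩ := htn'; exact hl (h' l)
    fin_cases i <;> fin_cases j <;> simp [degWr] at h he <;>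
      first
        | omega
        | exact n02 hij
        | exact n08 hij
        | exact n010 hij
        | exact n28 hij
        | exact n210 hij
        | exact n810 hij
        | exact n13 hij
        | exact n19 hij
        | exact n111 hij
        | exact n39 hij
        | exact n311 hij
        | exact n911 hij
        | exact n412 hij
        | exact n56 hij
        | exact n57 hij
        | exact n67 hij
  · funext x
    obtain ⟨y, rfl⟩ := hπ x
    rw [hψπ]
    rfl
  · intro j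
    rw [hψπ]
    fin_cases j <;>
      simp [vH, cv, tWr, T.St_sc, T.dt_D, hee, T.PS_sc _ _ e h1l, T.PS_sc _ _ e hml, hle', T.DS_sc _ e hωr,
        T.DS_sc _ e htr, T.DS_sc _ e htr', hωe, hte _ hneK heeK, hmeeC]
  · intro j
    rw [hψπ]
    fin_cases j <;>
      simp [vH, cv, uWr, T.dt_D, hle', hse, T.St_D 1 e (Ne.symm hne), T.PS_D _ _ 1 e h1l (Ne.symm hne),
        T.PS_D _ _ 1 e hml (Ne.symm hne), T.DS_D _ 1 e hωr (Ne.symm hne), T.DS_D _ 1 e htr (Ne.symm hne),
        T.DS_D _ 1 e htr' (Ne.symm hne)] <;> ring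
  · intro i x hx
    refine T.supp_of_reps π hπ (F := fun x => ∑ j, (matWr i j : ℂ) * ψ j x) ?_
      (fun x hx c => mem_rootSetWr_conj htc hx c) ?_ ?_ ?_ x hx
    · exact fun y c => sum_congr rfl fun j _ => by rw [(hψ j).classFun]
    · intro a hF
      by_cases ha : Odd (orderOf a)
      · refine absurd ?_ hF
        have hK : Odd (orderOf (a : K)) := by rwa [Subgroup.orderOf_coe]
        simp only [hψπ]
        fin_cases i <;>
          simp [Fin.sum_univ_succ, matWr, vH, cv, T.St_U, T.dt_U, hlo a ha, hmuo a ha, T.PS_U _ _ a h1l,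
            T.PS_U _ _ a hml, T.DS_U _ a hωr, T.DS_U _ a htr, T.DS_U _ a htr', hωs _ a.2, hto _ hK]
      · obtain ⟨k, hk⟩ := T.exists_pow_U heo hee ha
        exact Or.inl (mem_rootSet_of_pow π hk)
    · rintro ⟨a, b⟩ hF
      by_cases hab : a = b
      · subst hab
        by_cases ha : Odd (orderOf a)
        · refine absurd ?_ hF
          simp only [hψπ, fun j => hoddv a ha j]
          fin_cases i <;>
            simp [Fin.sum_univ_succ, matWr, vH, T.St_one, T.PS_one h1l, T.PS_one hml, T.DS_one hωr, T.DS_one htr,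
              T.DS_one htr'] <;> ring
        · obtain ⟨k, hk⟩ := T.exists_pow_sc heo ha
          exact Or.inl (mem_rootSet_of_pow π hk)
      by_cases hl : lam a ≠ 1 ∧ lam b ≠ 1
      · obtain ⟨k, hk⟩ := T.exists_pow_D heu hl2 hl.1 hl.2
        exact Or.inl (mem_rootSet_of_pow π hk)
      · refine absurd ?_ hF
        simp only [hψπ]
        rcases not_and_or.1 hl with hl | hl <;> rw [not_not] at hl <;> fin_cases i <;>
          simp [Fin.sum_univ_succ, matWr, vH, cv, T.dt_D, hl, T.St_D a b hab, T.PS_D _ _ a b h1l hab,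
            T.PS_D _ _ a b hml hab, T.DS_D _ a b hωr hab, T.DS_D _ a b htr hab, T.DS_D _ a b htr' hab] <;> ring
    · intro l hl hF
      by_cases hlo' : Odd (orderOf l)
      · by_cases hωl : ω l = 1
        · refine absurd ?_ hF
          simp only [hψπ]
          fin_cases i <;>
            simp [Fin.sum_univ_succ, matWr, vH, cv, T.St_E l hl, hlo _ (T.dt_E_odd hlo'),
              hmuo _ (T.dt_E_odd hlo'), T.PS_E _ _ l h1l hl, T.PS_E _ _ l hml hl, T.DS_E _ l hωr hl,
              T.DS_E _ l htr hl, T.DS_E _ l htr' hl, map_zpow, hωl, hto _ hlo'] <;> ring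
        · refine Or.inr ?_
          haveI := Fact.mk hp
          have hωo : orderOf (ω l) = p := orderOf_eq_prime (hωp l) hωl
          obtain ⟨j, r, hr, hjr⟩ := Nat.exists_eq_pow_mul_and_not_dvd (orderOf_pos l).ne' p hp.ne_one
          have hωr' : ω (l ^ r) ≠ 1 := fun h => by
            rw [map_pow, ← orderOf_dvd_iff_pow_eq_one, hωo] at h
            exact hr h
          have hys : l ^ r ∉ scal K Q := fun h => hωr' (hωs _ h)
          refine ⟨r, ?_, fun hz => ?_⟩
          · have hpow : (π (T.E l) ^ r) ^ p ^ j = 1 := by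
              rw [← map_pow, ← map_pow, ← map_pow, ← map_pow, ← pow_mul, mul_comm, ← hjr, pow_orderOf_eq_one,
                map_one, map_one]
            obtain ⟨i, -, hi⟩ := (Nat.dvd_prime_pow hp).1 (orderOf_dvd_of_pow_eq_one hpow)
            exact ⟨i, hi⟩
          · have hn := central_norm (hψ 5) hz
            rw [← map_pow, ← map_pow, hψπ, hd] at hn
            have h5 : vH 5 (T.E (l ^ r)) = cv ω (l ^ r) + cv ω ((l ^ r) ^ Q) := by
              simpa [vH] using T.DS_E ω (l ^ r) hωr hys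
            rw [h5] at hn
            have h1 : ∀ x : K, ‖cv ω x‖ = 1 := fun x =>
              Complex.norm_eq_one_of_pow_eq_one (by
                rw [← Units.val_pow_eq_pow_val, hωp x, Units.val_one]) hp.ne_zero
            have h2 := norm_add_le (cv ω (l ^ r)) (cv ω ((l ^ r) ^ Q))
            rw [h1, h1, hn] at h2
            have h3 : ‖((degWr Q 5 : ℤ) : ℂ)‖ = |((1 : ℝ) - Q)| := by
              rw [show degWr Q 5 = 1 - Q by rfl, Complex.norm_intCast]
              push_cast
              rfl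
            rw [h3] at h2
            have hb := T.big
            have h4 : (4 : ℤ) ≤ |1 - Q| := by rw [Int.abs_eq_natAbs]; omega
            have h5 : (4 : ℝ) ≤ |(1 : ℝ) - Q| := by exact_mod_cast h4
            linarith
      · obtain ⟨k, hk⟩ := T.exists_pow_E heo hlo'
        exact Or.inl (mem_rootSet_of_pow π hk)
  · intro x
    obtain ⟨y, rfl⟩ := hπ x
    simp only [hψπ]
    simpa [vH] using T.conj_St y
  · intro x
    obtain ⟨y, rfl⟩ := hπ x
    simp only [hψπ]
    simpa [vH] using hconj (T.dt y)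
  · intro x
    obtain ⟨y, rfl⟩ := hπ x
    simp only [hψπ]
    simp [vH, T.conj_St y, hconj (T.dt y)]

/-- The functions for `Q ≡ 3 mod 4`. -/
theorem sdFuns (hQ : Q % 4 = 3) (hπ : Function.Surjective π) (hc : π.ker ≤ Subgroup.center H)
    (ho : Odd (Nat.card π.ker)) (t : C) (ht : orderOf t = 2) (htc : t ∈ Subgroup.center C) :
    Nonempty (SdFuns C (rootSet t) t Q (((Q * (Q + 1) : ℤ) : ℚ) ^ 2 / Nat.card C)) :=
  let ⟨F, _⟩ := T.sdFuns_vanish π hQ hπ hc ho t ht htc
  ⟨F⟩

/-- The functions for `Q ≡ 1 mod 4`. -/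
theorem wrFuns (hQ : Q % 4 = 1) {p : ℕ} (hp : p.Prime) (hp2 : p ≠ 2) (hpQ : (p : ℤ) ∣ Q + 1)
    (hπ : Function.Surjective π) (hc : π.ker ≤ Subgroup.center H)
    (ho : Odd (Nat.card π.ker)) (t : C) (ht : orderOf t = 2) (htc : t ∈ Subgroup.center C) :
    Nonempty (WrFuns C (rootSetWr t p) t Q (((Q * (Q + 1) : ℤ) : ℚ) ^ 2 / Nat.card C)) :=
  let ⟨F, _⟩ := T.wrFuns_vanish π hQ hp hp2 hpQ hπ hc ho t ht htc
  ⟨F⟩

end Tbl

end Cfsg.Agent.Invol.BrauerL3
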