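import Cfsg.Agent.Lib.Invol.BrauerL3.Ind
import Cfsg.Agent.Lib.Invol.BrauerL3.AlgSdTwo
import Cfsg.Agent.Lib.Invol.BrauerL3.TableFuns

/-!
# The index of the centraliser

The index of `C(t)` is `Q² (Q² + Q + 1)`, except for three further possibilities when `Q ≡ 3 mod 4`.
-/

set_option autoImplicit false
set_option linter.unusedSectionVars false

open scoped Classical

namespace Cfsg.Agent.Invol.BrauerL3

open Cfsg

universe u

variable {G : Type u} [Group G] [Fintype G] {t : G}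

/-- The central involution in the centraliser. -/
abbrev tc (t : G) : Cen t := ⟨t, t_mem t⟩

theorem tc_central (t : G) : tc t ∈ Subgroup.center (Cen t) :=
  Subgroup.mem_center_iff.2 fun g => Subtype.ext (mem_Cen.1 g.2)

/-- An involution among the powers of `x` is unique. -/
theorem eq_of_zpowers {a b x : G} (ha : orderOf a = 2) (hb : orderOf b = 2) (hax : a ∈ Subgroup.zpowers x)
    (hbx : b ∈ Subgroup.zpowers x) : a = b := by
  haveI : IsCyclic (Subgroup.zpowers x) := inferInstance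
  have hcard : ∀ {c : G} (hc : orderOf c = 2) (hm : c ∈ Subgroup.zpowers x),
      (⟨c, hm⟩ : Subgroup.zpowers x) ∈ (Finset.univ.filter fun z : Subgroup.zpowers x => orderOf z = 2) :=
    fun hc hm => Finset.mem_filter.2 ⟨Finset.mem_univ _, by rw [← Subgroup.orderOf_coe]; exact hc⟩
  have h2 : 2 ∣ Fintype.card (Subgroup.zpowers x) := by
    rw [← ha, ← Nat.card_eq_fintype_card]
    exact Subgroup.orderOf_dvd_natCard _ hax
  have h1 := IsCyclic.card_orderOf_eq_totient h2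
  rw [Nat.totient_two] at h1
  exact congrArg Subtype.val (Finset.card_le_one.1 h1.le _ (hcard ha hax) _ (hcard hb hbx))

theorem mem_zpowers_coe {x : Cen t} (hx : x ∈ rootSet (tc t)) : t ∈ Subgroup.zpowers (x : G) := by
  obtain ⟨k, hk⟩ := Subgroup.mem_zpowers_iff.1 hx
  exact Subgroup.mem_zpowers_iff.2 ⟨k, by simpa using congrArg Subtype.val hk⟩

theorem orderOf_conj' (g a : G) : orderOf (g * a * g⁻¹) = orderOf a := by
  rw [← MulAut.conj_apply, MulEquiv.orderOf_eq]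

theorem commute_of_zpowers {a x : G} (h : a ∈ Subgroup.zpowers x) : Commute a x := by
  obtain ⟨k, rfl⟩ := Subgroup.mem_zpowers_iff.1 h
  exact Commute.zpow_self x k

theorem rootSet_ti (ht : orderOf t = 2) : TI t (rootSet (tc t)) where
  one h := by
    have h' := mem_zpowers_coe h
    rw [OneMemClass.coe_one, Subgroup.zpowers_one_eq_bot, Subgroup.mem_bot] at h'
    rw [h', orderOf_one] at ht
    exact absurd ht (by norm_num)
  tmem _ := Subgroup.mem_zpowers _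
  ti x hx g hm hg := by
    have h2 := mem_zpowers_coe hg
    have h3 : g * t * g⁻¹ ∈ Subgroup.zpowers (g * (x : G) * g⁻¹) := by
      obtain ⟨k, hk⟩ := Subgroup.mem_zpowers_iff.1 (mem_zpowers_coe hx)
      exact Subgroup.mem_zpowers_iff.2 ⟨k, by rw [conj_zpow, hk]⟩
    have h4 := eq_of_zpowers (by rw [orderOf_conj', ht]) ht h3 h2
    exact mem_Cen.2 (mul_inv_eq_iff_eq_mul.1 h4)
  inv x hx i _ hix := by
    have h3 : i * t * i⁻¹ ∈ Subgroup.zpowers (x : G) := by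
      obtain ⟨k, hk⟩ := Subgroup.mem_zpowers_iff.1 (mem_zpowers_coe hx)
      refine Subgroup.mem_zpowers_iff.2 ⟨-k, ?_⟩
      rw [zpow_neg, ← inv_zpow, ← hix, conj_zpow]
      exact congrArg (fun z => i * z * i⁻¹) hk
    have h4 := eq_of_zpowers (by rw [orderOf_conj', ht]) ht h3 (mem_zpowers_coe hx)
    exact mem_Cen.2 (mul_inv_eq_iff_eq_mul.1 h4)

/-- The enlarged set is a trivial intersection set. -/
theorem rootSetWr_ti (ht : orderOf t = 2) {l : ℕ} (hl : l.Prime) (hl2 : l ≠ 2)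
    (hY : ∀ y : Cen t, (∃ i, orderOf y = l ^ i) → y ∉ Subgroup.center (Cen t) →
      Subgroup.centralizer ({(y : G)} : Set G) ≤ Cen t ∧ ∀ i : Cen t, orderOf i = 2 → i * y = y * i → (i : G) = t) :
    TI t (rootSetWr (tc t) l) := by
  have key : ∀ x ∈ rootSetWr (tc t) l, ∀ a : G, orderOf a = 2 → Commute a (x : G) → a = t ∨ x ∈ rootSet (tc t) := by
    rintro x (hx | ⟨k, hi, hk⟩) a ha hax
    · exact Or.inr hx
    · obtain ⟨h1, h2⟩ := hY _ hi hk
      have hak : Commute a ((x ^ k : Cen t) : G) := by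
        rw [Subgroup.coe_pow]; exact hax.pow_right k
      have haC : a ∈ Cen t := h1 (Subgroup.mem_centralizer_singleton_iff.2 hak.eq)
      exact Or.inl (h2 ⟨a, haC⟩ (by rw [← Subgroup.orderOf_coe]; exact ha) (Subtype.ext hak.eq))
  have htx : ∀ x : Cen t, Commute t (x : G) := fun x => (mem_Cen.1 x.2).symm
  refine ⟨?_, fun _ => Or.inl (Subgroup.mem_zpowers _), ?_, ?_⟩
  · rintro (h | ⟨k, -, hk⟩)
    · exact (rootSet_ti ht).one h
    · exact hk (by rw [one_pow]; exact one_mem _)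
  · intro x hx g hm hg
    -- the conjugate of `t` in either direction
    have h1 : g * t * g⁻¹ = t := by
      rcases key _ hg (g * t * g⁻¹) (by rw [orderOf_conj', ht]) ((htx x).map (MulAut.conj g).toMonoidHom) with h | h
      · exact h
      · have h2 := mem_zpowers_coe h
        have h3 : g⁻¹ * t * g ∈ Subgroup.zpowers (x : G) := by
          obtain ⟨k, hk⟩ := Subgroup.mem_zpowers_iff.1 h2
          refine Subgroup.mem_zpowers_iff.2 ⟨k, ?_⟩
          have hk' : g * (x : G) ^ k * g⁻¹ = t := by rw [← conj_zpow]; exact hk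
          calc (x : G) ^ k = g⁻¹ * (g * (x : G) ^ k * g⁻¹) * g := by group
            _ = g⁻¹ * t * g := congrArg (fun z => g⁻¹ * z * g) hk'
        have h5 : g⁻¹ * t * g = t := by
          rcases key _ hx (g⁻¹ * t * g) (by rw [show g⁻¹ * t * g = g⁻¹ * t * g⁻¹⁻¹ by rw [inv_inv], orderOf_conj', ht])
            (commute_of_zpowers h3) with h | h
          · exact h
          · exact eq_of_zpowers (by rw [show g⁻¹ * t * g = g⁻¹ * t * g⁻¹⁻¹ by rw [inv_inv], orderOf_conj', ht])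
              ht h3 (mem_zpowers_coe h)
        calc g * t * g⁻¹ = g * (g⁻¹ * t * g) * g⁻¹ := by rw [h5]
          _ = t := by group
    exact mem_Cen.2 (mul_inv_eq_iff_eq_mul.1 h1)
  · intro x hx i hi hix
    have hc : Commute (i * t * i⁻¹) (x : G) := by
      have := (htx x).map (MulAut.conj i).toMonoidHom
      simp only [MulEquiv.coe_toMonoidHom, MulAut.conj_apply] at this
      rw [hix] at this
      exact (Commute.inv_right_iff).1 this
    rcases key x hx (i * t * i⁻¹) (by rw [orderOf_conj', ht]) hc with h | h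
    · exact mem_Cen.2 (mul_inv_eq_iff_eq_mul.1 h)
    · exact (rootSet_ti ht).inv x h i hi hix

theorem R_mul_index {Q : ℤ} :
    ((Nat.card (Cen t) : ℚ) ^ 2 / (Nat.card G : ℚ) * (((Q * (Q + 1) : ℤ) : ℚ) ^ 2 / Nat.card (Cen t))) *
      ((Cen t).index : ℚ) = ((Q : ℚ) * (Q + 1)) ^ 2 := by
  have h : ((Cen t).index : ℚ) * (Nat.card (Cen t) : ℚ) = (Nat.card G : ℚ) := by
    exact_mod_cast (Cen t).index_mul_card
  have h1 : (Nat.card (Cen t) : ℚ) ≠ 0 := Nat.cast_ne_zero.2 Nat.card_pos.ne'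
  have h2 : ((Cen t).index : ℚ) ≠ 0 := Nat.cast_ne_zero.2 Subgroup.index_ne_zero_of_finite
  rw [← h]
  push_cast
  field_simp

/-- The index for `Q ≡ 3 mod 4`. -/
theorem sd_index [IsSimpleGroup G] (hna : ¬ IsMulCommutative G) (ht : orderOf t = 2)
    (h1 : ∀ i : G, orderOf i = 2 → IsConj t i) {Q : ℤ} {p n : ℕ} (hp : p.Prime) (hn : 0 < n)
    (hQ : Q = (p : ℤ) ^ n ∨ Q = -(p : ℤ) ^ n) (h4 : Q % 4 = 3)
    (F : SdFuns (Cen t) (rootSet (tc t)) (tc t) Q (((Q * (Q + 1) : ℤ) : ℚ) ^ 2 / Nat.card (Cen t)))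
    (hodd : Odd (Cen t).index)
    (hE : ∀ l : ℕ, l.Prime → l ≠ 2 → (l : ℤ) ∣ Q + 1 → ¬ l ∣ (Cen t).index) :
    ((Cen t).index : ℤ) = Q ^ 2 * (Q ^ 2 + Q + 1) ∨ ((Cen t).index : ℤ) = (Q ^ 2 + Q - 1) * (Q ^ 2 + 2 * Q) ∨
      (Q = -5 ∧ (Cen t).index = 357) ∨ (Q = -9 ∧ (Cen t).index = 5025) := by
  have hN : ((Q * (Q + 1) : ℤ) : ℚ) ^ 2 / Nat.card (Cen t) ≠ 0 := by
    refine div_ne_zero (pow_ne_zero 2 (Int.cast_ne_zero.2 (mul_ne_zero ?_ ?_))) (Nat.cast_ne_zero.2 Nat.card_pos.ne')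
    · omega
    · have h2 : (2 : ℤ) ≤ (p : ℤ) ^ n :=
        le_trans (by exact_mod_cast hp.two_le) (le_self_pow₀ (by exact_mod_cast hp.one_lt.le) hn.ne')
      rcases hQ with h | h <;> omega
  obtain ⟨E⟩ := sd_equations hna ht h1 (rootSet_ti ht) hN F
  have h := E.solve (mul_ne_zero (div_ne_zero (pow_ne_zero _ (Nat.cast_ne_zero.2 Nat.card_pos.ne'))
      (Nat.cast_ne_zero.2 Nat.card_pos.ne')) hN) hp hn hQ h4 (g₀ := ((Cen t).index : ℤ))
    (by exact_mod_cast R_mul_index) (by exact_mod_cast hodd) (fun l hl hl2 hlQ h => hE l hl hl2 hlQ (by exact_mod_cast h))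
  rcases h with h | h | ⟨hq, h⟩ | ⟨hq, h⟩
  · exact Or.inl h
  · exact Or.inr (Or.inl h)
  · exact Or.inr (Or.inr (Or.inl ⟨hq, by exact_mod_cast h⟩))
  · exact Or.inr (Or.inr (Or.inr ⟨hq, by exact_mod_cast h⟩))

/-- The index for `Q ≡ 1 mod 4`. -/
theorem wr_index [IsSimpleGroup G] (hna : ¬ IsMulCommutative G) (ht : orderOf t = 2)
    (h1 : ∀ i : G, orderOf i = 2 → IsConj t i) {Q : ℤ} {p n : ℕ} (hp : p.Prime) (hn : 0 < n)
    (hQ : Q = (p : ℤ) ^ n ∨ Q = -(p : ℤ) ^ n) {l : ℕ} (hl : l.Prime) (hl2 : l ≠ 2)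
    (F : WrFuns (Cen t) (rootSetWr (tc t) l) (tc t) Q (((Q * (Q + 1) : ℤ) : ℚ) ^ 2 / Nat.card (Cen t)))
    (hY : ∀ y : Cen t, (∃ i, orderOf y = l ^ i) → y ∉ Subgroup.center (Cen t) →
      Subgroup.centralizer ({(y : G)} : Set G) ≤ Cen t ∧ ∀ i : Cen t, orderOf i = 2 → i * y = y * i → (i : G) = t) :
    ((Cen t).index : ℤ) = Q ^ 2 * (Q ^ 2 + Q + 1) := by
  have h2 : (2 : ℤ) ≤ (p : ℤ) ^ n :=
    le_trans (by exact_mod_cast hp.two_le) (le_self_pow₀ (by exact_mod_cast hp.one_lt.le) hn.ne')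
  have hQ0 : Q ≠ 0 := by rcases hQ with h | h <;> omega
  have hQ1 : Q + 1 ≠ 0 := by rcases hQ with h | h <;> omega
  have hN : ((Q * (Q + 1) : ℤ) : ℚ) ^ 2 / Nat.card (Cen t) ≠ 0 :=
    div_ne_zero (pow_ne_zero 2 (Int.cast_ne_zero.2 (mul_ne_zero hQ0 hQ1))) (Nat.cast_ne_zero.2 Nat.card_pos.ne')
  obtain ⟨E⟩ := wr_equations hna ht h1 (rootSetWr_ti ht hl hl2 hY) hN F
  set R := (Nat.card (Cen t) : ℚ) ^ 2 / (Nat.card G : ℚ) * (((Q * (Q + 1) : ℤ) : ℚ) ^ 2 / Nat.card (Cen t))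
  have hR : R ≠ 0 := mul_ne_zero (div_ne_zero (pow_ne_zero _ (Nat.cast_ne_zero.2 Nat.card_pos.ne'))
    (Nat.cast_ne_zero.2 Nat.card_pos.ne')) hN
  obtain ⟨-, h⟩ := E.solve hR hp hn hQ
  have hi : R * ((Cen t).index : ℚ) = ((Q : ℚ) * (Q + 1)) ^ 2 := R_mul_index
  have h3 : ((Cen t).index : ℚ) = (Q : ℚ) ^ 2 * ((Q : ℚ) ^ 2 + Q + 1) := by
    refine mul_left_cancel₀ hR ?_
    linear_combination hi - (Q : ℚ) ^ 2 * h
  exact_mod_cast h3

end Cfsg.Agent.Invol.BrauerL3
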