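import Cfsg.Agent.Lib.Invol.BrauerL3.ExceptionalCount
import Cfsg.Agent.Lib.Invol.BrauerL3.Order
import Mathlib.NumberTheory.Divisors

/-!
# The exceptional kernel occurs only for `Q = -9`

For `Q = 11, 31, -29` the values of the index allowed by the equations contradict `|G : L| ≡ 0, 2 mod 5`.
-/

set_option autoImplicit false
set_option linter.unusedSectionVars false

open scoped Classical

namespace Cfsg.Agent.Invol.BrauerL3

open Cfsg Subgroup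

universe u v

/-- The condition on the parameter `w`. -/
def ExcOK (Q k w : ℤ) : Prop :=
  ((Q * (Q ^ 2 + Q - w)) % (Q + 1 + w) = 0 ∨
      (Q * (Q * (Q + 1) + 2 * ((Q ^ 2 - 1 - w) * (Q ^ 2 + Q - w))) ^ 2) %
        (Q ^ 3 * (Q + 1) ^ 2 + 4 * w * (Q ^ 2 - 1 - w) * (Q ^ 2 + Q - w) ^ 2) = 0) ∧
    0 < (Q ^ 2 - 1 - w) * (Q ^ 2 + Q - w) ∧
    (Q * (Q ^ 2 - 1) * (Q - 1) * ((Q ^ 2 - 1 - w) * (Q ^ 2 + Q - w))) % (60 * k * k) = 0 ∧
    ((Q * (Q ^ 2 - 1) * (Q - 1) * ((Q ^ 2 - 1 - w) * (Q ^ 2 + Q - w))) / (60 * k * k) % 5 = 0 ∨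
      (Q * (Q ^ 2 - 1) * (Q - 1) * ((Q ^ 2 - 1 - w) * (Q ^ 2 + Q - w))) / (60 * k * k) % 5 = 2)

instance (Q k w : ℤ) : Decidable (ExcOK Q k w) := by unfold ExcOK; infer_instance

theorem exc_check_eleven : ∀ d ∈ Nat.divisors 165, ¬ ExcOK 11 5 (d : ℤ) ∧ ¬ ExcOK 11 5 (-(d : ℤ)) := by
  decide +kernel

theorem exc_check_thirty_one : ∀ d ∈ Nat.divisors 465, ¬ ExcOK 31 15 (d : ℤ) ∧ ¬ ExcOK 31 15 (-(d : ℤ)) := by
  decide +kernel

theorem exc_check_twenty_nine :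
    ∀ d ∈ Nat.divisors 3045, ¬ ExcOK (-29) 15 (d : ℤ) ∧ ¬ ExcOK (-29) 15 (-(d : ℤ)) := by
  decide +kernel

theorem not_excOK {Q k w : ℤ} (hQ : (Q = 11 ∧ k = 5) ∨ (Q = 31 ∧ k = 15) ∨ (Q = -29 ∧ k = 15)) (hw : Odd w)
    (hd : w ∣ Q * (Q ^ 2 - 1)) : ¬ ExcOK Q k w := by
  have key : ∀ {m e : ℕ}, w.natAbs ∣ m * 2 ^ e → w.natAbs ∣ m := fun {m e} h =>
    ((Nat.coprime_two_right.2 (Int.natAbs_odd.2 hw)).pow_right e).dvd_of_dvd_mul_right h
  have hd' := Int.natAbs_dvd_natAbs.2 hd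
  rcases hQ with ⟨rfl, rfl⟩ | ⟨rfl, rfl⟩ | ⟨rfl, rfl⟩
  · have h := exc_check_eleven w.natAbs (Nat.mem_divisors.2 ⟨key (e := 3) (by norm_num at hd' ⊢; exact hd'),
      by norm_num⟩)
    rcases Int.natAbs_eq w with e | e <;> rw [e]
    exacts [h.1, h.2]
  · have h := exc_check_thirty_one w.natAbs (Nat.mem_divisors.2 ⟨key (e := 6) (by norm_num at hd' ⊢; exact hd'),
      by norm_num⟩)
    rcases Int.natAbs_eq w with e | e <;> rw [e]
    exacts [h.1, h.2]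
  · have h := exc_check_twenty_nine w.natAbs (Nat.mem_divisors.2 ⟨key (e := 3) (by norm_num at hd' ⊢; exact hd'),
      by norm_num⟩)
    rcases Int.natAbs_eq w with e | e <;> rw [e]
    exacts [h.1, h.2]

/-- The parameter of a solution satisfies the condition. -/
theorem SdEqs.exists_excOK {Q : ℤ} {R : ℚ} (E : SdEqs Q R) (hR : R ≠ 0) (h4 : Q % 4 = 3) (hQ : 3 ≤ |Q|) {g₀ : ℤ}
    (hg : R * g₀ = ((Q : ℚ) * (Q + 1)) ^ 2) (hgo : Odd g₀) (hpos : 0 < g₀) {k n : ℤ} (hk : k ≠ 0)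
    (hn : n * (60 * k * k) = Q * (Q ^ 2 - 1) * (Q - 1) * g₀) (hn5 : n % 5 = 0 ∨ n % 5 = 2) :
    ∃ w, Odd w ∧ w ∣ Q * (Q ^ 2 - 1) ∧ ExcOK Q k w := by
  have h1 : Q ≠ 1 := by omega
  have h0 : Q ≠ 0 := by omega
  obtain ⟨hu, hgu, hi, hii⟩ := E.cleared hR h1 h0 hg
  obtain ⟨w, hwu, hgw⟩ := exists_w hu hgu
  have hw : Odd w := by
    rw [hgw] at hgo
    have h5 := (Int.odd_mul.1 hgo).1
    by_contra h
    have h6 : Even (Q ^ 2 - 1 - w) := by
      refine Even.sub ?_ (Int.not_odd_iff_even.1 h)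
      obtain ⟨c, hc⟩ : ∃ c, Q = 2 * c + 1 := ⟨Q / 2, by omega⟩
      exact ⟨2 * c * c + 2 * c, by rw [hc]; ring⟩
    exact Int.not_even_iff_odd.2 h5 h6
  refine ⟨w, hw, ⟨E.a + Q, hwu.symm⟩, ?_, hgw ▸ hpos, ?_⟩
  · have e1 : w * E.a = Q * (Q ^ 2 - 1 - w) := by linear_combination hwu
    have e2 : w * (E.a + 1) = (Q - 1) * (Q ^ 2 + Q - w) := by linear_combination hwu
    rcases sd_branches rfl E.a0 E.a1 E.b0 hi hii with h | h
    · left
      have hbr : E.b * (Q + 1 + w) = -(Q * (Q ^ 2 + Q - w)) := by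
        refine mul_left_cancel₀ (mul_ne_zero h0 (show Q - 1 ≠ 0 by omega)) ?_
        linear_combination w * h - (E.b + Q ^ 2) * e2 + E.b * (e2 - e1)
      exact Int.emod_eq_zero_of_dvd ⟨-E.b, by linear_combination hbr⟩
    · right
      refine Int.emod_eq_zero_of_dvd ⟨-E.b, ?_⟩
      refine mul_left_cancel₀ (show (Q ^ 2 - 1) ^ 2 * (Q - 1) ^ 2 * Q ≠ 0 from mul_ne_zero (mul_ne_zero
        (pow_ne_zero 2 (by
          intro e
          have : (Q - 1) * (Q + 1) = 0 := by linear_combination e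
          rcases mul_eq_zero.1 this with e | e <;> rcases abs_cases Q with ⟨e', -⟩ | ⟨e', -⟩ <;> omega))
        (pow_ne_zero 2 (sub_ne_zero.2 h1))) h0) ?_
      set Y := -2 * (Q ^ 2 - 1) * (1 + E.a)
      have eY : w * Y = -2 * (Q ^ 2 - 1) * ((Q - 1) * (Q ^ 2 + Q - w)) := by
        rw [← e2]; simp only [Y]; ring
      have hw4 : E.b * ((w * (E.a + Q)) ^ 4 + w * (w * E.a) * (w * Y) ^ 2) +
          ((w * (E.a + Q)) ^ 2 - (w * E.a) * (w * Y)) ^ 2 = 0 := by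
        linear_combination w ^ 4 * h
      rw [hwu, e1, eY] at hw4
      linear_combination hw4
  · rw [← hgw, ← hn, Int.mul_emod_left, Int.mul_ediv_cancel _ (mul_ne_zero (mul_ne_zero (by norm_num) hk) hk)]
    exact ⟨rfl, hn5⟩

variable {G : Type u} [Group G] [Fintype G] {t : G} {p : ℕ} {Q : ℤ}

namespace TSetup

variable {F : Frame (Cen t) (tc t) p Q} {S : Type v} [CommGroup S] (D : TSetup F S) [IsSimpleGroup G]

/-- The exceptional kernel occurs only for `Q = -9`. -/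
theorem exceptional (hm : (Q - 1).natAbs = 2 * D.kk) (hk : D.kk = 5 ∨ D.kk = 15) (T : Tw D) (hr : T.r = 5)
    (hC : T.fx.IsFive)
    (Fn : SdFuns (Cen t) (rootSet (tc t)) (tc t) Q (((Q * (Q + 1) : ℤ) : ℚ) ^ 2 / Nat.card (Cen t))) : Q = -9 := by
  by_contra h9
  have hsq : (Q - 1) ^ 2 = 4 * (D.kk : ℤ) ^ 2 := by
    rw [← sq_abs, ← Int.natCast_natAbs, hm]
    push_cast
    ring
  have hkk : (D.kk : ℤ) ≠ 0 := by rcases hk with h | h <;> omega
  have hA : Nat.card D.A = 4 * D.kk := by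
    have h := D.card_A
    rw [hsq, show ((Nat.card D.T.τ.ker : ℕ) : ℤ) = (D.kk : ℤ) from rfl, pow_two, ← mul_assoc] at h
    have h' := mul_right_cancel₀ hkk h
    exact_mod_cast h'
  let E : Exc D := ⟨T, hr, hC, D.kk, hk, hA,
    fun x hx => orderOf_dvd_iff_pow_eq_one.1 (hm ▸ D.dvd_m hx)⟩
  have hmod := E.index_mod
  have hQ : (Q = 11 ∧ (D.kk : ℤ) = 5) ∨ (Q = 31 ∧ (D.kk : ℤ) = 15) ∨ (Q = -29 ∧ (D.kk : ℤ) = 15) := by omega
  have h4 : Q % 4 = 3 := by omega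
  have hbig : 3 ≤ |Q| := by rcases abs_cases Q with e | e <;> omega
  have hna : ¬ IsMulCommutative G := fun h => F.not_comm h
  have hN : ((Q * (Q + 1) : ℤ) : ℚ) ^ 2 / Nat.card (Cen t) ≠ 0 :=
    div_ne_zero (pow_ne_zero 2 (Int.cast_ne_zero.2 (mul_ne_zero (by omega) (by omega))))
      (Nat.cast_ne_zero.2 Nat.card_pos.ne')
  obtain ⟨Eq⟩ := sd_equations hna F.tG F.one_classG (rootSet_ti F.tG) hN Fn
  have hidx : (E.L.index : ℤ) * (60 * D.kk * D.kk) = Q * (Q ^ 2 - 1) * (Q - 1) * ((Cen t).index : ℤ) := by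
    have h1 : E.L.index * (60 * D.kk) = (Cen t).index * Nat.card (Cen t) := by
      rw [Subgroup.index_mul_card, show 60 * D.kk = Nat.card E.L from E.card_L.symm, Subgroup.index_mul_card]
    have h2 : (Nat.card (Cen t) : ℤ) * (D.kk : ℤ) = Q * (Q ^ 2 - 1) * (Q - 1) := D.T.cardC
    have h1' := congrArg (Nat.cast : ℕ → ℤ) h1
    push_cast at h1'
    linear_combination (D.kk : ℤ) * h1' + ((Cen t).index : ℤ) * h2
  obtain ⟨w, hw, hwd, hok⟩ := Eq.exists_excOK (k := (D.kk : ℤ)) (n := (E.L.index : ℤ))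
    (mul_ne_zero (div_ne_zero (pow_ne_zero _ (Nat.cast_ne_zero.2 Nat.card_pos.ne'))
      (Nat.cast_ne_zero.2 Nat.card_pos.ne')) hN) h4 hbig (g₀ := ((Cen t).index : ℤ))
    (by exact_mod_cast R_mul_index) (by exact_mod_cast F.index_odd)
    (by exact_mod_cast Nat.pos_of_ne_zero Subgroup.index_ne_zero_of_finite) hkk hidx (by omega)
  exact not_excOK hQ hw hwd hok

end TSetup

end Cfsg.Agent.Invol.BrauerL3
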