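import Cfsg.Agent.Lib.Invol.BrauerL3.LocalElliptic

/-!
# Brauer's theorem: the local hypotheses of the order formula and of the identifications
-/

set_option autoImplicit false
set_option linter.unusedSectionVars false

namespace Cfsg.Agent.Invol.BrauerL3

open Subgroup

universe u

variable {G : Type u} [Group G] [Fintype G] {t : G} {p : ℕ} {Q : ℤ}

namespace Frame

variable (F : Frame (Cen t) (tc t) p Q)
include F

/-- A central element of the centraliser with `z² ≠ 1`, in `G`. -/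
theorem exists_centAt {z : Cen t} (hz : z ∈ center (Cen t)) (hz2 : z * z ≠ 1) :
    ∃ z : G, CentAt t z ∧ z * z ≠ 1 :=
  ⟨z, centAt_of_center hz, fun e => hz2 (Subtype.ext e)⟩

/-- `hY` of `wr_index`. -/
theorem hY [IsSimpleGroup G] (hz : ∃ z, CentAt t z ∧ z * z ≠ 1) {l : ℕ} (hl : l.Prime) (hl2 : l ≠ 2)
    (hlQ : (l : ℤ) ∣ Q + 1) :
    ∀ y : Cen t, (∃ i, orderOf y = l ^ i) → y ∉ center (Cen t) →
      centralizer ({(y : G)} : Set G) ≤ Cen t ∧ ∀ i : Cen t, orderOf i = 2 → i * y = y * i → (i : G) = t := by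
  rintro y ⟨i, hi⟩ hy
  exact F.elliptic hz hl hl2 hlQ hi fun e => hy (e ▸ one_mem _)

/-- B2 for an element of the centraliser. -/
theorem centralizer_center [IsSimpleGroup G] {y : Cen t} (hy : y ∈ center (Cen t)) (hy1 : y ≠ 1) :
    centralizer ({(y : G)} : Set G) ≤ Cen t :=
  F.centralizer_central (centAt_of_center hy) fun e => hy1 (Subtype.ext e)

/-- `hfix` of `psu_of_facts`. -/
theorem hfix [IsSimpleGroup G] (hz : ∃ z, CentAt t z ∧ z * z ≠ 1) {q : ℕ} (hQ : Q = -(q : ℤ)) (hq : 1 ≤ q)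
    {y : Cen t} (hy : (orderOf y).Prime) (hodd : Odd (orderOf y))
    (h : orderOf y ∣ q - 1 ∨ y ∈ center (Cen t)) : centralizer ({(y : G)} : Set G) ≤ Cen t := by
  have hy1 : y ≠ 1 := fun e => hy.ne_one (by rw [e, orderOf_one])
  rcases h with h | h
  · refine (F.elliptic hz hy (fun e => Nat.not_odd_iff_even.2 even_two (e ▸ hodd)) ?_ (i := 1) (pow_one _).symm
      hy1).1
    have h1 : ((orderOf y : ℕ) : ℤ) ∣ ((q - 1 : ℕ) : ℤ) := Int.natCast_dvd_natCast.2 h
    rw [Nat.cast_sub hq, Nat.cast_one] at h1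
    rw [hQ, show -(q : ℤ) + 1 = -((q : ℤ) - 1) by ring]
    exact h1.neg_right
  · exact F.centralizer_center h hy1

end Frame

end Cfsg.Agent.Invol.BrauerL3
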