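import Cfsg.Agent.Lib.Invol.BrauerL3.UnitaryExclude
import Cfsg.Agent.Lib.Invol.BrauerL3.LocalExport

/-!
# A centraliser of type `GU(2, 5)`: the index is not 357

The normaliser of a root group `R` of order five is `K T` with `|K| = 5 D` and `T` free on `K ∖ R`; Sylow's theorem
leaves `D = 17`, so an element of order five centralises a Sylow `17`-subgroup, which has at most eighteen conjugates.
-/

set_option autoImplicit false
set_option linter.style.haveILetI false

namespace Cfsg.Agent.Invol.BrauerL3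

open Subgroup

universe u v

/-- In a simple group with `p + 1` Sylow subgroups, each of order `p`, only elements of order dividing `p` centralise
one of them. -/
theorem pow_eq_one_of_succ_sylow {G : Type u} [Group G] [Finite G] [IsSimpleGroup G] {p : ℕ} [hp : Fact p.Prime]
    (P : Sylow p G) (hn : Nat.card (Sylow p G) = p + 1) {x e : G} (hx : orderOf x = p)
    (hxP : (P : Subgroup G) = zpowers x) (he : Commute e x) : e ^ p = 1 := by
  classical
  haveI := Fintype.ofFinite (Sylow p G)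
  set φ : G →* Equiv.Perm (Sylow p G) := MulAction.toPermHom G (Sylow p G)
  obtain ⟨Q, hQ⟩ : ∃ Q : Sylow p G, Q ≠ P := by
    rw [Nat.card_eq_fintype_card] at hn
    exact Fintype.exists_ne_of_one_lt_card (by have := hp.1.two_le; omega) P
  have hinj : Function.Injective φ := by
    rw [← MonoidHom.ker_eq_bot_iff]
    refine (IsSimpleGroup.eq_bot_or_eq_top_of_normal _ inferInstance).resolve_right fun htop => hQ ?_
    obtain ⟨g, hg⟩ := MulAction.exists_smul_eq G P Q
    have : φ g = 1 := MonoidHom.mem_ker.1 (htop ▸ mem_top g)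
    rw [← hg, show g • P = φ g P from rfl, this]
    rfl
  have heP : e • P = P := by
    refine Sylow.smul_eq_iff_mem_normalizer.2 (centralizer_le_normalizer _ ?_)
    refine mem_centralizer_iff.2 fun y hy => ?_
    have hy' : y ∈ zpowers x := hxP ▸ hy
    obtain ⟨k, rfl⟩ := mem_zpowers_iff.1 hy'
    exact (he.symm.zpow_left k).eq
  have hxP' : x • P = P := Sylow.smul_eq_iff_mem_normalizer.2 (le_normalizer (hxP ▸ mem_zpowers x))
  -- `x` is transitive on the others
  set S := MulAction.stabilizer ↥(zpowers x) Q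
  have hS : S = ⊥ := by
    haveI : Fact (Nat.card ↥(zpowers x)).Prime := ⟨by rw [Nat.card_zpowers, hx]; exact hp.1⟩
    refine (eq_bot_or_eq_top_of_prime_card S).resolve_right fun htop => hQ ?_
    have h0 : (⟨x, mem_zpowers x⟩ : ↥(zpowers x)) ∈ S := htop ▸ mem_top _
    have h1 : x ∈ normalizer ((Q : Subgroup G) : Set G) := Sylow.smul_eq_iff_mem_normalizer.1 h0
    have h2 : (P : Subgroup G) ⊓ (Q : Subgroup G) = P := by
      rw [← P.isPGroup'.inf_normalizer_sylow Q, inf_eq_left, hxP, zpowers_le]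
      exact h1
    exact Sylow.ext (P.is_maximal' Q.isPGroup' (inf_eq_left.1 h2))
  have horb : Nat.card (MulAction.orbit ↥(zpowers x) Q) = p := by
    rw [Nat.card_congr (MulAction.orbitEquivQuotientStabilizer ↥(zpowers x) Q), ← Subgroup.index_eq_card]
    show S.index = p
    rw [hS, index_bot, Nat.card_zpowers, hx]
  have hall : MulAction.orbit ↥(zpowers x) Q = {P}ᶜ := by
    refine Set.eq_of_subset_of_ncard_le ?_ ?_
    · rintro R ⟨⟨y, hy⟩, rfl⟩ h
      have hyP : y • P = P := by
        obtain ⟨k, rfl⟩ := mem_zpowers_iff.1 hy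
        exact Sylow.smul_eq_iff_mem_normalizer.2 (zpow_mem (Sylow.smul_eq_iff_mem_normalizer.1 hxP') k)
      exact hQ (MulAction.injective y ((Set.mem_singleton_iff.1 h).trans hyP.symm))
    · have h1 := Set.ncard_compl ({P} : Set (Sylow p G))
      rw [Set.ncard_singleton, hn] at h1
      rw [← Nat.card_coe_set_eq (MulAction.orbit _ _), horb, h1]
      omega
  obtain ⟨⟨y, hy⟩, hyQ⟩ : e • Q ∈ MulAction.orbit ↥(zpowers x) Q := by
    rw [hall]
    exact fun h => hQ (MulAction.injective e ((Set.mem_singleton_iff.1 h).trans heP.symm))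
  have hyQ' : y • Q = e • Q := hyQ
  have hye : Commute y e := by
    obtain ⟨k, rfl⟩ := mem_zpowers_iff.1 hy
    exact he.symm.zpow_left k
  -- `e` acts as `y`
  have heq : φ e = φ y := by
    refine Equiv.ext fun R => ?_
    show e • R = y • R
    by_cases hR : R = P
    · subst hR
      rw [heP]
      obtain ⟨k, rfl⟩ := mem_zpowers_iff.1 hy
      exact (Sylow.smul_eq_iff_mem_normalizer.2 (zpow_mem (Sylow.smul_eq_iff_mem_normalizer.1 hxP') k)).symm
    · obtain ⟨⟨z, hz⟩, rfl⟩ : R ∈ MulAction.orbit ↥(zpowers x) Q := by rw [hall]; exact hR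
      show e • (z • Q) = y • (z • Q)
      obtain ⟨k, rfl⟩ := mem_zpowers_iff.1 hz
      obtain ⟨j, rfl⟩ := mem_zpowers_iff.1 hy
      rw [smul_smul, (he.zpow_right k).eq, ← smul_smul, ← hyQ', smul_smul, smul_smul, ← zpow_add, ← zpow_add,
        add_comm]
  rw [hinj heq]
  obtain ⟨j, rfl⟩ := mem_zpowers_iff.1 hy
  rw [← zpow_natCast, ← zpow_mul, mul_comm, zpow_mul, zpow_natCast, ← hx, pow_orderOf_eq_one, one_zpow]

variable {G : Type u} [Group G] [Fintype G] {t : G} {F : Type v} [Field F] [Fintype F]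

/-- The index of the centraliser is not `357`. -/
theorem gu_five_not_357 [IsSimpleGroup G] (hF : Fintype.card F = 5 ^ 2) (Z : Subgroup (GU 2 F 5)) [Z.Normal]
    (hZc : Z ≤ Subgroup.center (GU 2 F 5)) (hZo : Odd (Nat.card Z)) (ht : orderOf t = 2)
    (e : Cen t ≃* GU 2 F 5 ⧸ Z) (h : (Cen t).index = 357) : False := by
  have hq : Odd 5 := by decide
  obtain ⟨p', ⟨Fr⟩⟩ := frame_GU hF hq Z hZc hZo ht e
  have hd : Nat.card Z = 1 ∨ Nat.card Z = 3 := by
    have hdd := gu_card_central_dvd hF hq hZc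
    have hle := Nat.le_of_dvd (by norm_num) hdd
    obtain ⟨i, hi⟩ := hZo
    rcases (show Nat.card Z = 1 ∨ Nat.card Z = 3 ∨ Nat.card Z = 5 by omega) with h | h | h
    · exact Or.inl h
    · exact Or.inr h
    · rw [h] at hdd; norm_num at hdd
  obtain ⟨D, hD⟩ := exists_udata hq hF Z hZc hZo ht e
  have S : UBase D 5 1 :=
    { hp := Nat.prime_five
      hp2 := by decide
      hn := le_rfl
      hq := (pow_one 5).symm
      ht := ht
      hT := fun y hy hyp hyo => by
        have ho : orderOf (⟨y, D.TC hy⟩ : ↥(centralizer ({t} : Set G))) = orderOf y := Subgroup.orderOf_mk _ _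
        rcases (hD ⟨y, D.TC hy⟩ hy (by rw [ho]; exact hyp)).2 with h4 | hcen
        · rw [ho] at h4
          exact absurd ((Nat.prime_dvd_prime_iff_eq hyp Nat.prime_two).1
            (hyp.dvd_of_dvd_pow (n := 2) h4)) fun e2 => Nat.not_odd_iff_even.2 even_two (e2 ▸ hyo)
        · exact Fr.centralizer_center hcen fun e1 => hyp.ne_one (by
            rw [← ho, e1, orderOf_one]) }
  obtain ⟨K, a, D0, hKR, -, hKN, hNK, -, -, -, hNc, hKc, -, hD0, han, -, -⟩ := S.exists_core
  haveI : Fact (Nat.Prime 5) := ⟨Nat.prime_five⟩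
  haveI : Fact (Nat.Prime 17) := ⟨by norm_num⟩
  -- the orders
  obtain ⟨T, hT⟩ : ∃ T, Nat.card D.T = T := ⟨_, rfl⟩
  have hTc := D.cardT
  have hCc : Nat.card Z * Nat.card (Cen t) = 5 * (5 ^ 2 - 1) * (5 + 1) := D.cardC
  have hG : Nat.card G = Nat.card (Cen t) * 357 := by rw [← h, Subgroup.card_mul_index]
  rw [hT] at hTc hD0 hNc
  have hTG : Nat.card G = 30 * T * 357 := by
    rw [hG]
    congr 1
    rcases hd with hd | hd <;> rw [hd] at hTc hCc <;> norm_num at hTc hCc <;> omega
  have hT8 : T = 24 ∨ T = 8 := by rcases hd with hd | hd <;> rw [hd] at hTc <;> norm_num at hTc <;> omega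
  have ha : a = 1 := by
    by_contra hne
    have h25 : 25 ∣ Nat.card G :=
      (pow_dvd_pow 5 (show 2 ≤ a by omega)).trans ((Dvd.intro _ hKc.symm).trans (card_subgroup_dvd_card K))
    rw [hTG] at h25
    rcases hT8 with h8 | h8 <;> rw [h8] at h25 <;> norm_num at h25
  rw [ha, pow_one] at hKc
  -- the Sylow subgroup of order five
  have h5 : ∃ P : Sylow 5 G, (P : Subgroup G) = D.R := by
    obtain ⟨P, hP⟩ := (IsPGroup.of_card (n := 1) (G := ↥D.R) (p := 5) (by rw [D.cardR, pow_one])).exists_le_sylow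
    refine ⟨P, (eq_of_le_of_card_ge hP ?_).symm⟩
    obtain ⟨b, hb⟩ := IsPGroup.iff_card.1 P.isPGroup'
    have hb1 : b ≤ 1 := by
      by_contra hne
      have h25 : 25 ∣ Nat.card G :=
        (pow_dvd_pow 5 (show 2 ≤ b by omega)).trans (hb ▸ card_subgroup_dvd_card (P : Subgroup G))
      rw [hTG] at h25
      rcases hT8 with h8 | h8 <;> rw [h8] at h25 <;> norm_num at h25
    rw [D.cardR, hb]
    exact (Nat.pow_le_pow_right (by norm_num) hb1).trans (by norm_num)
  obtain ⟨P5, hP5⟩ := h5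
  set N := normalizer (D.R : Set G) with hN
  obtain ⟨n5, hn5, hn5'⟩ : ∃ n, N.index = n ∧ n ≡ 1 [MOD 5] := by
    refine ⟨_, rfl, ?_⟩
    have h2 := card_sylow_modEq_one 5 G
    rwa [P5.card_eq_index_normalizer, show ((P5 : Set G)) = (D.R : Set G) by rw [← hP5]; rfl] at h2
  have hidx := N.card_mul_index
  rw [hn5, hNc, hKc, hTG] at hidx
  have hmul : D0 * n5 = 2142 := by
    refine Nat.eq_of_mul_eq_mul_left (show 0 < 5 * T by omega) ?_
    linarith
  have hD0' : D0 % 8 = 1 ∧ (T = 24 → D0 % 24 = 1) := by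
    have hm : D0 % T = 1 % T := hD0
    rcases hT8 with h8 | h8 <;> rw [h8] at hm <;> omega
  have hD17 : D0 = 17 := by
    have hdv : D0 ∈ Nat.divisors 2142 := Nat.mem_divisors.2 ⟨Dvd.intro _ hmul, by norm_num⟩
    have hm5 : n5 % 5 = 1 := hn5'
    have key : ∀ d ∈ Nat.divisors 2142, d % 8 = 1 → 2142 / d % 5 = 1 → d = 17 := by decide +kernel
    refine key D0 hdv hD0'.1 ?_
    have hpos : 0 < D0 := Nat.pos_of_mem_divisors hdv
    rw [← hmul, Nat.mul_div_cancel_left _ hpos]
    exact hm5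
  have hT' : T = 8 := hT8.resolve_left fun h24 => by
    have := hD0'.2 h24
    omega
  -- the Sylow subgroup of order seventeen
  rw [hD17] at hKc
  obtain ⟨xK, hxK⟩ := exists_prime_orderOf_dvd_card' (G := ↥K) 17 (by rw [hKc]; norm_num)
  have hxo : orderOf (xK : G) = 17 := by rw [Subgroup.orderOf_coe]; exact hxK
  obtain ⟨P, hP⟩ := (IsPGroup.of_card (n := 1) (G := ↥(zpowers (xK : G))) (p := 17)
    (by rw [Nat.card_zpowers, hxo, pow_one])).exists_le_sylow
  have hPc : Nat.card (P : Subgroup G) = 17 := by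
    obtain ⟨b, hb⟩ := IsPGroup.iff_card.1 P.isPGroup'
    have h1 := Subgroup.card_dvd_of_le hP
    rw [Nat.card_zpowers, hxo, hb] at h1
    rcases (show b = 0 ∨ b = 1 ∨ 2 ≤ b by omega) with rfl | rfl | hb2
    · norm_num at h1
    · rw [hb, pow_one]
    · exfalso
      have h289 : 289 ∣ Nat.card G :=
        (pow_dvd_pow 17 hb2).trans (hb ▸ card_subgroup_dvd_card (P : Subgroup G))
      rw [hTG, hT'] at h289
      norm_num at h289
  have hPx : (P : Subgroup G) = zpowers (xK : G) :=
    (eq_of_le_of_card_ge hP (by rw [hPc, Nat.card_zpowers, hxo])).symm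
  -- `N` normalises it
  have hPN : N ≤ normalizer ((P : Subgroup G) : Set G) := by
    have huniq : ∀ y ∈ K, orderOf y = 17 → y ∈ (P : Subgroup G) := by
      intro y hy hyo
      obtain ⟨A, hA⟩ := (IsPGroup.of_card (n := 1) (G := ↥(zpowers (⟨y, hy⟩ : ↥K))) (p := 17)
        (by rw [Nat.card_zpowers, Subgroup.orderOf_mk, hyo, pow_one])).exists_le_sylow
      obtain ⟨B, hB⟩ := (IsPGroup.of_card (n := 1) (G := ↥(zpowers xK)) (p := 17)
        (by rw [Nat.card_zpowers, hxK, pow_one])).exists_le_sylow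
      haveI : Subsingleton (Sylow 17 ↥K) := by
        rw [← Finite.card_le_one_iff_subsingleton]
        have h1 := card_sylow_modEq_one 17 ↥K
        have h2 : Nat.card (Sylow 17 ↥K) ∈ Nat.divisors 85 :=
          Nat.mem_divisors.2 ⟨by rw [show (85 : ℕ) = Nat.card ↥K by rw [hKc], B.card_eq_index_normalizer]; exact Subgroup.index_dvd_card _, by norm_num⟩
        have key : ∀ d ∈ Nat.divisors 85, d % 17 = 1 → d = 1 := by decide +kernel
        exact (key _ h2 h1).le
      rw [Subsingleton.elim A B] at hA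
      have hBc : (B : Subgroup ↥K) = zpowers xK := by
        refine (eq_of_le_of_card_ge hB ?_).symm
        obtain ⟨b, hb⟩ := IsPGroup.iff_card.1 B.isPGroup'
        have h1 := card_subgroup_dvd_card (B : Subgroup ↥K)
        rw [hKc, hb] at h1
        rw [hb, Nat.card_zpowers, hxK]
        rcases (show b ≤ 1 ∨ 2 ≤ b by omega) with hb1 | hb2
        · exact (Nat.pow_le_pow_right (by norm_num) hb1).trans (by norm_num)
        · exact absurd ((pow_dvd_pow 17 hb2).trans h1) (by norm_num)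
      rw [hPx]
      obtain ⟨k, hk⟩ := mem_zpowers_iff.1 (hBc ▸ hA (mem_zpowers (⟨y, hy⟩ : ↥K)))
      exact mem_zpowers_iff.2 ⟨k, congrArg Subtype.val hk⟩
    intro g hg
    refine GW.ThreeClass.mem_normalizer_of fun y hy => ?_
    rw [hPx] at hy
    obtain ⟨k, rfl⟩ := mem_zpowers_iff.1 hy
    rw [show g * (xK : G) ^ k * g⁻¹ = (g * xK * g⁻¹) ^ k by rw [conj_zpow]]
    refine zpow_mem (huniq _ (GW.ThreeClass.conj_mem (hNK hg) xK.2) ?_) k
    rw [orderOf_conj', hxo]
  obtain ⟨n17, hn17, hn17'⟩ : ∃ n, Nat.card (Sylow 17 G) = n ∧ n ≡ 1 [MOD 17] :=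
    ⟨_, rfl, card_sylow_modEq_one 17 G⟩
  have hN17 : n17 ∣ 126 := by
    rw [← hn17, P.card_eq_index_normalizer]
    refine (Subgroup.index_dvd_of_le hPN).trans ?_
    rw [hn5]
    exact ⟨1, by rw [hD17] at hmul; omega⟩
  have hcases : n17 = 1 ∨ n17 = 18 := by
    have key : ∀ d ∈ Nat.divisors 126, d % 17 = 1 → d = 1 ∨ d = 18 := by decide +kernel
    exact key n17 (Nat.mem_divisors.2 ⟨hN17, by norm_num⟩) hn17'
  rcases hcases with h1 | h18
  · haveI : Subsingleton (Sylow 17 G) := (Nat.card_eq_one_iff_unique.1 (hn17.trans h1)).1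
    haveI : Unique (Sylow 17 G) := uniqueOfSubsingleton P
    haveI hnor : (P : Subgroup G).Normal := inferInstance
    rcases hnor.eq_bot_or_eq_top with hb | hb <;> rw [hb] at hPc
    · simp at hPc
    · rw [card_top, hTG, hT'] at hPc
      norm_num at hPc
  · obtain ⟨r, hr⟩ := exists_prime_orderOf_dvd_card' (G := ↥D.R) 5 (by rw [D.cardR])
    have hr17 := pow_eq_one_of_succ_sylow P (hn17.trans h18) hxo hPx (e := (r : G)) (hKR _ xK.2 _ r.2).symm
    have hd5 := orderOf_dvd_of_pow_eq_one hr17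
    rw [Subgroup.orderOf_coe, hr] at hd5
    norm_num at hd5

/-- The same in the form used by the assembly. -/
theorem gu_not_357_of_eq [IsSimpleGroup G] {q : ℕ} (hF : Fintype.card F = q ^ 2) (Z : Subgroup (GU 2 F q)) [Z.Normal]
    (hZc : Z ≤ Subgroup.center (GU 2 F q)) (hZo : Odd (Nat.card Z)) (ht : orderOf t = 2)
    (e : Cen t ≃* GU 2 F q ⧸ Z) : q = 5 → (Cen t).index = 357 → False := by
  rintro rfl
  exact gu_five_not_357 hF Z hZc hZo ht e

end Cfsg.Agent.Invol.BrauerL3
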