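import Mathlib

/-!
# Groups of shape `GL(2, q)/Z` and `GU(2, q)/Z`: what the local lemmas use

`Q` is `q` in the linear case and `-q` in the unitary case, `A` the centraliser of the non-central involution `w`,
of exponent dividing `|Q - 1|`.
-/

set_option autoImplicit false

namespace Cfsg.Agent.Invol.BrauerL3

open Subgroup

universe u

/-- The facts about such a group, `t` its central involution. -/
structure Frame (C : Type u) [Group C] (t : C) (p : ℕ) (Q : ℤ) where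
  /-- a non-central involution -/
  w : C
  /-- an involution taking `w` to `t w` -/
  s : C
  hp : p.Prime
  p_dvd : (p : ℤ) ∣ Q
  t_central : t ∈ center C
  t2 : orderOf t = 2
  w2 : orderOf w = 2
  s2 : s * s = 1
  w_ne : w ≠ t
  sws : s * w * s⁻¹ = t * w
  one_class : ∀ i : C, orderOf i = 2 → i ≠ t → IsConj w i
  cent_comm : ∀ y : C, y ∉ center C → ∀ x x' : C, Commute x y → Commute x' y → Commute x x'
  A_exp : ∀ a : C, Commute a w → a ^ (Q - 1).natAbs = 1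
  exists_ell : ∀ l : ℕ, l.Prime → l ≠ 2 → (l : ℤ) ∣ Q + 1 → ∃ y : C, orderOf y = l
  not_two : ∃ r x : C, r ≠ 1 ∧ Odd (orderOf r) ∧ x * r * x⁻¹ = r⁻¹
  inverter : ∀ (l i : ℕ) (y : C), l.Prime → l ≠ 2 → (l : ℤ) ∣ Q + 1 → orderOf y = l ^ i → y ≠ 1 →
    ∃ v : C, orderOf v = 2 ∧ v ≠ t ∧ v * y * v⁻¹ = y⁻¹
  tri : ∀ Y : Subgroup C, Odd (Nat.card Y) → (∀ y ∈ Y, w * y * w⁻¹ ∈ Y) → ∀ z : C, Commute z w →
    z * z ∉ center C → (∀ y ∈ Y, z * y * z⁻¹ ∈ Y) →
      (∀ y ∈ Y, Commute y w) ∨ ((∀ y ∈ Y, y ^ (p * (Q - 1).natAbs) = 1) ∧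
        ∃ y ∈ Y, y⁻¹ * (w * y * w⁻¹) ≠ 1 ∧
          ∀ i : C, i * i = 1 → Commute i (y⁻¹ * (w * y * w⁻¹)) → i = 1 ∨ i = t)

namespace Frame

variable {C : Type u} [Group C] {t : C} {p : ℕ} {Q : ℤ} (F : Frame C t p Q)

include F

theorem w_noncentral : F.w ∉ center C := fun h => by
  have h1 := F.sws
  rw [mem_center_iff.1 h F.s, mul_inv_cancel_right] at h1
  have h2 : t = 1 := right_eq_mul.1 h1
  have h3 := F.t2
  rw [h2, orderOf_one] at h3
  omega

theorem tw (x : C) : Commute x t := mem_center_iff.1 F.t_central x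

theorem center_exp {z : C} (hz : z ∈ center C) : z ^ (Q - 1).natAbs = 1 :=
  F.A_exp z (mem_center_iff.1 hz F.w).symm

/-- An element of order prime to `Q - 1` centralises only the involution `t`. -/
theorem invol_eq {y : C} (hco : (orderOf y).Coprime (Q - 1).natAbs) (hy : y ≠ 1) {i : C} (hi : orderOf i = 2)
    (hiy : Commute i y) : i = t := by
  by_contra hne
  obtain ⟨c, hc⟩ := isConj_iff.1 (F.one_class i hi hne)
  have h1 : Commute (c⁻¹ * y * c) F.w := by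
    refine Eq.symm ?_
    calc F.w * (c⁻¹ * y * c) = c⁻¹ * ((c * F.w * c⁻¹) * y) * c := by group
      _ = c⁻¹ * (y * (c * F.w * c⁻¹)) * c := by rw [hc, hiy.eq]
      _ = c⁻¹ * y * c * F.w := by group
  have h2 := F.A_exp _ h1
  rw [show c⁻¹ * y * c = c⁻¹ * y * c⁻¹⁻¹ by rw [inv_inv], conj_pow, conj_eq_one_iff] at h2
  exact hy (orderOf_eq_one_iff.1 (Nat.eq_one_of_dvd_coprimes hco dvd_rfl (orderOf_dvd_of_pow_eq_one h2)))

theorem noncentral_of_coprime {y : C} (hco : (orderOf y).Coprime (Q - 1).natAbs) (hy : y ≠ 1) : y ∉ center C :=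
  fun h => hy (orderOf_eq_one_iff.1
    (Nat.eq_one_of_dvd_coprimes hco dvd_rfl (orderOf_dvd_of_pow_eq_one (F.center_exp h))))

theorem coprime_of_dvd {l : ℕ} (hl : l.Prime) (hl2 : l ≠ 2) (hlQ : (l : ℤ) ∣ Q + 1) (i : ℕ) :
    (l ^ i).Coprime (Q - 1).natAbs := by
  refine Nat.Coprime.pow_left i (hl.coprime_iff_not_dvd.2 fun h => hl2 ?_)
  have h1 : (l : ℤ) ∣ Q - 1 := Int.natCast_dvd.2 h
  have h2 : (l : ℤ) ∣ 2 := by
    have h3 := dvd_sub hlQ h1
    rwa [show Q + 1 - (Q - 1) = 2 by ring] at h3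
  exact (Nat.prime_dvd_prime_iff_eq hl Nat.prime_two).1 (by exact_mod_cast h2)

theorem p_ne {l : ℕ} (hl : l.Prime) (hlQ : (l : ℤ) ∣ Q + 1) : l ≠ p := by
  rintro rfl
  have h := dvd_sub hlQ F.p_dvd
  rw [show Q + 1 - Q = 1 by ring] at h
  have h1 : l ∣ 1 := by exact_mod_cast h
  exact hl.one_lt.ne' (Nat.dvd_one.1 h1)

end Frame

end Cfsg.Agent.Invol.BrauerL3
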