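import Cfsg.Agent.Lib.Invol.BrauerL3.Order
import Cfsg.Agent.Lib.Invol.BrauerL3.LocalFrame
import Cfsg.Agent.Lib.Invol.JankoWard.LocalBase
import Cfsg.Agent.Lib.Invol.ZStar
import Cfsg.Agent.Lib.Grp.CyclicTwo

/-!
# Brauer's theorem: Sylow 2-subgroups and involutions

`index_odd`, `one_class`, `pairs`: every pair of distinct commuting involutions is conjugate to `(t, w)`.
-/

set_option autoImplicit false
set_option linter.unusedSectionVars false
set_option linter.style.haveILetI false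

open scoped Pointwise

namespace Cfsg.Agent.Invol.BrauerL3

open Subgroup

universe u

variable {G : Type u} [Group G] [Fintype G] {t : G} {p : ℕ} {Q : ℤ}

/-- `z` commutes with every element of the centraliser of `a`. -/
def CentAt (a z : G) : Prop := ∀ x : G, Commute x a → Commute x z

theorem CentAt.comm {a z : G} (h : CentAt a z) : Commute a z := h a (Commute.refl a)

theorem CentAt.conj {a z : G} (hz : CentAt a z) (h : G) : CentAt (h * a * h⁻¹) (h * z * h⁻¹) := fun x hx => by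
  have h1 : Commute (h⁻¹ * x * h) a := by
    show _ = _
    calc h⁻¹ * x * h * a = h⁻¹ * (x * (h * a * h⁻¹)) * h := by group
      _ = h⁻¹ * (h * a * h⁻¹ * x) * h := by rw [hx.eq]
      _ = a * (h⁻¹ * x * h) := by group
  have h2 := (hz _ h1).map (MulAut.conj h).toMonoidHom
  simpa [mul_assoc] using h2

theorem CentAt.mul {a z z' : G} (h : CentAt a z) (h' : CentAt a z') : CentAt a (z * z') := fun x hx =>
  (h x hx).mul_right (h' x hx)

theorem centAt_iff {z : G} (hz : Commute z t) :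
    CentAt t z ↔ (⟨z, mem_Cen.2 hz.eq⟩ : Cen t) ∈ center (Cen t) := by
  refine ⟨fun h => mem_center_iff.2 fun x => Subtype.ext (h x (mem_Cen.1 x.2)).eq, fun h x hx => ?_⟩
  exact congrArg Subtype.val (mem_center_iff.1 h ⟨x, mem_Cen.2 hx.eq⟩)

theorem centAt_of_center {z : Cen t} (hz : z ∈ center (Cen t)) : CentAt t (z : G) :=
  (centAt_iff (mem_Cen.1 z.2)).2 hz

theorem commute_conj {x a : G} (h : G) (hx : Commute x a) : Commute (h * x * h⁻¹) (h * a * h⁻¹) := by
  simpa using hx.map (MulAut.conj h).toMonoidHom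

/-- The odd elements of a subgroup in which the centraliser of an involution has only one involution form a
subgroup. -/
theorem exists_oddPart {a : G} (ha : orderOf a = 2) (X : Subgroup G) (haX : a ∈ X)
    (hab : ∀ x ∈ X, Commute x a → ∀ y ∈ X, Commute y a → Commute x y)
    (hinv : ∀ x ∈ X, Commute x a → x * x = 1 → x = 1 ∨ x = a) :
    ∃ W : Subgroup G, Odd (Nat.card W) ∧ (∀ x, x ∈ W ↔ x ∈ X ∧ Odd (orderOf x)) ∧
      ∀ x ∈ X, ∃ c, Commute c a ∧ ∃ w ∈ W, x = w * c := by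
  classical
  haveI : Fact (Nat.Prime 2) := ⟨Nat.prime_two⟩
  set aX : ↥X := ⟨a, haX⟩
  have haa : a * a = 1 := mul_self_of_orderOf_two ha
  have haX1 : aX ≠ 1 := fun e => ne_one_of_orderOf_two ha (congrArg Subtype.val e)
  have hap : IsPGroup 2 ↥(zpowers aX) := IsPGroup.of_card (n := 1) (by
    rw [Nat.card_zpowers, Subgroup.orderOf_mk, pow_one, ha])
  obtain ⟨P, hP⟩ := hap.exists_le_sylow
  have haP : aX ∈ (P : Subgroup ↥X) := hP (mem_zpowers aX)
  have hall : ∀ x ∈ (P : Subgroup ↥X), Commute (x : G) a := by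
    by_contra hno
    haveI : Group.IsNilpotent ↥(P : Subgroup ↥X) := P.isPGroup'.isNilpotent
    set N := (centralizer ({(⟨aX, haP⟩ : ↥(P : Subgroup ↥X))} : Set ↥(P : Subgroup ↥X))) with hN
    have hNa : ∀ y : ↥(P : Subgroup ↥X), y ∈ N ↔ Commute ((y : ↥X) : G) a := fun y => by
      rw [hN, mem_centralizer_singleton_iff]
      exact ⟨fun h => congrArg (fun z : ↥(P : Subgroup ↥X) => ((z : ↥X) : G)) h,
        fun h => Subtype.ext (Subtype.ext h.eq)⟩
    have hN1 : N < ⊤ := lt_top_iff_ne_top.2 fun e => hno fun x hx => (hNa ⟨x, hx⟩).1 (e ▸ mem_top _)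
    obtain ⟨g, hgN, hgQ⟩ := SetLike.exists_of_lt (Group.normalizerCondition_of_isNilpotent N hN1)
    refine hgQ ((hNa g).2 ?_)
    have h1 : g * ⟨aX, haP⟩ * g⁻¹ ∈ N := (mem_normalizer_iff.1 hgN _).1 ((hNa _).2 (Commute.refl a))
    have h2 : Commute (((g : ↥X) : G) * a * ((g : ↥X) : G)⁻¹) a := (hNa _).1 h1
    have h3 := hinv _ (mul_mem (mul_mem (g : ↥X).2 haX) (inv_mem (g : ↥X).2)) h2
      (by rw [conj_mul, haa, mul_one, mul_inv_cancel])
    rcases h3 with h3 | h3
    · exact absurd (conj_eq_one_iff.1 h3) (ne_one_of_orderOf_two ha)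
    · exact mul_inv_eq_iff_eq_mul.1 h3
  haveI hcyc : IsCyclic ↥(P : Subgroup ↥X) := Grp.isCyclic_of_one_invol P.isPGroup'
    (fun x y => Subtype.ext (Subtype.ext (hab _ (x : ↥X).2 (hall x x.2) _ (y : ↥X).2 (hall y y.2)).eq))
    fun x y hx hy hx2 hy2 => by
      have hc : ∀ z : ↥(P : Subgroup ↥X), z ≠ 1 → z * z = 1 → ((z : ↥X) : G) = a := fun z hz hz2 =>
        (hinv _ (z : ↥X).2 (hall z z.2) (congrArg (fun u : ↥(P : Subgroup ↥X) => ((u : ↥X) : G)) hz2)).resolve_left
          fun e => hz (Subtype.ext (Subtype.ext e))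
      exact Subtype.ext (Subtype.ext ((hc x hx hx2).trans (hc y hy hy2).symm))
  have hN := IsCyclic.normalizer_le_centralizer (P := P) (hP := hcyc)
    ((Nat.minFac_eq_two_iff _).2 (by
      rw [← orderOf_eq_prime (p := 2) (x := aX) (Subtype.ext (by rw [Subgroup.coe_pow, pow_two]; exact haa)) haX1]
      exact orderOf_dvd_natCard aX))
  set V := MonoidHom.transferSylow P hN
  have hodd : Odd (Nat.card ↥(V.ker.map X.subtype)) := by
    rw [Subgroup.card_map_of_injective X.subtype_injective, ← Nat.not_even_iff_odd, even_iff_two_dvd]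
    exact MonoidHom.not_dvd_card_ker_transferSylow P hN
  refine ⟨V.ker.map X.subtype, hodd, fun x => ⟨?_, ?_⟩, fun x hx => ?_⟩
  · rintro ⟨z, hz, rfl⟩
    exact ⟨z.2, hodd.of_dvd_nat ((V.ker.map X.subtype).orderOf_dvd_natCard ⟨z, hz, rfl⟩)⟩
  · rintro ⟨hx, ho⟩
    refine ⟨⟨x, hx⟩, ?_, rfl⟩
    rw [SetLike.mem_coe, MonoidHom.mem_ker, ← orderOf_eq_one_iff]
    have h1 : orderOf (V ⟨x, hx⟩) ∣ orderOf x := Subgroup.orderOf_mk x hx ▸ orderOf_map_dvd V _
    obtain ⟨k, hk⟩ := IsPGroup.iff_orderOf.1 P.isPGroup' (V ⟨x, hx⟩)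
    rw [hk] at h1 ⊢
    by_contra hne
    have h2 : k ≠ 0 := fun e => hne (by rw [e, pow_zero])
    exact Nat.not_even_iff_odd.2 ho (even_iff_two_dvd.2 ((dvd_pow_self 2 h2).trans h1))
  · obtain ⟨⟨⟨w, hw⟩, ⟨c, hc⟩⟩, hwc⟩ := (MonoidHom.ker_transferSylow_isComplement' P hN).2 ⟨x, hx⟩
    exact ⟨c, hall c hc, w, ⟨w, hw, rfl⟩, (congrArg Subtype.val hwc).symm⟩

namespace Frame

variable (F : Frame (Cen t) (tc t) p Q)
include F

theorem tG : orderOf t = 2 := by have h := F.t2; rwa [← Subgroup.orderOf_coe] at h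

theorem wG : orderOf (F.w : G) = 2 := by rw [Subgroup.orderOf_coe]; exact F.w2

theorem wt : Commute (F.w : G) t := mem_Cen.1 F.w.2

theorem w_neG : (F.w : G) ≠ t := fun h => F.w_ne (Subtype.ext h)

theorem not_comm : ¬ IsMulCommutative G := fun h => F.w_noncentral
  (mem_center_iff.2 fun x => Subtype.ext (h.is_comm.comm (x : G) (F.w : G)))

theorem center_bot [IsSimpleGroup G] : center G = ⊥ := by
  rcases (inferInstance : (center G).Normal).eq_bot_or_eq_top with h | h
  · exact h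
  · exact absurd ⟨⟨fun a b => mem_center_iff.1 (h ▸ mem_top b) a⟩⟩ F.not_comm

/-- A Sylow 2-subgroup of the centraliser is non-abelian. -/
theorem sylow_nonabelian (S : Sylow 2 (Cen t)) : ∃ x ∈ (S : Subgroup (Cen t)), ∃ y ∈ (S : Subgroup (Cen t)),
    ¬ Commute x y := by
  haveI : Fact (Nat.Prime 2) := ⟨Nat.prime_two⟩
  have hww : F.w * F.w = 1 := mul_self_of_orderOf_two F.w2
  have htt : tc t * tc t = 1 := mul_self_of_orderOf_two F.t2
  have htc : tc t * F.w = F.w * tc t := (F.tw F.w).eq.symm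
  set V := JankoWard.fourSub (tc t) F.w htt hww htc
  have hV : IsPGroup 2 ↥V := IsPGroup.of_card (n := 2) (by
    haveI : IsKleinFour ↥V := JankoWard.fourSub_klein (ne_one_of_orderOf_two F.t2) (ne_one_of_orderOf_two F.w2)
      F.w_ne.symm
    rw [IsKleinFour.card_four]; norm_num)
  have hs1 : F.s ≠ 1 := fun e => by
    have h := F.sws
    rw [e, one_mul, inv_one, mul_one] at h
    exact ne_one_of_orderOf_two F.t2 (right_eq_mul.1 h)
  have hK : IsPGroup 2 ↥(zpowers F.s) := IsPGroup.of_card (n := 1) (by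
    rw [Nat.card_zpowers, orderOf_two_iff.2 ⟨F.s2, hs1⟩, pow_one])
  have hnorm : zpowers F.s ≤ normalizer (V : Set (Cen t)) := by
    rw [zpowers_le]
    refine mem_normalizer_fintype fun v hv => ?_
    rcases hv with rfl | rfl | rfl | rfl
    · left; group
    · right; left; rw [(F.tw F.s).eq, mul_inv_cancel_right]
    · right; right; right; exact F.sws
    · right; right; left
      rw [← conj_mul, (F.tw F.s).eq, mul_inv_cancel_right, F.sws, ← mul_assoc, htt, one_mul]
  obtain ⟨g, hg⟩ := exists_conj_subset_sylow (hK.to_sup_of_normal_right' hV hnorm) S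
  refine ⟨_, hg F.s (mem_sup_left (mem_zpowers _)), _, hg F.w (mem_sup_right (Or.inr (Or.inr (Or.inl rfl)))),
    fun h => ?_⟩
  have h1 : Commute F.s F.w := by
    have h2 := h.map (MulAut.conj g⁻¹).toMonoidHom
    simpa [mul_assoc] using h2
  have h3 := F.sws
  rw [h1.eq, mul_inv_cancel_right] at h3
  exact ne_one_of_orderOf_two F.t2 (right_eq_mul.1 h3)

/-- A Sylow 2-subgroup of `G` lies in the centraliser, and so does its normaliser. -/
theorem exists_sylow : ∃ P : Sylow 2 G, (P : Subgroup G) ≤ Cen t ∧ t ∈ (P : Subgroup G) ∧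
    ∀ g : G, g • P = P → Commute g t := by
  classical
  haveI : Fact (Nat.Prime 2) := ⟨Nat.prime_two⟩
  obtain ⟨S⟩ : Nonempty (Sylow 2 (Cen t)) := inferInstance
  -- the only central involution of `S`
  have huniq : ∀ i ∈ (S : Subgroup (Cen t)), orderOf i = 2 → (∀ x ∈ (S : Subgroup (Cen t)), Commute x i) →
      i = tc t := by
    intro i _ hi2 hic
    by_contra hne
    obtain ⟨x, hx, y, hy, hxy⟩ := F.sylow_nonabelian S
    refine hxy (F.cent_comm i (fun hz => ?_) x y (hic x hx) (hic y hy))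
    obtain ⟨c, hc⟩ := isConj_iff.1 (F.one_class i hi2 hne)
    refine F.w_noncentral (mem_center_iff.2 fun z => ?_)
    have h1 : F.w = c⁻¹ * i * c := by rw [← hc]; group
    have h2 : c⁻¹ * i * c = i := by rw [mem_center_iff.1 hz c⁻¹, inv_mul_cancel_right]
    rw [h1, h2]
    exact mem_center_iff.1 hz z
  set S0 := (S : Subgroup (Cen t)).map (Cen t).subtype with hS0
  have hS0p : IsPGroup 2 ↥S0 := S.isPGroup'.map _
  have htS : tc t ∈ (S : Subgroup (Cen t)) := by
    have hp : IsPGroup 2 ↥(zpowers (tc t)) := IsPGroup.of_card (n := 1) (by rw [Nat.card_zpowers, F.t2, pow_one])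
    obtain ⟨g, hg⟩ := exists_conj_subset_sylow hp S
    have h := hg _ (mem_zpowers _)
    rwa [(F.tw g).eq, mul_inv_cancel_right] at h
  have hnorm : ∀ n : G, n ∈ normalizer (S0 : Set G) → Commute n t := by
    intro n hn
    obtain ⟨i, hi, hie⟩ := (mem_normalizer_iff.1 hn t).1 ⟨tc t, htS, rfl⟩
    have hi2 : orderOf i = 2 := by
      rw [← Subgroup.orderOf_coe, show ((i : Cen t) : G) = n * t * n⁻¹ from hie, orderOf_conj_eq, F.tG]
    have hit := huniq i hi hi2 fun x hx => by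
      obtain ⟨x', hx', hxe⟩ := (mem_normalizer_iff''.1 hn (x : G)).1 ⟨x, hx, rfl⟩
      have hxt : Commute (x' : G) t := mem_Cen.1 x'.2
      refine Subtype.ext ?_
      have h1 := commute_conj n hxt
      rw [show n * (x' : G) * n⁻¹ = x by rw [show ((x' : Cen t) : G) = n⁻¹ * x * n from hxe]; group,
        ← show ((i : Cen t) : G) = n * t * n⁻¹ from hie] at h1
      exact h1.eq
    rw [hit] at hie
    exact mul_inv_eq_iff_eq_mul.1 hie.symm
  obtain ⟨P, hP⟩ := hS0p.exists_le_sylow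
  have hPS : (P : Subgroup G) = S0 := by
    by_contra hne
    haveI : Group.IsNilpotent ↥(P : Subgroup G) := P.isPGroup'.isNilpotent
    have hlt : S0.subgroupOf (P : Subgroup G) < ⊤ :=
      lt_top_iff_ne_top.2 fun e => hne (le_antisymm (subgroupOf_eq_top.1 e) hP)
    obtain ⟨g, hgN, hgS⟩ := SetLike.exists_of_lt (Group.normalizerCondition_of_isNilpotent _ hlt)
    refine hgS ?_
    rw [mem_subgroupOf]
    have hgn : (g : G) ∈ normalizer (S0 : Set G) := by
      refine mem_normalizer_fintype fun x hx => ?_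
      exact (mem_normalizer_iff.1 hgN ⟨x, hP hx⟩).1 hx
    have hgC : (g : G) ∈ Cen t := mem_Cen.2 (hnorm _ hgn).eq
    have hle : (S : Subgroup (Cen t)) ≤ (P : Subgroup G).subgroupOf (Cen t) := fun x hx => hP ⟨x, hx, rfl⟩
    have hp : IsPGroup 2 ↥((P : Subgroup G).subgroupOf (Cen t)) := P.isPGroup'.comap_subtype
    have heq := S.is_maximal' hp hle
    exact ⟨⟨g, hgC⟩, heq ▸ g.2, rfl⟩
  refine ⟨P, hPS ▸ map_subtype_le _, hPS ▸ ⟨tc t, htS, rfl⟩, fun g hg => hnorm g ?_⟩
  rw [← hPS]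
  exact Sylow.smul_eq_iff_mem_normalizer.1 hg

theorem index_odd : Odd (Cen t).index := by
  haveI : Fact (Nat.Prime 2) := ⟨Nat.prime_two⟩
  obtain ⟨P, hP, -, -⟩ := F.exists_sylow
  refine Nat.odd_iff.2 (Nat.two_dvd_ne_zero.1 fun h => ?_)
  exact P.not_dvd_index (h.trans (index_dvd_of_le hP))

theorem fused [IsSimpleGroup G] : IsConj t (F.w : G) := by
  haveI : Fact (Nat.Prime 2) := ⟨Nat.prime_two⟩
  by_contra hno
  obtain ⟨P, hP, htP, -⟩ := F.exists_sylow
  have hiso := ZStar.isIsolated_of_sylow (P := P) htP F.tG fun g hg => by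
    by_contra hne
    have hm := hP hg
    obtain ⟨c, hc⟩ := isConj_iff.1 (F.one_class ⟨_, hm⟩
      (by rw [← Subgroup.orderOf_coe]; exact (orderOf_conj_eq g t).trans F.tG)
      fun e => hne (congrArg Subtype.val e))
    have hc' : (c : G) * F.w * (c : G)⁻¹ = g * t * g⁻¹ := congrArg Subtype.val hc
    refine hno (isConj_iff.2 ⟨(c : G)⁻¹ * g, ?_⟩)
    calc (c : G)⁻¹ * g * t * ((c : G)⁻¹ * g)⁻¹ = (c : G)⁻¹ * (g * t * g⁻¹) * c := by group
      _ = F.w := by rw [← hc']; group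
  obtain ⟨N, hN, hNodd, hc⟩ := ZStar.exists_odd_normal hiso
  rcases hN.eq_bot_or_eq_top with h | h
  · have htc : t ∈ center G := mem_center_iff.2 fun g => by
      have h1 := hc g
      rw [h, mem_bot, mul_inv_eq_one] at h1
      exact (mul_inv_eq_iff_eq_mul.1 h1).symm
    rw [F.center_bot, mem_bot] at htc
    exact ne_one_of_orderOf_two F.tG htc
  · rw [h, card_top] at hNodd
    exact Nat.not_even_iff_odd.2 hNodd (even_iff_two_dvd.2 (F.tG ▸ orderOf_dvd_natCard t))

/-- All involutions are conjugate. -/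
theorem one_classG [IsSimpleGroup G] (i : G) (hi : orderOf i = 2) : IsConj t i := by
  haveI : Fact (Nat.Prime 2) := ⟨Nat.prime_two⟩
  obtain ⟨P, hP, -, -⟩ := F.exists_sylow
  obtain ⟨g, hg⟩ := exists_conj_mem_sylow (n := 1) (x := i) (by rw [hi, pow_one]) P
  refine IsConj.trans ?_ (isConj_iff.2 ⟨g, rfl⟩ : IsConj i (g * i * g⁻¹)).symm
  by_cases he : g * i * g⁻¹ = t
  · rw [he]
  obtain ⟨c, hc⟩ := isConj_iff.1 (F.one_class ⟨_, hP hg⟩
    (by rw [← Subgroup.orderOf_coe]; exact (orderOf_conj_eq g i).trans hi) fun e => he (congrArg Subtype.val e))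
  exact F.fused.trans (isConj_iff.2 ⟨c, congrArg Subtype.val hc⟩)

/-- Any two distinct commuting involutions are conjugate to `t`, `w`. -/
theorem pairs [IsSimpleGroup G] {a b : G} (ha : orderOf a = 2) (hb : orderOf b = 2) (hab : Commute a b)
    (hne : a ≠ b) : ∃ h : G, h * t * h⁻¹ = a ∧ h * (F.w : G) * h⁻¹ = b := by
  obtain ⟨h₀, rfl⟩ := isConj_iff.1 (F.one_classG a ha)
  have hb' : Commute (h₀⁻¹ * b * h₀) t := by
    have h1 := commute_conj h₀⁻¹ hab.symm
    rwa [inv_inv, show h₀⁻¹ * (h₀ * t * h₀⁻¹) * h₀ = t by group] at h1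
  obtain ⟨c, hc⟩ := isConj_iff.1 (F.one_class ⟨_, mem_Cen.2 hb'.eq⟩
    (by
      rw [← Subgroup.orderOf_coe, show ((⟨_, mem_Cen.2 hb'.eq⟩ : Cen t) : G) = h₀⁻¹ * b * h₀⁻¹⁻¹ by rw [inv_inv],
        orderOf_conj_eq, hb])
    fun e => hne (by rw [← show h₀⁻¹ * b * h₀ = t from congrArg Subtype.val e]; group))
  refine ⟨h₀ * c, ?_, ?_⟩
  · rw [mul_inv_rev, show h₀ * (c : G) * t * ((c : G)⁻¹ * h₀⁻¹) = h₀ * ((c : G) * t * (c : G)⁻¹) * h₀⁻¹ by group,
      (show Commute (c : G) t from mem_Cen.1 c.2).eq, mul_inv_cancel_right]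
  · rw [mul_inv_rev, show h₀ * (c : G) * F.w * ((c : G)⁻¹ * h₀⁻¹) = h₀ * ((c : G) * F.w * (c : G)⁻¹) * h₀⁻¹ by group,
      show (c : G) * F.w * (c : G)⁻¹ = h₀⁻¹ * b * h₀ from congrArg Subtype.val hc]
    group

/-- The centraliser of a non-central element of `C(a)` in `C(a)` is commutative. -/
theorem cent_comm_at [IsSimpleGroup G] {a e x x' : G} (ha : orderOf a = 2) (hea : Commute e a) (he : ¬ CentAt a e)
    (hxa : Commute x a) (hxe : Commute x e) (hxa' : Commute x' a) (hxe' : Commute x' e) : Commute x x' := by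
  obtain ⟨h, rfl⟩ := isConj_iff.1 (F.one_classG a ha)
  have hm : ∀ {y : G}, Commute y (h * t * h⁻¹) → h⁻¹ * y * h ∈ Cen t := fun {y} hy => by
    have h1 := commute_conj h⁻¹ hy
    rw [inv_inv, show h⁻¹ * (h * t * h⁻¹) * h = t by group] at h1
    exact mem_Cen.2 h1.eq
  have hc : ∀ {y y' : G} (hy : Commute y (h * t * h⁻¹)) (hy' : Commute y' (h * t * h⁻¹)), Commute y y' →
      Commute (⟨_, hm hy⟩ : Cen t) ⟨_, hm hy'⟩ := fun {y y'} hy hy' hc => by
    have h1 := commute_conj h⁻¹ hc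
    rw [inv_inv] at h1
    exact Subtype.ext h1.eq
  have h1 := F.cent_comm ⟨_, hm hea⟩ (fun hz => he ?_) _ _ (hc hxa hea hxe) (hc hxa' hea hxe')
  · have h2 := commute_conj h (show Commute (h⁻¹ * x * h) (h⁻¹ * x' * h) from congrArg Subtype.val h1.eq)
    rwa [show h * (h⁻¹ * x * h) * h⁻¹ = x by group, show h * (h⁻¹ * x' * h) * h⁻¹ = x' by group] at h2
  · have h2 := (centAt_of_center hz).conj h
    rwa [show h * (h⁻¹ * e * h) * h⁻¹ = e by group] at h2

end Frame

end Cfsg.Agent.Invol.BrauerL3
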