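import Mathlib
import Cfsg.Agent.Lib.Invol.BrauerL3.TableFuns
import Cfsg.Agent.Lib.Block.SL2Char.GLFacts

/-!
# The table of `GL(2, q)`, with `Q = q`
-/

set_option autoImplicit false
set_option linter.unusedSectionVars false

namespace Cfsg.Agent.Invol.BrauerL3

open Cfsg Matrix
open Cfsg.Agent.Block.SL2Char

universe u v w

variable {F : Type u} [Field F] [Fintype F]

theorem un_pow (z : Fˣ) : ∀ k : ℕ, ((un z ^ k : GL (Fin 2) F) : Matrix (Fin 2) (Fin 2) F) =
    !![(z : F) ^ k, k * (z : F) ^ (k - 1); 0, (z : F) ^ k]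
  | 0 => by simp [Matrix.one_fin_two]
  | k + 1 => by
    rw [pow_succ, GeneralLinearGroup.coe_mul, un_pow z k, un_val]
    ext i j
    fin_cases i <;> fin_cases j <;> simp [Matrix.mul_apply, Fin.sum_univ_two]
    · exact (pow_succ _ _).symm
    · cases k with
      | zero => simp
      | succ n => simp [pow_succ]; ring
    · exact (pow_succ _ _).symm

theorem di_mul (a b c d : Fˣ) : di (a * c) (b * d) = di a b * di c d := by
  refine Units.ext (Matrix.ext fun i j => ?_)
  simp only [GeneralLinearGroup.coe_mul, di_val]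
  fin_cases i <;> fin_cases j <;> simp [Matrix.mul_apply, Fin.sum_univ_two]

theorem di_one : di (1 : Fˣ) 1 = 1 := by
  refine Units.ext (Matrix.ext fun i j => ?_)
  fin_cases i <;> fin_cases j <;> simp

/-- The diagonal torus. -/
noncomputable def diHom : Fˣ × Fˣ →* GL (Fin 2) F where
  toFun p := di p.1 p.2
  map_one' := di_one
  map_mul' p r := di_mul p.1 p.2 r.1 r.2

theorem di_self (z : Fˣ) : di z z = sc z := rfl

theorem di_inj {a b c d : Fˣ} (h : di a b = di c d) : a = c ∧ b = d := by
  have h' := congrArg Units.val h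
  rw [di_val, di_val] at h'
  exact ⟨Units.ext (by simpa using congrFun (congrFun h' 0) 0), Units.ext (by simpa using congrFun (congrFun h' 1) 1)⟩

theorem center_eq_sc (hF : (2 : F) ≠ 0) {g : GL (Fin 2) F} (hg : g ∈ Subgroup.center (GL (Fin 2) F)) :
    ∃ z, g = sc z := by
  have key : ∀ h : GL (Fin 2) F, (h : Matrix (Fin 2) (Fin 2) F) * g = (g : Matrix (Fin 2) (Fin 2) F) * h :=
    fun h => by
      rw [← GeneralLinearGroup.coe_mul, ← GeneralLinearGroup.coe_mul, Subgroup.mem_center_iff.1 hg h]
  have h1 := key (di 1 (-1))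
  have h2 := key (un 1)
  rw [← Matrix.ext_iff] at h1 h2
  have a01 := h1 0 1
  have a10 := h1 1 0
  have b01 := h2 0 1
  simp [Matrix.mul_apply, Fin.sum_univ_two] at a01 a10 b01
  have e01 : (g : Matrix (Fin 2) (Fin 2) F) 0 1 = 0 :=
    (mul_eq_zero.1 (show 2 * (g : Matrix (Fin 2) (Fin 2) F) 0 1 = 0 by linear_combination a01)).resolve_left hF
  have e10 : (g : Matrix (Fin 2) (Fin 2) F) 1 0 = 0 :=
    (mul_eq_zero.1 (show 2 * (g : Matrix (Fin 2) (Fin 2) F) 1 0 = 0 by linear_combination -a10)).resolve_left hF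
  exact eq_sc_of_isSc ⟨e01, e10, by linear_combination -b01⟩

theorem two_ne_zero_of_odd (hF : Odd (Fintype.card F)) : (2 : F) ≠ 0 := fun h => by
  obtain ⟨k, hk⟩ := hF
  have := Nat.cast_card_eq_zero F
  rw [hk, Nat.cast_add, Nat.cast_mul, Nat.cast_ofNat, h, zero_mul, zero_add, Nat.cast_one] at this
  exact one_ne_zero this

variable (K : Type v) [Field K] [Algebra F K] [Fintype K] (hK : Module.finrank F K = 2)

theorem mem_scal_iff_range {l : Kˣ} : l ∈ scal Kˣ (Fintype.card F : ℤ) ↔ l ∈ (emb (F := F) K).range := by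
  rw [mem_scal_iff_fix, zpow_natCast]
  constructor
  · intro h
    by_contra hl
    exact pow_card_notMem K hl h
  · rintro ⟨z, rfl⟩
    rw [← map_pow, show z ^ Fintype.card F = z from Units.ext (by
      rw [Units.val_pow_eq_pow_val, FiniteField.pow_card])]

/-- The scalars as the multiplicative group of `F`. -/
noncomputable def embScal : Fˣ ≃* scal Kˣ (Fintype.card F : ℤ) :=
  (MonoidHom.ofInjective (emb_injective (F := F) K)).trans
    (MulEquiv.subgroupCongr (Subgroup.ext fun _ => (mem_scal_iff_range K).symm))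

theorem embScal_val (z : Fˣ) : ((embScal K z : scal Kˣ (Fintype.card F : ℤ)) : Kˣ) = emb (F := F) K z := rfl

theorem emb_symm (a : scal Kˣ (Fintype.card F : ℤ)) : emb (F := F) K ((embScal K).symm a) = a := by
  rw [← embScal_val, MulEquiv.apply_symm_apply]

/-- The table of `GL(2, q)`. -/
noncomputable def tblGL [DecidableEq F] [DecidableEq K] (hF : Odd (Fintype.card F)) :
    Tbl (GL (Fin 2) F) Kˣ (Fintype.card F : ℤ) where
  cyc := inferInstance
  card := by
    rw [Nat.card_units, card_K K hK, Nat.cast_sub (Nat.one_le_pow 2 _ Fintype.card_pos)]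
    push_cast
    ring
  odd := by exact_mod_cast hF
  big := by
    have h1 := Fintype.one_lt_card (α := F)
    obtain ⟨k, hk⟩ := hF
    rw [Int.natAbs_natCast]
    omega
  D := diHom.comp ((embScal K).symm.toMonoidHom.prodMap (embScal K).symm.toMonoidHom)
  U a := un ((embScal K).symm a)
  E := ell K hK
  dt := (embScal K).toMonoidHom.comp detu
  D_inj p r h := by
    obtain ⟨h1, h2⟩ := di_inj h
    exact Prod.ext ((embScal K).symm.injective h1) ((embScal K).symm.injective h2)
  E_inj := ell_injective K hK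
  E_eq a := by
    rw [← emb_symm K a, ell_emb]
    rfl
  U_pow a := by
    refine ⟨Fintype.card F, hF, ?_⟩
    refine Units.ext ?_
    rw [un_pow]
    simp only [MonoidHom.comp_apply, MonoidHom.coe_prodMap, Prod.map_apply, diHom, MonoidHom.coe_mk, OneHom.coe_mk,
      MulEquiv.coe_toMonoidHom, map_pow, di_val, Units.val_pow_eq_pow_val, Nat.cast_card_eq_zero, zero_mul]
  U_sq a h := by
    have h' := congrArg (fun g : GL (Fin 2) F => (g : Matrix (Fin 2) (Fin 2) F) 0 1) h
    rw [GeneralLinearGroup.coe_mul] at h'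
    simp [Matrix.mul_apply, Fin.sum_univ_two] at h'
    exact mul_ne_zero (two_ne_zero_of_odd hF) (Units.ne_zero ((embScal K).symm a)) (by linear_combination h')
  D_swap a b := by
    rcases eq_or_ne a b with rfl | h
    · exact IsConj.refl _
    · exact (isConj_di_di (fun e => h ((embScal K).symm.injective e))
        (fun e => h ((embScal K).symm.injective e).symm)).2 (Or.inr ⟨rfl, rfl⟩)
  cover g := by
    rcases cases K hK g with ⟨z, rfl⟩ | ⟨z, hz⟩ | ⟨x, y, -, hz⟩ | ⟨l, hl, hz⟩
    · refine Or.inr (Or.inl ⟨(embScal K z, embScal K z), ?_⟩)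
      simp [diHom, di_self]
      exact ⟨1, by simp⟩
    · exact Or.inl ⟨embScal K z, by simpa using hz⟩
    · exact Or.inr (Or.inl ⟨(embScal K x, embScal K y), by simpa [diHom] using hz⟩)
    · exact Or.inr (Or.inr ⟨l, fun h => hl ((mem_scal_iff_range K).1 h), hz⟩)
  central z hz := by
    obtain ⟨x, rfl⟩ := center_eq_sc (two_ne_zero_of_odd hF) hz
    exact ⟨embScal K x, by simp [diHom, di_self]⟩
  D_center a := Subgroup.mem_center_iff.2 fun g => sc_central _ g
  card_class a b h := by
    have h1 := classSize_di (F := F) (x := (embScal K).symm a) (y := (embScal K).symm b)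
      (fun e => h ((embScal K).symm.injective e))
    exact_mod_cast h1
  dt_D a b := by
    show embScal K (detu (di _ _)) = _
    rw [detu_eq (w := (embScal K).symm a * (embScal K).symm b) (by simp [dt_di])]
    simp
  dt_U a := by
    show embScal K (detu (un _)) = _
    rw [detu_eq (w := (embScal K).symm a * (embScal K).symm a) (by simp [dt_un])]
    simp
  dt_E l := by
    show emb (F := F) K (detu (ell K hK l)) = _
    refine Units.ext ?_
    rw [emb_val, detu_val, Units.val_mul, zpow_natCast, Units.val_pow_eq_pow_val]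
    by_cases hl : l ∈ (emb (F := F) K).range
    · obtain ⟨z, rfl⟩ := hl
      rw [ell_emb, dt_sc, map_mul, emb_val, ← map_pow, FiniteField.pow_card]
    · exact (tr_dt_ell K hK hl).2
  St := vS
  St_irr := Or.inl (isIrr_vS K hK)
  St_sc a := by
    show vS (sc ((embScal K).symm a)) = _
    rw [vS_sc]; norm_cast
  St_D a b h := vS_di fun e => h ((embScal K).symm.injective e)
  St_U a := vS_un _
  St_E l hl := vS_ell K hK fun h => hl ((mem_scal_iff_range K).2 h)
  PS α β := vI (α.comp (embScal K).toMonoidHom) (β.comp (embScal K).toMonoidHom)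
  PS_irr α β h := Or.inl (isIrr_vI K hK fun e => h (MonoidHom.ext fun x => by
    simpa using DFunLike.congr_fun e ((embScal K).symm x)))
  PS_sc α β a _ := by
    show vI _ _ (sc ((embScal K).symm a)) = _
    rw [vI_sc]
    simp [cv]
  PS_D α β a b _ h := by
    show vI _ _ (di ((embScal K).symm a) ((embScal K).symm b)) = _
    rw [vI_di _ _ fun e => h ((embScal K).symm.injective e)]
    simp [cv]
  PS_U α β a _ := by
    show vI _ _ (un _) = _
    rw [vI_un]
    simp [cv]
  PS_E α β l _ hl := vI_ell K hK _ _ fun h => hl ((mem_scal_iff_range K).2 h)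
  DS θ := -vD (F := F) K hK θ
  DS_irr θ h := Or.inr (by
    rw [neg_neg]
    obtain ⟨l, hl⟩ := h
    exact isIrr_vD K hK ⟨l, fun e => hl (by rw [zpow_natCast]; exact Units.ext e)⟩)
  DS_sc θ a _ := by
    show -vD K hK θ (sc ((embScal K).symm a)) = _
    rw [vD_sc, emb_symm]
    push_cast
    ring
  DS_D θ a b _ h := by
    show -vD K hK θ (di ((embScal K).symm a) ((embScal K).symm b)) = _
    rw [vD_di K hK θ fun e => h ((embScal K).symm.injective e), neg_zero]
  DS_U θ a _ := by
    show -vD K hK θ (un _) = _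
    rw [vD_un, emb_symm, neg_neg]
  DS_E θ l _ hl := by
    show -vD K hK θ (ell K hK l) = _
    rw [vD_ell K hK θ fun h => hl ((mem_scal_iff_range K).2 h), neg_neg, zpow_natCast]

/-- A table exists. -/
theorem exists_tblGL (hF : Odd (Fintype.card F)) :
    ∃ (K : Type) (_ : CommGroup K), Nonempty (Tbl (GL (Fin 2) F) K (Fintype.card F : ℤ)) := by
  classical
  obtain ⟨K, _, _, _, _, hK⟩ := exists_model F
  exact ⟨Kˣ, inferInstance, ⟨tblGL K hK hF⟩⟩

/-- `SdFuns` for a quotient of `GL(2, q)` by a central subgroup of odd order, `q ≡ 3 mod 4`. -/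
theorem sdFuns_GL (hq : Fintype.card F % 4 = 3) {C : Type w} [Group C] [Fintype C] (π : GL (Fin 2) F →* C)
    (hπ : Function.Surjective π) (hc : π.ker ≤ Subgroup.center _) (ho : Odd (Nat.card π.ker)) (t : C)
    (ht : orderOf t = 2) (htc : t ∈ Subgroup.center C) :
    Nonempty (SdFuns C (rootSet t) t (Fintype.card F : ℤ)
      ((((Fintype.card F : ℤ) * ((Fintype.card F : ℤ) + 1) : ℤ) : ℚ) ^ 2 / Nat.card C)) := by
  classical
  obtain ⟨K, _, ⟨T⟩⟩ := exists_tblGL (F := F) (by rw [Nat.odd_iff]; omega)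
  exact T.sdFuns π (by omega) hπ hc ho t ht htc

/-- `WrFuns` for a quotient of `GL(2, q)` by a central subgroup of odd order, `q ≡ 1 mod 4`. -/
theorem wrFuns_GL (hq : Fintype.card F % 4 = 1) {p : ℕ} (hp : p.Prime) (hp2 : p ≠ 2)
    (hpq : p ∣ Fintype.card F + 1) {C : Type w} [Group C] [Fintype C] (π : GL (Fin 2) F →* C)
    (hπ : Function.Surjective π) (hc : π.ker ≤ Subgroup.center _) (ho : Odd (Nat.card π.ker)) (t : C)
    (ht : orderOf t = 2) (htc : t ∈ Subgroup.center C) :
    Nonempty (WrFuns C (rootSetWr t p) t (Fintype.card F : ℤ)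
      ((((Fintype.card F : ℤ) * ((Fintype.card F : ℤ) + 1) : ℤ) : ℚ) ^ 2 / Nat.card C)) := by
  classical
  obtain ⟨K, _, ⟨T⟩⟩ := exists_tblGL (F := F) (by rw [Nat.odd_iff]; omega)
  exact T.wrFuns π (by omega) hp hp2 (by exact_mod_cast hpq) hπ hc ho t ht htc

end Cfsg.Agent.Invol.BrauerL3
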