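import Mathlib
import Cfsg.Agent.Lib.Invol.BrauerL3.TableGL
import Cfsg.Agent.Lib.Classical.Unit

/-!
# `GU(2, q)` as an image of the pairs `(c, h) ∈ (F_{q²})ˣ × GL(2, q)` with `c^(q+1) det h = 1`

`(c, h) ↦ c • P h P⁻¹`, where the columns of `P` are isotropic, is onto, with kernel the pairs `(z⁻¹, z • 1)`.
-/

set_option autoImplicit false
set_option linter.unusedSectionVars false

namespace Cfsg.Agent.Invol.BrauerL3.GU

open Cfsg
open scoped Matrix
open Cfsg.Agent.Block.SL2Char

universe u v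

variable {k : Type u} [Field k] [Fintype k] [DecidableEq k] {L : Type v} [Field L] [Fintype L] [Algebra k L]

local notation "qq" => Fintype.card k

theorem card_L (hL : Module.finrank k L = 2) : Fintype.card L = qq ^ 2 := by
  rw [← card_K L hL, Nat.card_eq_fintype_card]

theorem card_units_L (hL : Module.finrank k L = 2) : Nat.card Lˣ = (qq + 1) * (qq - 1) := by
  rw [Nat.card_units, Nat.card_eq_fintype_card, card_L hL, ← Nat.sq_sub_sq, one_pow]

/-- Roots in a cyclic group. -/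
theorem exists_root {A : Type*} [CommGroup A] [Finite A] [IsCyclic A] {a b : ℕ} (hn : Nat.card A = a * b)
    {x : A} (hx : x ^ a = 1) : ∃ l : A, l ^ b = x := by
  obtain ⟨g, hg⟩ := IsCyclic.exists_generator (α := A)
  obtain ⟨i, rfl⟩ := Subgroup.mem_zpowers_iff.1 (hg x)
  rw [← zpow_natCast, ← zpow_mul, ← orderOf_dvd_iff_zpow_eq_one, orderOf_eq_card_of_forall_mem_zpowers hg, hn] at hx
  push_cast at hx
  rw [mul_comm (a : ℤ)] at hx
  have ha : (a : ℤ) ≠ 0 := by
    have := Nat.card_pos (α := A)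
    rw [hn] at this
    have := Nat.pos_of_mul_pos_right this
    omega
  obtain ⟨r, rfl⟩ := Int.dvd_of_mul_dvd_mul_right ha hx
  exact ⟨g ^ r, by rw [← zpow_natCast, ← zpow_mul, mul_comm]⟩

theorem exists_norm (hL : Module.finrank k L = 2) (z : kˣ) : ∃ c : Lˣ, c ^ (qq + 1) = emb (F := k) L z := by
  refine exists_root (a := qq - 1) (by rw [card_units_L hL, mul_comm]) ?_
  rw [← map_pow, ← Fintype.card_units, pow_card_eq_one, map_one]

theorem exists_unit_root (hL : Module.finrank k L = 2) {x : Lˣ} (hx : x ^ (qq + 1) = 1) :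
    ∃ l : Lˣ, l ^ (qq - 1) = x :=
  exists_root (card_units_L hL) hx

theorem emb_pow (z : kˣ) : emb (F := k) L z ^ qq = emb L z := by
  rw [← map_pow, show z ^ qq = z from Units.ext (by rw [Units.val_pow_eq_pow_val, FiniteField.pow_card])]

theorem emb_detu_ell (hL : Module.finrank k L = 2) (l : Lˣ) :
    emb (F := k) L (detu (ell L hL l)) = l ^ (qq + 1) := by
  refine Units.ext ?_
  rw [emb_val, detu_val, Units.val_pow_eq_pow_val, pow_succ']
  by_cases hl : l ∈ (emb (F := k) L).range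
  · obtain ⟨z, rfl⟩ := hl
    rw [ell_emb, dt_sc, map_mul, emb_val, ← map_pow, FiniteField.pow_card]
  · exact (tr_dt_ell L hL hl).2

/-- `(c, h) ↦ c^(q+1) det h`. -/
noncomputable def gdet : Lˣ × GL (Fin 2) k →* Lˣ :=
  (powMonoidHom (qq + 1)).comp (MonoidHom.fst _ _) * ((emb (F := k) L).comp detu).comp (MonoidHom.snd _ _)

variable (k L) in
/-- The pairs `(c, h)` with `c^(q+1) det h = 1`. -/
noncomputable abbrev Gam : Subgroup (Lˣ × GL (Fin 2) k) := (gdet (k := k) (L := L)).ker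

theorem mem_Gam {c : Lˣ} {h : GL (Fin 2) k} : (c, h) ∈ Gam k L ↔ c ^ (qq + 1) * emb (F := k) L (detu h) = 1 := by
  simp [Gam, gdet, MonoidHom.mem_ker]

/-- The second coordinate. -/
noncomputable def pr : Gam k L →* GL (Fin 2) k := (MonoidHom.snd _ _).comp (Gam k L).subtype

/-- The first coordinate. -/
noncomputable def pc : Gam k L →* Lˣ := (MonoidHom.fst _ _).comp (Gam k L).subtype

theorem pr_surjective (hL : Module.finrank k L = 2) : Function.Surjective (pr (k := k) (L := L)) := fun h => by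
  obtain ⟨c, hc⟩ := exists_norm (L := L) hL (detu h)⁻¹
  exact ⟨⟨(c, h), mem_Gam.2 (by rw [hc, ← map_mul, inv_mul_cancel, map_one])⟩, rfl⟩

theorem card_ker_pr : Nat.card (pr (k := k) (L := L)).ker = Nat.card {c : Lˣ // c ^ (qq + 1) = 1} := by
  refine Nat.card_congr
    { toFun := fun γ => ⟨γ.1.1.1, ?_⟩
      invFun := fun c => ⟨⟨(c.1, 1), mem_Gam.2 (by rw [c.2, map_one, map_one, mul_one])⟩, rfl⟩
      left_inv := fun γ => ?_
      right_inv := fun c => rfl }
  · have h1 := γ.1.2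
    have h2 : γ.1.1.2 = 1 := γ.2
    have := (mem_Gam (c := γ.1.1.1) (h := γ.1.1.2)).1 h1
    rwa [h2, map_one, map_one, mul_one] at this
  · exact Subtype.ext (Subtype.ext (Prod.ext rfl (Eq.symm γ.2)))

variable (hL : Module.finrank k L = 2) (hodd : Odd (Fintype.card k))

include hL hodd

theorem two_ne : (2 : L) ≠ 0 := by
  rw [← map_ofNat (algebraMap k L)]
  exact fun h => two_ne_zero_of_odd hodd ((algebraMap k L).injective (h.trans (map_zero _).symm))

theorem exists_isotropic : ∃ a : Lˣ, (a : L) ^ (qq + 1) = -1 := by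
  obtain ⟨c, hc⟩ := exists_norm (L := L) hL (-1 : kˣ)
  exact ⟨c, by rw [← Units.val_pow_eq_pow_val, hc, emb_val]; simp⟩

theorem exists_skew : ∃ s : Lˣ, (s : L) ^ qq = -(s : L) := by
  obtain ⟨m, hm⟩ := hodd
  obtain ⟨c, hc⟩ := exists_unit_root (x := (-1 : Lˣ)) hL
    (Units.ext (by rw [Units.val_pow_eq_pow_val, Units.val_neg, Units.val_one, hm,
      show 2 * m + 1 + 1 = 2 * (m + 1) by ring, pow_mul, neg_one_sq, one_pow]))
  refine ⟨c, ?_⟩
  rw [show qq = qq - 1 + 1 by omega, pow_succ, ← Units.val_pow_eq_pow_val, hc]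
  simp

/-- A matrix with isotropic columns. -/
noncomputable def Pm : Matrix (Fin 2) (Fin 2) L :=
  !![1, ((exists_skew hL hodd).choose : L);
    ((exists_isotropic hL hodd).choose : L),
      -((exists_isotropic hL hodd).choose : L) * (exists_skew hL hodd).choose]

theorem det_Pm : (Pm hL hodd).det ≠ 0 := by
  rw [Pm, Matrix.det_fin_two]
  simp
  intro h
  refine mul_ne_zero (mul_ne_zero (two_ne hL hodd) (Units.ne_zero (exists_isotropic hL hodd).choose))
    (Units.ne_zero (exists_skew hL hodd).choose) ?_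
  linear_combination -h

/-- The isotropic frame. -/
noncomputable def PG : GL (Fin 2) L := mk (Pm hL hodd) (det_Pm hL hodd)

theorem herm_Pm : (Pm hL hodd)ᵀ * (Pm hL hodd).map (Classical.qFrob (card_L hL)) =
    !![0, -2 * ((exists_skew hL hodd).choose : L); 2 * ((exists_skew hL hodd).choose : L), 0] := by
  have ha := (exists_isotropic hL hodd).choose_spec
  have hs := (exists_skew hL hodd).choose_spec
  set a := ((exists_isotropic hL hodd).choose : L) with hadef
  set s := ((exists_skew hL hodd).choose : L) with hsdef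
  have hq0 : qq ≠ 0 := Fintype.card_ne_zero
  have hneg : ((-1 : L)) ^ qq = -1 := hodd.neg_one_pow
  rw [pow_succ] at ha
  have e1 : (-a * s) ^ qq = a ^ qq * s := by
    rw [neg_mul, Odd.neg_pow hodd, mul_pow, hs, mul_neg, neg_neg]
  have e2 : (-(a * s)) ^ qq = a ^ qq * s := by rw [← neg_mul, e1]
  ext i j
  fin_cases i <;> fin_cases j <;>
    simp [Pm, Matrix.mul_apply, Fin.sum_univ_two, Classical.qFrob_apply, ← hadef, ← hsdef, e1, e2,
      hs] <;>
    first
      | linear_combination ha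
      | linear_combination s * ha
      | linear_combination (-s) * ha
      | linear_combination s * s * ha
      | linear_combination (-s * s) * ha

/-- `(c, h) ↦ c • P h P⁻¹`. -/
noncomputable def Psi0 : Lˣ × GL (Fin 2) k →* GL (Fin 2) L where
  toFun p := sc p.1 * (PG hL hodd * Matrix.GeneralLinearGroup.map (algebraMap k L) p.2 * (PG hL hodd)⁻¹)
  map_one' := by
    simp only [Prod.fst_one, Prod.snd_one, map_one, mul_one, mul_inv_cancel]
    exact Units.ext (by simp [Matrix.one_fin_two])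
  map_mul' p r := by
    have h1 : sc (p.1 * r.1) = sc p.1 * sc r.1 := di_mul p.1 p.1 r.1 r.1
    rw [Prod.fst_mul, Prod.snd_mul, map_mul, h1]
    have h2 := sc_central r.1 (PG hL hodd * Matrix.GeneralLinearGroup.map (algebraMap k L) p.2 * (PG hL hodd)⁻¹)
    calc _ = sc p.1 * (sc r.1 * (PG hL hodd * Matrix.GeneralLinearGroup.map (algebraMap k L) p.2 * (PG hL hodd)⁻¹)) *
          (PG hL hodd * Matrix.GeneralLinearGroup.map (algebraMap k L) r.2 * (PG hL hodd)⁻¹) := by group
      _ = _ := by rw [← h2]; group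

theorem map_sc (z : kˣ) : Matrix.GeneralLinearGroup.map (algebraMap k L) (sc z) = sc (emb (F := k) L z) := by
  refine Units.ext (Matrix.ext fun i j => ?_)
  fin_cases i <;> fin_cases j <;> simp [emb_val]

theorem Psi0_eq_one {c : Lˣ} {h : GL (Fin 2) k} :
    Psi0 hL hodd (c, h) = 1 ↔ ∃ z : kˣ, h = sc z ∧ c * emb (F := k) L z = 1 := by
  constructor
  · intro e
    change sc c * (PG hL hodd * Matrix.GeneralLinearGroup.map (algebraMap k L) h * (PG hL hodd)⁻¹) = 1 at e
    have h1 : Matrix.GeneralLinearGroup.map (algebraMap k L) h = (PG hL hodd)⁻¹ * (sc c)⁻¹ * PG hL hodd := by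
      rw [eq_inv_of_mul_eq_one_right e |>.symm]; group
    have h2 : (sc c)⁻¹ = sc c⁻¹ := by
      refine inv_eq_of_mul_eq_one_right ?_
      rw [← di_self, ← di_self, ← di_mul, mul_inv_cancel, di_one]
    rw [h2, mul_assoc, ← sc_central, inv_mul_cancel_left] at h1
    have h3 : ∀ i j, algebraMap k L ((h : Matrix (Fin 2) (Fin 2) k) i j) =
        (!![((c⁻¹ : Lˣ) : L), 0; 0, ((c⁻¹ : Lˣ) : L)]) i j := fun i j => by
      rw [← sc_val, ← h1]; rfl
    have h01 := h3 0 1
    have h10 := h3 1 0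
    have h00 := h3 0 0
    have h11 := h3 1 1
    simp at h01 h10 h00 h11
    obtain ⟨z, rfl⟩ := eq_sc_of_isSc (g := h)
      ⟨h01, h10, (algebraMap k L).injective (h00.trans h11.symm)⟩
    refine ⟨z, rfl, Units.ext ?_⟩
    simp at h00
    rw [Units.val_mul, emb_val, h00]
    simp
  · rintro ⟨z, rfl, hz⟩
    change sc c * (PG hL hodd * Matrix.GeneralLinearGroup.map (algebraMap k L) (sc z) * (PG hL hodd)⁻¹) = 1
    rw [map_sc hL hodd, sc_central, mul_inv_cancel_right, ← di_self, ← di_self, ← di_mul, hz, di_one]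

theorem Psi0_mem {p : Lˣ × GL (Fin 2) k} (hp : p ∈ Gam k L) : Psi0 hL hodd p ∈ Cfsg.GU 2 L qq := by
  obtain ⟨c, h⟩ := p
  set σ := Classical.qFrob (card_L (k := k) (L := L) hL) with hσ
  set P : Matrix (Fin 2) (Fin 2) L := Pm hL hodd with hP
  set Pi : Matrix (Fin 2) (Fin 2) L := ((PG hL hodd)⁻¹).val with hPi
  have hPP : P * Pi = 1 := Units.mul_inv (PG hL hodd)
  set h' : Matrix (Fin 2) (Fin 2) L := (h : Matrix (Fin 2) (Fin 2) k).map (algebraMap k L) with hh'
  set d : L := algebraMap k L (h : Matrix (Fin 2) (Fin 2) k).det with hd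
  have hσh : h'.map σ = h' := by
    ext i j
    simp [hh', hσ, Classical.qFrob_apply, ← map_pow, FiniteField.pow_card]
  have hJ : h'ᵀ * (Pᵀ * P.map σ) * h' = d • (Pᵀ * P.map σ) := by
    rw [hP, hσ, herm_Pm hL hodd]
    ext i j
    fin_cases i <;> fin_cases j <;>
      simp [hh', hd, Matrix.mul_apply, Fin.sum_univ_two, Matrix.det_fin_two, map_sub, map_mul] <;> ring
  have hcd : (c : L) * (c : L) ^ qq * d = 1 := by
    have := congrArg Units.val (mem_Gam.1 hp)
    rw [Units.val_mul, Units.val_pow_eq_pow_val, emb_val, detu_val, dt_eq_det, Units.val_one] at this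
    rw [← this, hd, pow_succ']
  set M : Matrix (Fin 2) (Fin 2) L := ((Psi0 hL hodd (c, h) : GL (Fin 2) L) : Matrix (Fin 2) (Fin 2) L) with hMdef
  have hM : M = (c : L) • (P * h' * Pi) := by
    rw [hMdef]
    change (sc c : GL (Fin 2) L).1 * (P * h' * Pi) = _
    ext i j
    fin_cases i <;> fin_cases j <;> simp [Matrix.mul_apply, Fin.sum_univ_two]
  have hU : Mᵀ * M.map σ = 1 := by
    rw [hM, Matrix.transpose_smul, Matrix.map_smul' (hf := fun x y => map_mul σ x y), Matrix.smul_mul,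
      Matrix.mul_smul, smul_smul, Matrix.transpose_mul, Matrix.transpose_mul, Matrix.map_mul, Matrix.map_mul, hσh]
    calc ((c : L) * σ c) • (Piᵀ * (h'ᵀ * Pᵀ) * (P.map σ * h' * Pi.map σ))
        = ((c : L) * σ c) • (Piᵀ * (h'ᵀ * (Pᵀ * P.map σ) * h') * Pi.map σ) := by simp only [Matrix.mul_assoc]
      _ = ((c : L) * σ c * d) • (Piᵀ * (Pᵀ * P.map σ) * Pi.map σ) := by
          rw [hJ, Matrix.mul_smul, Matrix.smul_mul, smul_smul]
      _ = ((c : L) * σ c * d) • ((P * Pi)ᵀ * (P * Pi).map σ) := by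
          rw [Matrix.transpose_mul, Matrix.map_mul]; simp only [Matrix.mul_assoc]
      _ = 1 := by
          rw [hPP, Matrix.transpose_one, Matrix.map_one _ (map_zero σ) (map_one σ), Matrix.one_mul,
            show σ (c : L) = (c : L) ^ qq from rfl, hcd, one_smul]
  have h00 := congrFun (congrFun hU 0) 0
  have h01 := congrFun (congrFun hU 0) 1
  have h10 := congrFun (congrFun hU 1) 0
  have h11 := congrFun (congrFun hU 1) 1
  simp [Matrix.mul_apply, Fin.sum_univ_two, hσ, Classical.qFrob_apply] at h00 h01 h10 h11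
  intro u v
  change Cfsg.hermForm 2 L qq (M *ᵥ u) (M *ᵥ v) = Cfsg.hermForm 2 L qq u v
  simp only [Cfsg.hermForm, Matrix.mulVec, dotProduct, Fin.sum_univ_two, mul_pow,
    Classical.add_pow_q (card_L (k := k) (L := L) hL)]
  linear_combination (u 0 * v 0 ^ qq) * h00 + (u 0 * v 1 ^ qq) * h01 + (u 1 * v 0 ^ qq) * h10 +
    (u 1 * v 1 ^ qq) * h11

/-- The map onto `GU(2, q)`. -/
noncomputable def Psi : Gam k L →* Cfsg.GU 2 L qq :=
  ((Psi0 hL hodd).comp (Gam k L).subtype).codRestrict _ fun p => Psi0_mem hL hodd p.2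

theorem Psi_eq_one {γ : Gam k L} :
    Psi hL hodd γ = 1 ↔ ∃ z : kˣ, γ.1.2 = sc z ∧ γ.1.1 * emb (F := k) L z = 1 := by
  rw [← Psi0_eq_one hL hodd]
  exact ⟨fun h => congrArg Subtype.val h, fun h => Subtype.ext h⟩

theorem kz_mem (z : kˣ) : (((emb (F := k) L z)⁻¹, sc z) : Lˣ × GL (Fin 2) k) ∈ Gam k L := by
  rw [mem_Gam, detu_eq (w := z * z) (by simp [dt_sc]), inv_pow, pow_succ, emb_pow, map_mul, inv_mul_cancel]

/-- The kernel. -/
noncomputable def kz : kˣ →* Gam k L where
  toFun z := ⟨((emb (F := k) L z)⁻¹, sc z), kz_mem hL hodd z⟩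
  map_one' := Subtype.ext (Prod.ext (by simp) (show sc (1 : kˣ) = 1 by rw [← di_self, di_one]))
  map_mul' a b := Subtype.ext (Prod.ext (by simp [mul_comm]) (di_mul a a b b))

theorem ker_eq_range : (Psi hL hodd).ker = (kz (L := L) hL hodd).range := by
  ext γ
  rw [MonoidHom.mem_ker, Psi_eq_one hL hodd, MonoidHom.mem_range]
  constructor
  · rintro ⟨z, h1, h2⟩
    exact ⟨z, Subtype.ext (Prod.ext (eq_inv_of_mul_eq_one_left h2).symm h1.symm)⟩
  · rintro ⟨z, rfl⟩
    exact ⟨z, rfl, inv_mul_cancel _⟩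

theorem card_ker_Psi : Nat.card (Psi hL hodd).ker = qq - 1 := by
  have hinj : Function.Injective (kz (L := L) hL hodd) := fun a b h => by
    have := congrArg (fun γ : Gam k L => γ.1.2) h
    change sc a = sc b at this
    exact (di_inj this).1
  rw [ker_eq_range, ← Nat.card_congr (MonoidHom.ofInjective hinj).toEquiv, Nat.card_units,
    Nat.card_eq_fintype_card]

theorem Psi_surjective : Function.Surjective (Psi hL hodd) := by
  have h1 := (Psi hL hodd).ker.index_mul_card
  have h2 := (pr (k := k) (L := L)).ker.index_mul_card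
  rw [Subgroup.index_ker, card_ker_Psi hL hodd] at h1
  rw [Subgroup.index_ker, MonoidHom.range_eq_top.2 (pr_surjective hL), Subgroup.card_top, card_ker_pr] at h2
  have h3 : Nat.card {c : Lˣ // c ^ (qq + 1) = 1} = qq + 1 := by
    have e : Nat.card {c : Lˣ // c ^ (qq + 1) = 1} = Nat.card (powMonoidHom (qq + 1) : Lˣ →* Lˣ).ker :=
      Nat.card_congr (Equiv.subtypeEquivRight fun c => by simp [MonoidHom.mem_ker])
    rw [e, IsCyclic.card_powMonoidHom_ker, card_units_L hL, Nat.gcd_mul_right_left]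
  have hq1 : 1 < qq := Fintype.one_lt_card
  rw [h3] at h2
  rw [← MonoidHom.range_eq_top]
  refine Subgroup.eq_top_of_card_eq _ ?_
  refine Nat.eq_of_mul_eq_mul_right (show 0 < qq - 1 by omega) (h1.trans (h2.symm.trans ?_))
  apply Nat.cast_injective (R := ℤ)
  rw [Matrix.card_GL_field]
  simp only [Fin.prod_univ_two, Fin.val_zero, Fin.val_one, pow_zero, pow_one]
  rw [Nat.cast_mul, Nat.cast_mul, Nat.cast_mul, Classical.order_GU (card_L (k := k) (L := L) hL),
    Nat.cast_sub (show 1 ≤ qq ^ 2 from Nat.one_le_pow _ _ (by omega)),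
    Nat.cast_sub (show qq ≤ qq ^ 2 from Nat.le_self_pow two_ne_zero _), Nat.cast_sub hq1.le]
  simp [Finset.prod_range_succ]
  ring

theorem exists_lift_conj {c : Lˣ} {h h' : GL (Fin 2) k} (hm : (c, h) ∈ Gam k L) (hc : IsConj h h') :
    ∃ hm' : (c, h') ∈ Gam k L, IsConj (Psi hL hodd ⟨_, hm⟩) (Psi hL hodd ⟨_, hm'⟩) := by
  obtain ⟨x, rfl⟩ := isConj_iff.1 hc
  obtain ⟨γ, hγ⟩ := pr_surjective (L := L) hL x
  have e : γ.1 * (c, h) * γ.1⁻¹ = (c, x * h * x⁻¹) := Prod.ext (by simp) (by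
    change γ.1.2 * h * γ.1.2⁻¹ = _
    rw [show γ.1.2 = x from hγ])
  have hm' : (c, x * h * x⁻¹) ∈ Gam k L := e ▸ Subgroup.mul_mem _ (Subgroup.mul_mem _ γ.2 hm) (inv_mem γ.2)
  refine ⟨hm', isConj_iff.2 ⟨Psi hL hodd γ, ?_⟩⟩
  rw [← map_inv, ← map_mul, ← map_mul]
  exact congrArg _ (Subtype.ext e)

end Cfsg.Agent.Invol.BrauerL3.GU
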