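import Mathlib
import Cfsg.Agent.Lib.Invol.BrauerL3.GUModel
import Cfsg.Agent.Lib.Classical.DicksonEmbed

/-!
# The table of `GU(2, q)`, with `Q = -q`, from that of `GL(2, q)`

On the pairs `(c, h)` the characters are `ξ(c) χ(h)`: Steinberg is `-vS`, the principal series `-(α β) ⊗ vD θ`
with `θ(l) = α(l) β(l^q)`, the discrete series `θ ⊗ vI(θ, 1)`.
-/

set_option autoImplicit false
set_option maxHeartbeats 2000000
set_option linter.unusedSectionVars false

namespace Cfsg.Agent.Invol.BrauerL3.GU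

open Cfsg
open scoped Matrix
open Cfsg.Agent.Block.SL2Char

universe u v w

variable {k : Type u} [Field k] [Fintype k] [DecidableEq k] {L : Type v} [Field L] [Fintype L] [DecidableEq L]
  [Algebra k L]

local notation "qq" => Fintype.card k
local notation "AA" => scal Lˣ (-(qq : ℤ))

theorem mem_AA {x : Lˣ} : x ∈ AA ↔ x ^ (qq + 1) = 1 := by
  rw [mem_scal, show (-(qq : ℤ) - 1) = -((qq + 1 : ℕ) : ℤ) by push_cast; ring, zpow_neg, inv_eq_one, zpow_natCast]

theorem pow_qq_pow_qq (hL : Module.finrank k L = 2) (l : Lˣ) : (l ^ qq) ^ qq = l :=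
  pow_card_pow_card L hL l

theorem zpow_neg_qq (l : Lˣ) : l ^ (-(qq : ℤ)) = (l ^ qq)⁻¹ := by rw [zpow_neg, zpow_natCast]

variable (hL : Module.finrank k L = 2) (hodd : Odd (Fintype.card k))

/-- A function on the pairs, as a function on `GU(2, q)`. -/
noncomputable def desc (f : Gam k L → ℂ) (g : Cfsg.GU 2 L qq) : ℂ :=
  f (Function.surjInv (Psi_surjective hL hodd) g)

theorem desc_spec {f : Gam k L → ℂ} (hf : SgnIrr (Gam k L) f) (hk : ∀ z, f (kz hL hodd z) = f 1) :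
    SgnIrr (Cfsg.GU 2 L qq) (desc hL hodd f) ∧ ∀ γ, desc hL hodd f (Psi hL hodd γ) = f γ := by
  obtain ⟨ψ, hψ, e⟩ := hf.exists_factor (Psi hL hodd) (Psi_surjective hL hodd) fun γ hγ => by
    rw [ker_eq_range hL hodd, MonoidHom.mem_range] at hγ
    obtain ⟨z, rfl⟩ := hγ
    exact hk z
  have h : desc hL hodd f = ψ := funext fun g => by
    rw [desc, ← e, Function.surjInv_eq (Psi_surjective hL hodd) g]
  exact ⟨h ▸ hψ, fun γ => by rw [h, e]⟩

/-- `ξ(c) χ(h)`. -/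
noncomputable def tens (ξ : Lˣ →* ℂˣ) (χ : GL (Fin 2) k → ℂ) (γ : Gam k L) : ℂ := cv ξ γ.1.1 * χ γ.1.2

theorem sgn_tens (hL : Module.finrank k L = 2) (ξ : Lˣ →* ℂˣ) {χ : GL (Fin 2) k → ℂ} (hχ : SgnIrr _ χ) :
    SgnIrr (Gam k L) (tens ξ χ) :=
  (hχ.comp_surjective pr (pr_surjective hL)).mul_linear (ξ.comp pc)

/-- An extension of a character of the scalars. -/
noncomputable def ext (α : AA →* ℂˣ) : Lˣ →* ℂˣ :=
  (MonoidHom.domRestrict_surjective (M := ℂ) AA α).choose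

theorem ext_apply (α : AA →* ℂˣ) (a : AA) : ext α (a : Lˣ) = α a :=
  DFunLike.congr_fun (MonoidHom.domRestrict_surjective (M := ℂ) AA α).choose_spec a

/-- The parameter of the principal series. -/
noncomputable def psTheta (α β : AA →* ℂˣ) : Lˣ →* ℂˣ := ext α * (ext β).comp (powMonoidHom qq)

/-- The principal series, upstairs. -/
noncomputable def psUp (α β : AA →* ℂˣ) : Gam k L → ℂ :=
  tens (ext α * ext β) (-vD (F := k) L hL (psTheta α β))

/-- The discrete series, upstairs. -/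
noncomputable def dsUp (θ : Lˣ →* ℂˣ) : Gam k L → ℂ := tens θ (vI (θ.comp (emb (F := k) L)) 1)

/-- The Steinberg character, upstairs. -/
noncomputable def stUp : Gam k L → ℂ := tens 1 (-vS (F := k))

include hL in
theorem psTheta_regular {α β : AA →* ℂˣ} (h : α ≠ β) : Regular (F := k) L (psTheta α β) := by
  by_contra hn
  refine h (MonoidHom.ext fun a => Units.ext ?_)
  obtain ⟨l, hl⟩ := exists_unit_root (k := k) hL (mem_AA.1 a.2)
  simp only [Regular, not_exists, ne_eq, not_not] at hn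
  have h1 : psTheta α β (l ^ qq) = psTheta α β l := Units.ext (hn l)
  simp only [psTheta, MonoidHom.mul_apply, MonoidHom.comp_apply, powMonoidHom_apply, pow_qq_pow_qq hL] at h1
  have h2 : l ^ qq = (a : Lˣ) * l := by
    rw [← hl, ← pow_succ, Nat.sub_add_cancel Fintype.card_pos]
  rw [h2, map_mul, map_mul, ext_apply, ext_apply] at h1
  have h3 := congrArg Units.val h1
  simp only [Units.val_mul] at h3
  refine mul_right_cancel₀ (mul_ne_zero (Units.ne_zero (ext α l)) (Units.ne_zero (ext β l))) ?_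
  linear_combination h3

include hL in
theorem ds_ne_one {θ : Lˣ →* ℂˣ} (h : ∃ l, θ (l ^ (-(qq : ℤ))) ≠ θ l) : θ.comp (emb (F := k) L) ≠ 1 := by
  obtain ⟨l, hl⟩ := h
  intro e
  refine hl ?_
  have h1 := DFunLike.congr_fun e (detu (ell L hL l))
  rw [MonoidHom.comp_apply, emb_detu_ell hL, MonoidHom.one_apply, pow_succ, map_mul] at h1
  rw [zpow_neg_qq, map_inv]
  exact inv_eq_of_mul_eq_one_right h1

theorem kz_fst (z : kˣ) : (kz (L := L) hL hodd z).1.1 = (emb (F := k) L z)⁻¹ := rfl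

theorem kz_snd (z : kˣ) : (kz (L := L) hL hodd z).1.2 = sc z := rfl

theorem st_spec : SgnIrr (Cfsg.GU 2 L qq) (desc hL hodd stUp) ∧
    ∀ γ, desc hL hodd stUp (Psi hL hodd γ) = -vS γ.1.2 := by
  obtain ⟨h1, h2⟩ := desc_spec hL hodd (sgn_tens hL 1 (SgnIrr.neg (Or.inl (isIrr_vS L hL)))) fun z => by
    simp only [tens]
    rw [kz_fst, kz_snd, Pi.neg_apply, Pi.neg_apply, vS_sc, OneMemClass.coe_one, Prod.snd_one,
      ← sc_one, vS_sc]
    simp [cv]
  exact ⟨h1, fun γ => by rw [show stUp (k := k) (L := L) = tens 1 (-vS) from rfl, h2]; simp [tens, cv]⟩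

theorem ps_spec (α β : AA →* ℂˣ) (h : α ≠ β) : SgnIrr (Cfsg.GU 2 L qq) (desc hL hodd (psUp hL α β)) ∧
    ∀ γ, desc hL hodd (psUp hL α β) (Psi hL hodd γ) =
      cv (ext α * ext β) γ.1.1 * -vD (F := k) L hL (psTheta α β) γ.1.2 := by
  refine desc_spec hL hodd (sgn_tens hL _ (SgnIrr.neg (Or.inl (isIrr_vD L hL (psTheta_regular hL h))))) fun z => ?_
  simp only [psUp, tens]
  rw [kz_fst, kz_snd, Pi.neg_apply, Pi.neg_apply, vD_sc, OneMemClass.coe_one, Prod.snd_one, Prod.fst_one,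
    vD_one, Nat.cast_sub Fintype.card_pos, Nat.cast_one]
  have e : cv (psTheta α β) (emb (F := k) L z) = cv (ext α * ext β) (emb (F := k) L z) := by
    simp [psTheta, cv, emb_pow]
  rw [e, cv_one, cv_inv]
  field_simp [cv_ne_zero]

theorem ds_spec (θ : Lˣ →* ℂˣ) (h : ∃ l, θ (l ^ (-(qq : ℤ))) ≠ θ l) :
    SgnIrr (Cfsg.GU 2 L qq) (desc hL hodd (dsUp θ)) ∧
    ∀ γ, desc hL hodd (dsUp θ) (Psi hL hodd γ) = cv θ γ.1.1 * vI (θ.comp (emb (F := k) L)) 1 γ.1.2 := by
  refine desc_spec hL hodd (sgn_tens hL _ (Or.inl (isIrr_vI L hL (ds_ne_one hL h)))) fun z => ?_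
  simp only [dsUp, tens]
  rw [kz_fst, kz_snd, OneMemClass.coe_one, Prod.snd_one, Prod.fst_one, ← sc_one, vI_sc, vI_sc, cv_inv]
  simp [cv]
  field_simp

/-! ### The torus coming from `ell` -/

/-- `(c, l)` with `(c l)^(q+1) = 1`. -/
noncomputable abbrev TT : Subgroup (Lˣ × Lˣ) :=
  ((powMonoidHom (qq + 1) : Lˣ →* Lˣ).comp (MonoidHom.fst Lˣ Lˣ * MonoidHom.snd Lˣ Lˣ)).ker

theorem mem_TT {p : Lˣ × Lˣ} : p ∈ (TT (k := k) (L := L)) ↔ (p.1 * p.2) ^ (qq + 1) = 1 := by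
  simp [TT, MonoidHom.mem_ker]

/-- The two eigenvalues. -/
noncomputable def chi (hL : Module.finrank k L = 2) : TT (k := k) (L := L) →* AA × AA :=
  MonoidHom.prod
    (((MonoidHom.fst Lˣ Lˣ * MonoidHom.snd Lˣ Lˣ).comp TT.subtype).codRestrict AA fun p =>
      mem_AA.2 (mem_TT.1 p.2))
    (((MonoidHom.fst Lˣ Lˣ * (powMonoidHom qq).comp (MonoidHom.snd Lˣ Lˣ)).comp TT.subtype).codRestrict AA fun p =>
      mem_AA.2 (by
        have h := mem_TT.1 p.2
        rw [mul_pow] at h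
        simp only [MonoidHom.comp_apply, Subgroup.coe_subtype, MonoidHom.mul_apply, MonoidHom.coe_fst,
          MonoidHom.coe_snd, powMonoidHom_apply]
        rw [mul_pow, pow_succ (_ ^ qq), pow_qq_pow_qq hL, ← pow_succ', h]))

theorem chi_fst (p : TT (k := k) (L := L)) : (((chi hL p).1 : AA) : Lˣ) = p.1.1 * p.1.2 := rfl

theorem chi_snd (p : TT (k := k) (L := L)) : (((chi hL p).2 : AA) : Lˣ) = p.1.1 * p.1.2 ^ qq := rfl

theorem chi_surjective : Function.Surjective (chi (k := k) (L := L) hL) := by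
  rintro ⟨a, b⟩
  obtain ⟨l, hl⟩ := exists_unit_root (k := k) hL (mem_AA.1 (b / a).2)
  refine ⟨⟨((a : Lˣ) / l, l), mem_TT.2 (by simpa using mem_AA.1 a.2)⟩, Prod.ext (Subtype.ext ?_) (Subtype.ext ?_)⟩
  · rw [chi_fst]; exact div_mul_cancel (a : Lˣ) l
  · rw [chi_snd]
    show (a : Lˣ) / l * l ^ qq = b
    have e : l ^ qq = l ^ (qq - 1) * l := by rw [← pow_succ, Nat.sub_add_cancel Fintype.card_pos]
    rw [e, hl, Subgroup.coe_div]
    calc (a : Lˣ) / l * ((b : Lˣ) / a * l) = ((a : Lˣ) / l * l) * ((b : Lˣ) / a) := by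
          rw [mul_comm ((b : Lˣ) / a) l, mul_assoc]
      _ = b := by rw [div_mul_cancel, mul_div_cancel]

/-- `(c, l) ↦ (c, ell l)`. -/
noncomputable def lift : TT (k := k) (L := L) →* Gam k L :=
  (((MonoidHom.id Lˣ).prodMap (ell (F := k) L hL)).comp TT.subtype).codRestrict _ fun p => by
    obtain ⟨⟨c, l⟩, h⟩ := p
    show (c, ell L hL l) ∈ Gam k L
    rw [mem_Gam, emb_detu_ell hL, ← mul_pow]
    exact mem_TT.1 h

theorem chi_ker_le : (chi (k := k) (L := L) hL).ker ≤ ((Psi hL hodd).comp (lift hL)).ker := by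
  intro p hp
  rw [MonoidHom.mem_ker] at hp ⊢
  have h1 : p.1.1 * p.1.2 = 1 := by rw [← chi_fst hL, hp]; rfl
  have h2 : p.1.1 * p.1.2 ^ qq = 1 := by rw [← chi_snd hL, hp]; rfl
  rw [MonoidHom.comp_apply, Psi_eq_one]
  obtain ⟨z, hz⟩ : p.1.2 ∈ (emb (F := k) L).range := by
    by_contra hn
    exact pow_card_notMem L hn (mul_left_cancel (h2.trans h1.symm))
  exact ⟨z, by show ell L hL p.1.2 = _; rw [← hz, ell_emb], by show p.1.1 * _ = _; rw [hz, h1]⟩

/-- The split torus of `GU(2, q)`. -/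
noncomputable def DD : AA × AA →* Cfsg.GU 2 L qq :=
  (chi (k := k) (L := L) hL).liftOfSurjective (chi_surjective hL) ⟨_, chi_ker_le hL hodd⟩

theorem DD_chi (p : TT (k := k) (L := L)) : DD hL hodd (chi hL p) = Psi hL hodd (lift hL p) :=
  MonoidHom.liftOfRightInverse_comp_apply _ _ (Function.rightInverse_surjInv (chi_surjective hL))
    ⟨_, chi_ker_le hL hodd⟩ p

theorem mem_self (a : AA) : ((a : Lˣ), (1 : GL (Fin 2) k)) ∈ Gam k L := by
  rw [mem_Gam, map_one, map_one, mul_one]; exact mem_AA.1 a.2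

theorem DD_self (a : AA) : DD hL hodd (a, a) = Psi hL hodd ⟨_, mem_self a⟩ := by
  have h : chi (k := k) hL ⟨((a : Lˣ), 1), mem_TT.2 (by simpa using mem_AA.1 a.2)⟩ = (a, a) :=
    Prod.ext (Subtype.ext (by rw [chi_fst]; exact mul_one _))
      (Subtype.ext (by rw [chi_snd]; simp))
  rw [← h, DD_chi]
  exact congrArg _ (Subtype.ext (Prod.ext rfl (map_one (ell L hL))))

theorem exists_rep {a b : AA} : ∃ p : TT (k := k) (L := L), chi hL p = (a, b) ∧
    (a ≠ b → p.1.2 ∉ (emb (F := k) L).range) := by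
  obtain ⟨p, hp⟩ := chi_surjective (k := k) hL (a, b)
  refine ⟨p, hp, fun h ⟨z, hz⟩ => h (Subtype.ext ?_)⟩
  rw [show a = (chi hL p).1 by rw [hp], show b = (chi hL p).2 by rw [hp], chi_fst, chi_snd, ← hz, emb_pow]

theorem DD_injective : Function.Injective (DD hL hodd) := by
  refine (injective_iff_map_eq_one _).2 fun x hx => ?_
  obtain ⟨p, rfl⟩ := chi_surjective (k := k) hL x
  rw [DD_chi, Psi_eq_one] at hx
  obtain ⟨z, h1, h2⟩ := hx
  have hl : p.1.2 = emb (F := k) L z := ell_injective L hL (by rw [ell_emb]; exact h1)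
  change p.1.1 * emb (F := k) L z = 1 at h2
  refine Prod.ext (Subtype.ext ?_) (Subtype.ext ?_)
  · rw [chi_fst, hl]; exact h2
  · rw [chi_snd, hl, emb_pow]; exact h2

/-! ### The other torus and the unipotent classes -/

/-- `l ↦ (l, diag(1, N(l)⁻¹))`. -/
noncomputable def eUp : Lˣ →* Gam k L :=
  ((MonoidHom.id Lˣ).prod (diHom.comp ((1 : Lˣ →* kˣ).prod (detu.comp (ell (F := k) L hL))⁻¹))).codRestrict _
    fun l => by
    show (l, di 1 (detu (ell L hL l))⁻¹) ∈ Gam k L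
    rw [mem_Gam, detu_eq (g := di 1 (detu (ell L hL l))⁻¹) (w := (detu (ell L hL l))⁻¹) (by simp [dt_di]),
      map_inv, emb_detu_ell hL, mul_inv_cancel]

theorem eUp_snd (l : Lˣ) : (eUp (k := k) hL l).1.2 = di 1 (detu (ell (F := k) L hL l))⁻¹ := rfl

theorem norm_ne_one {l : Lˣ} (hl : l ∉ AA) : (1 : kˣ) ≠ (detu (ell (F := k) L hL l))⁻¹ := fun h => by
  refine hl (mem_AA.2 ?_)
  rw [← emb_detu_ell hL, inv_eq_one.1 h.symm, map_one]

/-- The determinant. -/
noncomputable def dtUp : Gam k L →* AA :=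
  ((MonoidHom.fst Lˣ (GL (Fin 2) k) * MonoidHom.fst Lˣ (GL (Fin 2) k) *
    ((emb (F := k) L).comp detu).comp (MonoidHom.snd Lˣ (GL (Fin 2) k))).comp (Gam k L).subtype).codRestrict AA
    fun γ => mem_AA.2 (by
      obtain ⟨⟨c, h⟩, hm⟩ := γ
      show (c * c * emb L (detu h)) ^ (qq + 1) = 1
      have h' := mem_Gam.1 hm
      rw [mul_pow, mul_pow, pow_succ (emb L (detu h)), emb_pow]
      calc c ^ (qq + 1) * c ^ (qq + 1) * (emb L (detu h) * emb L (detu h))
          = (c ^ (qq + 1) * emb L (detu h)) * (c ^ (qq + 1) * emb L (detu h)) := mul_mul_mul_comm _ _ _ _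
        _ = 1 := by rw [h', one_mul])

theorem dtUp_val (γ : Gam k L) : ((dtUp γ : AA) : Lˣ) = γ.1.1 * γ.1.1 * emb (F := k) L (detu γ.1.2) := rfl

theorem ker_le_dtUp : (Psi hL hodd).ker ≤ (dtUp (k := k) (L := L)).ker := by
  intro γ hγ
  rw [MonoidHom.mem_ker, Psi_eq_one] at hγ
  obtain ⟨z, h1, h2⟩ := hγ
  refine MonoidHom.mem_ker.2 (Subtype.ext ?_)
  rw [dtUp_val, h1, detu_eq (w := z * z) (by simp [dt_sc]), map_mul, mul_mul_mul_comm, h2, one_mul]
  rfl

/-- The determinant on `GU(2, q)`. -/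
noncomputable def DT : Cfsg.GU 2 L qq →* AA :=
  (Psi hL hodd).liftOfSurjective (Psi_surjective hL hodd) ⟨_, ker_le_dtUp hL hodd⟩

theorem DT_Psi (γ : Gam k L) : DT hL hodd (Psi hL hodd γ) = dtUp γ :=
  MonoidHom.liftOfRightInverse_comp_apply _ _ (Function.rightInverse_surjInv (Psi_surjective hL hodd))
    ⟨_, ker_le_dtUp hL hodd⟩ γ

theorem mem_un (a : AA) : ((a : Lˣ), un (1 : kˣ)) ∈ Gam k L := by
  rw [mem_Gam, detu_eq (w := (1 : kˣ)) (by simp [dt_un]), map_one, mul_one]; exact mem_AA.1 a.2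

/-- A scalar times a transvection. -/
noncomputable def UU (a : AA) : Cfsg.GU 2 L qq := Psi hL hodd ⟨_, mem_un a⟩

theorem Psi_shift {c : Lˣ} {h : GL (Fin 2) k} (hm : (c, h) ∈ Gam k L) (z : kˣ) :
    ∃ hm' : (c * emb (F := k) L z, (sc z)⁻¹ * h) ∈ Gam k L, Psi hL hodd ⟨_, hm'⟩ = Psi hL hodd ⟨_, hm⟩ := by
  have e : (c * emb (F := k) L z, (sc z)⁻¹ * h) = ((kz (L := L) hL hodd z)⁻¹ * ⟨_, hm⟩ : Gam k L).1 := by
    refine Prod.ext ?_ rfl
    show c * emb L z = ((emb (F := k) L z)⁻¹)⁻¹ * c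
    rw [inv_inv, mul_comm]
  have hm' : (c * emb (F := k) L z, (sc z)⁻¹ * h) ∈ Gam k L := e ▸ SetLike.coe_mem _
  refine ⟨hm', ?_⟩
  rw [show (⟨_, hm'⟩ : Gam k L) = (kz (L := L) hL hodd z)⁻¹ * ⟨_, hm⟩ from Subtype.ext e, map_mul, map_inv]
  rw [(Psi_eq_one hL hodd).2 ⟨z, rfl, inv_mul_cancel _⟩, inv_one, one_mul]

theorem scalar_eq {c : Lˣ} {z : kˣ} (hm : (c, sc z) ∈ Gam k L) :
    ∃ a : AA, Psi hL hodd ⟨_, hm⟩ = DD hL hodd (a, a) := by
  obtain ⟨hm', e⟩ := Psi_shift hL hodd hm z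
  have ha : c * emb (F := k) L z ∈ AA := mem_AA.2 (by
    have := mem_Gam.1 hm'
    rwa [inv_mul_cancel, map_one, map_one, mul_one] at this)
  refine ⟨⟨_, ha⟩, ?_⟩
  rw [DD_self, ← e]
  exact congrArg _ (Subtype.ext (Prod.ext rfl (inv_mul_cancel _)))

theorem cover (g : Cfsg.GU 2 L qq) :
    (∃ a, IsConj (UU hL hodd a) g) ∨ (∃ p, IsConj (DD hL hodd p) g) ∨
      ∃ l, l ∉ AA ∧ IsConj (Psi hL hodd (eUp hL l)) g := by
  obtain ⟨⟨⟨c, h⟩, hm⟩, rfl⟩ := Psi_surjective hL hodd g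
  rcases cases L hL h with ⟨z, rfl⟩ | ⟨z, hz⟩ | ⟨x, y, hxy, hz⟩ | ⟨l, hl, hz⟩
  · obtain ⟨a, ha⟩ := scalar_eq hL hodd hm
    exact Or.inr (Or.inl ⟨(a, a), ha ▸ IsConj.refl _⟩)
  · obtain ⟨hm1, hc1⟩ := exists_lift_conj hL hodd hm hz.symm
    obtain ⟨hm2, e2⟩ := Psi_shift hL hodd hm1 z
    have hcon : IsConj ((sc z)⁻¹ * un z) (un 1) := by
      have hval : (((sc z)⁻¹ * un z : GL (Fin 2) k) : Matrix (Fin 2) (Fin 2) k) =
          !![1, ((z⁻¹ : kˣ) : k); 0, 1] := by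
        rw [show (sc z : GL (Fin 2) k)⁻¹ = sc z⁻¹ from inv_eq_of_mul_eq_one_right (by
          rw [← di_self, ← di_self, ← di_mul, mul_inv_cancel, di_one]), Matrix.GeneralLinearGroup.coe_mul,
          sc_val, un_val]
        ext i j
        fin_cases i <;> fin_cases j <;> simp [Matrix.mul_apply, Fin.sum_univ_two]
      refine (isConj_iff_tr_dt (fun hs => ?_) (not_isSc_un 1)).2 ⟨?_, ?_⟩
      · have := hs.1
        rw [hval] at this
        simp at this
      · rw [tr, hval, tr_un]; simp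
      · rw [dt, hval, dt_un]; simp
    obtain ⟨hm3, hc3⟩ := exists_lift_conj hL hodd hm2 hcon
    have ha : c * emb (F := k) L z ∈ AA := mem_AA.2 (by
      have := mem_Gam.1 hm3
      rwa [detu_eq (w := (1 : kˣ)) (by simp [dt_un]), map_one, mul_one] at this)
    exact Or.inl ⟨⟨_, ha⟩, (hc1.trans (e2 ▸ hc3)).symm⟩
  · obtain ⟨hm1, hc1⟩ := exists_lift_conj hL hodd hm hz.symm
    obtain ⟨hm2, e2⟩ := Psi_shift hL hodd hm1 x
    have hsc : (sc x : GL (Fin 2) k)⁻¹ * di x y = di 1 (x⁻¹ * y) := by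
      rw [inv_mul_eq_iff_eq_mul, ← di_self, ← di_mul, mul_one, mul_inv_cancel_left]
    have hn : emb (F := k) L (x⁻¹ * y) = ((c * emb (F := k) L x) ^ (qq + 1))⁻¹ := by
      refine eq_inv_of_mul_eq_one_right ?_
      have := mem_Gam.1 hm2
      rwa [hsc, detu_eq (w := x⁻¹ * y) (by simp [dt_di])] at this
    refine Or.inr (Or.inr ⟨c * emb (F := k) L x, fun hA => hxy ?_, ?_⟩)
    · rw [mem_AA.1 hA, inv_one, ← map_one (emb (F := k) L)] at hn
      exact inv_mul_eq_one.1 (emb_injective L hn)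
    · refine IsConj.symm ?_
      rw [← e2] at hc1
      refine hc1.trans ?_
      have e : (⟨_, hm2⟩ : Gam k L) = eUp hL (c * emb (F := k) L x) := Subtype.ext (Prod.ext rfl ?_)
      · rw [e]
      rw [eUp_snd]
      show (sc x)⁻¹ * di x y = di 1 _
      rw [hsc]
      congr 1
      refine emb_injective (F := k) L ?_
      rw [hn, map_inv, emb_detu_ell hL]
  · obtain ⟨hm1, hc1⟩ := exists_lift_conj hL hodd hm hz.symm
    have hT : (c, l) ∈ TT (k := k) (L := L) := mem_TT.2 (by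
      have := mem_Gam.1 hm1
      rwa [emb_detu_ell hL, ← mul_pow] at this)
    exact Or.inr (Or.inl ⟨chi hL ⟨_, hT⟩, by rw [DD_chi]; exact hc1.symm⟩)

theorem central {g : Cfsg.GU 2 L qq} (hg : g ∈ Subgroup.center (Cfsg.GU 2 L qq)) :
    ∃ a, g = DD hL hodd (a, a) := by
  obtain ⟨⟨⟨c, h⟩, hm⟩, rfl⟩ := Psi_surjective hL hodd g
  have hh : h ∈ Subgroup.center (GL (Fin 2) k) := Subgroup.mem_center_iff.2 fun x => by
    obtain ⟨γ, hγ⟩ := pr_surjective (L := L) hL x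
    have h1 : Psi hL hodd ((γ * ⟨_, hm⟩) * (⟨_, hm⟩ * γ)⁻¹) = 1 := by
      rw [map_mul, map_inv, map_mul, map_mul, Subgroup.mem_center_iff.1 hg, mul_inv_cancel]
    rw [Psi_eq_one] at h1
    obtain ⟨z, e1, e2⟩ := h1
    change γ.1.1 * c * (c * γ.1.1)⁻¹ * emb (F := k) L z = 1 at e2
    rw [mul_comm c, mul_inv_cancel, one_mul, ← map_one (emb (F := k) L)] at e2
    rw [emb_injective L e2] at e1
    change γ.1.2 * h * (h * γ.1.2)⁻¹ = sc 1 at e1
    rw [show γ.1.2 = x from hγ, sc_one, mul_inv_eq_one] at e1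
    exact e1
  obtain ⟨z, rfl⟩ := center_eq_sc (two_ne_zero_of_odd hodd) hh
  exact scalar_eq hL hodd hm

theorem DD_center (a : AA) : DD hL hodd (a, a) ∈ Subgroup.center (Cfsg.GU 2 L qq) := by
  rw [DD_self, Subgroup.mem_center_iff]
  intro g
  obtain ⟨γ, rfl⟩ := Psi_surjective hL hodd g
  rw [← map_mul, ← map_mul]
  exact congrArg _ (Subtype.ext (Prod.ext (mul_comm _ _) ((mul_one _).trans (one_mul _).symm)))

theorem card_class (a b : AA) (hab : a ≠ b) :
    (Nat.card {g : Cfsg.GU 2 L qq // IsConj (DD hL hodd (a, b)) g} : ℤ) = -(qq : ℤ) * (-(qq : ℤ) + 1) := by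
  obtain ⟨p, hp, hl⟩ := exists_rep (k := k) (a := a) (b := b) hL
  have hl := hl hab
  rw [← hp, DD_chi]
  have hmem : ∀ h : {h : GL (Fin 2) k // IsConj (ell L hL p.1.2) h}, (p.1.1, h.1) ∈ Gam k L := fun h =>
    (exists_lift_conj hL hodd (lift hL p).2 h.2).1
  have e : {h : GL (Fin 2) k // IsConj (ell L hL p.1.2) h} ≃
      {g : Cfsg.GU 2 L qq // IsConj (Psi hL hodd (lift hL p)) g} :=
    Equiv.ofBijective (fun h => ⟨Psi hL hodd ⟨_, hmem h⟩,
      (exists_lift_conj hL hodd (lift hL p).2 h.2).2⟩) ⟨fun h h' e => ?_, fun g => ?_⟩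
  · rw [← Nat.card_congr e]
    have h1 := classSize_ell (F := k) L hL hl
    have h2 : (Nat.card {h : GL (Fin 2) k // IsConj (ell L hL p.1.2) h} : ℤ) = (qq : ℤ) * ((qq : ℤ) - 1) := by
      exact_mod_cast h1
    rw [h2]; ring
  · have e1 : Psi hL hodd ⟨_, hmem h⟩ = Psi hL hodd ⟨_, hmem h'⟩ := congrArg Subtype.val e
    have e2 : Psi hL hodd ((⟨_, hmem h⟩ : Gam k L)⁻¹ * ⟨_, hmem h'⟩) = 1 := by
      rw [map_mul, map_inv, e1, inv_mul_cancel]
    rw [Psi_eq_one] at e2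
    obtain ⟨z, e3, e4⟩ := e2
    change p.1.1⁻¹ * p.1.1 * emb (F := k) L z = 1 at e4
    rw [inv_mul_cancel, one_mul, ← map_one (emb (F := k) L)] at e4
    rw [emb_injective L e4, sc_one] at e3
    exact Subtype.ext (inv_mul_eq_one.1 e3)
  · obtain ⟨g, hg⟩ := g
    obtain ⟨d, rfl⟩ := isConj_iff.1 hg
    obtain ⟨γ, rfl⟩ := Psi_surjective hL hodd d
    refine ⟨⟨γ.1.2 * ell L hL p.1.2 * γ.1.2⁻¹, isConj_iff.2 ⟨_, rfl⟩⟩, Subtype.ext ?_⟩
    show Psi hL hodd _ = Psi hL hodd γ * Psi hL hodd (lift hL p) * (Psi hL hodd γ)⁻¹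
    simp only [← map_inv, ← map_mul]
    exact congrArg _ (Subtype.ext (Prod.ext (show p.1.1 = γ.1.1 * p.1.1 * γ.1.1⁻¹ by
      rw [mul_comm γ.1.1, mul_inv_cancel_right]) rfl))

theorem DD_swap (a b : AA) : IsConj (DD hL hodd (a, b)) (DD hL hodd (b, a)) := by
  rcases eq_or_ne a b with rfl | hab
  · exact IsConj.refl _
  obtain ⟨p, hp, hl⟩ := exists_rep (k := k) (a := a) (b := b) hL
  have hl := hl hab
  obtain ⟨hm, hc⟩ := exists_lift_conj hL hodd (lift hL p).2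
    ((isConj_ell L hL hl (pow_card_notMem_range L hL hl)).2 (Or.inr rfl))
  have hT : (p.1.1, p.1.2 ^ qq) ∈ TT (k := k) (L := L) := mem_TT.2 (by
    have := mem_Gam.1 hm
    rwa [emb_detu_ell hL, ← mul_pow] at this)
  have hp' : chi hL ⟨_, hT⟩ = (b, a) := by
    refine Prod.ext (Subtype.ext ?_) (Subtype.ext ?_)
    · rw [chi_fst, show b = (chi hL p).2 by rw [hp], chi_snd]
    · rw [chi_snd, show a = (chi hL p).1 by rw [hp], chi_fst, pow_qq_pow_qq hL]
  rw [← hp, ← hp', DD_chi, DD_chi]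
  exact hc

/-- The table of `GU(2, q)`. -/
noncomputable def tblGU : Tbl (Cfsg.GU 2 L qq) Lˣ (-(qq : ℤ)) where
  cyc := inferInstance
  card := by
    rw [Nat.card_units, card_K L hL, Nat.cast_sub (Nat.one_le_pow 2 _ Fintype.card_pos)]
    push_cast
    ring
  odd := (show Odd (qq : ℤ) by exact_mod_cast hodd).neg
  big := by
    have h1 := Fintype.one_lt_card (α := k)
    obtain ⟨j, hj⟩ := hodd
    rw [Int.natAbs_neg, Int.natAbs_natCast]
    omega
  D := DD hL hodd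
  U := UU hL hodd
  E := (Psi hL hodd).comp (eUp hL)
  dt := DT hL hodd
  D_inj := DD_injective hL hodd
  E_inj := by
    refine (injective_iff_map_eq_one _).2 fun l h => ?_
    rw [MonoidHom.comp_apply, Psi_eq_one] at h
    obtain ⟨z, h1, h2⟩ := h
    rw [eUp_snd] at h1
    obtain ⟨h3, -⟩ := di_inj h1
    change l * emb (F := k) L z = 1 at h2
    rwa [← h3, map_one, mul_one] at h2
  E_eq a := by
    rw [DD_self, MonoidHom.comp_apply]
    refine congrArg _ (Subtype.ext (Prod.ext rfl ?_))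
    rw [eUp_snd]
    have : detu (ell (F := k) L hL (a : Lˣ)) = 1 :=
      emb_injective (F := k) L (by rw [emb_detu_ell hL, mem_AA.1 a.2, map_one])
    rw [this, inv_one, di_one]
  U_pow a := by
    refine ⟨qq, hodd, ?_⟩
    rw [DD_self, UU, ← map_pow]
    refine congrArg _ (Subtype.ext (Prod.ext rfl ?_))
    refine Units.ext ?_
    show ((un (1 : kˣ) ^ qq : GL (Fin 2) k) : Matrix (Fin 2) (Fin 2) k) = 1
    rw [un_pow, Nat.cast_card_eq_zero, zero_mul, Units.val_one, one_pow]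
    exact Matrix.one_fin_two.symm
  U_sq a h := by
    rw [UU, ← map_mul, Psi_eq_one] at h
    obtain ⟨z, h1, -⟩ := h
    have h' := congrArg (fun g : GL (Fin 2) k => (g : Matrix (Fin 2) (Fin 2) k) 0 1) h1
    simp [Matrix.mul_apply, Fin.sum_univ_two] at h'
    exact two_ne_zero_of_odd hodd (by linear_combination h')
  D_swap := DD_swap hL hodd
  cover := cover hL hodd
  central _ h := central hL hodd h
  D_center := DD_center hL hodd
  card_class := card_class hL hodd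
  dt_D a b := by
    obtain ⟨p, hp, -⟩ := exists_rep (k := k) (a := a) (b := b) hL
    rw [← hp, DD_chi, DT_Psi]
    refine Subtype.ext ?_
    rw [Subgroup.coe_mul, show a = (chi hL p).1 by rw [hp], show b = (chi hL p).2 by rw [hp], chi_fst, chi_snd,
      dtUp_val]
    show p.1.1 * p.1.1 * emb L (detu (ell L hL p.1.2)) = _
    rw [emb_detu_ell hL, pow_succ', mul_mul_mul_comm]
  dt_U a := by
    rw [UU, DT_Psi]
    refine Subtype.ext ?_
    rw [dtUp_val]
    show (a : Lˣ) * a * emb L (detu (un 1)) = _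
    rw [detu_eq (w := (1 : kˣ)) (by simp [dt_un]), map_one, mul_one]
    rfl
  dt_E l := by
    rw [MonoidHom.comp_apply, DT_Psi, dtUp_val, eUp_snd]
    show l * l * emb L (detu (di 1 _)) = _
    rw [detu_eq (w := (detu (ell (F := k) L hL l))⁻¹) (by simp [dt_di]), map_inv, emb_detu_ell hL, zpow_neg_qq,
      pow_succ', mul_inv]
    rw [mul_assoc, ← mul_assoc l l⁻¹, mul_inv_cancel, one_mul]
  St := desc hL hodd stUp
  St_irr := (st_spec hL hodd).1
  St_sc a := by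
    rw [DD_self, (st_spec hL hodd).2]
    show -vS (1 : GL (Fin 2) k) = _
    rw [← sc_one, vS_sc]; push_cast; rfl
  St_D a b h := by
    obtain ⟨p, hp, hl⟩ := exists_rep (k := k) (a := a) (b := b) hL
    rw [← hp, DD_chi, (st_spec hL hodd).2]
    show -vS (ell L hL p.1.2) = _
    rw [vS_ell L hL (hl h), neg_neg]
  St_U a := by
    rw [UU, (st_spec hL hodd).2]
    show -vS (un 1) = _
    rw [vS_un, neg_zero]
  St_E l hl := by
    rw [MonoidHom.comp_apply, (st_spec hL hodd).2, eUp_snd, vS_di (norm_ne_one hL hl)]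
  PS α β := desc hL hodd (psUp hL α β)
  PS_irr α β h := (ps_spec hL hodd α β h).1
  PS_sc α β a h := by
    rw [DD_self, (ps_spec hL hodd α β h).2]
    show cv (ext α * ext β) (a : Lˣ) * -vD L hL _ (1 : GL (Fin 2) k) = _
    rw [vD_one, Nat.cast_sub Fintype.card_pos]
    simp [cv, ext_apply]
    ring
  PS_D α β a b h hab := by
    obtain ⟨p, hp, hl⟩ := exists_rep (k := k) (a := a) (b := b) hL
    rw [← hp, DD_chi, (ps_spec hL hodd α β h).2]
    show cv (ext α * ext β) p.1.1 * -vD L hL _ (ell L hL p.1.2) = _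
    rw [vD_ell L hL _ (hl hab), neg_neg, show a = (chi hL p).1 by rw [hp], show b = (chi hL p).2 by rw [hp]]
    simp only [cv, ← ext_apply, chi_fst, chi_snd, psTheta, MonoidHom.mul_apply, MonoidHom.comp_apply,
      powMonoidHom_apply, map_mul, Units.val_mul, pow_qq_pow_qq hL]
    ring
  PS_U α β a h := by
    rw [UU, (ps_spec hL hodd α β h).2]
    show cv (ext α * ext β) (a : Lˣ) * -vD L hL _ (un (1 : kˣ)) = _
    rw [vD_un, neg_neg, map_one]
    simp [cv, ext_apply]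
  PS_E α β l h hl := by
    rw [MonoidHom.comp_apply, (ps_spec hL hodd α β h).2, eUp_snd, vD_di L hL _ (norm_ne_one hL hl), neg_zero,
      mul_zero]
  DS θ := desc hL hodd (dsUp θ)
  DS_irr θ h := (ds_spec hL hodd θ h).1
  DS_sc θ a h := by
    rw [DD_self, (ds_spec hL hodd θ h).2]
    show cv θ (a : Lˣ) * vI _ _ (1 : GL (Fin 2) k) = _
    rw [← sc_one, vI_sc]
    simp [cv]
    ring
  DS_D θ a b h hab := by
    obtain ⟨p, hp, hl⟩ := exists_rep (k := k) (a := a) (b := b) hL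
    rw [← hp, DD_chi, (ds_spec hL hodd θ h).2]
    show cv θ p.1.1 * vI _ _ (ell L hL p.1.2) = _
    rw [vI_ell L hL _ _ (hl hab), mul_zero]
  DS_U θ a h := by
    rw [UU, (ds_spec hL hodd θ h).2]
    show cv θ (a : Lˣ) * vI _ _ (un (1 : kˣ)) = _
    rw [vI_un]
    simp [cv]
  DS_E θ l h hl := by
    rw [MonoidHom.comp_apply, (ds_spec hL hodd θ h).2, eUp_snd, vI_di _ _ (norm_ne_one hL hl)]
    show cv θ l * _ = _
    simp only [cv, MonoidHom.comp_apply, map_inv, emb_detu_ell hL, MonoidHom.one_apply, map_one, Units.val_one,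
      mul_one, zpow_neg_qq, Units.val_inv_eq_inv_val, one_mul, pow_succ', map_mul, Units.val_mul]
    field_simp
    try ring

end Cfsg.Agent.Invol.BrauerL3.GU

namespace Cfsg.Agent.Invol.BrauerL3

open Cfsg Cfsg.Agent.Invol.BrauerL3.GU Cfsg.Agent.Block.SL2Char

universe u v

variable {F : Type u} [Field F] [Fintype F]

/-- A table of `GU(2, q)` exists. -/
theorem exists_tblGU {q : ℕ} (hF : Fintype.card F = q ^ 2) (hodd : Odd q) :
    ∃ (K : Type u) (_ : CommGroup K), Nonempty (Tbl (Cfsg.GU 2 F q) K (-(q : ℤ))) := by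
  classical
  obtain ⟨p, hp⟩ := CharP.exists F
  obtain ⟨n, hpp, hn⟩ := FiniteField.card F p
  haveI := Fact.mk hpp
  obtain ⟨m, -, hm⟩ := (Nat.dvd_prime_pow hpp).1 (show q ∣ p ^ (n : ℕ) from hn ▸ hF ▸ dvd_pow_self q two_ne_zero)
  have hm0 : m ≠ 0 := fun h => by
    have := Classical.two_le_q hF
    rw [hm, h, pow_zero] at this
    omega
  haveI : Fintype (GaloisField p m) := Fintype.ofFinite _
  have hk : Fintype.card (GaloisField p m) = q := by
    rw [← Nat.card_eq_fintype_card, GaloisField.card p m hm0, hm]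
  obtain ⟨f⟩ := Dickson.exists_ringHom_of_card_pow (K := GaloisField p m) (F := F) (m := 2) (by rw [hk, hF])
  letI := f.toAlgebra
  have hL : Module.finrank (GaloisField p m) F = 2 := by
    have h := Module.card_eq_pow_finrank (K := GaloisField p m) (V := F)
    rw [hk, hF] at h
    exact (Nat.pow_right_injective (Classical.two_le_q hF) h).symm
  obtain ⟨T⟩ : Nonempty (Tbl (Cfsg.GU 2 F (Fintype.card (GaloisField p m))) Fˣ
      (-(Fintype.card (GaloisField p m) : ℤ))) := ⟨tblGU hL (by rw [hk]; exact hodd)⟩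
  rw [hk] at T
  exact ⟨Fˣ, inferInstance, ⟨T⟩⟩

/-- `SdFuns` for a quotient of `GU(2, q)` by a central subgroup of odd order, `-q ≡ 3 mod 4`. -/
theorem sdFuns_GU {q : ℕ} (hF : Fintype.card F = q ^ 2) (hq : q % 4 = 1) {C : Type v} [Group C] [Fintype C]
    (π : Cfsg.GU 2 F q →* C) (hπ : Function.Surjective π) (hc : π.ker ≤ Subgroup.center _)
    (ho : Odd (Nat.card π.ker)) (t : C) (ht : orderOf t = 2) (htc : t ∈ Subgroup.center C) :
    Nonempty (SdFuns C (rootSet t) t (-(q : ℤ))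
      (((-(q : ℤ) * (-(q : ℤ) + 1) : ℤ) : ℚ) ^ 2 / Nat.card C)) := by
  classical
  haveI : Fintype (Cfsg.GU 2 F q) := Fintype.ofFinite _
  obtain ⟨K, _, ⟨T⟩⟩ := exists_tblGU hF (by rw [Nat.odd_iff]; omega)
  exact T.sdFuns π (by omega) hπ hc ho t ht htc

/-- `WrFuns` for a quotient of `GU(2, q)` by a central subgroup of odd order, `-q ≡ 1 mod 4`. -/
theorem wrFuns_GU {q : ℕ} (hF : Fintype.card F = q ^ 2) (hq : q % 4 = 3) {r : ℕ} (hr : r.Prime) (hr2 : r ≠ 2)
    (hrq : r ∣ q - 1) {C : Type v} [Group C] [Fintype C]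
    (π : Cfsg.GU 2 F q →* C) (hπ : Function.Surjective π) (hc : π.ker ≤ Subgroup.center _)
    (ho : Odd (Nat.card π.ker)) (t : C) (ht : orderOf t = 2) (htc : t ∈ Subgroup.center C) :
    Nonempty (WrFuns C (rootSetWr t r) t (-(q : ℤ))
      (((-(q : ℤ) * (-(q : ℤ) + 1) : ℤ) : ℚ) ^ 2 / Nat.card C)) := by
  classical
  haveI : Fintype (Cfsg.GU 2 F q) := Fintype.ofFinite _
  obtain ⟨K, _, ⟨T⟩⟩ := exists_tblGU hF (by rw [Nat.odd_iff]; omega)
  refine T.wrFuns π (by omega) hr hr2 ?_ hπ hc ho t ht htc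
  have : (r : ℤ) ∣ ((q - 1 : ℕ) : ℤ) := Int.natCast_dvd_natCast.2 hrq
  rw [Nat.cast_sub (show 1 ≤ q by omega), Nat.cast_one] at this
  rw [show -(q : ℤ) + 1 = -((q : ℤ) - 1) by ring]
  exact dvd_neg.2 this

end Cfsg.Agent.Invol.BrauerL3
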