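import Cfsg.Agent.Lib.Invol.BrauerL3.LocalModel
import Cfsg.Agent.Lib.Invol.BrauerL3.LocalBase
import Cfsg.Agent.Lib.Invol.BrauerL3.TableGL
import Cfsg.Agent.Lib.Invol.BrauerL3.TableGU
import Cfsg.Agent.Lib.Invol.TwoSylowGLTwo

/-!
# The frames of quotients of `GL(2, q)` and `GU(2, q)`
-/

set_option autoImplicit false

namespace Cfsg.Agent.Invol.BrauerL3

open Matrix
open Cfsg.Agent.Block.SL2Char (un un_val)
open TwoSylowGLTwo (dia dia_val swap swap_val)

universe u v w x

section Tables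

variable {H : Type u} [Group H] {K : Type v} [CommGroup K] {Q : ℤ} (T : Tbl H K Q)

include T in
theorem invol_of_tbl {g h : H} (hg : g * g = 1) (hgc : g ∉ Subgroup.center H) (hh : h * h = 1)
    (hhc : h ∉ Subgroup.center H) : IsConj g h := by
  obtain ⟨e, -, -, heu, -⟩ := T.exists_e
  have key : ∀ g : H, g * g = 1 → g ∉ Subgroup.center H → IsConj (T.D (1, e)) g := fun g hg hgc => by
    refine (T.invol_cases heu (orderOf_eq_prime (by rw [sq, hg]) fun h => hgc (by rw [h]; exact one_mem _))).resolve_left ?_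
    rintro rfl
    exact hgc (T.D_center e)
  exact (key g hg hgc).symm.trans (key h hh hhc)

include T in
theorem ell_of_tbl {l : ℕ} (hl : l.Prime) (hlQ : (l : ℤ) ∣ Q + 1) : ∃ g : H, orderOf g = l := by
  have := Fact.mk hl
  have := T.finiteK
  obtain ⟨x, hx⟩ := exists_prime_orderOf_dvd_card' (G := K) l (by
    rw [← Int.natCast_dvd_natCast, T.card, show Q ^ 2 - 1 = (Q + 1) * (Q - 1) by ring]
    exact hlQ.mul_right _)
  exact ⟨T.E x, by rw [orderOf_injective T.E T.E_inj, hx]⟩

end Tables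

theorem coprime_sub {l : ℕ} {Q : ℤ} (hl : l.Prime) (hl2 : l ≠ 2) (h : (l : ℤ) ∣ Q + 1) :
    l.Coprime (Q - 1).natAbs :=
  hl.coprime_iff_not_dvd.2 fun hd => hl2 (by
    have h3 := dvd_sub h (Int.natCast_dvd.2 hd)
    rw [show Q + 1 - (Q - 1) = 2 by ring] at h3
    exact (Nat.prime_dvd_prime_iff_eq hl Nat.prime_two).1 (by exact_mod_cast h3))

theorem coprime_char {l p : ℕ} {Q : ℤ} (hl : l.Prime) (hp : p.Prime) (h : (l : ℤ) ∣ Q + 1) (hpQ : (p : ℤ) ∣ Q) :
    l.Coprime p :=
  (Nat.coprime_primes hl hp).2 fun e => by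
    subst e
    have h3 := dvd_sub h hpQ
    rw [show Q + 1 - Q = 1 by ring] at h3
    exact hl.one_lt.ne' (Nat.dvd_one.1 (by exact_mod_cast h3))

section LinearModel

variable {F : Type u} [Field F] [Fintype F]

/-- The model of `GL(2, q)`. -/
theorem matModel_GL (hF : Odd (Fintype.card F)) :
    ∃ p : ℕ, Nonempty (MatModel (GL (Fin 2) F) F p (Fintype.card F : ℤ)) := by
  classical
  obtain ⟨p, hp⟩ := CharP.exists F
  obtain ⟨n, hpp, hn⟩ := FiniteField.card F p
  obtain ⟨K, _, ⟨T⟩⟩ := exists_tblGL (F := F) hF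
  have h2 := two_ne_zero_of_odd hF
  have hpQ : (p : ℤ) ∣ (Fintype.card F : ℤ) := by
    rw [hn]; push_cast; exact dvd_pow_self _ (PNat.ne_zero n)
  have hm : ((Fintype.card F : ℤ) - 1).natAbs = Fintype.card F - 1 := by
    have := Fintype.card_pos (α := F); omega
  refine ⟨p, ⟨⟨MonoidHom.id _, Function.injective_id, h2, hpp, CharP.cast_eq_zero F p, hpQ, dia (1, -1), swap,
    by simp [dia_val], swap_val, ?_, fun g h hg hgc hh hhc => invol_of_tbl T hg hgc hh hhc,
    fun l hl _ hlQ => ell_of_tbl T hl hlQ, ?_, ?_⟩⟩⟩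
  · intro g hc
    rw [MonoidHom.id_apply] at hc ⊢
    have hd : (g : Matrix (Fin 2) (Fin 2) F) 0 0 * (g : Matrix (Fin 2) (Fin 2) F) 1 1 ≠ 0 := by
      have h := ((Matrix.isUnit_iff_isUnit_det _).1 g.isUnit).ne_zero
      rwa [Matrix.det_fin_two, hc, mul_zero, sub_zero] at h
    rw [hm]
    exact ⟨FiniteField.pow_card_sub_one_eq_one _ (left_ne_zero_of_mul hd),
      FiniteField.pow_card_sub_one_eq_one _ (right_ne_zero_of_mul hd)⟩
  · intro l i g hl hl2 hlQ hg hb
    rw [MonoidHom.id_apply] at hb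
    have hdet : Matrix.GeneralLinearGroup.det g = 1 := by
      have e1 : Matrix.GeneralLinearGroup.det g ^ (Fintype.card F - 1) = 1 :=
        Units.ext (by rw [Units.val_pow_eq_pow_val, Units.val_one]; exact FiniteField.pow_card_sub_one_eq_one _ (Units.ne_zero _))
      have e2 : Matrix.GeneralLinearGroup.det g ^ (l ^ i) = 1 := by rw [← map_pow, ← hg, pow_orderOf_eq_one, map_one]
      have h := pow_gcd_eq_one.2 ⟨e1, e2⟩
      rwa [Nat.Coprime.gcd_eq_one ((coprime_sub hl hl2 hlQ).symm.pow_right i |> (hm ▸ ·)), pow_one] at h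
    have hd1 := congrArg Units.val hdet
    rw [Matrix.GeneralLinearGroup.val_det_apply, Units.val_one, Matrix.det_fin_two] at hd1
    generalize ha : (g : Matrix (Fin 2) (Fin 2) F) 0 0 = a at hd1
    generalize hb' : (g : Matrix (Fin 2) (Fin 2) F) 0 1 = b at hd1 hb
    generalize hc : (g : Matrix (Fin 2) (Fin 2) F) 1 0 = c at hd1
    generalize hd : (g : Matrix (Fin 2) (Fin 2) F) 1 1 = d at hd1
    let v : GL (Fin 2) F := ⟨!![1, 0; (d - a) / b, -1], !![1, 0; (d - a) / b, -1],
      by ext i j; fin_cases i <;> fin_cases j <;> simp, by ext i j; fin_cases i <;> fin_cases j <;> simp⟩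
    have hv : (v : Matrix (Fin 2) (Fin 2) F) = !![1, 0; (d - a) / b, -1] := rfl
    have hk : (d - a) / b * b = d - a := div_mul_cancel₀ _ hb
    refine ⟨v, Units.ext ?_, fun h => ?_, ?_⟩
    · rw [GeneralLinearGroup.coe_mul, hv]; ext i j; fin_cases i <;> fin_cases j <;> simp
    · have h1 := congrArg (fun x : GL (Fin 2) F => (x : Matrix (Fin 2) (Fin 2) F) 0 1)
        (Subgroup.mem_center_iff.1 h swap)
      rw [GeneralLinearGroup.coe_mul, GeneralLinearGroup.coe_mul, swap_val, hv] at h1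
      simp at h1
      exact h2 (by linear_combination -h1)
    · rw [mul_inv_eq_iff_eq_mul, eq_inv_mul_iff_mul_eq]
      refine Units.ext ?_
      rw [GeneralLinearGroup.coe_mul, GeneralLinearGroup.coe_mul, hv,
        Matrix.eta_fin_two (g : Matrix (Fin 2) (Fin 2) F), ha, hb', hc, hd]
      ext i j
      fin_cases i <;> fin_cases j <;> simp
      · linear_combination a * hk + hd1
      · linear_combination b * hk
      · linear_combination c * hk + (d - a) / b * hd1
      · linear_combination d * hk - hd1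
  · have hp2 : Odd p := hF.of_dvd_nat (by rw [hn]; exact dvd_pow_self _ (PNat.ne_zero n))
    have hr : (un (1 : Fˣ) : GL (Fin 2) F) ^ p = 1 := by
      refine Units.ext ?_
      rw [un_pow]
      ext i j
      fin_cases i <;> fin_cases j <;> simp
    refine ⟨un 1, dia (1, -1), fun h => ?_, hp2.of_dvd_nat (orderOf_dvd_of_pow_eq_one hr), ?_⟩
    · have h1 := congrArg (fun x : GL (Fin 2) F => (x : Matrix (Fin 2) (Fin 2) F) 0 1) h
      simp [un_val] at h1
    · rw [mul_inv_eq_iff_eq_mul, eq_inv_mul_iff_mul_eq]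
      refine Units.ext ?_
      rw [GeneralLinearGroup.coe_mul, GeneralLinearGroup.coe_mul, un_val, dia_val]
      ext i j
      fin_cases i <;> fin_cases j <;> simp

end LinearModel

section UnitModel

variable {F : Type u} [Field F] [Fintype F] {q : ℕ}

theorem gu_rels (hF : Fintype.card F = q ^ 2) {g : GL (Fin 2) F} (h : g ∈ Cfsg.GU 2 F q) {a b c d : F}
    (hg : (g : Matrix (Fin 2) (Fin 2) F) = !![a, b; c, d]) :
    a * a ^ q + c * c ^ q = 1 ∧ b * b ^ q + d * d ^ q = 1 ∧ a * b ^ q + c * d ^ q = 0 ∧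
      b * a ^ q + d * c ^ q = 0 := by
  have e := fun u v => h u v
  simp only [Units.coeHom_apply, hg, Cfsg.hermForm] at e
  have e00 := e ![1, 0] ![1, 0]
  have e11 := e ![0, 1] ![0, 1]
  have e01 := e ![1, 0] ![0, 1]
  have e10 := e ![0, 1] ![1, 0]
  have h0q : (0 : F) ^ q = 0 := zero_pow fun h0 => by rw [h0] at hF; simp at hF
  simp [Matrix.mulVec, dotProduct, Fin.sum_univ_two, h0q] at e00 e11 e01 e10
  exact ⟨e00, e11, e01, e10⟩

set_option maxHeartbeats 800000 in
-- the matrix computations are long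
/-- The model of `GU(2, q)`. -/
theorem matModel_GU (hF : Fintype.card F = q ^ 2) (hq : Odd q) :
    ∃ p : ℕ, Nonempty (MatModel (Cfsg.GU 2 F q) F p (-(q : ℤ))) := by
  classical
  obtain ⟨p, hp⟩ := CharP.exists F
  obtain ⟨n, hpp, hn⟩ := FiniteField.card F p
  have := Fact.mk hpp
  obtain ⟨K, _, ⟨T⟩⟩ := exists_tblGU hF hq
  obtain ⟨hq0, h2, hu⟩ := TwoSylowGLTwo.q_facts hF hq
  have hpq : p ∣ q := hpp.dvd_of_dvd_pow (n := 2) (by rw [← hF, hn]; exact dvd_pow_self _ (PNat.ne_zero n))
  have hpQ : (p : ℤ) ∣ -(q : ℤ) := dvd_neg.2 (Int.natCast_dvd_natCast.2 hpq)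
  have hm : (-(q : ℤ) - 1).natAbs = q + 1 := by omega
  have hqq : ∀ x : F, (x ^ q) ^ q = x := fun x => by rw [← pow_mul, ← pow_two, ← hF, FiniteField.pow_card]
  have h0q : (0 : F) ^ q = 0 := zero_pow (by omega)
  have hadd := fun x y : F => Classical.add_pow_q (q := q) hF x y
  have hneg : ∀ x : F, (-x) ^ q = -x ^ q := fun x => hq.neg_pow x
  have hsub : ∀ x y : F, (x - y) ^ q = x ^ q - y ^ q := fun x y => by
    rw [sub_eq_add_neg, hadd, hneg, ← sub_eq_add_neg]
  have h2q : (2 : F) ^ q = 2 := by rw [show (2 : F) = 1 + 1 by norm_num, hadd, one_pow]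
  have memGU := fun (g : GL (Fin 2) F) {a b c d : F} (hg : (g : Matrix (Fin 2) (Fin 2) F) = !![a, b; c, d]) =>
    TwoSylowGLTwo.mem_GU hF hg
  have hdia : dia (1, -1) ∈ Cfsg.GU 2 F q := memGU _ (dia_val _) (by simp [h0q]) (by simp [h0q, hneg])
    (by simp [h0q]) (by simp [h0q])
  have hswap : (swap : GL (Fin 2) F) ∈ Cfsg.GU 2 F q :=
    memGU _ swap_val (by simp [h0q]) (by simp [h0q]) (by simp [h0q]) (by simp [h0q])
  have order : ∀ N, N ∣ (q + 1) * (q - 1) → ∃ z : Fˣ, orderOf z = N := fun N hN =>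
    TwoSylowGLTwo.exists_order (by rw [hu]; exact hN)
  have half : ∀ N, 0 < N → ∀ z : Fˣ, orderOf z = 2 * N → (z : F) ^ N = -1 := by
    intro N hN z hz
    have h1 : ((z : F) ^ N) * ((z : F) ^ N) = 1 := by
      rw [← pow_add, ← two_mul, ← Units.val_pow_eq_pow_val, Units.val_eq_one, ← hz, pow_orderOf_eq_one]
    refine (mul_self_eq_one_iff.1 h1).resolve_left fun h => ?_
    rw [← Units.val_pow_eq_pow_val, Units.val_eq_one, ← orderOf_dvd_iff_pow_eq_one, hz] at h
    have := Nat.le_of_dvd hN h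
    omega
  refine ⟨p, ⟨⟨(Cfsg.GU 2 F q).subtype, Subtype.val_injective, h2, hpp, CharP.cast_eq_zero F p, hpQ,
    ⟨dia (1, -1), hdia⟩, ⟨swap, hswap⟩, by simp [dia_val], swap_val, ?_,
    fun g h hg hgc hh hhc => invol_of_tbl T hg hgc hh hhc, fun l hl _ hlQ => ell_of_tbl T hl hlQ, ?_, ?_⟩⟩⟩
  · rintro ⟨g, hg⟩ hc
    change (g : Matrix (Fin 2) (Fin 2) F) 1 0 = 0 at hc
    obtain ⟨r1, r2, r3, -⟩ := gu_rels hF hg (Matrix.eta_fin_two (g : Matrix (Fin 2) (Fin 2) F))
    rw [hc, zero_mul, add_zero] at r1 r3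
    have hb : (g : Matrix (Fin 2) (Fin 2) F) 0 1 = 0 :=
      eq_zero_of_pow_eq_zero ((mul_eq_zero.1 r3).resolve_left fun h => by rw [h, zero_mul] at r1; exact zero_ne_one r1)
    rw [hb, zero_mul, zero_add] at r2
    rw [hm]
    exact ⟨(pow_succ' _ _).trans r1, (pow_succ' _ _).trans r2⟩
  · rintro l i ⟨g, hg⟩ hl hl2 hlQ hgo hb
    change (g : Matrix (Fin 2) (Fin 2) F) 0 1 ≠ 0 at hb
    rw [Subgroup.orderOf_mk] at hgo
    obtain ⟨a, b, c, d, he⟩ : ∃ a b c d, (g : Matrix (Fin 2) (Fin 2) F) = !![a, b; c, d] :=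
      ⟨_, _, _, _, Matrix.eta_fin_two _⟩
    obtain ⟨r1, r2, r3, r4⟩ := gu_rels hF hg he
    replace hb : b ≠ 0 := by simpa [he] using hb
    have hlc := coprime_sub hl hl2 hlQ
    rw [hm] at hlc
    have hlp := coprime_char hl hpp hlQ hpQ
    have hdet : a * d - b * c = 1 := by
      have e1 : (a * d - b * c) ^ (q + 1) = 1 := by
        rw [pow_succ, hsub, mul_pow, mul_pow]
        linear_combination (b * b ^ q + d * d ^ q) * r1 + r2 - (b * a ^ q + d * c ^ q) * r3
      have e2 : (a * d - b * c) ^ (l ^ i) = 1 := by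
        rw [show a * d - b * c = ((Matrix.GeneralLinearGroup.det g : Fˣ) : F) by
          rw [Matrix.GeneralLinearGroup.val_det_apply, he, Matrix.det_fin_two_of]]
        rw [← Units.val_pow_eq_pow_val, ← map_pow, ← hgo, pow_orderOf_eq_one, map_one, Units.val_one]
      have h := pow_gcd_eq_one.2 ⟨e1, e2⟩
      rwa [(hlc.symm.pow_right i).gcd_eq_one, pow_one] at h
    have had : d = a ^ q := by linear_combination (-d) * r1 + c * r4 + a ^ q * hdet
    have hcq : c ^ q = -b := by linear_combination (-c ^ q) * hdet + a * r4 - b * r1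
    have hc : c = -b ^ q := by rw [← hqq c, hcq, hneg]
    subst had hc
    have hτq : (a + a ^ q) ^ q = a + a ^ q := by rw [hadd, hqq, add_comm]
    have hδq : ((a + a ^ q) * (a + a ^ q) - 4) ^ q = (a + a ^ q) * (a + a ^ q) - 4 := by
      rw [hsub, mul_pow, hτq, show (4 : F) = 2 * 2 by norm_num, mul_pow, h2q]
    have hδ0 : (a + a ^ q) * (a + a ^ q) - 4 ≠ 0 := by
      intro h0
      have : CharP (Matrix (Fin 2) (Fin 2) F) p := inferInstance
      obtain ⟨e, he1, he2⟩ : ∃ e : F, a + a ^ q = 2 * e ∧ e * e = 1 := by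
        refine ⟨(a + a ^ q) / 2, (mul_div_cancel₀ _ h2).symm, ?_⟩
        rw [div_mul_div_comm, div_eq_one_iff_eq (mul_ne_zero h2 h2)]
        linear_combination h0
      have hN : ((g : Matrix (Fin 2) (Fin 2) F) - e • 1) ^ 2 = 0 := by
        rw [he, sq, show e • (1 : Matrix (Fin 2) (Fin 2) F) = !![e, 0; 0, e] by
          ext i j; fin_cases i <;> fin_cases j <;> simp]
        ext i j
        fin_cases i <;> fin_cases j <;> simp [Matrix.mul_apply, Fin.sum_univ_two]
        · linear_combination a * he1 - hdet + he2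
        · linear_combination b * he1
        · linear_combination -b ^ q * he1
        · linear_combination a ^ q * he1 - hdet + he2
      have hpw : (g : Matrix (Fin 2) (Fin 2) F) ^ p = e ^ p • 1 := by
        nth_rewrite 1 [← sub_add_cancel (g : Matrix (Fin 2) (Fin 2) F) (e • 1)]
        rw [add_pow_char_of_commute p ((Commute.one_right _).smul_right e),
          pow_eq_zero_of_le hpp.two_le hN, zero_add, smul_pow, one_pow]
      have h1 : g ^ (p * 2) = 1 := Units.ext (by
        rw [Units.val_pow_eq_pow_val, pow_mul, hpw, smul_pow, one_pow, ← pow_mul, mul_comm p 2, pow_mul, sq, he2,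
          one_pow, one_smul, Units.val_one])
      have h3 := orderOf_dvd_of_pow_eq_one h1
      rw [hgo] at h3
      have h4 := Nat.eq_one_of_dvd_coprimes
        ((hlp.mul_right ((Nat.coprime_primes hl Nat.prime_two).2 hl2)).pow_left i) dvd_rfl h3
      rw [h4, orderOf_eq_one_iff] at hgo
      rw [hgo] at he
      have := congrFun (congrFun he 0) 1
      simp at this
      exact hb this.symm
    obtain ⟨s, hs⟩ : IsSquare ((a + a ^ q) * (a + a ^ q) - 4) := by
      refine (FiniteField.isSquare_iff (fun h => h2 ?_) hδ0).2 ?_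
      · have := ringChar.of_eq h
        exact CharP.cast_eq_zero F 2
      · obtain ⟨k, hk⟩ := hq
        have e : Fintype.card F / 2 = (q - 1) * (k + 1) := by
          rw [hF, hk, show 2 * k + 1 - 1 = 2 * k by omega,
            show (2 * k + 1) ^ 2 = 2 * (2 * k * (k + 1)) + 1 by ring]
          omega
        have e1 : ((a + a ^ q) * (a + a ^ q) - 4) ^ (q - 1) = 1 :=
          mul_left_cancel₀ hδ0 (by rw [← pow_succ', Nat.sub_add_cancel hq0, hδq, mul_one])
        rw [e, pow_mul, e1, one_pow]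
    have hs0 : s ≠ 0 := fun h => hδ0 (by rw [hs, h, mul_zero])
    have hsq : s ^ q = s ∨ s ^ q = -s := mul_self_eq_mul_self_iff.1 (by rw [← mul_pow, ← hs, hδq, hs])
    obtain ⟨N, hN⟩ : ∃ N, b * b ^ q = N := ⟨_, rfl⟩
    have hN0 : N ≠ 0 := hN ▸ mul_ne_zero hb (pow_ne_zero _ hb)
    have hNq : N ^ q = N := by rw [← hN, mul_pow, hqq, mul_comm]
    obtain ⟨X, μ, hX, hμ, hconic⟩ : ∃ X μ : F, X ^ q = X ∧ μ ^ q = μ ∧
        4 * μ * μ * N * N - (s * s) * X * X = 4 * N := by
      rcases hsq with h | h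
      · refine ⟨(N - 1) / s, (N + 1) / (2 * N), by rw [div_pow, hsub, hNq, one_pow, h],
          by rw [div_pow, hadd, hNq, one_pow, mul_pow, h2q, hNq], ?_⟩
        field_simp
        ring
      · refine ⟨(b - b ^ q) / s, (b + b ^ q) / (2 * N), ?_, by rw [div_pow, hadd, hqq, mul_pow, h2q, hNq, add_comm], ?_⟩
        · rw [div_pow, hsub, hqq, h, div_neg, ← neg_div, neg_sub]
        · field_simp
          linear_combination 16 * hN
    obtain ⟨y, hy⟩ : ∃ y, (μ + X * (a - a ^ q) / (2 * N)) * b = y := ⟨_, rfl⟩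
    have hyq : y ^ q = (μ - X * (a - a ^ q) / (2 * N)) * b ^ q := by
      rw [← hy, mul_pow, hadd, div_pow, mul_pow, hX, hμ, hsub, hqq, mul_pow, h2q, hNq]
      ring
    have hnorm : X * X + y * y ^ q = 1 := by
      have e : y * y ^ q = (μ * μ - (X * (a - a ^ q) / (2 * N)) ^ 2) * N := by rw [hyq, ← hy, ← hN]; ring
      rw [e]
      field_simp
      linear_combination hconic - X * X * hs + 4 * X * X * r1 + 4 * X * X * (b ^ q * hcq - hN)
    let v : GL (Fin 2) F := ⟨!![X, y; y ^ q, -X], !![X, y; y ^ q, -X],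
      by ext i j; fin_cases i <;> fin_cases j <;> simp <;> first | linear_combination hnorm | ring,
      by ext i j; fin_cases i <;> fin_cases j <;> simp <;> first | linear_combination hnorm | ring⟩
    have hv : (v : Matrix (Fin 2) (Fin 2) F) = !![X, y; y ^ q, -X] := rfl
    have hvm : v ∈ Cfsg.GU 2 F q := memGU _ hv (by rw [hX, hqq]; linear_combination hnorm)
      (by rw [hneg, hX]; linear_combination hnorm) (by rw [hneg, hX]; ring) (by rw [hX, hqq]; ring)
    refine ⟨⟨v, hvm⟩, Subtype.ext (Units.ext ?_), fun h => ?_, ?_⟩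
    · show (v : Matrix (Fin 2) (Fin 2) F) * v = 1
      rw [hv]; ext i j; fin_cases i <;> fin_cases j <;> simp <;> first | linear_combination hnorm | ring
    · have c1 := congrArg (fun x : Cfsg.GU 2 F q => ((x : GL (Fin 2) F) : Matrix (Fin 2) (Fin 2) F) 0 1)
        (Subgroup.mem_center_iff.1 h ⟨swap, hswap⟩)
      have c2 := congrArg (fun x : Cfsg.GU 2 F q => ((x : GL (Fin 2) F) : Matrix (Fin 2) (Fin 2) F) 0 1)
        (Subgroup.mem_center_iff.1 h ⟨dia (1, -1), hdia⟩)
      simp only [Subgroup.coe_mul, GeneralLinearGroup.coe_mul, swap_val, dia_val, hv] at c1 c2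
      simp at c1 c2
      have x0 : X = 0 := (mul_eq_zero.1 (show (2 : F) * X = 0 by linear_combination -c1)).resolve_left h2
      have y0 : y = 0 := (mul_eq_zero.1 (show (2 : F) * y = 0 by linear_combination c2)).resolve_left h2
      rw [x0, y0] at hnorm
      simp at hnorm
    · rw [mul_inv_eq_iff_eq_mul, eq_inv_mul_iff_mul_eq]
      refine Subtype.ext (Units.ext ?_)
      show (g : Matrix (Fin 2) (Fin 2) F) * ((v : Matrix (Fin 2) (Fin 2) F) * g) = v
      have htr : X * (a - a ^ q) + y ^ q * b - y * b ^ q = 0 := by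
        rw [hyq, ← hy]
        field_simp
        linear_combination -2 * X * (a - a ^ q) * hN
      rw [hv, he]
      ext i j
      fin_cases i <;> fin_cases j <;> simp
      · linear_combination a * htr + X * hdet
      · linear_combination b * htr + y * hdet
      · linear_combination (-b ^ q) * htr + y ^ q * hdet
      · linear_combination a ^ q * htr - X * hdet
  · obtain ⟨k, hk⟩ := hq
    have hk1 : 1 ≤ k := by
      have := Classical.two_le_q hF
      omega
    obtain ⟨za, hza⟩ := order (2 * (q - 1)) ⟨k + 1 - 0, by rw [hk, show 2 * k + 1 - 1 = 2 * k by omega]; simp; ring⟩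
    obtain ⟨ze, hze⟩ := order (2 * (q + 1)) ⟨k, by rw [hk, show 2 * k + 1 - 1 = 2 * k by omega]; ring⟩
    have ha' := half _ (by omega) za hza
    have hε := half _ (by omega) ze hze
    generalize (za : F) = a at ha'
    generalize (ze : F) = ε at hε
    have hA : a ^ q = -a := by
      rw [← Nat.sub_add_cancel hq0, pow_succ, ha', neg_one_mul]
    have ha0 : a ≠ 0 := fun h => by
      rw [h, zero_pow (by omega)] at ha'
      exact one_ne_zero (neg_eq_zero.1 ha'.symm)
    have hεε : ε * ε ^ q = -1 := by rw [← pow_succ', hε]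
    let r : GL (Fin 2) F := ⟨!![1 + a, a * ε ^ q; a * ε, 1 - a], !![1 - a, -(a * ε ^ q); -(a * ε), 1 + a],
      by ext i j; fin_cases i <;> fin_cases j <;> simp <;> first | linear_combination -a ^ 2 * hεε | ring,
      by ext i j; fin_cases i <;> fin_cases j <;> simp <;> first | linear_combination -a ^ 2 * hεε | ring⟩
    have hr : (r : Matrix (Fin 2) (Fin 2) F) = !![1 + a, a * ε ^ q; a * ε, 1 - a] := rfl
    let x : GL (Fin 2) F := GeneralLinearGroup.mkOfDetNeZero !![0, 1; ε * ε, 0] (by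
      rw [Matrix.det_fin_two_of]
      intro h
      have : ε * ε = 0 := by linear_combination -h
      rw [mul_self_eq_zero] at this
      rw [this, zero_mul] at hεε
      exact one_ne_zero (neg_eq_zero.1 hεε.symm))
    have hx : (x : Matrix (Fin 2) (Fin 2) F) = !![0, 1; ε * ε, 0] := rfl
    have hrm : r ∈ Cfsg.GU 2 F q := memGU _ hr
      (by rw [hadd, mul_pow, hA, one_pow]; linear_combination -a ^ 2 * hεε)
      (by rw [hsub, mul_pow, hA, hqq, one_pow]; linear_combination -a ^ 2 * hεε)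
      (by rw [hsub, mul_pow, hA, hqq, one_pow]; ring)
      (by rw [hadd, mul_pow, hA, one_pow]; ring)
    have hxm : x ∈ Cfsg.GU 2 F q := memGU _ hx
      (by rw [h0q, mul_pow]; linear_combination (ε * ε ^ q - 1) * hεε)
      (by simp [h0q]) (by simp [h0q]) (by simp [h0q])
    have hrp : r ^ p = 1 := by
      refine Units.ext ?_
      have : CharP (Matrix (Fin 2) (Fin 2) F) p := inferInstance
      have e : (r : Matrix (Fin 2) (Fin 2) F) = 1 + !![a, a * ε ^ q; a * ε, -a] := by
        rw [hr, Matrix.one_fin_two]; ext i j; fin_cases i <;> fin_cases j <;> simp [sub_eq_add_neg]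
      have hn2 : (!![a, a * ε ^ q; a * ε, -a] : Matrix (Fin 2) (Fin 2) F) ^ 2 = 0 := by
        rw [sq]; ext i j
        fin_cases i <;> fin_cases j <;> simp <;> first | linear_combination a ^ 2 * hεε | ring
      rw [Units.val_pow_eq_pow_val, e, add_pow_char_of_commute p (Commute.one_left _), one_pow,
        pow_eq_zero_of_le hpp.two_le hn2, add_zero, Units.val_one]
    have hp2 : Odd p := (show Odd q from ⟨k, hk⟩).of_dvd_nat hpq
    refine ⟨⟨r, hrm⟩, ⟨x, hxm⟩, fun h => ?_, ?_, ?_⟩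
    · have h1 := congrArg (fun x : Cfsg.GU 2 F q => ((x : GL (Fin 2) F) : Matrix (Fin 2) (Fin 2) F) 0 0) h
      simp [hr] at h1
      exact ha0 h1
    · rw [Subgroup.orderOf_mk]
      exact hp2.of_dvd_nat (orderOf_dvd_of_pow_eq_one hrp)
    · rw [mul_inv_eq_iff_eq_mul, eq_inv_mul_iff_mul_eq]
      refine Subtype.ext (Units.ext ?_)
      show (r : Matrix (Fin 2) (Fin 2) F) * ((x : Matrix (Fin 2) (Fin 2) F) * r) = x
      rw [hr, hx]
      ext i j
      fin_cases i <;> fin_cases j <;> simp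
      · linear_combination (a + a ^ 2) * ε * hεε
      · linear_combination (a ^ 2 * (ε * ε ^ q) - a ^ 2) * hεε
      · ring
      · linear_combination (a - a ^ 2) * ε * hεε

end UnitModel

section Quotient

variable {G : Type u} [Group G] [Fintype G] {t : G} {F : Type v} [Field F] [Fintype F]

/-- The frame when the centraliser is a quotient of `GL(2, q)`. -/
theorem frame_GL (hF : Odd (Fintype.card F)) (Z : Subgroup (GL (Fin 2) F)) [Z.Normal]
    (hZc : Z ≤ Subgroup.center (GL (Fin 2) F)) (hZo : Odd (Nat.card Z)) (ht : orderOf t = 2)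
    (e : Cen t ≃* GL (Fin 2) F ⧸ Z) :
    ∃ p : ℕ, Nonempty (Frame (Cen t) (tc t) p (Fintype.card F : ℤ)) := by
  classical
  obtain ⟨p, ⟨M⟩⟩ := matModel_GL hF
  set π := e.symm.toMonoidHom.comp (QuotientGroup.mk' Z)
  have hk : π.ker = Z := by
    ext g
    simp [π]
  exact ⟨p, M.frame π (e.symm.surjective.comp (QuotientGroup.mk'_surjective Z)) (hk ▸ hZc) (hk ▸ hZo)
    (by rw [← Subgroup.orderOf_coe]; exact ht) (tc_central t)⟩

/-- The frame when the centraliser is a quotient of `GU(2, q)`. -/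
theorem frame_GU {q : ℕ} (hF : Fintype.card F = q ^ 2) (hq : Odd q) (Z : Subgroup (Cfsg.GU 2 F q)) [Z.Normal]
    (hZc : Z ≤ Subgroup.center (Cfsg.GU 2 F q)) (hZo : Odd (Nat.card Z)) (ht : orderOf t = 2)
    (e : Cen t ≃* Cfsg.GU 2 F q ⧸ Z) :
    ∃ p : ℕ, Nonempty (Frame (Cen t) (tc t) p (-(q : ℤ))) := by
  classical
  obtain ⟨p, ⟨M⟩⟩ := matModel_GU hF hq
  set π := e.symm.toMonoidHom.comp (QuotientGroup.mk' Z)
  have hk : π.ker = Z := by
    ext g
    simp [π]
  exact ⟨p, M.frame π (e.symm.surjective.comp (QuotientGroup.mk'_surjective Z)) (hk ▸ hZc) (hk ▸ hZo)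
    (by rw [← Subgroup.orderOf_coe]; exact ht) (tc_central t)⟩

end Quotient

end Cfsg.Agent.Invol.BrauerL3
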