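import Cfsg.Agent.Lib.Invol.BrauerL3.UnitaryLocal
import Cfsg.Agent.Lib.Invol.BrauerL3.LocalFrames

/-!
# Indices excluded in the unitary case

The `p`-part of the index of the centraliser is a power `p ^ j` with `n < a ≤ n + j` for the order `p ^ a` of the
`p`-part of the normaliser kernel, and the torus acts freely outside `R`: `p ^ (a - n) ≡ 1` modulo its order.
-/

set_option autoImplicit false
set_option linter.style.haveILetI false

namespace Cfsg.Agent.Invol.BrauerL3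

open Subgroup

universe u v

theorem pow_not_one_mod {p n j m e : ℕ} (hp : p.Prime) (hp2 : p ≠ 2) (he : Odd e) (hed : e ∣ p ^ n + 1)
    (hm : e * m = (p ^ n) ^ 2 - 1) (hj : 1 ≤ j) (hjn : j ≤ n) : ¬ p ^ j ≡ 1 [MOD m] := by
  intro h
  have hp3 : 3 ≤ p := lt_of_le_of_ne hp.two_le (Ne.symm hp2)
  have hle : p ^ j ≤ p ^ n := Nat.pow_le_pow_right hp.pos hjn
  have h1 : 3 ≤ p ^ j := hp3.trans (Nat.le_self_pow (by omega) p)
  obtain ⟨k, hk⟩ := hed
  have hev : Even (e * k) := by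
    rw [← hk]; exact ((hp.odd_of_ne_two hp2).pow).add_one
  have hk2 : 2 ∣ k := by
    rcases Nat.even_mul.1 hev with h' | h'
    · exact absurd h' (Nat.not_even_iff_odd.2 he)
    · exact even_iff_two_dvd.1 h'
  have hk0 : k ≠ 0 := fun h0 => by rw [h0, mul_zero] at hk; omega
  have hmk : m = k * (p ^ n - 1) := Nat.eq_of_mul_eq_mul_left he.pos (by
    rw [hm, ← mul_assoc, ← hk, ← one_pow 2, Nat.sq_sub_sq, one_pow])
  have hge : 2 * (p ^ n - 1) ≤ m := hmk ▸ Nat.mul_le_mul_right _ (Nat.le_of_dvd (Nat.pos_of_ne_zero hk0) hk2)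
  have hd := (Nat.modEq_iff_dvd' (show 1 ≤ p ^ j by omega)).1 h.symm
  have := Nat.le_of_dvd (by omega) hd
  omega

/-- The `p`-part of the index of the centraliser is not between `p` and `q`. -/
theorem UBase.false_of_index {G : Type u} [Group G] [Finite G] {t : G} {q d : ℕ} {D : UData t q d} {p n : ℕ}
    (S : UBase D p n) (hd : Odd d) (hdd : d ∣ q + 1) (h1 : p ∣ (centralizer ({t} : Set G)).index)
    (h2 : ¬ q * p ∣ (centralizer ({t} : Set G)).index) : False := by
  obtain ⟨K, a, D0, -, -, -, -, -, -, -, -, hKc, -, -, han, hm, hane⟩ := S.exists_core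
  obtain rfl := S.hq
  set C := centralizer ({t} : Set G) with hC
  have hG : Nat.card G = Nat.card C * C.index := C.card_mul_index.symm
  have hCq : Nat.card C = p ^ n * (Nat.card D.T * (p ^ n + 1)) := by
    refine Nat.eq_of_mul_eq_mul_left hd.pos ?_
    rw [D.cardC, ← D.cardT]
    ring
  have hpT : ¬ p ∣ Nat.card D.T * (p ^ n + 1) := fun h => (S.hp.dvd_mul.1 h).elim S.p_not_dvd_T
    fun h => S.hp.not_dvd_one ((Nat.dvd_add_right S.p_dvd_q).1 h)
  have hd1 : p ^ (n + 1) ∣ Nat.card G := by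
    rw [hG, hCq, pow_succ]
    exact mul_dvd_mul (dvd_mul_right _ _) h1
  have ha := hane hd1
  have hle : a ≤ 2 * n := by
    by_contra hgt
    have e1 : p ^ (2 * n + 1) ∣ Nat.card G :=
      (pow_dvd_pow p (by omega)).trans ((Dvd.intro _ hKc.symm).trans (card_subgroup_dvd_card K))
    rw [hG, hCq, mul_assoc, show 2 * n + 1 = n + (n + 1) by omega, pow_add,
      Nat.mul_dvd_mul_iff_left (pow_pos S.hp.pos n)] at e1
    refine h2 ?_
    rw [← pow_succ]
    exact Nat.Coprime.dvd_of_dvd_mul_left ((S.hp.coprime_iff_not_dvd.2 hpT).pow_left _) e1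
  exact pow_not_one_mod S.hp S.hp2 hd hdd D.cardT (by omega) (show a - n ≤ n by omega) hm

/-- A central subgroup of `GU(2, q)` has order dividing `q + 1`. -/
theorem gu_card_central_dvd {F : Type v} [Field F] [Fintype F] {q : ℕ} (hF : Fintype.card F = q ^ 2) (hq : Odd q)
    {Z : Subgroup (GU 2 F q)} (hZc : Z ≤ center (GU 2 F q)) : Nat.card Z ∣ q + 1 := by
  obtain ⟨p, ⟨M⟩⟩ := matModel_GU hF hq
  let f : ↥Z →* F :=
    { toFun := fun z => M.mat (z : GU 2 F q) 0 0
      map_one' := by simp [M.mat_one]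
      map_mul' := fun a b => by
        rw [Subgroup.coe_mul, M.ent, (M.scalar_of_central (hZc a.2)).1, zero_mul, add_zero] }
  haveI : IsCyclic ↥Z := isCyclic_of_injective f.toHomUnits fun a b h => by
    obtain ⟨a1, a2, a3⟩ := M.scalar_of_central (hZc a.2)
    obtain ⟨b1, b2, b3⟩ := M.scalar_of_central (hZc b.2)
    have h0 : M.mat (a : GU 2 F q) 0 0 = M.mat (b : GU 2 F q) 0 0 := congrArg Units.val h
    refine Subtype.ext (M.mat_inj (Matrix.ext fun i j => ?_))
    fin_cases i <;> fin_cases j <;> simp [a1, a2, b1, b2, ← a3, ← b3, h0]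
  rw [← IsCyclic.exponent_eq_card]
  refine Monoid.exponent_dvd_of_forall_pow_eq_one fun z => Subtype.ext ?_
  obtain ⟨h1, h2, -⟩ := M.scalar_of_central (hZc z.2)
  have h3 := M.diag_exp h1 h2
  rwa [show (-(q : ℤ) - 1).natAbs = q + 1 by omega] at h3

/-- No index with that `p`-part when the centraliser is a quotient of `GU(2, q)`. -/
theorem gu_not_index {G : Type u} [Group G] [Finite G] {F : Type v} [Field F] [Fintype F] (q : ℕ) (hq : Odd q)
    (hF : Fintype.card F = q ^ 2) (Z : Subgroup (GU 2 F q)) [Z.Normal] (hZc : Z ≤ center (GU 2 F q))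
    (hZo : Odd (Nat.card Z)) (t : G) (ht : orderOf t = 2)
    (e : ↥(centralizer ({t} : Set G)) ≃* GU 2 F q ⧸ Z)
    (hfix : ∀ y : ↥(centralizer ({t} : Set G)), (orderOf y).Prime → Odd (orderOf y) →
      (orderOf y ∣ q - 1 ∨ y ∈ center ↥(centralizer ({t} : Set G))) →
        centralizer ({(y : G)} : Set G) ≤ centralizer ({t} : Set G))
    {p : ℕ} (hp : p.Prime) (hpq : p ∣ q) (h1 : p ∣ (centralizer ({t} : Set G)).index)
    (h2 : ¬ q * p ∣ (centralizer ({t} : Set G)).index) : False := by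
  classical
  obtain ⟨m, hr, hFp⟩ := FiniteField.card F (ringChar F)
  rw [hF] at hFp
  obtain ⟨n, -, hn⟩ := (Nat.dvd_prime_pow hr).1 (hFp ▸ dvd_pow_self q two_ne_zero : q ∣ _)
  have hpe : p = ringChar F := (Nat.prime_dvd_prime_iff_eq hp hr).1 (hp.dvd_of_dvd_pow (hn ▸ hpq))
  rw [← hpe] at hn
  have hn1 : 1 ≤ n := by
    by_contra h
    rw [show n = 0 by omega, pow_zero] at hn
    exact hp.not_dvd_one (hn ▸ hpq)
  have hp2 : p ≠ 2 := fun h => Nat.not_odd_iff_even.2 (even_iff_two_dvd.2 (h ▸ hpq)) hq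
  obtain ⟨D, hD⟩ := exists_udata hq hF Z hZc hZo ht e
  have S : UBase D p n :=
    { hp := hp
      hp2 := hp2
      hn := hn1
      hq := hn
      ht := ht
      hT := fun y hy hyp hyo => by
        have ho : orderOf (⟨y, D.TC hy⟩ : ↥(centralizer ({t} : Set G))) = orderOf y := Subgroup.orderOf_mk _ _
        exact hfix ⟨y, D.TC hy⟩ (by rw [ho]; exact hyp) (by rw [ho]; exact hyo)
          (hD ⟨y, D.TC hy⟩ hy (by rw [ho]; exact hyp)).2 }
  exact S.false_of_index hZo (gu_card_central_dvd hF hq hZc) h1 h2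

/-- The index `(Q² + Q - 1)(Q² + 2Q)`, `Q = -q`, is impossible. -/
theorem gu_not_mtype {G : Type u} [Group G] [Finite G] {F : Type v} [Field F] [Fintype F] (q : ℕ) (hq : Odd q)
    (hF : Fintype.card F = q ^ 2) (Z : Subgroup (GU 2 F q)) [Z.Normal] (hZc : Z ≤ center (GU 2 F q))
    (hZo : Odd (Nat.card Z)) (t : G) (ht : orderOf t = 2)
    (e : ↥(centralizer ({t} : Set G)) ≃* GU 2 F q ⧸ Z)
    (hfix : ∀ y : ↥(centralizer ({t} : Set G)), (orderOf y).Prime → Odd (orderOf y) →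
      (orderOf y ∣ q - 1 ∨ y ∈ center ↥(centralizer ({t} : Set G))) →
        centralizer ({(y : G)} : Set G) ≤ centralizer ({t} : Set G))
    (h : ((centralizer ({t} : Set G)).index : ℤ) = ((-(q : ℤ)) ^ 2 + -(q : ℤ) - 1) * ((-(q : ℤ)) ^ 2 + 2 * -(q : ℤ))) :
    False := by
  obtain ⟨p, hp, hpq⟩ := Nat.exists_prime_and_dvd (n := q) fun h1 => by
    have := Fintype.one_lt_card (α := F)
    rw [hF, h1] at this
    omega
  have hpq' : (p : ℤ) ∣ q := Int.natCast_dvd_natCast.2 hpq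
  refine gu_not_index q hq hF Z hZc hZo t ht e hfix hp hpq ?_ fun h2 => ?_
  · rw [← Int.natCast_dvd_natCast, h]
    exact Dvd.dvd.mul_left (dvd_add (dvd_pow hpq'.neg_right two_ne_zero) (hpq'.neg_right.mul_left 2)) _
  · have h3 := Int.natCast_dvd_natCast.2 h2
    rw [h, Nat.cast_mul, show ((-(q : ℤ)) ^ 2 + -(q : ℤ) - 1) * ((-(q : ℤ)) ^ 2 + 2 * -(q : ℤ)) =
      (q : ℤ) * (((q : ℤ) ^ 2 - q - 1) * ((q : ℤ) - 2)) by ring] at h3
    have hq0 : (q : ℤ) ≠ 0 := by have := hq.pos; omega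
    have h4 := Int.dvd_of_mul_dvd_mul_left hq0 h3
    rcases (Int.prime_iff_natAbs_prime.2 (by simpa using hp) : Prime (p : ℤ)).dvd_or_dvd h4 with h5 | h5
    · have h6 := dvd_sub ((dvd_pow hpq' two_ne_zero).sub hpq') h5
      rw [show (q : ℤ) ^ 2 - q - ((q : ℤ) ^ 2 - q - 1) = 1 by ring] at h6
      exact hp.not_dvd_one (by exact_mod_cast h6)
    · have h6 := dvd_sub hpq' h5
      rw [show (q : ℤ) - ((q : ℤ) - 2) = 2 by ring] at h6
      have h7 := (Nat.prime_dvd_prime_iff_eq hp Nat.prime_two).1 (by exact_mod_cast h6)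
      exact Nat.not_odd_iff_even.2 (even_iff_two_dvd.2 (h7 ▸ hpq)) hq

/-- The index `5025` for `q = 9` is impossible. -/
theorem gu_not_exceptional {G : Type u} [Group G] [Finite G] {F : Type v} [Field F] [Fintype F]
    (hF : Fintype.card F = 9 ^ 2) (Z : Subgroup (GU 2 F 9)) [Z.Normal] (hZc : Z ≤ center (GU 2 F 9))
    (hZo : Odd (Nat.card Z)) (t : G) (ht : orderOf t = 2)
    (e : ↥(centralizer ({t} : Set G)) ≃* GU 2 F 9 ⧸ Z)
    (hfix : ∀ y : ↥(centralizer ({t} : Set G)), (orderOf y).Prime → Odd (orderOf y) →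
      (orderOf y ∣ 9 - 1 ∨ y ∈ center ↥(centralizer ({t} : Set G))) →
        centralizer ({(y : G)} : Set G) ≤ centralizer ({t} : Set G))
    (h : (centralizer ({t} : Set G)).index = 5025) : False :=
  gu_not_index 9 (by decide) hF Z hZc hZo t ht e hfix Nat.prime_three (by norm_num) (by rw [h]; norm_num)
    (by rw [h]; norm_num)

end Cfsg.Agent.Invol.BrauerL3
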