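import Cfsg.Agent.Lib.Invol.BrauerL3.SmallThreeFuns
import Cfsg.Agent.Lib.Invol.BrauerL3.UnitaryExclude
import Cfsg.Agent.Lib.Invol.BrauerL3.LocalExport
import Cfsg.Agent.Lib.Char.Complete

/-!
# A centraliser of type `GU(2, 3)`: the index is 63
-/

set_option autoImplicit false
set_option linter.style.haveILetI false

open scoped ComplexConjugate Classical

namespace Cfsg.Agent.Invol.BrauerL3

open Cfsg Cfsg.Agent.Char Cfsg.Agent.Block

universe u v

variable {G : Type u} [Group G] [Fintype G] {t : G}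

/-- The column of an involution: any set of nontrivial characters has squares summing to less than `|C(t)|`. -/
theorem column_le (V : IrrCharacter G → ℤ) (hV : ∀ χ, (V χ : ℂ) = (χ : G → ℂ) t)
    (o : IrrCharacter G) (ho : V o = 1) {s : Finset (IrrCharacter G)} (hs : o ∉ s) :
    ∑ χ ∈ s, V χ * V χ + 1 ≤ (Nat.card (Cen t) : ℤ) := by
  have h : ((∑ χ, V χ * V χ : ℤ) : ℂ) = ((Nat.card (Cen t) : ℤ) : ℂ) := by
    have h0 := sum_irr_mul_conj t t
    rw [if_pos (IsConj.refl t)] at h0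
    push_cast
    rw [← h0]
    exact Finset.sum_congr rfl fun χ _ => by rw [← hV, map_intCast]
  have h' : ∑ χ, V χ * V χ = (Nat.card (Cen t) : ℤ) := by exact_mod_cast h
  rw [← h']
  have h2 := Finset.sum_le_univ_sum_of_nonneg (f := fun χ => V χ * V χ) (s := insert o s) fun χ => mul_self_nonneg _
  rw [Finset.sum_insert hs, ho] at h2
  linarith

/-- The index of the centraliser is `63`. -/
theorem gu_three_index [IsSimpleGroup G] {F : Type v} [Field F] [Fintype F] (hF : Fintype.card F = 3 ^ 2)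
    (Z : Subgroup (GU 2 F 3)) [Z.Normal] (hZc : Z ≤ Subgroup.center (GU 2 F 3)) (hZo : Odd (Nat.card Z))
    (ht : orderOf t = 2) (e : Cen t ≃* GU 2 F 3 ⧸ Z) : (Cen t).index = 63 := by
  have hq : Odd 3 := by decide
  obtain ⟨p, ⟨Fr⟩⟩ := frame_GU hF hq Z hZc hZo ht e
  obtain ⟨K, _, ⟨T⟩⟩ := exists_tblGU hF hq
  rw [show (-((3 : ℕ) : ℤ)) = (-3 : ℤ) by norm_num] at T
  haveI : Fintype (GU 2 F 3) := Fintype.ofFinite _
  set π := e.symm.toMonoidHom.comp (QuotientGroup.mk' Z)
  have hk : π.ker = Z := by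
    ext g
    simp [π]
  obtain ⟨Fn, hFn⟩ := T.threeFuns π (e.symm.surjective.comp (QuotientGroup.mk'_surjective Z)) (hk ▸ hZc)
    (hk ▸ hZo) (tc t) (by rw [← Subgroup.orderOf_coe]; exact ht) (tc_central t)
  have hN0 : (((-3 : ℤ) * (-3 + 1) : ℤ) : ℚ) ^ 2 / Nat.card (Cen t) ≠ 0 := div_ne_zero (pow_ne_zero 2 (by norm_num)) (Nat.cast_ne_zero.2 Nat.card_pos.ne')
  obtain ⟨V, hR, hdv, hv⟩ := exists_vecs Fr.not_comm ht Fr.one_classG (rootSet_ti ht) hN0 Fn
  let σ : ℂ ≃+* ℂ := (starRingAut : RingAut ℂ)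
  have hσσ : ∀ χ : IrrCharacter G, PrinCol.galIrr σ (PrinCol.galIrr σ χ) = χ := fun χ =>
    Subtype.ext (funext fun g => Complex.conj_conj _)
  let τ : IrrCharacter G ≃ IrrCharacter G := ⟨PrinCol.galIrr σ, PrinCol.galIrr σ, hσσ, hσσ⟩
  have hcard : Nat.card (Cen t) = 96 := by
    have hd := gu_card_central_dvd hF hq hZc
    have hZ1 : Nat.card Z = 1 := by
      have hle := Nat.le_of_dvd (by norm_num) hd
      obtain ⟨j, hj⟩ := hZo
      interval_cases h : Nat.card Z <;> omega
    have hG : (Nat.card (GU 2 F 3) : ℤ) = 96 := (TwoSylowGLTwo.card_GU_two hF).trans (by norm_num)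
    have h1 := Z.card_mul_index
    rw [hZ1, one_mul, Subgroup.index_eq_card] at h1
    rw [Nat.card_congr e.toEquiv, h1]
    exact_mod_cast hG
  have hRi : V.R * ((Cen t).index : ℚ) = 36 := by
    rw [hR, R_mul_index]
    norm_num
  suffices hE : Nonempty (WrEqs (-3) V.R) by
    obtain ⟨E⟩ := hE
    obtain ⟨-, h⟩ := E.solve V.R_ne Nat.prime_three one_pos (Or.inr (by norm_num))
    have h63 : ((Cen t).index : ℚ) = 63 := by
      refine mul_left_cancel₀ V.R_ne ?_
      push_cast at h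
      linear_combination hRi - 9 * h
    exact_mod_cast h63
  refine SmallThree.wr_eqs_three V τ (fun χ => ?_) (fun χ => ?_) (fun χ => ?_) (fun s hs => ?_) Fr.index_odd hRi
  · have h : conj (V.v 4 (τ χ) : ℂ) = (V.v 5 χ : ℂ) := by
      rw [hv, hv, ← (funext hFn : (fun x => conj (Fn.f 4 x)) = Fn.f 5)]
      simp only [classInner, map_mul, map_inv₀, map_natCast, map_sum, indFun_conj]
      refine congrArg _ (Finset.sum_congr rfl fun g _ => ?_)
      congr 1
      exact congrArg _ (Complex.conj_conj _)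
    rw [map_intCast] at h
    exact_mod_cast h.symm
  · have h : (V.deg (τ χ) : ℂ) = conj (V.deg χ : ℂ) := by rw [(hdv _).1, (hdv _).1]; rfl
    rw [map_intCast] at h
    exact_mod_cast h
  · have h : (V.val (τ χ) : ℂ) = conj (V.val χ : ℂ) := by rw [(hdv _).2, (hdv _).2]; rfl
    rw [map_intCast] at h
    exact_mod_cast h
  · have h := column_le V.val (fun χ => (hdv χ).2) V.o V.val_o hs
    rw [hcard] at h
    push_cast at h
    linarith

/-- The same in the form used by the assembly. -/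
theorem gu_index_of_eq_three [IsSimpleGroup G] {F : Type v} [Field F] [Fintype F] {q : ℕ}
    (hF : Fintype.card F = q ^ 2) (Z : Subgroup (GU 2 F q)) [Z.Normal] (hZc : Z ≤ Subgroup.center (GU 2 F q))
    (hZo : Odd (Nat.card Z)) (ht : orderOf t = 2) (e : Cen t ≃* GU 2 F q ⧸ Z) :
    q = 3 → (Cen t).index = 63 := by
  rintro rfl
  exact gu_three_index hF Z hZc hZo ht e

end Cfsg.Agent.Invol.BrauerL3
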