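import Cfsg.Agent.Lib.Invol.BrauerL3.Assembly
import Cfsg.Agent.Lib.Invol.BrauerL3.ExceptionalMain
import Cfsg.Agent.Lib.Invol.BrauerL3.SmallThree
import Cfsg.Agent.Lib.Invol.BrauerL3.SmallFive

/-!
# Brauer's characterisations of `PSL(3, q)`, `M₁₁` and `PSU(3, q)`
-/

set_option autoImplicit false
set_option linter.unusedSectionVars false

open scoped Classical

namespace Cfsg.Agent.Invol.BrauerL3

open Cfsg Subgroup

universe u v w

variable {G : Type u} [Group G] [Fintype G] {t : G}

/-- Given a table for a covering group of `C(t)`, the exceptional configuration needs `Q = -9`. -/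
theorem not_exceptional [IsSimpleGroup G] {H : Type v} [Group H] [Fintype H] {K : Type w} [CommGroup K] {Q : ℤ}
    (T : Tbl H K Q) (π : H →* Cen t) (hπ : Function.Surjective π) (hc : π.ker ≤ center H)
    (ho : Odd (Nat.card π.ker)) (ht : orderOf t = 2) (h9 : Q ≠ -9) : ¬ Exceptional.{u, w} t Q := by
  intro hex
  have hv := exceptional_values hex
  obtain ⟨p, F, S, _, D, h1, h2, W, h5, hf⟩ := hex
  have h4 : Q % 4 = 3 := by omega
  obtain ⟨Fn, -⟩ := T.sdFuns_vanish π h4 hπ hc ho (tc t) (by rw [← Subgroup.orderOf_coe]; exact ht) (tc_central t)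
  exact h9 (D.exceptional h1 h2 W h5 hf Fn)

section Linear

variable {F : Type v} [Field F] [Fintype F]

/-- Brauer's characterisation of `PSL(3, q)` and `M₁₁`. -/
theorem linear_thm [IsSimpleGroup G] (hF : Odd (Fintype.card F)) (Z : Subgroup (GL (Fin 2) F)) [Z.Normal]
    (hZc : Z ≤ center (GL (Fin 2) F)) (hZo : Odd (Nat.card Z)) (ht : orderOf t = 2)
    (e : Cen t ≃* GL (Fin 2) F ⧸ Z) :
    Nonempty (G ≃* Matrix.ProjectiveSpecialLinearGroup (Fin 3) F) ∨ IsM11 G := by
  refine linear_main hF Z hZc hZo ht e ?_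
  obtain ⟨K, _, ⟨T⟩⟩ := exists_tblGL hF
  set π := e.symm.toMonoidHom.comp (QuotientGroup.mk' Z) with hπdef
  have hk : π.ker = Z := by
    ext g
    simp [hπdef]
  exact not_exceptional T π (e.symm.surjective.comp (QuotientGroup.mk'_surjective Z)) (hk ▸ hZc) (hk ▸ hZo) ht
    (by omega)

end Linear

section Unitary

variable {F : Type v} [Field F] [Fintype F]

/-- Brauer's characterisation of `PSU(3, q)`. -/
theorem unitary_thm [IsSimpleGroup G] (q : ℕ) (hq : Odd q) (hF : Fintype.card F = q ^ 2) (Z : Subgroup (GU 2 F q))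
    [Z.Normal] (hZc : Z ≤ center (GU 2 F q)) (hZo : Odd (Nat.card Z)) (ht : orderOf t = 2)
    (e : Cen t ≃* GU 2 F q ⧸ Z) : Nonempty (G ≃* PSU 3 F q) := by
  refine unitary_main q hq hF Z hZc hZo ht e (fun h29 => ?_) (gu_index_of_eq_three hF Z hZc hZo ht e)
    (gu_not_357_of_eq hF Z hZc hZo ht e)
  obtain ⟨K, _, ⟨T⟩⟩ := exists_tblGU hF hq
  haveI : Fintype (GU 2 F q) := Fintype.ofFinite _
  set π := e.symm.toMonoidHom.comp (QuotientGroup.mk' Z) with hπdef
  have hk : π.ker = Z := by
    ext g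
    simp [hπdef]
  exact not_exceptional T π (e.symm.surjective.comp (QuotientGroup.mk'_surjective Z)) (hk ▸ hZc) (hk ▸ hZo) ht
    (by subst h29; norm_num)

end Unitary

end Cfsg.Agent.Invol.BrauerL3
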