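import Cfsg.Agent.Lib.Invol.BrauerL3.TableFuns
import Cfsg.Agent.Lib.Invol.BrauerL3.LocalFrame

/-!
# The split torus of a quotient of `GL(2, q)` or `GU(2, q)`

For a non-central involution `w` and an element `s` with `s w s⁻¹ = t w`, the centraliser of `w` is the image of
`S × S`, `S` cyclic of order `|Q - 1|`, on which `s` exchanges the factors.
-/

set_option autoImplicit false
set_option linter.unusedSectionVars false

namespace Cfsg.Agent.Invol.BrauerL3

open Cfsg Subgroup
open Cfsg.Agent.Block.SL2Char (cv)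

universe u v w

/-- The torus. -/
structure Torus (C : Type w) [Group C] (t w s : C) (Q : ℤ) (S : Type v) [CommGroup S] where
  cyc : IsCyclic S
  fin : Finite S
  cardS : Nat.card S = (Q - 1).natAbs
  /-- the torus map -/
  τ : S × S →* C
  mem_iff : ∀ x, Commute x w ↔ ∃ p, τ p = x
  central_iff : ∀ x, x ∈ center C ↔ ∃ a, τ (a, a) = x
  ker_diag : ∀ p, τ p = 1 → p.1 = p.2
  ker_odd : Odd (Nat.card τ.ker)
  swap : ∀ a b, s * τ (a, b) * s⁻¹ = τ (b, a)
  cardC : (Nat.card C : ℤ) * (Nat.card τ.ker : ℤ) = Q * (Q ^ 2 - 1) * (Q - 1)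

namespace Tbl

variable {H : Type u} [Group H] [Fintype H] {K : Type v} [CommGroup K] {Q : ℤ} (T : Tbl H K Q)
  {C : Type w} [Group C] [Fintype C] (π : H →* C)

include T

theorem cardS : Nat.card (scal K Q) = (Q - 1).natAbs := by
  haveI := T.cyc
  haveI := T.finiteK
  exact natAbs_card_scal T.card

theorem mem_range_of_commute (hH : (Nat.card H : ℤ) = Q * (Q ^ 2 - 1) * (Q - 1)) {e : scal K Q} (hne : e ≠ 1)
    {h : H} (hh : Commute h (T.D (1, e))) : ∃ p, T.D p = h := by
  haveI := T.finiteK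
  set x := T.D (1, e) with hx
  haveI := Fintype.ofFinite (MulAction.orbit (ConjAct H) x)
  haveI := Fintype.ofFinite (MulAction.stabilizer (ConjAct H) x)
  have h1 := MulAction.card_orbit_mul_card_stabilizer_eq_card_group (ConjAct H) x
  have horb : MulAction.orbit (ConjAct H) x = {g : H | IsConj x g} := by
    ext g
    rw [Set.mem_ofPred_eq, ← ConjAct.mem_orbit_conjAct, MulAction.mem_orbit_symm]
  rw [← Nat.card_eq_fintype_card, ← Nat.card_eq_fintype_card, ← Nat.card_eq_fintype_card, horb,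
    ConjAct.stabilizer_eq_centralizer] at h1
  have h2 : Nat.card ↥({g : H | IsConj x g}) = Nat.card {g : H // IsConj (T.D (1, e)) g} := rfl
  have h3 : Nat.card (ConjAct H) = Nat.card H := rfl
  rw [h2, h3] at h1
  change _ * Nat.card ↥(centralizer ({x} : Set H)) = _ at h1
  have h1' := congrArg (fun n : ℕ => (n : ℤ)) h1
  simp only [Nat.cast_mul] at h1'
  rw [T.card_class 1 e (Ne.symm hne), hH] at h1'
  have hle : T.D.range ≤ centralizer ({x} : Set H) := by
    rintro _ ⟨p, rfl⟩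
    rw [mem_centralizer_singleton_iff, hx, ← map_mul, ← map_mul, mul_comm]
  have hr : (Nat.card T.D.range : ℤ) = (Q - 1) ^ 2 := by
    rw [← Nat.card_congr (MonoidHom.ofInjective T.D_inj).toEquiv, Nat.card_prod, T.cardS]
    push_cast [Int.natCast_natAbs]
    rw [abs_mul_abs_self, pow_two]
  have h0 := T.ne_zero
  have hm := T.ne_neg_one
  have hc : Nat.card ↥(centralizer ({x} : Set H)) = Nat.card T.D.range := by
    refine Nat.cast_injective (R := ℤ) ?_
    rw [hr]
    refine mul_left_cancel₀ (mul_ne_zero h0 (show Q + 1 ≠ 0 by omega)) ?_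
    linear_combination h1'
  have heq := Subgroup.eq_of_le_of_card_ge hle hc.le
  have : h ∈ T.D.range := heq ▸ mem_centralizer_singleton_iff.2 hh
  exact this

theorem exists_torus (hH : (Nat.card H : ℤ) = Q * (Q ^ 2 - 1) * (Q - 1)) (hπ : Function.Surjective π)
    (hc : π.ker ≤ center H) (ho : Odd (Nat.card π.ker)) {t : C} (ht : orderOf t = 2) (htc : t ∈ center C)
    {w s : C} (hw2 : orderOf w = 2) (hwt : w ≠ t) (hs : s * w * s⁻¹ = t * w) :
    ∃ τ : Torus C t w s Q (scal K Q), ∀ p, ∃ c, c * π (T.D p) * c⁻¹ = τ.τ p := by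
  haveI := T.cyc
  haveI := T.finiteK
  obtain ⟨e, hne, hee, heu, heo⟩ := T.exists_e
  have htd := T.central_invol π hπ hc ho hne heu ht htc
  -- lift `w`
  obtain ⟨g, hg, hgw⟩ := T.orderOf_two_lift π hπ hc ho hw2
  obtain ⟨h₀, rfl⟩ : ∃ h₀ : H, g = h₀ * T.D (1, e) * h₀⁻¹ := by
    rcases T.invol_cases heu hg with rfl | hu
    · exact absurd (hgw.symm.trans htd.symm) hwt
    · obtain ⟨c, hc'⟩ := isConj_iff.1 hu
      exact ⟨c, hc'.symm⟩
  subst hgw
  let D' : scal K Q × scal K Q →* H := (MulAut.conj h₀).toMonoidHom.comp T.D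
  have hD' : ∀ p, D' p = h₀ * T.D p * h₀⁻¹ := fun p => rfl
  have hinj : Function.Injective D' := (MulAut.conj h₀).injective.comp T.D_inj
  have hdiag : ∀ a, D' (a, a) = T.D (a, a) := fun a => by
    rw [hD', Subgroup.mem_center_iff.1 (T.D_center a) h₀, mul_inv_cancel_right]
  have hrange : ∀ h : H, Commute h (D' (1, e)) → ∃ p, D' p = h := by
    intro h hh
    have h1 : Commute (h₀⁻¹ * h * h₀) (T.D (1, e)) := by
      have := hh.map (MulAut.conj h₀⁻¹).toMonoidHom
      simp only [MulEquiv.coe_toMonoidHom, MulAut.conj_apply, inv_inv, hD'] at this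
      rwa [show h₀⁻¹ * (h₀ * T.D (1, e) * h₀⁻¹) * h₀ = T.D (1, e) by group] at this
    obtain ⟨p, hp⟩ := T.mem_range_of_commute hH hne h1
    exact ⟨p, by rw [hD', hp]; group⟩
  have hee' : ∀ p : scal K Q × scal K Q, p * p = 1 → D' p * D' p = 1 := fun p hp => by
    rw [← map_mul, hp, map_one]
  have he2 : ((1 : scal K Q), e) * (1, e) = 1 := by rw [Prod.mk_mul_mk, one_mul, hee]; rfl
  have hcom : ∀ h : H, Commute (π h) (π (D' (1, e))) → Commute h (D' (1, e)) := by
    intro h hh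
    have h1 : h * D' (1, e) * h⁻¹ = D' (1, e) := by
      refine T.map_inj_invol π hc ho ?_ (hee' _ he2) ?_
      · rw [conj_mul, hee' _ he2, mul_one, mul_inv_cancel]
      · rw [map_mul, map_mul, map_inv]
        exact mul_inv_eq_iff_eq_mul.2 hh.eq
    exact mul_inv_eq_iff_eq_mul.1 h1
  -- lift `s`
  obtain ⟨h₁, rfl⟩ := hπ s
  have hs' : h₁ * D' (1, e) * h₁⁻¹ = D' (e, 1) := by
    refine T.map_inj_invol π hc ho ?_ (hee' _ (by rw [Prod.mk_mul_mk, one_mul, hee]; rfl)) ?_
    · rw [conj_mul, hee' _ he2, mul_one, mul_inv_cancel]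
    · rw [map_mul, map_mul, map_inv]
      refine hs.trans ?_
      rw [htd, ← map_mul, ← hdiag]
      show π (D' (e, e) * D' (1, e)) = _
      rw [← map_mul, Prod.mk_mul_mk, mul_one, hee]
  -- the automorphism of `S × S`
  have hσ : ∀ p, ∃ p', D' p' = h₁ * D' p * h₁⁻¹ := by
    intro p
    refine hrange _ ?_
    have h2 : Commute (D' p) (D' (e, 1)) := (Commute.all p (e, 1)).map D'
    have h3 : D' (1, e) = h₁⁻¹ * D' (e, 1) * h₁ := by rw [← hs']; group
    have h4 : Commute (D' p) (D' (1, e)) := (Commute.all p (1, e)).map D'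
    have h5 := h4.map (MulAut.conj h₁).toMonoidHom
    simp only [MulEquiv.coe_toMonoidHom, MulAut.conj_apply, hs'] at h5
    have e1 : D' (1, e) = D' (e, e) * D' (e, 1) := by
      rw [← map_mul, Prod.mk_mul_mk, hee, mul_one]
    rw [e1]
    refine Commute.mul_right ?_ h5
    rw [hdiag]
    exact Subgroup.mem_center_iff.1 (T.D_center e) _
  choose σ hσ' using hσ
  have hmul : ∀ p r, σ (p * r) = σ p * σ r := fun p r => hinj (by
    rw [map_mul, hσ', hσ', hσ', map_mul, conj_mul])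
  have hone : σ 1 = 1 := hinj (by rw [hσ', map_one, mul_one, mul_inv_cancel])
  have hfix : ∀ a, σ (a, a) = (a, a) := fun a => hinj (by
    rw [hσ', hdiag, Subgroup.mem_center_iff.1 (T.D_center a) h₁, mul_inv_cancel_right])
  -- symmetric functions
  obtain ⟨g₀, hg₀⟩ := IsCyclic.exists_generator (α := scal K Q)
  obtain ⟨χ, hχ⟩ : ∃ χ : scal K Q →* ℂˣ, Function.Injective χ := by
    obtain ⟨ζ, hζ⟩ := HasEnoughRootsOfUnity.exists_primitiveRoot ℂ (Nat.card (scal K Q))
    have hu := hζ.isUnit_unit (Nat.card_pos (α := scal K Q)).ne'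
    refine ⟨monoidHomOfForallMemZpowers hg₀ (g' := (hζ.isUnit (Nat.card_pos (α := scal K Q)).ne').unit) ?_, ?_⟩
    · rw [orderOf_eq_card_of_forall_mem_zpowers hg₀]
      exact dvd_of_eq hu.eq_orderOf.symm
    · refine (injective_iff_map_eq_one _).2 fun x hx => ?_
      obtain ⟨k, rfl⟩ := Subgroup.mem_zpowers_iff.1 (hg₀ x)
      rw [map_zpow, monoidHomOfForallMemZpowers_apply_gen, ← orderOf_dvd_iff_zpow_eq_one,
        ← hu.eq_orderOf] at hx
      rw [← orderOf_dvd_iff_zpow_eq_one, orderOf_eq_card_of_forall_mem_zpowers hg₀]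
      exact hx
  have h1χ : χ ≠ 1 := fun h => by
    refine hne (hχ ?_)
    rw [h, MonoidHom.one_apply, MonoidHom.one_apply]
  have hb : ∀ b, σ (1, b) = (b, 1) ∨ σ (1, b) = (1, b) := by
    intro b
    by_cases hb1 : b = 1
    · subst hb1; exact Or.inl (by rw [show ((1 : scal K Q), (1 : scal K Q)) = 1 from rfl, hone])
    have hne2 : (σ (1, b)).1 ≠ (σ (1, b)).2 := by
      intro h
      have h3 := hσ' (1, b)
      rw [show σ (1, b) = ((σ (1, b)).1, (σ (1, b)).1) from Prod.ext rfl h.symm, hdiag] at h3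
      have h4 : D' (1, b) = D' ((σ (1, b)).1, (σ (1, b)).1) := by
        rw [hdiag]
        calc D' (1, b) = h₁⁻¹ * (h₁ * D' (1, b) * h₁⁻¹) * h₁ := by group
          _ = _ := by rw [← h3, Subgroup.mem_center_iff.1 (T.D_center _) h₁⁻¹, inv_mul_cancel_right]
      have h5 := hinj h4
      rw [Prod.mk.injEq] at h5
      exact hb1 (h5.2.trans h5.1.symm)
    have hconj : IsConj (T.D (1, b)) (T.D (σ (1, b))) := isConj_iff.2 ⟨h₀⁻¹ * h₁ * h₀, by
      calc h₀⁻¹ * h₁ * h₀ * T.D (1, b) * (h₀⁻¹ * h₁ * h₀)⁻¹ = h₀⁻¹ * (h₁ * D' (1, b) * h₁⁻¹) * h₀ := by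
            rw [hD']; group
        _ = h₀⁻¹ * D' (σ (1, b)) * h₀ := by rw [hσ']
        _ = T.D (σ (1, b)) := by rw [hD']; group⟩
    have hdt : (σ (1, b)).1 * (σ (1, b)).2 = b := by
      have h := congrArg T.dt (isConj_iff.1 hconj).choose_spec
      rw [map_mul, map_mul, map_inv, mul_right_comm, mul_inv_cancel, one_mul, T.dt_D, T.dt_D, one_mul] at h
      exact h.symm
    have hps := T.PS_irr χ 1 h1χ
    have hval : T.PS χ 1 (T.D (σ (1, b))) = T.PS χ 1 (T.D (1, b)) := by
      obtain ⟨c, hc'⟩ := isConj_iff.1 hconj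
      rw [← hc', hps.classFun]
    rw [show σ (1, b) = ((σ (1, b)).1, (σ (1, b)).2) from rfl, T.PS_D χ 1 _ _ h1χ hne2,
      T.PS_D χ 1 _ _ h1χ (Ne.symm hb1)] at hval
    simp only [cv, map_one, Units.val_one, mul_one, MonoidHom.one_apply] at hval
    have hmul' : (χ (σ (1, b)).1 : ℂ) * χ (σ (1, b)).2 = χ b := by rw [← Units.val_mul, ← map_mul, hdt]
    have hprod : ((χ (σ (1, b)).1 : ℂ) - 1) * ((χ (σ (1, b)).1 : ℂ) - χ b) = 0 := by
      linear_combination (χ (σ (1, b)).1 : ℂ) * hval - hmul'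
    rcases mul_eq_zero.1 hprod with h | h
    · have h1 : (σ (1, b)).1 = 1 := hχ (by rw [map_one]; exact Units.ext (by rw [Units.val_one]; exact sub_eq_zero.1 h))
      exact Or.inr (Prod.ext h1 (by rwa [h1, one_mul] at hdt))
    · have h1 : (σ (1, b)).1 = b := hχ (Units.ext (sub_eq_zero.1 h))
      refine Or.inl (Prod.ext h1 ?_)
      rw [h1] at hdt
      exact mul_eq_left.1 hdt
  have hswapb : ∀ b, σ (1, b) = (b, 1) := by
    intro b
    rcases hb b with h | h
    · exact h
    by_cases hb1 : b = 1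
    · subst hb1; exact h
    exfalso
    have he' : σ (1, e) = (e, 1) := hinj ((hσ' _).trans hs')
    have h3 : σ (1, b * e) = (e, b) := by
      rw [show ((1 : scal K Q), b * e) = (1, b) * (1, e) by rw [Prod.mk_mul_mk, one_mul], hmul, h, he',
        Prod.mk_mul_mk, one_mul, mul_one]
    rcases hb (b * e) with h2 | h2 <;> rw [h3, Prod.mk.injEq] at h2
    · exact hb1 h2.2
    · exact hne h2.1
  have hswap : ∀ a b, σ (a, b) = (b, a) := fun a b => by
    rw [show ((a : scal K Q), b) = (a, a) * (1, a⁻¹ * b) by simp, hmul, hfix, hswapb]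
    simp
  let τ : scal K Q × scal K Q →* C := π.comp D'
  have hτ : ∀ p, τ p = π (D' p) := fun p => rfl
  have hswapτ : ∀ a b, π h₁ * τ (a, b) * (π h₁)⁻¹ = τ (b, a) := fun a b => by
    rw [hτ, hτ, ← hswap a b, hσ', map_mul, map_mul, map_inv]
  have hker : ∀ p, τ p = 1 → p.1 = p.2 := by
    intro p hp
    obtain ⟨a, ha, -⟩ := T.ker_eq π hc ho (MonoidHom.mem_ker.2 hp)
    rw [← hdiag] at ha
    rw [hinj ha]
  have hmem : ∀ x, Commute x (π (D' (1, e))) ↔ ∃ p, τ p = x := by
    intro x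
    constructor
    · intro hx
      obtain ⟨h, rfl⟩ := hπ x
      obtain ⟨p, hp⟩ := hrange h (hcom h hx)
      exact ⟨p, by rw [hτ, hp]⟩
    · rintro ⟨p, rfl⟩
      exact (Commute.all p (1, e)).map τ
  have hcardker : Nat.card τ.ker = Nat.card π.ker := by
    refine Nat.card_congr (Equiv.ofBijective (fun p => (⟨D' p.1, p.2⟩ : π.ker)) ⟨fun p r h => ?_, fun z => ?_⟩)
    · exact Subtype.ext (hinj (congrArg Subtype.val h))
    · obtain ⟨a, ha, -⟩ := T.ker_eq π hc ho z.2
      exact ⟨⟨(a, a), by rw [MonoidHom.mem_ker, hτ, hdiag, ← ha]; exact z.2⟩, Subtype.ext (by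
        show D' (a, a) = z
        rw [hdiag, ← ha])⟩
  refine ⟨{ cyc := inferInstance, fin := inferInstance, cardS := T.cardS, τ := τ, mem_iff := hmem,
            central_iff := fun x => ⟨fun hx => ?_, ?_⟩, ker_diag := hker,
            ker_odd := by rw [hcardker]; exact ho, swap := hswapτ, cardC := ?_ },
          fun p => ⟨π h₀, by show _ = π (D' p); rw [hD', map_mul, map_mul, map_inv]⟩⟩
  · obtain ⟨⟨a, b⟩, rfl⟩ := (hmem x).1 (Subgroup.mem_center_iff.1 hx _).symm
    have h1 : τ (b, a) = τ (a, b) := by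
      rw [← hswapτ, Subgroup.mem_center_iff.1 hx (π h₁), mul_inv_cancel_right]
    have h2 : τ ((b, a) * (a, b)⁻¹) = 1 := by rw [map_mul, map_inv, h1, mul_inv_cancel]
    have h3 := hker _ h2
    simp only [Prod.fst_mul, Prod.snd_mul, Prod.fst_inv, Prod.snd_inv] at h3
    have h4 : b * a⁻¹ * (b * a⁻¹) = 1 := by
      nth_rewrite 2 [h3]
      rw [mul_mul_mul_comm, ← mul_inv, mul_comm b a, mul_inv_cancel]
    rcases (heu ((b * a⁻¹ : scal K Q) : K) (congrArg Subtype.val h4)).imp
      (fun h => (Subtype.ext h : b * a⁻¹ = 1)) (fun h => (Subtype.ext h : b * a⁻¹ = e)) with h5 | h5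
    · exact ⟨a, by rw [mul_inv_eq_one.1 h5]⟩
    · exfalso
      have hbe : (a, b) = (a, a) * (1, e) := by
        rw [← h5, Prod.mk_mul_mk, mul_one, mul_comm a, inv_mul_cancel_right]
      have hwc : π (D' (1, e)) ∈ center C := by
        have hac : τ (a, a) ∈ center C := Subgroup.mem_center_iff.2 fun y => by
          obtain ⟨y', rfl⟩ := hπ y
          rw [hτ, hdiag, ← map_mul, ← map_mul, Subgroup.mem_center_iff.1 (T.D_center a) y']
        rw [hbe, map_mul] at hx
        exact ((center C).mul_mem_cancel_left hac).1 hx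
      rw [hD'] at hwc
      rw [Subgroup.mem_center_iff.1 hwc (π h₁), mul_inv_cancel_right] at hs
      have ht1 : t = 1 := right_eq_mul.1 hs
      rw [ht1, orderOf_one] at ht
      omega
  · rintro ⟨a, rfl⟩
    exact Subgroup.mem_center_iff.2 fun y => by
      obtain ⟨y', rfl⟩ := hπ y
      rw [hτ, hdiag, ← map_mul, ← map_mul, Subgroup.mem_center_iff.1 (T.D_center a) y']
  · rw [hcardker, ← hH]
    have h := π.ker.index_mul_card
    rw [Subgroup.index_ker, MonoidHom.range_eq_top.2 hπ, Subgroup.card_top] at h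
    exact_mod_cast h

end Tbl

end Cfsg.Agent.Invol.BrauerL3
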