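import Cfsg.Agent.Lib.Invol.BrauerL3.AlgWr

/-!
# The semidihedral case

`A = -Q`; with `|G| = c g₀` one has `g₀ = (Q² - 1 - w)(Q² + Q - w)` for an integer `w` with `w (a + Q) = Q (Q² - 1)`;
the equations leave two branches for `b`; one gives `Q + 1 + w ∣ Q (Q² + Q - w)`, the other is impossible once `g₀` has
no odd prime divisor in common with `Q + 1`.
-/

set_option autoImplicit false

namespace Cfsg.Agent.Invol.BrauerL3

theorem SdEqs.A_eq {Q : ℤ} {R : ℚ} (E : SdEqs Q R) (h1 : Q ≠ 1) : E.A = -Q := by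
  have ha1 : (-1 - (E.a : ℚ)) ≠ 0 := by
    intro h
    have h' : ((E.a : ℤ) : ℚ) = ((-1 : ℤ) : ℚ) := by push_cast; linarith
    exact E.a1 (by exact_mod_cast h')
  have h := E.eqT.trans E.eqF.symm
  have h2 : (-1 - (E.A : ℚ)) ^ 2 = (2 * (1 - (Q : ℚ)) - 1 - E.A) ^ 2 := by
    have h' := congrArg (fun z : ℚ => (z - 1 - (E.A : ℚ) ^ 2 / E.a) * (-1 - (E.a : ℚ))) h
    simpa [add_sub_assoc, div_mul_cancel₀ _ ha1] using h'
  have h3 : (1 - (Q : ℚ)) * (Q + E.A) = 0 := by linear_combination (1 / 4 : ℚ) * h2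
  rcases mul_eq_zero.1 h3 with h4 | h4
  · exact absurd (by exact_mod_cast (show ((Q : ℤ) : ℚ) = ((1 : ℤ) : ℚ) by push_cast; linarith)) h1
  · exact_mod_cast (show ((E.A : ℤ) : ℚ) = ((-Q : ℤ) : ℚ) by push_cast; linarith)

/-- The cleared equations. -/
theorem SdEqs.cleared {Q : ℤ} {R : ℚ} (E : SdEqs Q R) (hR : R ≠ 0) (h1 : Q ≠ 1) (h0 : Q ≠ 0) {g₀ : ℤ}
    (hg : R * g₀ = ((Q : ℚ) * (Q + 1)) ^ 2) :
    E.a + Q ≠ 0 ∧ g₀ * (E.a + Q) ^ 2 = Q * (Q + 1) ^ 2 * (Q - 1) * E.a * (E.a + 1) ∧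
      E.a * ((1 + E.a) * E.B + (Q - 1) * E.b) ^ 2 + (E.a + Q) ^ 2 * E.b * (1 + E.a + E.b) = 0 ∧
      (Q - 1) * E.a * (E.a + 1) * (E.b + E.b ^ 2 + E.B ^ 2 * (1 + E.b) - (2 * Q + 1 - E.B) ^ 2 * E.b) -
        (Q + 1) * (E.a + Q) ^ 2 * E.b * (1 + E.b) = 0 := by
  have hA := E.A_eq h1
  have ha : (E.a : ℚ) ≠ 0 := by exact_mod_cast E.a0
  have ha1 : (E.a : ℚ) ≠ -1 := by exact_mod_cast E.a1
  have ha' : (E.a : ℚ) + 1 ≠ 0 := fun e => ha1 (by linarith)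
  have hb : (E.b : ℚ) ≠ 0 := by exact_mod_cast E.b0
  have hb1 : (E.b : ℚ) ≠ -1 := by exact_mod_cast E.b1
  have hb' : (E.b : ℚ) + 1 ≠ 0 := fun e => hb1 (by linarith)
  have hb'' : -1 - (E.b : ℚ) ≠ 0 := fun e => hb1 (by linarith)
  have hc : (-1 - (E.a : ℚ) - E.b) ≠ 0 := fun e => E.ab (by
    have h' : ((E.a + E.b : ℤ) : ℚ) = ((-1 : ℤ) : ℚ) := by push_cast; linarith
    exact_mod_cast h')
  have hq : (Q : ℚ) ≠ 0 := by exact_mod_cast h0
  have hq1 : (Q : ℚ) - 1 ≠ 0 := sub_ne_zero.2 (by exact_mod_cast h1)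
  have eA : (E.A : ℚ) = -(Q : ℚ) := by rw [hA]; push_cast; ring
  have hT := E.eqT
  rw [two_terms ha ha1, eA, div_eq_iff (mul_ne_zero ha ha')] at hT
  have hT' : R * ((Q : ℚ) - 1) * E.a * (E.a + 1) = Q * ((E.a : ℚ) + Q) ^ 2 := by
    have : ((-(Q : ℚ) - E.a) ^ 2) * Q = R * (((Q : ℚ) - 1) / Q) * (E.a * (E.a + 1)) * Q := by rw [hT]
    field_simp at this
    linear_combination -this
  have hu : E.a + Q ≠ 0 := fun e => by
    have e' : (E.a : ℚ) + Q = 0 := by exact_mod_cast e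
    rw [e', zero_pow two_ne_zero, mul_zero] at hT'
    exact mul_ne_zero (mul_ne_zero (mul_ne_zero hR hq1) ha) ha' hT'
  refine ⟨hu, ?_, ?_, ?_⟩
  · have h : (g₀ : ℚ) * ((E.a : ℚ) + Q) ^ 2 = (Q : ℚ) * (Q + 1) ^ 2 * (Q - 1) * E.a * (E.a + 1) := by
      refine mul_left_cancel₀ hq ?_
      linear_combination -(g₀ : ℚ) * hT' + ((Q : ℚ) - 1) * E.a * (E.a + 1) * hg
    exact_mod_cast h
  · have h := three_terms (C := -1 - (E.A : ℚ) - E.B) ha ha1 hb hc (by ring) (by ring) E.eqA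
    rw [eA] at h
    have h' : (E.a : ℚ) * ((1 + E.a) * E.B + ((Q : ℚ) - 1) * E.b) ^ 2 +
        ((E.a : ℚ) + Q) ^ 2 * E.b * (1 + E.a + E.b) = 0 := by linear_combination h
    exact_mod_cast h'
  · have h := E.eq0
    have e : ((E.b : ℚ) * (E.b + 1) + (E.B : ℚ) ^ 2 * (E.b + 1) - (2 * (1 + (Q : ℚ)) - 1 - E.B) ^ 2 * E.b) =
        E.b * (E.b + 1) * (R * (((Q : ℚ) + 1) / Q)) := by
      rw [← h]; field_simp; ring
    have h' : ((Q : ℚ) - 1) * E.a * (E.a + 1) *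
        ((E.b : ℚ) + (E.b : ℚ) ^ 2 + (E.B : ℚ) ^ 2 * (1 + E.b) - (2 * (Q : ℚ) + 1 - E.B) ^ 2 * E.b) -
        ((Q : ℚ) + 1) * ((E.a : ℚ) + Q) ^ 2 * E.b * (1 + E.b) = 0 := by
      refine mul_left_cancel₀ hq ?_
      have e' : ((E.b : ℚ) * (E.b + 1) + (E.B : ℚ) ^ 2 * (E.b + 1) - (2 * (1 + (Q : ℚ)) - 1 - E.B) ^ 2 * E.b) * Q =
          E.b * (E.b + 1) * R * ((Q : ℚ) + 1) := by rw [e]; field_simp
      linear_combination ((Q : ℚ) - 1) * E.a * (E.a + 1) * e' +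
        (E.b : ℚ) * (E.b + 1) * ((Q : ℚ) + 1) * hT'
    exact_mod_cast h'

/-- The two branches. -/
theorem sd_branches {Q a b B u : ℤ} (hu : u = a + Q) (ha : a ≠ 0) (ha1 : a ≠ -1) (hb : b ≠ 0)
    (hi : a * ((1 + a) * B + (Q - 1) * b) ^ 2 + u ^ 2 * b * (1 + a + b) = 0)
    (hii : (Q - 1) * a * (a + 1) * (b + b ^ 2 + B ^ 2 * (1 + b) - (2 * Q + 1 - B) ^ 2 * b) -
      (Q + 1) * u ^ 2 * b * (1 + b) = 0) :
    b * (a + Q ^ 2) + Q ^ 2 * (a + 1) = 0 ∨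
      b * ((u ^ 2) ^ 2 + a * (-2 * (Q ^ 2 - 1) * (1 + a)) ^ 2) +
        (u ^ 2 - a * (-2 * (Q ^ 2 - 1) * (1 + a))) ^ 2 = 0 := by
  set L := 2 * a * (1 + a) * (Q - 1) * ((Q - 1) - (1 + a) * (2 * Q + 1)) with hL
  set P0 := (Q - 1) * u ^ 2 * (1 + a) - (Q - 1) * a * (1 + a) ^ 2 * (1 - (2 * Q + 1) ^ 2) +
    (1 + a) * (Q + 1) * u ^ 2 with hP0
  set P1 := a * (Q - 1) ^ 3 + (Q - 1) * u ^ 2 - (Q - 1) * a * (1 + a) ^ 2 + (1 + a) * (Q + 1) * u ^ 2 with hP1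
  have hB : L * B + P0 + P1 * b = 0 := by
    refine mul_left_cancel₀ hb ?_
    rw [hL, hP0, hP1]
    linear_combination (Q - 1) * hi - (1 + a) * hii
  have h : 4 * a * (1 + a) ^ 3 * ((b * (a + Q ^ 2) + Q ^ 2 * (a + 1)) *
      (b * ((u ^ 2) ^ 2 + a * (-2 * (Q ^ 2 - 1) * (1 + a)) ^ 2) +
        (u ^ 2 - a * (-2 * (Q ^ 2 - 1) * (1 + a))) ^ 2)) = 0 := by
    have h1 : L ^ 2 * (a * ((1 + a) * B + (Q - 1) * b) ^ 2 + u ^ 2 * b * (1 + a + b)) -
        a * (((1 + a) * L * B + (Q - 1) * L * b) + (-(1 + a) * (P0 + P1 * b) + (Q - 1) * L * b)) *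
          ((1 + a) * (L * B + P0 + P1 * b)) = 0 := by rw [hi, hB]; ring
    rw [hL, hP0, hP1] at h1
    rw [hu] at h1 ⊢
    linear_combination h1
  rcases mul_eq_zero.1 h with h | h
  · exact absurd h (mul_ne_zero (mul_ne_zero (by norm_num) ha) (pow_ne_zero _ fun e => ha1 (by linarith)))
  · exact mul_eq_zero.1 h

/-- The parameter `w`. -/
theorem exists_w {Q a g₀ : ℤ} (hu : a + Q ≠ 0)
    (hg : g₀ * (a + Q) ^ 2 = Q * (Q + 1) ^ 2 * (Q - 1) * a * (a + 1)) :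
    ∃ w : ℤ, w * (a + Q) = Q * (Q ^ 2 - 1) ∧ g₀ = (Q ^ 2 - 1 - w) * (Q ^ 2 + Q - w) := by
  set u := a + Q
  have key : (g₀ - Q * (Q ^ 2 - 1) * (Q + 1)) * u ^ 2 + Q * (Q ^ 2 - 1) * (Q + 1) * (2 * Q - 1) * u -
      (Q * (Q ^ 2 - 1)) ^ 2 = 0 := by linear_combination hg
  obtain ⟨w, hw⟩ : u ∣ Q * (Q ^ 2 - 1) := by
    obtain ⟨d, u', M', hd, hco, hu', hM'⟩ := Int.exists_gcd_one' (m := u) (n := Q * (Q ^ 2 - 1))
      (Int.gcd_pos_iff.2 (Or.inl hu))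
    have hd0 : (d : ℤ) ≠ 0 := by exact_mod_cast hd.ne'
    have h2 : u' ∣ M' ^ 2 := by
      refine ⟨(g₀ - M' * d * (Q + 1)) * u' + M' * d * 0 + M' * (Q + 1) * (2 * Q - 1), ?_⟩
      refine mul_left_cancel₀ (pow_ne_zero 2 hd0) ?_
      rw [hu', hM'] at key
      linear_combination -key
    have h3 : IsUnit u' := ((Int.isCoprime_iff_gcd_eq_one.2 hco).pow_right (n := 2)).isUnit_of_dvd' dvd_rfl h2
    rw [hu', hM', mul_comm u']
    exact (h3.mul_right_dvd).2 (dvd_mul_left _ _)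
  refine ⟨w, by rw [mul_comm]; exact hw.symm, ?_⟩
  refine mul_left_cancel₀ (pow_ne_zero 2 hu) ?_
  linear_combination key + (Q * (Q ^ 2 - 1) + u * w - (Q + 1) * (2 * Q - 1) * u) * hw

/-- The first branch. -/
theorem sd_first {Q w : ℤ} {p n : ℕ} (hp : p.Prime) (hQ : Q = (p : ℤ) ^ n ∨ Q = -(p : ℤ) ^ n) (h4 : Q % 4 = 3) (hq : 3 ≤ |Q|) (hw : Odd w) (hwd : w ∣ Q * (Q - 1))
    (hco : IsCoprime w (Q + 1)) (hd : Q + 1 + w ∣ Q * (Q ^ 2 + Q - w)) :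
    w = -1 ∨ w = -Q ∨ (Q = -5 ∧ w = 3) ∨ (Q = -9 ∧ w = 5) := by
  set d := Q + 1 + w with hd0
  have h1 : d ∣ Q * (Q ^ 2 + Q - w) + (w + 1) * w ^ 2 :=
    ⟨Q ^ 2 - Q * w + w ^ 2, by rw [hd0]; ring⟩
  have h2 : d ∣ (w + 1) * w ^ 2 := (dvd_add_right hd).1 h1
  have hdw : IsCoprime d w := by
    obtain ⟨x, y, hxy⟩ := hco
    exact ⟨y, x - y, by rw [hd0]; linear_combination hxy⟩
  have h3 : d ∣ w + 1 := (hdw.pow_right (n := 2)).dvd_of_dvd_mul_right h2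
  have hdQ : d ∣ Q := by
    have := dvd_sub (dvd_refl d) h3
    rwa [show d - (w + 1) = Q by rw [hd0]; ring] at this
  obtain ⟨f, hf⟩ := hdQ
  obtain ⟨s, hs⟩ := hw
  rcases (show d = 1 ∨ d = -1 ∨ d = 0 ∨ 2 ≤ |d| by rcases abs_cases d with h | h <;> omega) with h | h | h | h
  · exact Or.inr (Or.inl (by omega))
  · -- `d = -1`
    have hw' : w = -Q - 2 := by omega
    have hcQ : IsCoprime w Q := by
      rw [hw']
      obtain ⟨k, hk⟩ : ∃ k, Q = 2 * k + 1 := ⟨Q / 2, by omega⟩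
      exact ⟨k, k + 1, by rw [hk]; ring⟩
    have h5 : w ∣ Q - 1 := hcQ.dvd_of_dvd_mul_left hwd
    have h6 : w ∣ 3 := by
      have := dvd_add h5 (dvd_refl w)
      rw [show Q - 1 + w = -3 by omega] at this
      exact dvd_neg.1 this
    have h7 := Int.le_of_dvd (by norm_num) h6
    have h8 := Int.le_of_dvd (by norm_num) (neg_dvd.2 h6)
    rcases abs_cases Q with ⟨e, -⟩ | ⟨e, -⟩ <;> omega
  · rw [h, zero_mul] at hf; rw [hf, abs_zero] at hq; omega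
  · -- `|d| ≥ 2`
    have hcQ : IsCoprime w d := hdw.symm
    -- every prime of `d` divides `w + 1`
    have hdo : Odd d := by
      have : Odd Q := Int.odd_iff.2 (by omega)
      rw [hf] at this
      exact (Int.odd_mul.1 this).1
    have hfo : Odd f := by
      have : Odd Q := Int.odd_iff.2 (by omega)
      rw [hf] at this
      exact (Int.odd_mul.1 this).2
    obtain ⟨r, hr⟩ := hdo
    obtain ⟨k, hk⟩ := hfo
    have hd3 : 3 ≤ |d| := by rcases abs_cases d with e | e <;> omega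
    have hpd : (p : ℤ) ∣ d := by
      obtain ⟨l, hl, hld⟩ := Nat.exists_prime_and_dvd (n := d.natAbs) (by rcases abs_cases d with e | e <;> omega)
      have h5 : l ∣ p ^ n := by rw [← abs_pow_of hQ, hf, Int.natAbs_mul]; exact hld.mul_right _
      rw [(Nat.prime_dvd_prime_iff_eq hl hp).1 (hl.dvd_of_dvd_pow h5)] at hld
      exact Int.natCast_dvd.2 hld
    have hpw : ¬ (p : ℤ) ∣ w := fun h => (Nat.prime_iff_prime_int.1 hp).not_dvd_one (by
      simpa using dvd_sub (hpd.trans h3) h)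
    have hwQ : IsCoprime w Q := by
      have h5 := ((Nat.prime_iff_prime_int.1 hp).coprime_iff_not_dvd.2 hpw).symm.pow_right (n := n)
      rcases hQ with e | e <;> rw [e]
      · exact h5
      · exact h5.neg_right
    obtain ⟨e, he⟩ := hwQ.dvd_of_dvd_mul_left hwd
    obtain ⟨e', rfl⟩ : Even e := by
      have h5 : Even (Q - 1) := Int.even_iff.2 (by omega)
      rw [he] at h5
      exact (Int.even_mul.1 h5).resolve_left fun h6 => by obtain ⟨j, hj⟩ := h6; omega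
    have he0 : e' ≠ 0 := fun e0 => by rw [e0] at he; simp only [add_zero, mul_zero] at he; rcases abs_cases Q with ⟨e1, -⟩ | ⟨e1, -⟩ <;> omega
    -- sizes
    have hwf : w = d * (1 - f) - 1 := by rw [mul_sub, mul_one, ← hf, hd0]; ring
    have hle : 2 * |w| ≤ |d| * |f| + 1 := by
      have h5 : |w * (e' + e')| = |w| * (2 * |e'|) := by rw [abs_mul, ← two_mul, abs_mul, abs_two]
      have h6 : |Q - 1| ≤ |d| * |f| + 1 := by
        rw [← abs_mul, ← hf]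
        exact (abs_sub Q 1).trans (by rw [abs_one])
      have h7 : 1 ≤ |e'| := abs_pos.2 he0
      rw [he, h5] at h6
      nlinarith [abs_nonneg w]
    have hge : |d| * (|f| - 1) - 1 ≤ |w| := by
      have h5 : |d| * (|f| - 1) ≤ |d * (1 - f)| := by
        rw [abs_mul]
        exact mul_le_mul_of_nonneg_left (by rcases abs_cases f with e | e <;> rcases abs_cases (1 - f) with e2 | e2 <;> omega)
          (abs_nonneg d)
      have h6 : |d * (1 - f)| ≤ |w| + 1 := by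
        have := abs_add_le w 1
        rwa [show w + 1 = d * (1 - f) by rw [hwf]; ring, abs_one] at this
      omega
    rcases (show f = 1 ∨ f = -1 ∨ 3 ≤ |f| by rcases abs_cases f with h5 | h5 <;> omega) with hf1 | hf1 | hf3
    · subst hf1; exact Or.inl (by rw [hwf]; ring)
    · subst hf1
      exfalso
      rw [abs_neg, abs_one, mul_one] at hle
      rcases abs_cases w with h5 | h5 <;> rcases abs_cases d with h6 | h6 <;> omega
    · have h5 : |d| * (|f| - 2) ≤ 3 := by linarith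
      have h6 : |d| = 3 ∧ |f| = 3 := by
        constructor <;> nlinarith
      refine Or.inr (Or.inr (Or.inr ?_))
      rcases abs_eq (show (0 : ℤ) ≤ 3 by norm_num) |>.1 h6.1 with h7 | h7 <;>
        rcases abs_eq (show (0 : ℤ) ≤ 3 by norm_num) |>.1 h6.2 with h8 | h8 <;> rw [h7, h8] at hf hwf <;>
        norm_num at hf hwf <;> subst hf <;> subst hwf <;> (try omega) <;>
        exfalso <;> norm_num at hwd hco he

end Cfsg.Agent.Invol.BrauerL3
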