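import Cfsg.Agent.Lib.Invol.BrauerL3.Gram

/-!
# The shape of the first five vectors: `a+b+c`, `b+i`, `a+e`
-/

set_option autoImplicit false

open scoped Classical

namespace Cfsg.Agent.Invol.BrauerL3

universe u

variable {ι : Type u} [Fintype ι]

theorem sum_mul_two (f : ι → ℤ) (x y : ι × ℤ) :
    ∑ χ, f χ * (sv x + sv y) χ = x.2 * f x.1 + y.2 * f y.1 := by
  simp only [Pi.add_apply, mul_add, Finset.sum_add_distrib, mul_comm (f _) (sv _ _), sum_sv_mul]

theorem sum_mul_three (f : ι → ℤ) (x y z : ι × ℤ) :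
    ∑ χ, f χ * (sv x + sv y + sv z) χ = x.2 * f x.1 + y.2 * f y.1 + z.2 * f z.1 := by
  simp only [Pi.add_apply, mul_add, Finset.sum_add_distrib, mul_comm (f _) (sv _ _), sum_sv_mul]

theorem sv_self (x : ι × ℤ) : sv x x.1 = x.2 := if_pos rfl

theorem sv_of_ne {x : ι × ℤ} {χ : ι} (h : χ ≠ x.1) : sv x χ = 0 := if_neg h

theorem IsSigned.sq {x : ι × ℤ} (h : IsSigned x) : x.2 * x.2 = 1 := by
  rcases h with e | e <;> rw [e] <;> rfl

theorem IsSigned.ne_zero {x : ι × ℤ} (h : IsSigned x) : x.2 ≠ 0 := by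
  rcases h with e | e <;> omega

theorem small_of_norm {v : ι → ℤ} (h : ∑ χ, v χ * v χ ≤ 3) (z : ι) : v z = -1 ∨ v z = 0 ∨ v z = 1 := by
  have h3 : v z * v z ≤ 3 := (Finset.single_le_sum (f := fun χ => v χ * v χ)
    (fun χ _ => mul_self_nonneg _) (Finset.mem_univ z)).trans h
  have h' : -1 ≤ v z ∧ v z ≤ 1 := ⟨by nlinarith, by nlinarith⟩
  omega

/-- The two terms of a vector of norm two with inner product one with a small vector. -/
theorem split_two {v O : ι → ℤ} (hv : ∑ χ, v χ * v χ ≤ 3) (hO : ∑ χ, O χ * O χ = 2)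
    (h : ∑ χ, v χ * O χ = 1) :
    ∃ x y : ι × ℤ, IsSigned x ∧ IsSigned y ∧ x.1 ≠ y.1 ∧ O = sv x + sv y ∧ v x.1 = x.2 ∧ v y.1 = 0 := by
  obtain ⟨x, y, hx, hy, hxy, e⟩ := norm_two hO
  rw [e, sum_mul_two] at h
  rcases small_of_norm hv x.1 with p | p | p <;> rcases small_of_norm hv y.1 with r | r | r <;>
    rcases hx with hx' | hx' <;> rcases hy with hy' | hy' <;> rw [p, r, hx', hy'] at h <;>
    first
      | omega
      | exact ⟨x, y, by unfold IsSigned; omega, by unfold IsSigned; omega, hxy, e, by omega, r⟩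
      | exact ⟨y, x, by unfold IsSigned; omega, by unfold IsSigned; omega, hxy.symm, e.trans (add_comm _ _),
          by omega, p⟩

namespace Vecs

variable {k : ℕ} {gram : Fin k → Fin k → ℤ} {tr tv : Fin k → ℤ} {pr : Fin k → ℚ}
  (V : Vecs ι gram tr tv pr)

/-- The inner products needed for the first five vectors. -/
structure Five (iA i0 : Fin k) (iT : Fin 3 → Fin k) : Prop where
  trA : tr iA = 1
  tr0 : tr i0 = 1
  trT : ∀ j, tr (iT j) = 1
  AA : gram iA iA = 4
  oo : gram i0 i0 = 3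
  TT : ∀ j, gram (iT j) (iT j) = 3
  Ao : gram iA i0 = 2
  AT : ∀ j, gram iA (iT j) = 2
  oT : ∀ j, gram i0 (iT j) = 1
  TT' : ∀ j l, j ≠ l → gram (iT j) (iT l) = 2

/-- The shape of the first five vectors. -/
structure Shape (iA i0 : Fin k) (iT : Fin 3 → Fin k) where
  /-- the common term of the first and third -/
  a : ι × ℤ
  /-- the common term of the first and second -/
  b : ι × ℤ
  /-- the rest of the first -/
  c : ι × ℤ
  /-- the rest of the second -/
  i : ι × ℤ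
  /-- the rests of the others -/
  e : Fin 3 → ι × ℤ
  ha : IsSigned a
  hb : IsSigned b
  hc : IsSigned c
  hi : IsSigned i
  he : ∀ j, IsSigned (e j)
  ao : a.1 ≠ V.o
  bo : b.1 ≠ V.o
  co : c.1 ≠ V.o
  io : i.1 ≠ V.o
  eo : ∀ j, (e j).1 ≠ V.o
  ab : a.1 ≠ b.1
  ac : a.1 ≠ c.1
  bc : b.1 ≠ c.1
  ai : a.1 ≠ i.1
  bi : b.1 ≠ i.1
  ci : c.1 ≠ i.1
  ea : ∀ j, (e j).1 ≠ a.1
  eb : ∀ j, (e j).1 ≠ b.1
  ec : ∀ j, (e j).1 ≠ c.1
  ei : ∀ j, (e j).1 ≠ i.1
  ee : ∀ j l, j ≠ l → (e j).1 ≠ (e l).1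
  wA : V.w iA = sv a + sv b + sv c
  w0 : V.w i0 = sv b + sv i
  wT : ∀ j, V.w (iT j) = sv a + sv (e j)

theorem exists_shape {iA i0 : Fin k} {iT : Fin 3 → Fin k} (H : Five (gram := gram) (tr := tr) iA i0 iT) :
    Nonempty (V.Shape iA i0 iT) := by
  set A := V.w iA with hA
  have nA : ∑ χ, A χ * A χ = 3 := by rw [hA, V.inner_w, H.AA, H.trA]; rfl
  obtain ⟨b, i, hb, hi, hbi, e0, hAb, hAi⟩ := split_two (v := A) (O := V.w i0) nA.le
    (by rw [V.inner_w, H.oo, H.tr0]; rfl) (by rw [hA, V.inner_w, H.Ao, H.trA, H.tr0]; rfl)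
  have hbo : b.1 ≠ V.o := V.ne_o (i := iA) (by rw [← hA, hAb]; exact hb.ne_zero)
  have hio : i.1 ≠ V.o := V.ne_o (i := i0) (by
    rw [e0, Pi.add_apply, sv_of_ne hbi.symm, sv_self, zero_add]; exact hi.ne_zero)
  choose a e ha he hae eT hAa hAe using fun j => split_two (v := A) (O := V.w (iT j)) nA.le
    (by rw [V.inner_w, H.TT, H.trT]; rfl) (by rw [hA, V.inner_w, H.AT, H.trA, H.trT]; rfl)
  have hao : ∀ j, (a j).1 ≠ V.o := fun j => V.ne_o (i := iA) (by rw [← hA, hAa]; exact (ha j).ne_zero)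
  have heo : ∀ j, (e j).1 ≠ V.o := fun j => V.ne_o (i := iT j) (by
    rw [eT, Pi.add_apply, sv_of_ne (hae j).symm, sv_self, zero_add]; exact (he j).ne_zero)
  have hab : ∀ j, (a j).1 ≠ b.1 ∧ (a j).1 ≠ i.1 ∧ (e j).1 ≠ b.1 ∧ (e j).1 ≠ i.1 := by
    intro j
    have h1 : (a j).1 ≠ i.1 := fun h => (ha j).ne_zero (by rw [← hAa j, h, hAi])
    have h2 : (e j).1 ≠ b.1 := fun h => hb.ne_zero (by rw [← hAb, ← h, hAe])
    have h := V.inner_w i0 (iT j)
    rw [H.oT, H.tr0, H.trT, eT, sum_mul_two, e0] at h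
    simp only [Pi.add_apply, sv_of_ne h1, sv_of_ne h2] at h
    by_cases h3 : (a j).1 = b.1
    · exfalso
      have s1 : (a j).2 = b.2 := by rw [← hAa j, h3, hAb]
      rw [h3, sv_self, s1, add_zero, hb.sq] at h
      have h4 : (e j).1 = i.1 := by
        by_contra h4
        rw [sv_of_ne h4] at h
        omega
      rw [h4, sv_self] at h
      obtain ⟨d1, -, -⟩ := V.sum_two (ha j) (he j) (eT j)
      obtain ⟨d0, -, -⟩ := V.sum_two hb hi e0
      have s2 : (e j).2 = -i.2 := by rcases hi with p | p <;> rcases he j with r | r <;> rw [p, r] at h ⊢ <;> omega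
      simp only [dg, h3, s1, h4, s2, H.trT, neg_mul] at d1
      simp only [dg, H.tr0] at d0
      exact (V.dg_ne hi hio).1 (by simp only [dg]; omega)
    · refine ⟨h3, h1, h2, fun h4 => ?_⟩
      rw [sv_of_ne h3, h4, sv_self] at h
      rcases hi with p | p <;> rcases he j with r | r <;> rw [p, r] at h <;> omega
  -- two of the three agree
  have hTT : ∀ j l, j ≠ l → (a j).2 * V.w (iT l) (a j).1 + (e j).2 * V.w (iT l) (e j).1 = 1 := fun j l hjl => by
    have h := V.inner_w (iT l) (iT j)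
    rw [H.TT' l j hjl.symm, H.trT, H.trT, eT j, sum_mul_two] at h
    rw [h]; rfl
  have ane : ∀ j l, (a j).1 ≠ (e l).1 := fun j l h => (ha j).ne_zero (by rw [← hAa j, h, hAe])
  have ainj : ∀ j l, (a j).1 = (a l).1 → a j = a l := fun j l h =>
    Prod.ext h (by rw [← hAa j, ← hAa l, h])
  have same : ∀ j l, j ≠ l → (a j).1 = (a l).1 → (e j).1 ≠ (e l).1 := by
    intro j l hjl h h'
    have h1 := hTT j l hjl
    rw [eT l, Pi.add_apply, Pi.add_apply, h, h', sv_self, sv_self, sv_of_ne (ane l l), sv_of_ne (ane l l).symm,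
      add_zero, zero_add, ainj j l h, (ha l).sq] at h1
    rcases he j with p | p <;> rcases he l with r | r <;> rw [p, r] at h1 <;> omega
  have diff : ∀ j l, j ≠ l → (a j).1 ≠ (a l).1 → (e j).1 = (e l).1 := by
    intro j l hjl h
    by_contra h'
    have h1 := hTT j l hjl
    rw [eT l, Pi.add_apply, Pi.add_apply, sv_of_ne h, sv_of_ne (ane j l), sv_of_ne (ane l j).symm,
      sv_of_ne h'] at h1
    omega
  obtain ⟨c₁, c₂, -, -, -, -, -, eA⟩ := norm_three nA hb hAb
  have hmem : ∀ j, (a j).1 = c₁.1 ∨ (a j).1 = c₂.1 := by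
    intro j
    by_contra h
    push Not at h
    have h0 := hAa j
    rw [eA, Pi.add_apply, Pi.add_apply, sv_of_ne (hab j).1, sv_of_ne h.1, sv_of_ne h.2] at h0
    have := (ha j).ne_zero
    omega
  have hall : ∀ j, a j = a 0 := by
    intro j
    refine ainj j 0 ?_
    by_contra hne
    obtain ⟨l, hlj, hl0⟩ := (by decide : ∀ j : Fin 3, ∃ l : Fin 3, l ≠ j ∧ l ≠ 0) j
    have hj0 : j ≠ 0 := fun e => hne (by rw [e])
    have e1 := diff j 0 hj0 hne
    by_cases h : (a l).1 = (a j).1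
    · exact same l j hlj h ((diff l 0 hl0 (h ▸ hne)).trans e1.symm)
    · have h0 : (a l).1 = (a 0).1 := by
        rcases hmem l with p | p <;> rcases hmem j with r | r <;> rcases hmem 0 with s | s <;>
          first | exact p.trans s.symm | exact absurd (p.trans r.symm) h | exact absurd (r.trans s.symm) hne
      exact same l 0 hl0 h0 ((diff l j hlj h).trans e1)
  obtain ⟨y, z, hy, hz, hyz, hxy, hxz, eA'⟩ := norm_three nA (ha 0) (hAa 0)
  have key : ∀ {y z : ι × ℤ}, IsSigned y → IsSigned z → y.1 ≠ z.1 → (a 0).1 ≠ y.1 → (a 0).1 ≠ z.1 →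
      A = sv (a 0) + sv y + sv z → y.1 = b.1 → Nonempty (V.Shape iA i0 iT) := by
    intro y z hy hz hyz hxy hxz eA' hyb
    have yb : y = b := Prod.ext hyb (by
      rw [← hAb, eA', Pi.add_apply, Pi.add_apply, ← hyb, sv_self, sv_of_ne hxy.symm, sv_of_ne hyz]; ring)
    subst yb
    have hAz : A z.1 = z.2 := by
      rw [eA', Pi.add_apply, Pi.add_apply, sv_self, sv_of_ne hxz.symm, sv_of_ne hyz.symm]; ring
    exact ⟨{ a := a 0, b := y, c := z, i := i, e := e, ha := ha 0, hb := hb, hc := hz, hi := hi, he := he,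
             ao := hao 0, bo := hbo, co := V.ne_o (i := iA) (by rw [← hA, hAz]; exact hz.ne_zero), io := hio,
             eo := heo, ab := (hab 0).1, ac := hxz, bc := hyz, ai := (hab 0).2.1, bi := hbi,
             ci := fun h => hz.ne_zero (by rw [← hAz, h, hAi]),
             ea := fun j => (ane 0 j).symm, eb := fun j => (hab j).2.2.1,
             ec := fun j h => hz.ne_zero (by rw [← hAz, ← h, hAe]), ei := fun j => (hab j).2.2.2,
             ee := fun j l hjl => same j l hjl (by rw [hall j, hall l]),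
             wA := eA', w0 := e0, wT := fun j => by rw [eT j, hall j] }⟩
  rcases (show y.1 = b.1 ∨ z.1 = b.1 by
    by_contra h
    push Not at h
    have h0 := hAb
    rw [eA', Pi.add_apply, Pi.add_apply, sv_of_ne (hab 0).1.symm, sv_of_ne h.1.symm, sv_of_ne h.2.symm] at h0
    have := hb.ne_zero
    omega) with h | h
  · exact key hy hz hyz hxy hxz eA' h
  · exact key hz hy hyz.symm hxz hxy (eA'.trans (add_right_comm _ _ _)) h

theorem five_sd {ι : Type u} [Fintype ι] (Q : ℤ) (V : Vecs ι gramSd (fun _ => 1) (valSd Q) (pairSd Q)) :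
    Nonempty (V.Shape 0 1 ![2, 3, 4]) :=
  V.exists_shape ⟨rfl, rfl, fun _ => rfl, rfl, rfl, by decide, rfl, by decide, by decide, by decide⟩

theorem five_wr {ι : Type u} [Fintype ι] (Q : ℤ)
    (V : Vecs ι gramWr ![1, 1, 1, 1, 1, 1, 1, 0] (valWr Q) (pairWr Q)) :
    Nonempty (V.Shape 0 1 ![2, 3, 4]) :=
  V.exists_shape ⟨rfl, rfl, by decide, rfl, rfl, by decide, rfl, by decide, by decide, by decide⟩

end Vecs

end Cfsg.Agent.Invol.BrauerL3
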