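import Cfsg.Agent.Lib.Invol.BrauerL3.Shape

/-!
# The equations between degrees and values

In the wreathed case the three further vectors are `a+x+y`, its conjugate, and `-x+y'+j` with `y'` of the degree and
value of `y`.
-/

set_option autoImplicit false

open scoped Classical

namespace Cfsg.Agent.Invol.BrauerL3

universe u

variable {ι : Type u} [Fintype ι]

theorem sum_sq_le {v : ι → ℤ} (s : Finset ι) (h : ∀ χ ∈ s, v χ ≠ 0) : (s.card : ℤ) ≤ ∑ χ, v χ * v χ := by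
  calc (s.card : ℤ) = ∑ χ ∈ s, 1 := by simp
    _ ≤ ∑ χ ∈ s, v χ * v χ := Finset.sum_le_sum fun χ hχ => by nlinarith [mul_self_pos.2 (h χ hχ)]
    _ ≤ _ := Finset.sum_le_univ_sum_of_nonneg fun χ => mul_self_nonneg _

theorem four_supp {v : ι → ℤ} {p q r s : ι} (hn : ∑ χ, v χ * v χ ≤ 3) (h1 : p ≠ q) (h2 : p ≠ r) (h3 : p ≠ s)
    (h4 : q ≠ r) (h5 : q ≠ s) (h6 : r ≠ s) (hp : v p ≠ 0) (hq : v q ≠ 0) (hr : v r ≠ 0) (hs : v s ≠ 0) :
    False := by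
  have h := sum_sq_le (v := v) {p, q, r, s} (fun χ hχ => by
    simp only [Finset.mem_insert, Finset.mem_singleton] at hχ
    rcases hχ with rfl | rfl | rfl | rfl <;> assumption)
  have hc : ({p, q, r, s} : Finset ι).card = 4 := by simp [h1, h2, h3, h4, h5, h6]
  rw [hc] at h
  push_cast at h
  omega

theorem mul_zero_of_small {s z : ℤ} (hs : s ≠ 0) (h : s * z = 0) : z = 0 :=
  (mul_eq_zero.1 h).resolve_left hs

namespace Vecs

variable {k : ℕ} {gram : Fin k → Fin k → ℤ} {tr tv : Fin k → ℤ} {pr : Fin k → ℚ}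
  {V : Vecs ι gram tr tv pr} {iA i0 : Fin k} {iT : Fin 3 → Fin k} (S : V.Shape iA i0 iT)
include S

namespace Shape

theorem inner_A (j : Fin k) : S.a.2 * V.w j S.a.1 + S.b.2 * V.w j S.b.1 + S.c.2 * V.w j S.c.1 =
    gram j iA - tr j * tr iA := by
  rw [← V.inner_w, S.wA, sum_mul_three]

theorem inner_0 (j : Fin k) : S.b.2 * V.w j S.b.1 + S.i.2 * V.w j S.i.1 = gram j i0 - tr j * tr i0 := by
  rw [← V.inner_w, S.w0, sum_mul_two]

theorem inner_T (j : Fin k) (l : Fin 3) :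
    S.a.2 * V.w j S.a.1 + (S.e l).2 * V.w j (S.e l).1 = gram j (iT l) - tr j * tr (iT l) := by
  rw [← V.inner_w, S.wT, sum_mul_two]

/-- The vector `a + x + y`. -/
theorem mu_shape (j : Fin k) (ht : tr j = 1) (hn : gram j j = 4) (hA : gram j iA = 2) (h0 : gram j i0 = 1)
    (hT : ∀ l, gram j (iT l) = 2) (tA : tr iA = 1) (t0 : tr i0 = 1) (tT : ∀ l, tr (iT l) = 1) :
    ∃ x y : ι × ℤ, IsSigned x ∧ IsSigned y ∧ x.1 ≠ y.1 ∧ S.a.1 ≠ x.1 ∧ S.a.1 ≠ y.1 ∧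
      V.w j = sv S.a + sv x + sv y ∧ V.w j S.b.1 = 0 ∧ V.w j S.c.1 = 0 ∧ V.w j S.i.1 = 0 := by
  have n3 : ∑ χ, V.w j χ * V.w j χ = 3 := by rw [V.inner_w, hn, ht]; rfl
  have eA := S.inner_A j
  have e0 := S.inner_0 j
  have eT := S.inner_T j
  simp only [hA, h0, hT, ht, tA, t0, tT, one_mul, sub_self] at eA e0 eT
  have va : V.w j S.a.1 = S.a.2 := by
    rcases small_of_norm n3.le S.a.1 with p | p | p
    · rcases S.ha with r | r
      · exfalso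
        have h := eT 0
        rw [p, r] at h
        rcases small_of_norm n3.le (S.e 0).1 with s | s | s <;> rcases S.he 0 with u | u <;>
          rw [s, u] at h <;> omega
      · rw [p, r]
    · exfalso
      have he : ∀ l, V.w j (S.e l).1 ≠ 0 := fun l h => by
        have := eT l
        rw [p, h] at this
        omega
      rw [p, mul_zero, zero_add] at eA
      by_cases hb : V.w j S.b.1 = 0
      · have hc : V.w j S.c.1 ≠ 0 := fun h => by rw [hb, h] at eA; omega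
        exact four_supp n3.le (S.ee 0 1 (by decide)) (S.ee 0 2 (by decide)) (S.ec 0) (S.ee 1 2 (by decide))
          (S.ec 1) (S.ec 2) (he 0) (he 1) (he 2) hc
      · exact four_supp n3.le (S.ee 0 1 (by decide)) (S.ee 0 2 (by decide)) (S.eb 0) (S.ee 1 2 (by decide))
          (S.eb 1) (S.eb 2) (he 0) (he 1) (he 2) hb
    · rcases S.ha with r | r
      · rw [p, r]
      · exfalso
        have h := eT 0
        rw [p, r] at h
        rcases small_of_norm n3.le (S.e 0).1 with s | s | s <;> rcases S.he 0 with u | u <;>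
          rw [s, u] at h <;> omega
  rw [va, S.ha.sq] at eA
  have hb : V.w j S.b.1 = 0 := by
    by_contra hb
    have hc : V.w j S.c.1 ≠ 0 := fun h => by
      rw [h, mul_zero, add_zero] at eA
      exact hb (mul_zero_of_small S.hb.ne_zero (by omega))
    have hi : V.w j S.i.1 ≠ 0 := fun h => by
      rw [h, mul_zero, add_zero] at e0
      exact hb (mul_zero_of_small S.hb.ne_zero (by omega))
    exact four_supp n3.le S.ab S.ac S.ai S.bc S.bi S.ci (va ▸ S.ha.ne_zero) hb hc hi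
  rw [hb, mul_zero] at eA e0
  have hc : V.w j S.c.1 = 0 := mul_zero_of_small S.hc.ne_zero (by omega)
  have hi : V.w j S.i.1 = 0 := mul_zero_of_small S.hi.ne_zero (by omega)
  obtain ⟨x, y, hx, hy, hxy, hax, hay, e⟩ := norm_three n3 S.ha va
  exact ⟨x, y, hx, hy, hxy, hax, hay, e, hb, hc, hi⟩

/-- The vector orthogonal to the first five vanishes at `a, b, c, i`. -/
theorem w_zero (j m : Fin k) (ht : tr j = 0) (hn : gram j j = 3) (hA : gram j iA = 0) (h0 : gram j i0 = 0)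
    (hT : ∀ l, gram j (iT l) = 0) (hm : gram j m ≠ 0) {x y : ι × ℤ} (em : V.w m = sv S.a + sv x + sv y)
    (mb : V.w m S.b.1 = 0) (mc : V.w m S.c.1 = 0) (mi : V.w m S.i.1 = 0) :
    V.w j S.a.1 = 0 := by
  have n3 : ∑ χ, V.w j χ * V.w j χ = 3 := by rw [V.inner_w, hn, ht]; rfl
  have eA := S.inner_A j
  have e0 := S.inner_0 j
  have eT := S.inner_T j
  simp only [hA, h0, hT, ht, zero_mul, sub_zero] at eA e0 eT
  by_contra ha
  have he : ∀ l, V.w j (S.e l).1 ≠ 0 := fun l h => by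
    have := eT l
    rw [h, mul_zero, add_zero] at this
    exact ha (mul_zero_of_small S.ha.ne_zero this)
  exact four_supp n3.le (S.ea 0).symm (S.ea 1).symm (S.ea 2).symm (S.ee 0 1 (by decide)) (S.ee 0 2 (by decide))
    (S.ee 1 2 (by decide)) ha (he 0) (he 1) (he 2)

end Shape

end Vecs

/-- The equations in the semidihedral case. -/
structure SdEqs (Q : ℤ) (R : ℚ) where
  /-- degree of `a` -/
  a : ℤ
  /-- degree of `b` -/
  b : ℤ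
  /-- value of `a` -/
  A : ℤ
  /-- value of `b` -/
  B : ℤ
  a0 : a ≠ 0
  a1 : a ≠ -1
  b0 : b ≠ 0
  b1 : b ≠ -1
  ab : a + b ≠ -1
  eqA : 1 + (A : ℚ) ^ 2 / a + (B : ℚ) ^ 2 / b + (-1 - (A : ℚ) - B) ^ 2 / (-1 - (a : ℚ) - b) = 0
  eq0 : 1 + (B : ℚ) ^ 2 / b + (2 * (1 + (Q : ℚ)) - 1 - B) ^ 2 / (-1 - (b : ℚ)) = R * (((Q : ℚ) + 1) / Q)
  eqT : 1 + (A : ℚ) ^ 2 / a + (-1 - (A : ℚ)) ^ 2 / (-1 - (a : ℚ)) = R * (((Q : ℚ) - 1) / Q)
  eqF : 1 + (A : ℚ) ^ 2 / a + (2 * (1 - (Q : ℚ)) - 1 - A) ^ 2 / (-1 - (a : ℚ)) = R * (((Q : ℚ) - 1) / Q)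

/-- The equations in the wreathed case. -/
structure WrEqs (Q : ℤ) (R : ℚ) where
  /-- degree of `a` -/
  a : ℤ
  /-- degree of `b` -/
  b : ℤ
  /-- degree of `x` -/
  x : ℤ
  /-- degree of `y` -/
  y : ℤ
  /-- value of `a` -/
  A : ℤ
  /-- value of `b` -/
  B : ℤ
  /-- value of `x` -/
  X : ℤ
  /-- value of `y` -/
  Y : ℤ
  a0 : a ≠ 0
  a1 : a ≠ -1
  b0 : b ≠ 0
  b1 : b ≠ -1
  ab : a + b ≠ -1
  x0 : x ≠ 0
  y0 : y ≠ 0
  xy : x ≠ y
  sum_d : a + x + y = -1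
  sum_v : A + X + Y = -1
  eqA : 1 + (A : ℚ) ^ 2 / a + (B : ℚ) ^ 2 / b + (-1 - (A : ℚ) - B) ^ 2 / (-1 - (a : ℚ) - b) = 0
  eq0 : 1 + (B : ℚ) ^ 2 / b + (-1 - (B : ℚ)) ^ 2 / (-1 - (b : ℚ)) =
    R * (((Q : ℚ) - 1) ^ 2 / (Q * (Q + 1)))
  eqT : 1 + (A : ℚ) ^ 2 / a + (-1 - (A : ℚ)) ^ 2 / (-1 - (a : ℚ)) = R * (((Q : ℚ) - 1) / Q)
  eqF : 1 + (A : ℚ) ^ 2 / a + (2 * (1 - (Q : ℚ)) - 1 - A) ^ 2 / (-1 - (a : ℚ)) = R * (((Q : ℚ) - 1) / Q)
  eqM : 1 + (A : ℚ) ^ 2 / a + (X : ℚ) ^ 2 / x + (Y : ℚ) ^ 2 / y = 0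
  eqW : -((X : ℚ) ^ 2 / x) + (Y : ℚ) ^ 2 / y + ((X : ℚ) - Y) ^ 2 / ((x : ℚ) - y) =
    R * (((Q : ℚ) - 1) ^ 2 / (Q * (Q + 1)))

theorem valSd_apply (Q : ℤ) : valSd Q 0 = 0 ∧ valSd Q 1 = 2 * (1 + Q) ∧ valSd Q 2 = 0 ∧
    valSd Q 3 = 2 * (1 - Q) := ⟨rfl, rfl, rfl, rfl⟩

theorem pairSd_apply (Q : ℤ) : pairSd Q 0 = 0 ∧ pairSd Q 1 = ((Q : ℚ) + 1) / Q ∧
    pairSd Q 2 = ((Q : ℚ) - 1) / Q ∧ pairSd Q 3 = ((Q : ℚ) - 1) / Q := ⟨rfl, rfl, rfl, rfl⟩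

theorem valWr_apply (Q : ℤ) : valWr Q 0 = 0 ∧ valWr Q 1 = 0 ∧ valWr Q 2 = 0 ∧ valWr Q 3 = 2 * (1 - Q) ∧
    valWr Q 5 = 0 ∧ valWr Q 7 = 0 := ⟨rfl, rfl, rfl, rfl, rfl, rfl⟩

theorem pairWr_apply (Q : ℤ) : pairWr Q 0 = 0 ∧ pairWr Q 1 = ((Q : ℚ) - 1) ^ 2 / (Q * (Q + 1)) ∧
    pairWr Q 2 = ((Q : ℚ) - 1) / Q ∧ pairWr Q 3 = ((Q : ℚ) - 1) / Q ∧ pairWr Q 5 = 0 ∧
    pairWr Q 7 = ((Q : ℚ) - 1) ^ 2 / (Q * (Q + 1)) := ⟨rfl, rfl, rfl, rfl, rfl, rfl⟩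

theorem trWr_apply : (![1, 1, 1, 1, 1, 1, 1, 0] : Fin 8 → ℤ) 0 = 1 ∧ (![1, 1, 1, 1, 1, 1, 1, 0] : Fin 8 → ℤ) 1 = 1 ∧
    (![1, 1, 1, 1, 1, 1, 1, 0] : Fin 8 → ℤ) 2 = 1 ∧ (![1, 1, 1, 1, 1, 1, 1, 0] : Fin 8 → ℤ) 3 = 1 ∧
    (![1, 1, 1, 1, 1, 1, 1, 0] : Fin 8 → ℤ) 5 = 1 ∧ (![1, 1, 1, 1, 1, 1, 1, 0] : Fin 8 → ℤ) 7 = 0 :=
  ⟨rfl, rfl, rfl, rfl, rfl, rfl⟩

theorem sd_eqs (Q : ℤ) (V : Vecs ι gramSd (fun _ => 1) (valSd Q) (pairSd Q)) : Nonempty (SdEqs Q V.R) := by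
  obtain ⟨S⟩ := Vecs.five_sd Q V
  obtain ⟨dA, vA, qA⟩ := V.sum_three S.ha S.hb S.hc S.wA
  obtain ⟨d0, v0, q0⟩ := V.sum_two S.hb S.hi S.w0
  obtain ⟨dT, vT, qT⟩ := V.sum_two S.ha (S.he 0) (S.wT 0)
  obtain ⟨dF, vF, qF⟩ := V.sum_two S.ha (S.he 1) (S.wT 1)
  obtain ⟨t0, t1, t2, t3⟩ := valSd_apply Q
  obtain ⟨p0, p1, p2, p3⟩ := pairSd_apply Q
  simp only [Matrix.cons_val_zero, Matrix.cons_val_one, t0, t1, t2, t3, p0, p1, p2, p3, Int.cast_one, mul_zero]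
    at dA vA qA d0 v0 q0 dT vT qT dF vF qF
  have h2 := fun {x : ι × ℤ} (h : IsSigned x) (ho : x.1 ≠ V.o) => V.dg_ne h ho
  have hc' : V.dg S.c = -1 - V.dg S.a - V.dg S.b := by omega
  have hi' : V.dg S.i = -1 - V.dg S.b := by omega
  have he' : V.dg (S.e 0) = -1 - V.dg S.a := by omega
  have hf' : V.dg (S.e 1) = -1 - V.dg S.a := by omega
  have hC : V.vl S.c = -1 - V.vl S.a - V.vl S.b := by omega
  have hI : V.vl S.i = 2 * (1 + Q) - 1 - V.vl S.b := by omega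
  have hE : V.vl (S.e 0) = -1 - V.vl S.a := by omega
  have hF : V.vl (S.e 1) = 2 * (1 - Q) - 1 - V.vl S.a := by omega
  rw [hc', hC] at qA
  rw [hi', hI] at q0
  rw [he', hE] at qT
  rw [hf', hF] at qF
  push_cast at qA q0 qT qF
  refine ⟨⟨V.dg S.a, V.dg S.b, V.vl S.a, V.vl S.b, (h2 S.ha S.ao).1, (h2 S.ha S.ao).2.2, (h2 S.hb S.bo).1,
    (h2 S.hb S.bo).2.2, fun e => (h2 S.hc S.co).1 (by omega), qA, q0, qT, qF⟩⟩

theorem wr_eqs (Q : ℤ) (V : Vecs ι gramWr ![1, 1, 1, 1, 1, 1, 1, 0] (valWr Q) (pairWr Q)) (π : ι ≃ ι)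
    (hπ : ∀ χ, V.v 6 χ = V.v 5 (π χ)) (hπd : ∀ χ, V.deg (π χ) = V.deg χ) (hπv : ∀ χ, V.val (π χ) = V.val χ) :
    Nonempty (WrEqs Q V.R) := by
  obtain ⟨S⟩ := Vecs.five_wr Q V
  obtain ⟨x, y, hx, hy, hxy, hax, hay, e5, b5, c5, i5⟩ :=
    S.mu_shape 5 rfl rfl rfl rfl (by decide) rfl rfl (by decide)
  obtain ⟨x', y', hx', hy', hxy', hax', hay', e6, b6, c6, i6⟩ :=
    S.mu_shape 6 rfl rfl rfl rfl (by decide) rfl rfl (by decide)
  have hwa := S.w_zero 7 5 rfl rfl rfl rfl (by decide) (by decide) e5 b5 c5 i5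
  have n3 : ∑ χ, V.w 7 χ * V.w 7 χ = 3 := by rw [V.inner_w]; rfl
  have h5 := V.inner_w 7 5
  have h6 := V.inner_w 7 6
  rw [e5, sum_mul_three, hwa, mul_zero, zero_add] at h5
  rw [e6, sum_mul_three, hwa, mul_zero, zero_add] at h6
  rw [show gramWr 7 5 - ![(1 : ℤ), 1, 1, 1, 1, 1, 1, 0] 7 * ![(1 : ℤ), 1, 1, 1, 1, 1, 1, 0] 5 = -1 from rfl] at h5
  rw [show gramWr 7 6 - ![(1 : ℤ), 1, 1, 1, 1, 1, 1, 0] 7 * ![(1 : ℤ), 1, 1, 1, 1, 1, 1, 0] 6 = 1 from rfl] at h6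
  -- choose the names
  obtain ⟨x, y, hx, hy, hxy, hax, hay, e5, wx⟩ : ∃ x y : ι × ℤ, IsSigned x ∧ IsSigned y ∧ x.1 ≠ y.1 ∧
      S.a.1 ≠ x.1 ∧ S.a.1 ≠ y.1 ∧ V.w 5 = sv S.a + sv x + sv y ∧ V.w 7 x.1 = -x.2 := by
    rcases small_of_norm n3.le x.1 with p | p | p <;> rcases small_of_norm n3.le y.1 with r | r | r <;>
      rcases hx with hx' | hx' <;> rcases hy with hy' | hy' <;> rw [p, r, hx', hy'] at h5 <;>
      first
        | omega
        | exact ⟨x, y, by unfold IsSigned; omega, by unfold IsSigned; omega, hxy, hax, hay, e5, by omega⟩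
        | exact ⟨y, x, by unfold IsSigned; omega, by unfold IsSigned; omega, hxy.symm, hay, hax,
            e5.trans (add_right_comm _ _ _), by omega⟩
  obtain ⟨x', y', hx', hy', hxy', hax', hay', e6, wy⟩ : ∃ x' y' : ι × ℤ, IsSigned x' ∧ IsSigned y' ∧
      x'.1 ≠ y'.1 ∧ S.a.1 ≠ x'.1 ∧ S.a.1 ≠ y'.1 ∧ V.w 6 = sv S.a + sv x' + sv y' ∧ V.w 7 y'.1 = y'.2 := by
    rcases small_of_norm n3.le x'.1 with p | p | p <;> rcases small_of_norm n3.le y'.1 with r | r | r <;>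
      rcases hx' with q | q <;> rcases hy' with q' | q' <;> rw [p, r, q, q'] at h6 <;>
      first
        | omega
        | exact ⟨x', y', by unfold IsSigned; omega, by unfold IsSigned; omega, hxy', hax', hay', e6, by omega⟩
        | exact ⟨y', x', by unfold IsSigned; omega, by unfold IsSigned; omega, hxy'.symm, hay', hax',
            e6.trans (add_right_comm _ _ _), by omega⟩
  obtain ⟨dA, vA, qA⟩ := V.sum_three S.ha S.hb S.hc S.wA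
  obtain ⟨d0, v0, q0⟩ := V.sum_two S.hb S.hi S.w0
  obtain ⟨dT, vT, qT⟩ := V.sum_two S.ha (S.he 0) (S.wT 0)
  obtain ⟨dF, vF, qF⟩ := V.sum_two S.ha (S.he 1) (S.wT 1)
  obtain ⟨dM, vM, qM⟩ := V.sum_three S.ha hx hy e5
  have h2 := fun {z : ι × ℤ} (h : IsSigned z) (ho : z.1 ≠ V.o) => V.dg_ne h ho
  have val5 : ∀ {z : ι × ℤ}, z = S.a ∨ z = x ∨ z = y → V.w 5 z.1 = z.2 := by
    intro z hz
    rw [e5]
    rcases hz with rfl | rfl | rfl <;> simp only [Pi.add_apply, sv_self] <;>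
      simp [sv, hax, hay, hxy, hax.symm, hay.symm, hxy.symm]
  have ho5 : ∀ {z : ι × ℤ}, IsSigned z → z = S.a ∨ z = x ∨ z = y → z.1 ≠ V.o := fun hs h =>
    V.ne_o (i := 5) (by rw [val5 h]; exact hs.ne_zero)
  have hπo : π V.o = V.o := V.linear _ (by rw [hπd, V.deg_o])
  have hw56 : ∀ χ, V.w 6 χ = V.w 5 (π χ) := by
    intro χ
    by_cases h : χ = V.o
    · subst h; rw [hπo, V.w_o, V.w_o]
    · have h' : π χ ≠ V.o := fun e => h (π.injective (e.trans hπo.symm))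
      simp only [Vecs.w, if_neg h, if_neg h', hπ]
  -- every term of the conjugate has the data of a term
  have hpair : ∀ {z : ι × ℤ}, IsSigned z → V.w 6 z.1 = z.2 → ∃ w : ι × ℤ, (w = S.a ∨ w = x ∨ w = y) ∧
      π z.1 = w.1 ∧ V.dg z = V.dg w ∧ V.vl z = V.vl w := by
    intro z hz hz6
    rw [hw56] at hz6
    have hne : V.w 5 (π z.1) ≠ 0 := hz6 ▸ hz.ne_zero
    rcases (show π z.1 = S.a.1 ∨ π z.1 = x.1 ∨ π z.1 = y.1 by
      by_contra h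
      push Not at h
      exact hne (by rw [e5]; simp [sv, h.1, h.2.1, h.2.2])) with h | h | h
    on_goal 1 => refine ⟨S.a, Or.inl rfl, h, ?_⟩
    on_goal 2 => refine ⟨x, Or.inr (Or.inl rfl), h, ?_⟩
    on_goal 3 => refine ⟨y, Or.inr (Or.inr rfl), h, ?_⟩
    all_goals
      rw [h, val5 (by simp)] at hz6
      simp only [Vecs.dg, Vecs.vl, ← hπd z.1, ← hπv z.1, h, hz6, and_self]
  have v6 : V.w 6 y'.1 = y'.2 ∧ V.w 6 S.a.1 = S.a.2 := by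
    rw [e6]
    constructor <;> simp [sv, hay', hax', hxy'.symm, hay'.symm]
  have hPy : (V.dg y' = V.dg x ∧ V.vl y' = V.vl x) ∨ (V.dg y' = V.dg y ∧ V.vl y' = V.vl y) := by
    obtain ⟨w, hw, hpw, hd, hv⟩ := hpair hy' v6.1
    obtain ⟨w', hw', hpw', hd', hv'⟩ := hpair S.ha v6.2
    rcases hw with rfl | rfl | rfl
    · rcases hw' with rfl | rfl | rfl
      · exact absurd (π.injective (hpw'.trans hpw.symm)) hay'
      · exact Or.inl ⟨hd.trans hd', hv.trans hv'⟩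
      · exact Or.inr ⟨hd.trans hd', hv.trans hv'⟩
    · exact Or.inl ⟨hd, hv⟩
    · exact Or.inr ⟨hd, hv⟩
  obtain ⟨t0, t1, t2, t3, t5, t7⟩ := valWr_apply Q
  obtain ⟨p0, p1, p2, p3, p5, p7⟩ := pairWr_apply Q
  obtain ⟨r0, r1, r2, r3, r5, r7⟩ := trWr_apply
  rw [show (![2, 3, 4] : Fin 3 → Fin 8) 0 = 2 from rfl] at dT vT qT
  rw [show (![2, 3, 4] : Fin 3 → Fin 8) 1 = 3 from rfl] at dF vF qF
  simp only [t0, t1, t2, t3, t5, p0, p1, p2, p3, p5, r0, r1, r2, r3, r5, Int.cast_one, mul_zero]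
    at dA vA qA d0 v0 q0 dT vT qT dF vF qF dM vM qM
  -- the third term of the last vector
  have hxy1 : x.1 ≠ y'.1 := by
    intro h
    rw [h, wy] at wx
    have : V.dg y' = -V.dg x := by simp only [Vecs.dg, h, wx, neg_mul]
    rcases hPy with ⟨h', -⟩ | ⟨h', -⟩
    · exact (h2 hx (ho5 hx (by simp))).1 (by omega)
    · exact (h2 S.ha S.ao).2.2 (by omega)
  obtain ⟨p, q, hp, hq, hpq, hxp, hxq, e7⟩ := norm_three n3 (x := (x.1, -x.2))
    (by rcases hx with h | h <;> simp [IsSigned, h]) wx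
  obtain ⟨j, hj, hyj, e7⟩ : ∃ j : ι × ℤ, IsSigned j ∧ y'.1 ≠ j.1 ∧ V.w 7 = sv (x.1, -x.2) + sv y' + sv j := by
    have h := wy
    rw [e7, Pi.add_apply, Pi.add_apply, sv_of_ne (x := (x.1, -x.2)) hxy1.symm, zero_add] at h
    by_cases hp' : p.1 = y'.1
    · refine ⟨q, hq, hp' ▸ hpq, ?_⟩
      rw [← hp', sv_self, sv_of_ne hpq, add_zero] at h
      rw [e7, show p = y' from Prod.ext hp' h]
    · by_cases hq' : q.1 = y'.1
      · refine ⟨p, hp, fun e => hp' e.symm, ?_⟩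
        rw [← hq', sv_self, sv_of_ne hpq.symm, zero_add] at h
        rw [e7, show q = y' from Prod.ext hq' h, add_right_comm]
      · rw [sv_of_ne (Ne.symm hp'), sv_of_ne (Ne.symm hq')] at h
        exact absurd (h.symm.trans (add_zero 0)) hy'.ne_zero
  have hjo : j.1 ≠ V.o := by
    intro h
    have h0 := V.w_o 7
    rw [e7, ← h] at h0
    have hxo := ho5 hx (Or.inr (Or.inl rfl))
    rw [← h] at hxo
    simp [sv, hxo.symm, hyj.symm] at h0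
    exact hj.ne_zero h0
  obtain ⟨dW, vW, qW⟩ := V.sum_three (x := (x.1, -x.2)) (by rcases hx with h | h <;> simp [IsSigned, h]) hy' hj e7
  have en : V.dg (x.1, -x.2) = -V.dg x ∧ V.vl (x.1, -x.2) = -V.vl x := by simp [Vecs.dg, Vecs.vl]
  simp only [t7, p7, r7, en.1, en.2, Int.cast_zero, zero_add, neg_zero, Int.cast_neg, neg_sq, sub_zero] at dW vW qW
  rcases hPy with ⟨hd, hv⟩ | ⟨hd, hv⟩
  · exact absurd (show V.dg j = 0 by omega) (h2 hj hjo).1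
  have hc' : V.dg S.c = -1 - V.dg S.a - V.dg S.b := by omega
  have hi' : V.dg S.i = -1 - V.dg S.b := by omega
  have he' : V.dg (S.e 0) = -1 - V.dg S.a := by omega
  have hf' : V.dg (S.e 1) = -1 - V.dg S.a := by omega
  have hC : V.vl S.c = -1 - V.vl S.a - V.vl S.b := by omega
  have hI : V.vl S.i = -1 - V.vl S.b := by omega
  have hE : V.vl (S.e 0) = -1 - V.vl S.a := by omega
  have hF : V.vl (S.e 1) = 2 * (1 - Q) - 1 - V.vl S.a := by omega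
  have hj' : V.dg j = V.dg x - V.dg y := by omega
  have hJ : V.vl j = V.vl x - V.vl y := by omega
  rw [hc', hC] at qA
  rw [hi', hI] at q0
  rw [he', hE] at qT
  rw [hf', hF] at qF
  rw [hd, hv, hj', hJ] at qW
  push_cast at qA q0 qT qF qW
  have ne_j := (h2 hj hjo).1
  exact ⟨{ a := V.dg S.a, b := V.dg S.b, x := V.dg x, y := V.dg y, A := V.vl S.a, B := V.vl S.b,
           X := V.vl x, Y := V.vl y, a0 := (h2 S.ha S.ao).1, a1 := (h2 S.ha S.ao).2.2,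
           b0 := (h2 S.hb S.bo).1, b1 := (h2 S.hb S.bo).2.2, ab := fun e => (h2 S.hc S.co).1 (by omega),
           x0 := (h2 hx (ho5 hx (by simp))).1, y0 := (h2 hy (ho5 hy (by simp))).1, xy := by omega,
           sum_d := by omega, sum_v := by omega,
           eqA := qA, eq0 := q0, eqT := qT, eqF := qF, eqM := qM,
           eqW := by rw [div_neg] at qW; linear_combination qW }⟩

end Cfsg.Agent.Invol.BrauerL3
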