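import Cfsg.Agent.Lib.Invol.BrauerL3.ShapeWr
import Cfsg.Agent.Lib.Block.ClassMul
import Cfsg.Agent.Lib.Block.OrderPrimeBase
import Cfsg.Agent.Lib.Block.KleinFour
import Cfsg.Agent.Lib.Block.PrincipalColumn

/-!
# Induction from the centraliser of an involution

For functions supported on a trivial intersection set `X` of `C = C(t)` induction is an isometry; with one class of
involutions the number of pairs of involutions with product in `X` gives the equation for each induced function.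
-/

set_option autoImplicit false
set_option linter.unusedSectionVars false
set_option linter.style.haveILetI false

open scoped ComplexConjugate Classical

namespace Cfsg.Agent.Invol.BrauerL3

open Cfsg Cfsg.Agent.Char Cfsg.Agent.Block

universe u

variable {G : Type u} [Group G] [Fintype G]

/-- The centraliser. -/
abbrev Cen (t : G) : Subgroup G := Subgroup.centralizer ({t} : Set G)

/-- A trivial intersection set of the centraliser, closed for inverters. -/
structure TI (t : G) (X : Set (Cen t)) : Prop where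
  one : (1 : Cen t) ∉ X
  tmem : ∀ h : t ∈ Cen t, (⟨t, h⟩ : Cen t) ∈ X
  ti : ∀ x ∈ X, ∀ (g : G) (h : g * (x : G) * g⁻¹ ∈ Cen t), (⟨g * (x : G) * g⁻¹, h⟩ : Cen t) ∈ X → g ∈ Cen t
  inv : ∀ x ∈ X, ∀ i : G, orderOf i = 2 → i * (x : G) * i⁻¹ = (x : G)⁻¹ → i ∈ Cen t

theorem mem_Cen {t x : G} : x ∈ Cen t ↔ x * t = t * x := Subgroup.mem_centralizer_singleton_iff

theorem t_mem (t : G) : t ∈ Cen t := mem_Cen.2 rfl

variable {t : G} {X : Set (Cen t)} (hX : TI t X) {φ ψ : Cen t → ℂ}

include hX in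
theorem indFun_eq (hc : IsClassFunction (Cen t) φ) (hs : ∀ x, φ x ≠ 0 → x ∈ X) {x : Cen t} (hx : x ∈ X) :
    indFun (Cen t) φ (x : G) = φ x := by
  have hval : ∀ g : G, extendByZero (Cen t) φ (g⁻¹ * (x : G) * g) = if g ∈ Cen t then φ x else 0 := by
    intro g
    split_ifs with hg
    · rw [extendByZero_of_mem _ (mul_mem (mul_mem (inv_mem hg) x.2) hg)]
      have h := hc x (⟨g, hg⟩⁻¹)
      rw [inv_inv] at h
      exact h
    · by_cases hm : g⁻¹ * (x : G) * g ∈ Cen t
      · rw [extendByZero_of_mem _ hm]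
        by_contra hne
        have hm' : g⁻¹ * (x : G) * g⁻¹⁻¹ ∈ Cen t := by rwa [inv_inv]
        refine hg ((Subgroup.inv_mem_iff _).1 (hX.ti x hx g⁻¹ hm' ?_))
        convert hs _ hne using 2
        rw [inv_inv]
      · exact extendByZero_not_mem _ hm
  simp only [indFun, hval]
  rw [← Finset.sum_filter, Finset.sum_const, nsmul_eq_mul, ← Fintype.card_subtype,
    ← Nat.card_eq_fintype_card, ← mul_assoc,
    inv_mul_cancel₀ (Nat.cast_ne_zero.2 Nat.card_pos.ne'), one_mul]

include hX in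
theorem isometry (hc : IsClassFunction (Cen t) ψ) (hφ : ∀ x, φ x ≠ 0 → x ∈ X) (hψ : ∀ x, ψ x ≠ 0 → x ∈ X) :
    classInner (indFun (Cen t) φ) (indFun (Cen t) ψ) = classInner φ ψ := by
  rw [classInner_indFun _ _ (indFun_classFun _ _)]
  simp only [classInner]
  congr 1
  refine Finset.sum_congr rfl fun x _ => ?_
  by_cases h : φ x = 0
  · rw [h, zero_mul, zero_mul]
  · rw [indFun_eq hX hc hψ (hφ x h)]

/-- The conjugacy class of `t`. -/
noncomputable def invol (G : Type u) [Group G] [Fintype G] : Finset G :=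
  Finset.univ.filter fun i => orderOf i = 2

theorem sum_conj_class (ht : orderOf t = 2) (h1 : ∀ i : G, orderOf i = 2 → IsConj t i) (F : G → ℂ) :
    ∑ g : G, F (g * t * g⁻¹) = (Nat.card (Cen t) : ℂ) * ∑ i ∈ invol G, F i := by
  have hmap : ∀ g ∈ (Finset.univ : Finset G), g * t * g⁻¹ ∈ invol G := fun g _ => by
    simp only [invol, Finset.mem_filter, Finset.mem_univ, true_and, ← MulAut.conj_apply,
      MulEquiv.orderOf_eq, ht]
  rw [← Finset.sum_fiberwise_of_maps_to hmap, Finset.mul_sum]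
  refine Finset.sum_congr rfl fun i hi => ?_
  obtain ⟨g₀, hg₀⟩ := isConj_iff.1 (h1 i (Finset.mem_filter.1 hi).2)
  rw [Finset.sum_congr rfl (g := fun _ => F i) (fun g hg => by rw [(Finset.mem_filter.1 hg).2]),
    Finset.sum_const, nsmul_eq_mul]
  congr 2
  rw [← Fintype.card_subtype, ← Nat.card_eq_fintype_card]
  exact Nat.card_congr
    { toFun := fun g => ⟨g₀⁻¹ * g.1, mem_Cen.2 (by
        calc g₀⁻¹ * g.1 * t = g₀⁻¹ * (g.1 * t * g.1⁻¹) * g.1 := by group
          _ = g₀⁻¹ * (g₀ * t * g₀⁻¹) * g.1 :=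
            congrArg (fun z => g₀⁻¹ * z * g.1) (g.2.trans hg₀.symm)
          _ = t * (g₀⁻¹ * g.1) := by group)⟩
      invFun := fun c => ⟨g₀ * c.1, by
        calc g₀ * c.1 * t * (g₀ * c.1)⁻¹ = g₀ * (c.1 * t) * c.1⁻¹ * g₀⁻¹ := by group
          _ = g₀ * (t * c.1) * c.1⁻¹ * g₀⁻¹ := by rw [mem_Cen.1 c.2]
          _ = i := by rw [← hg₀]; group⟩
      left_inv := fun g => Subtype.ext (by simp)
      right_inv := fun c => Subtype.ext (by simp) }

theorem mul_self_of_two {i : G} (h : orderOf i = 2) : i * i = 1 := by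
  rw [← pow_two, ← h, pow_orderOf_eq_one]

include hX in
theorem sum_pairs (hs : ∀ x, φ x ≠ 0 → x ∈ X) :
    ∑ i ∈ invol G, ∑ j ∈ invol G, extendByZero (Cen t) φ (i * j) = ∑ x : Cen t, φ x * (invPairs x : ℂ) := by
  have e : ∀ x : Cen t, (invPairs x : ℂ) = ∑ i : Cen t, if orderOf i = 2 ∧ orderOf (i * x) = 2 then (1 : ℂ) else 0 :=
    fun x => by rw [invPairs, Nat.card_eq_fintype_card, Fintype.card_subtype, ← Finset.sum_boole]
  simp only [e, Finset.mul_sum, mul_ite, mul_one, mul_zero, ← Finset.sum_filter]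
  rw [← Finset.sum_finset_product' (invol G ×ˢ invol G) (invol G) (fun _ => invol G) (by simp),
    Finset.sum_sigma']
  refine Finset.sum_bij_ne_zero
    (fun p hp hne => (⟨⟨p.1 * p.2, ?_⟩, ⟨p.1, ?_⟩⟩ : Σ _ : Cen t, Cen t)) ?_ ?_ ?_ ?_
  · by_contra h
    exact hne (extendByZero_not_mem _ h)
  · have hm : p.1 * p.2 ∈ Cen t := by
      by_contra h
      exact hne (extendByZero_not_mem _ h)
    rw [extendByZero_of_mem _ hm] at hne
    simp only [Finset.mem_product, invol, Finset.mem_filter, Finset.mem_univ, true_and] at hp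
    refine hX.inv _ (hs _ hne) p.1 hp.1 ?_
    show p.1 * (p.1 * p.2) * p.1⁻¹ = (p.1 * p.2)⁻¹
    rw [← mul_assoc, mul_self_of_two hp.1, one_mul, mul_inv_rev, inv_eq_of_mul_eq_one_right (mul_self_of_two hp.2)]
  · intro p hp hne
    simp only [Finset.mem_product, invol, Finset.mem_filter, Finset.mem_univ, true_and] at hp
    simp only [Finset.mem_sigma, Finset.mem_univ, Finset.mem_filter, true_and]
    rw [← Subgroup.orderOf_coe, ← Subgroup.orderOf_coe]
    refine ⟨hp.1, ?_⟩
    simp only [Subgroup.coe_mul, ← mul_assoc, mul_self_of_two hp.1, one_mul]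
    exact hp.2
  · intro p₁ _ _ p₂ _ _ h
    have h1 := congrArg (fun s : Σ _ : Cen t, Cen t => ((s.2 : G), (s.1 : G))) h
    simp only [Prod.mk.injEq] at h1
    exact Prod.ext h1.1 (mul_left_cancel (h1.1 ▸ h1.2))
  · rintro ⟨x, i⟩ hxi hne
    simp only [Finset.mem_sigma, Finset.mem_univ, Finset.mem_filter, true_and] at hxi
    have h2 : (i : G) * ((i : G) * (x : G)) = x := by
      rw [← mul_assoc, mul_self_of_two (by rw [Subgroup.orderOf_coe]; exact hxi.1), one_mul]
    refine ⟨((i : G), (i : G) * (x : G)), ?_, ?_, ?_⟩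
    · simp only [Finset.mem_product, invol, Finset.mem_filter, Finset.mem_univ, true_and]
      exact ⟨by rw [Subgroup.orderOf_coe]; exact hxi.1, by rw [← Subgroup.coe_mul, Subgroup.orderOf_coe]; exact hxi.2⟩
    · simp only [h2, extendByZero_of_mem _ x.2]
      exact hne
    · simp only [h2]
  · intro p hp hne
    exact extendByZero_of_mem _ _

include hX in
theorem equation (ht : orderOf t = 2) (h1 : ∀ i : G, orderOf i = 2 → IsConj t i)
    (hs : ∀ x, φ x ≠ 0 → x ∈ X) :
    ∑ χ : IrrCharacter G, classInner (indFun (Cen t) φ) (χ : G → ℂ) * (χ : G → ℂ) t ^ 2 / (χ : G → ℂ) 1 =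
      (Nat.card (Cen t) : ℂ) ^ 2 / (Nat.card G : ℂ) * pairSum φ := by
  set c := (Nat.card (Cen t) : ℂ) with hc
  have hc0 : c ≠ 0 := Nat.cast_ne_zero.2 Nat.card_pos.ne'
  have h := sum_classFun_mul_conj (indFun_classFun (Cen t) φ) t t
  simp only [mul_assoc, ← pow_two] at h ⊢
  rw [← h]
  have e1 : ∀ g : G, indFun (Cen t) φ (t * (g * (t * g⁻¹))) =
      c⁻¹ * ∑ x : G, extendByZero (Cen t) φ ((x⁻¹ * t * x⁻¹⁻¹) * ((x⁻¹ * g) * t * (x⁻¹ * g)⁻¹)) := fun g => by
    rw [indFun]
    congr 1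
    exact Finset.sum_congr rfl fun x _ => by group
  simp only [e1]
  rw [← Finset.mul_sum, Finset.sum_comm]
  have e2 : ∀ x : G, ∑ g : G, extendByZero (Cen t) φ ((x⁻¹ * t * x⁻¹⁻¹) * ((x⁻¹ * g) * t * (x⁻¹ * g)⁻¹)) =
      c * ∑ j ∈ invol G, extendByZero (Cen t) φ ((x⁻¹ * t * x⁻¹⁻¹) * j) := fun x => by
    rw [← sum_conj_class ht h1 fun j => extendByZero (Cen t) φ ((x⁻¹ * t * x⁻¹⁻¹) * j)]
    exact Fintype.sum_equiv (Equiv.mulLeft x⁻¹) _ _ fun g => rfl
  simp only [e2, ← Finset.mul_sum]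
  have e3 : ∑ x : G, ∑ j ∈ invol G, extendByZero (Cen t) φ ((x⁻¹ * t * x⁻¹⁻¹) * j) =
      ∑ x : G, ∑ j ∈ invol G, extendByZero (Cen t) φ ((x * t * x⁻¹) * j) :=
    Fintype.sum_equiv (Equiv.inv G) _ _ fun x => rfl
  rw [e3,
    sum_conj_class ht h1 (fun i => ∑ j ∈ invol G, extendByZero (Cen t) φ (i * j)), sum_pairs hX hs, pairSum]
  field_simp
  rw [← hc]

/-- The vectors of the induced functions. -/
theorem exists_vecs [IsSimpleGroup G] (hna : ¬ IsMulCommutative G) (ht : orderOf t = 2)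
    (h1 : ∀ i : G, orderOf i = 2 → IsConj t i) (hX : TI t X) {k : ℕ} {gram : Fin k → Fin k → ℤ}
    {tr val : Fin k → ℤ} {pr : Fin k → ℚ} {N : ℚ} (hN : N ≠ 0)
    (F : Funs (Cen t) X ⟨t, t_mem t⟩ N gram tr val pr) :
    ∃ V : Vecs (IrrCharacter G) gram tr val pr,
      (V.R = (Nat.card (Cen t) : ℚ) ^ 2 / (Nat.card G : ℚ) * N) ∧
      (∀ χ : IrrCharacter G, (V.deg χ : ℂ) = (χ : G → ℂ) 1 ∧ (V.val χ : ℂ) = (χ : G → ℂ) t) ∧
      (∀ i χ, (V.v i χ : ℂ) = classInner (indFun (Cen t) (F.f i)) (χ : G → ℂ)) := by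
  have hcf : ∀ i, IsClassFunction (Cen t) (F.f i) := fun i => IsGenChar.classFun (F.gen i)
  have hgen : ∀ i, IsGeneralizedCharacter G (indFun (Cen t) (F.f i)) := fun i => IsGenChar.ind _ (F.gen i)
  choose v hv using fun i (χ : IrrCharacter G) =>
    IsGenChar.classInner_int (hgen i) (IsGenChar.of_isCharacter (irr_isChar χ))
  choose vt hvt using fun χ : IrrCharacter G => char_involution_int χ (mul_self_of_two ht)
  have hexp : ∀ i (z : G), indFun (Cen t) (F.f i) z = ∑ χ : IrrCharacter G, (v i χ : ℂ) * (χ : G → ℂ) z :=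
    fun i z => by
      have h := congrFun (classFunction_expansion (indFun_classFun (Cen t) (F.f i))) z
      simp only [Finset.sum_apply, Pi.smul_apply, smul_eq_mul, hv] at h
      exact h
  have hval : ∀ i, indFun (Cen t) (F.f i) 1 = 0 := fun i => by
    simp only [indFun, mul_one, inv_mul_cancel]
    rw [Finset.sum_eq_zero, mul_zero]
    intro x _
    rw [extendByZero_of_mem _ (one_mem _)]
    by_contra hne
    exact hX.one (F.supp i ⟨1, one_mem _⟩ hne)
  refine ⟨{ deg := fun χ => (charDegree (χ : G → ℂ) : ℤ), val := vt, o := trivialIrr G,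
            deg_pos := fun χ => by exact_mod_cast charDeg_pos χ,
            deg_o := by simp [trivialIrr, charDeg_trivial],
            val_o := by
              have h := hvt (trivialIrr G)
              simp only [trivialIrr] at h
              exact_mod_cast h.symm,
            linear := fun χ h => OrdP.eq_trivial_of_deg hna (by exact_mod_cast h),
            v := v,
            gram_eq := fun i j => ?_, v_o := fun i => ?_, deg_sum := fun i => ?_, val_sum := fun i => ?_,
            R := (Nat.card (Cen t) : ℚ) ^ 2 / (Nat.card G : ℚ) * N,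
            R_ne := mul_ne_zero (div_ne_zero (pow_ne_zero _ (Nat.cast_ne_zero.2 Nat.card_pos.ne'))
              (Nat.cast_ne_zero.2 Nat.card_pos.ne')) hN,
            eq := fun i => ?_ }, rfl, fun χ => ⟨?_, (hvt χ).symm⟩, fun i χ => (hv i χ).symm⟩
  · have h := isometry hX (hcf j) (F.supp i) (F.supp j)
    have e : indFun (Cen t) (F.f j) = ∑ χ : IrrCharacter G, (v j χ : ℂ) • (χ : G → ℂ) := by
      funext z; simp [hexp j z]
    rw [F.inner, e, classInner_sum_right] at h
    simp only [classInner_smul_right, hv] at h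
    simp only [map_intCast] at h
    have h' : ((∑ χ, v i χ * v j χ : ℤ) : ℂ) = (gram i j : ℂ) := by
      rw [← h]; push_cast
      exact Finset.sum_congr rfl fun χ _ => mul_comm _ _
    exact_mod_cast h'
  · have h : (v i (trivialIrr G) : ℂ) = (tr i : ℂ) := by
      rw [← hv, classInner_indFun _ _ (IsIrr.classFun (trivialIrr G).2)]
      exact F.inner_one i
    exact_mod_cast h
  · have h := hexp i 1
    rw [hval] at h
    have h' : ((∑ χ, v i χ * (charDegree (χ : G → ℂ) : ℤ) : ℤ) : ℂ) = ((0 : ℤ) : ℂ) := by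
      push_cast; rw [h]
      exact Finset.sum_congr rfl fun χ _ => by rw [charDeg_spec']
    exact_mod_cast h'
  · have h := indFun_eq hX (hcf i) (F.supp i) (hX.tmem (t_mem t))
    rw [F.at_t] at h
    have h2 := hexp i t
    rw [h] at h2
    have h' : ((∑ χ, v i χ * vt χ : ℤ) : ℂ) = (val i : ℂ) := by
      rw [h2]; push_cast
      exact Finset.sum_congr rfl fun χ _ => by rw [hvt]
    exact_mod_cast h'
  · have h := equation hX ht h1 (F.supp i)
    rw [F.pair] at h
    have h' : ((evalE (fun χ : IrrCharacter G => (charDegree (χ : G → ℂ) : ℤ)) vt (v i) : ℚ) : ℂ) =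
        (((Nat.card (Cen t) : ℚ) ^ 2 / (Nat.card G : ℚ) * N * pr i : ℚ) : ℂ) := by
      simp only [evalE]
      push_cast
      calc ∑ χ : IrrCharacter G, (v i χ : ℂ) * (vt χ : ℂ) ^ 2 / (charDegree (χ : G → ℂ) : ℂ)
          = _ := Finset.sum_congr rfl fun χ _ => by rw [← charDeg_spec', ← hvt, ← hv]
        _ = _ := h
        _ = _ := by push_cast; ring
    exact_mod_cast h'
  · push_cast
    exact (charDeg_spec' χ).symm

/-- The equations for `Q ≡ 3 mod 4`. -/
theorem sd_equations [IsSimpleGroup G] (hna : ¬ IsMulCommutative G) (ht : orderOf t = 2)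
    (h1 : ∀ i : G, orderOf i = 2 → IsConj t i) (hX : TI t X) {Q : ℤ} {N : ℚ} (hN : N ≠ 0)
    (F : SdFuns (Cen t) X ⟨t, t_mem t⟩ Q N) :
    Nonempty (SdEqs Q ((Nat.card (Cen t) : ℚ) ^ 2 / (Nat.card G : ℚ) * N)) := by
  obtain ⟨V, hR, -, -⟩ := exists_vecs hna ht h1 hX hN F
  exact hR ▸ sd_eqs Q V

theorem indFun_conj (φ : Cen t → ℂ) (z : G) :
    indFun (Cen t) (fun x => conj (φ x)) z = conj (indFun (Cen t) φ z) := by
  simp only [indFun, map_mul, map_inv₀, map_natCast, map_sum]
  congr 1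
  refine Finset.sum_congr rfl fun x _ => ?_
  by_cases h : x⁻¹ * z * x ∈ Cen t
  · rw [extendByZero_of_mem _ h, extendByZero_of_mem _ h]
  · rw [extendByZero_not_mem _ h, extendByZero_not_mem _ h, map_zero]

/-- The equations for `Q ≡ 1 mod 4`. -/
theorem wr_equations [IsSimpleGroup G] (hna : ¬ IsMulCommutative G) (ht : orderOf t = 2)
    (h1 : ∀ i : G, orderOf i = 2 → IsConj t i) (hX : TI t X) {Q : ℤ} {N : ℚ} (hN : N ≠ 0)
    (F : WrFuns (Cen t) X ⟨t, t_mem t⟩ Q N) :
    Nonempty (WrEqs Q ((Nat.card (Cen t) : ℚ) ^ 2 / (Nat.card G : ℚ) * N)) := by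
  obtain ⟨V, hR, hdv, hv⟩ := exists_vecs hna ht h1 hX hN F.toFuns
  let σ : ℂ ≃+* ℂ := (starRingAut : RingAut ℂ)
  have hσσ : ∀ χ : IrrCharacter G, PrinCol.galIrr σ (PrinCol.galIrr σ χ) = χ := fun χ =>
    Subtype.ext (funext fun g => Complex.conj_conj _)
  let π : IrrCharacter G ≃ IrrCharacter G := ⟨PrinCol.galIrr σ, PrinCol.galIrr σ, hσσ, hσσ⟩
  refine hR ▸ wr_eqs Q V π (fun χ => ?_) (fun χ => ?_) (fun χ => ?_)
  · have h : conj (V.v 5 (π χ) : ℂ) = (V.v 6 χ : ℂ) := by
      rw [hv, hv, ← (funext F.conj_mu : (fun x => conj (F.f 5 x)) = F.f 6)]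
      simp only [classInner, map_mul, map_inv₀, map_natCast, map_sum, indFun_conj]
      refine congrArg _ (Finset.sum_congr rfl fun g _ => ?_)
      congr 1
      exact congrArg _ (Complex.conj_conj _)
    rw [map_intCast] at h
    exact_mod_cast h.symm
  · have h : (V.deg (π χ) : ℂ) = conj (V.deg χ : ℂ) := by rw [(hdv _).1, (hdv _).1]; rfl
    rw [map_intCast] at h
    exact_mod_cast h
  · have h : (V.val (π χ) : ℂ) = conj (V.val χ : ℂ) := by rw [(hdv _).2, (hdv _).2]; rfl
    rw [map_intCast] at h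
    exact_mod_cast h

end Cfsg.Agent.Invol.BrauerL3
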