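import Cfsg.Agent.Lib.Invol.BrauerL3.ShapeWr
import Mathlib.Tactic.LinearCombination

/-!
# The wreathed case: `a = -Q³` and the value of `c² N / |G|`

`A = -Q`, `x - y = (a+1)(Q+1)/(Q-1)`, hence `a m² = -Q (a+Q)²` and `Q - 1 ∣ a + 1`; for a prime power `±Q` this leaves
`a = -Q³` and `a = -Q²`, and the latter contradicts the equation for `b`.
-/

set_option autoImplicit false

namespace Cfsg.Agent.Invol.BrauerL3

theorem abs_pow_of {p n : ℕ} {Q : ℤ} (hQ : Q = (p : ℤ) ^ n ∨ Q = -(p : ℤ) ^ n) : Q.natAbs = p ^ n := by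
  rcases hQ with h | h <;> rw [h] <;> simp [Int.natAbs_pow]

theorem WrEqs.A_eq {Q : ℤ} {R : ℚ} (E : WrEqs Q R) (h1 : Q ≠ 1) : E.A = -Q := by
  have ha1 : (-1 - (E.a : ℚ)) ≠ 0 := by
    intro h
    have h' : ((E.a : ℤ) : ℚ) = ((-1 : ℤ) : ℚ) := by push_cast; linarith
    exact E.a1 (by exact_mod_cast h')
  have h := E.eqT.trans E.eqF.symm
  have h2 : (-1 - (E.A : ℚ)) ^ 2 = (2 * (1 - (Q : ℚ)) - 1 - E.A) ^ 2 := by
    have h' := congrArg (fun z : ℚ => (z - 1 - (E.A : ℚ) ^ 2 / E.a) * (-1 - (E.a : ℚ))) h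
    simpa [add_sub_assoc, div_mul_cancel₀ _ ha1] using h'
  have h3 : (1 - (Q : ℚ)) * (Q + E.A) = 0 := by linear_combination (1 / 4 : ℚ) * h2
  rcases mul_eq_zero.1 h3 with h4 | h4
  · exact absurd (by exact_mod_cast (show ((Q : ℤ) : ℚ) = ((1 : ℤ) : ℚ) by push_cast; linarith)) h1
  · exact_mod_cast (show ((E.A : ℤ) : ℚ) = ((-Q : ℤ) : ℚ) by push_cast; linarith)

theorem two_terms {b B : ℚ} (hb : b ≠ 0) (hb1 : b ≠ -1) :
    1 + B ^ 2 / b + (-1 - B) ^ 2 / (-1 - b) = (B - b) ^ 2 / (b * (b + 1)) := by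
  have h1 : -1 - b ≠ 0 := sub_ne_zero.2 hb1.symm
  have h2 : b + 1 ≠ 0 := fun e => hb1 (by linarith)
  field_simp
  ring

/-- The quadratic identity behind every equation with three terms. -/
theorem three_terms {a A b B c C : ℚ} (ha : a ≠ 0) (ha1 : a ≠ -1) (hb : b ≠ 0) (hc : c ≠ 0)
    (hd : a + b + c = -1) (hv : A + B + C = -1) (h : 1 + A ^ 2 / a + B ^ 2 / b + C ^ 2 / c = 0) :
    a * (B * c - b * C) ^ 2 = (a - A) ^ 2 * b * c := by
  have h' : a * b * c + A ^ 2 * b * c + B ^ 2 * a * c + C ^ 2 * a * b = 0 := by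
    have e : a * b * c + A ^ 2 * b * c + B ^ 2 * a * c + C ^ 2 * a * b =
        a * b * c * (1 + A ^ 2 / a + B ^ 2 / b + C ^ 2 / c) := by field_simp
    rw [e, h, mul_zero]
  obtain rfl : c = -1 - a - b := by linarith
  obtain rfl : C = -1 - A - B := by linarith
  linear_combination (-1 - a) * h'

/-- The linear equation for `b`. -/
theorem WrEqs.b_eq {Q : ℤ} {R : ℚ} (E : WrEqs Q R) (hR : R ≠ 0) (h1 : Q ≠ 1) (h0 : Q ≠ 0) (hm : Q ≠ -1) :
    (E.b + 1) * Q ^ 2 * (E.a + 1) = (Q ^ 2 - 1) * E.a * E.b ∧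
      R * ((Q : ℚ) - 1) * E.a * (E.a + 1) = Q * ((E.a : ℚ) + Q) ^ 2 ∧ (E.a + Q ≠ 0) := by
  have hA := E.A_eq h1
  have ha : (E.a : ℚ) ≠ 0 := by exact_mod_cast E.a0
  have ha1 : (E.a : ℚ) ≠ -1 := by exact_mod_cast E.a1
  have hb : (E.b : ℚ) ≠ 0 := by exact_mod_cast E.b0
  have hb1 : (E.b : ℚ) ≠ -1 := by exact_mod_cast E.b1
  have hc : (-1 - (E.a : ℚ) - E.b) ≠ 0 := fun e => E.ab (by
    have h' : ((E.a + E.b : ℤ) : ℚ) = ((-1 : ℤ) : ℚ) := by push_cast; linarith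
    exact_mod_cast h')
  have hq : (Q : ℚ) ≠ 0 := by exact_mod_cast h0
  have hq1 : (Q : ℚ) - 1 ≠ 0 := sub_ne_zero.2 (by exact_mod_cast h1)
  have hq2 : (Q : ℚ) + 1 ≠ 0 := fun e => hm (by
    have h' : ((Q : ℤ) : ℚ) = ((-1 : ℤ) : ℚ) := by push_cast; linarith
    exact_mod_cast h')
  have ha' : (E.a : ℚ) + 1 ≠ 0 := fun e => ha1 (by linarith)
  have hb' : (E.b : ℚ) + 1 ≠ 0 := fun e => hb1 (by linarith)
  have eA : (E.A : ℚ) = -(Q : ℚ) := by rw [hA]; push_cast; ring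
  have hT := E.eqT
  rw [two_terms ha ha1, eA, div_eq_iff (mul_ne_zero ha ha')] at hT
  have hT' : R * ((Q : ℚ) - 1) * E.a * (E.a + 1) = Q * ((E.a : ℚ) + Q) ^ 2 := by
    have : ((-(Q : ℚ) - E.a) ^ 2) * Q = R * (((Q : ℚ) - 1) / Q) * (E.a * (E.a + 1)) * Q := by rw [hT]
    field_simp at this
    linear_combination -this
  have hu : E.a + Q ≠ 0 := fun e => by
    have e' : (E.a : ℚ) + Q = 0 := by exact_mod_cast e
    rw [e', zero_pow two_ne_zero, mul_zero] at hT'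
    exact mul_ne_zero (mul_ne_zero (mul_ne_zero hR hq1) ha) ha' hT'
  have h0' := E.eq0
  rw [two_terms hb hb1, div_eq_iff (mul_ne_zero hb hb')] at h0'
  have h0'' : ((E.B : ℚ) - E.b) ^ 2 * (Q + 1) * E.a * (E.a + 1) =
      ((Q : ℚ) - 1) * ((E.a : ℚ) + Q) ^ 2 * E.b * (E.b + 1) := by
    rw [h0', show R * (((Q : ℚ) - 1) ^ 2 / (Q * (Q + 1))) * ((E.b : ℚ) * (E.b + 1)) * (Q + 1) * E.a * (E.a + 1) =
      ((Q : ℚ) - 1) / Q * ((E.b : ℚ) * (E.b + 1)) * (R * ((Q : ℚ) - 1) * E.a * (E.a + 1)) by field_simp, hT']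
    field_simp
  have hA3 := three_terms (C := -1 - (E.A : ℚ) - E.B) ha ha1 hb hc (by ring) (by ring) E.eqA
  rw [eA] at hA3
  set u := (E.a : ℚ) + Q with hu'
  set D := (E.B : ℚ) - E.b
  have hu0 : u ≠ 0 := by rw [hu']; exact_mod_cast hu
  have hlin : ((Q : ℚ) + 1) * E.a * D = -((Q : ℚ) * u * (E.b + 1)) := by
    refine mul_left_cancel₀ (mul_ne_zero (mul_ne_zero (mul_ne_zero (two_ne_zero' ℚ) hb) hu0) ha') ?_
    simp only [D, hu'] at h0'' hA3 ⊢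
    linear_combination ((Q : ℚ) + 1) * hA3 - ((E.a : ℚ) + 1) * h0''
  have hsq : ((E.b : ℚ) + 1) * Q ^ 2 * (E.a + 1) = ((Q : ℚ) ^ 2 - 1) * E.a * E.b := by
    refine mul_left_cancel₀ (mul_ne_zero (pow_ne_zero 2 hu0) hb') ?_
    have h2 := congrArg (fun z : ℚ => z ^ 2) hlin
    simp only [mul_pow, neg_sq] at h2
    linear_combination -((E.a : ℚ) + 1) * h2 + ((Q : ℚ) + 1) * E.a * h0''
  exact ⟨by exact_mod_cast hsq, hT', hu⟩

/-- The two further equations: `(Q-1) x = a + 1` and `a m² = -Q (a+Q)²`. -/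
theorem WrEqs.x_eq {Q : ℤ} {R : ℚ} (E : WrEqs Q R) (hR : R ≠ 0) (h1 : Q ≠ 1) (h0 : Q ≠ 0) (hm : Q ≠ -1) :
    (Q - 1) * E.x = E.a + 1 ∧ E.a * ((Q - 1) * (E.X + 1)) ^ 2 = -Q * (E.a + Q) ^ 2 := by
  obtain ⟨-, hT, hu⟩ := E.b_eq hR h1 h0 hm
  have hA := E.A_eq h1
  have ha : (E.a : ℚ) ≠ 0 := by exact_mod_cast E.a0
  have ha1 : (E.a : ℚ) ≠ -1 := by exact_mod_cast E.a1
  have ha' : (E.a : ℚ) + 1 ≠ 0 := fun e => ha1 (by linarith)
  have hx : (E.x : ℚ) ≠ 0 := by exact_mod_cast E.x0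
  have hy : (E.y : ℚ) ≠ 0 := by exact_mod_cast E.y0
  have hxy : (E.x : ℚ) - E.y ≠ 0 := sub_ne_zero.2 (by exact_mod_cast E.xy)
  have hq : (Q : ℚ) ≠ 0 := by exact_mod_cast h0
  have hq1 : (Q : ℚ) - 1 ≠ 0 := sub_ne_zero.2 (by exact_mod_cast h1)
  have hq2 : (Q : ℚ) + 1 ≠ 0 := fun e => hm (by
    have h' : ((Q : ℤ) : ℚ) = ((-1 : ℤ) : ℚ) := by push_cast; linarith
    exact_mod_cast h')
  have hu0 : (E.a : ℚ) + Q ≠ 0 := by exact_mod_cast hu
  have hsd : (E.a : ℚ) + E.x + E.y = -1 := by exact_mod_cast E.sum_d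
  have hsv : (E.A : ℚ) + E.X + E.Y = -1 := by exact_mod_cast E.sum_v
  have eA : (E.A : ℚ) = -(Q : ℚ) := by rw [hA]; push_cast; ring
  have hM := three_terms ha ha1 hx hy hsd hsv E.eqM
  rw [eA] at hM
  have hW : ((E.X : ℚ) * E.y - E.x * E.Y) ^ 2 =
      R * (((Q : ℚ) - 1) ^ 2 / (Q * (Q + 1))) * (E.x * E.y * (E.x - E.y)) := by
    rw [← E.eqW]; field_simp; ring
  have hW' : ((E.X : ℚ) * E.y - E.x * E.Y) ^ 2 * (Q + 1) * E.a * (E.a + 1) =
      ((Q : ℚ) - 1) * ((E.a : ℚ) + Q) ^ 2 * (E.x * E.y * (E.x - E.y)) := by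
    rw [hW, show R * (((Q : ℚ) - 1) ^ 2 / (Q * (Q + 1))) * ((E.x : ℚ) * E.y * (E.x - E.y)) * (Q + 1) * E.a *
      (E.a + 1) = ((Q : ℚ) - 1) / Q * ((E.x : ℚ) * E.y * (E.x - E.y)) * (R * ((Q : ℚ) - 1) * E.a * (E.a + 1)) by
        field_simp, hT]
    field_simp
  have hk : ((Q : ℚ) - 1) * (E.x - E.y) = ((Q : ℚ) + 1) * (E.a + 1) := by
    refine mul_left_cancel₀ (mul_ne_zero (mul_ne_zero (pow_ne_zero 2 hu0) hx) hy) ?_
    linear_combination -hW' + ((Q : ℚ) + 1) * ((E.a : ℚ) + 1) * hM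
  have hx' : ((Q : ℚ) - 1) * E.x = E.a + 1 := by linear_combination (hk + ((Q : ℚ) - 1) * hsd) / 2
  have hy' : (E.y : ℚ) = -(Q : ℚ) * E.x := by
    linear_combination hsd + hx'
  refine ⟨by exact_mod_cast hx', ?_⟩
  have hY : (E.Y : ℚ) = (Q : ℚ) - 1 - E.X := by linarith
  have h : (E.a : ℚ) * (((Q : ℚ) - 1) * (E.X + 1)) ^ 2 = -(Q : ℚ) * ((E.a : ℚ) + Q) ^ 2 := by
    refine mul_left_cancel₀ (pow_ne_zero 2 hx) ?_
    rw [hy', hY] at hM
    linear_combination hM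
  exact_mod_cast h

theorem pow_congr {p n i : ℕ} (hp : 2 ≤ p) (hn : 0 < n) (h : ((p : ℤ) ^ n - 1) ∣ (p : ℤ) ^ i - 1) : n ∣ i := by
  have h1 : ((p : ℤ) ^ n - 1) ∣ (p : ℤ) ^ (n * (i / n)) - 1 := by
    rw [pow_mul]
    simpa using sub_dvd_pow_sub_pow ((p : ℤ) ^ n) 1 (i / n)
  have h2 : ((p : ℤ) ^ n - 1) ∣ (p : ℤ) ^ (i % n) - 1 := by
    have h3 : (p : ℤ) ^ i - 1 = (p : ℤ) ^ (i % n) * ((p : ℤ) ^ (n * (i / n)) - 1) + ((p : ℤ) ^ (i % n) - 1) := by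
      conv_lhs => rw [← Nat.mod_add_div i n, pow_add]
      ring
    rw [h3] at h
    exact (dvd_add_right (dvd_mul_of_dvd_right h1 _)).1 h
  have hp' : (2 : ℤ) ≤ p := by exact_mod_cast hp
  have hlt : (p : ℤ) ^ (i % n) < (p : ℤ) ^ n := pow_lt_pow_right₀ (by linarith) (Nat.mod_lt i hn)
  have h0 : (p : ℤ) ^ (i % n) - 1 = 0 :=
    Int.eq_zero_of_dvd_of_nonneg_of_lt (by have := one_le_pow₀ (n := i % n) (show (1 : ℤ) ≤ p by linarith); linarith)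
      (by linarith) h2
  refine Nat.dvd_of_mod_eq_zero ?_
  by_contra hne
  have := one_lt_pow₀ (show (1 : ℤ) < p by linarith) hne
  linarith

/-- In the wreathed case `a = -Q³` and the factor is `(Q+1)² / (Q² + Q + 1)`. -/
theorem WrEqs.solve {Q : ℤ} {R : ℚ} (E : WrEqs Q R) (hR : R ≠ 0) {p n : ℕ} (hp : p.Prime) (hn : 0 < n)
    (hQ : Q = (p : ℤ) ^ n ∨ Q = -(p : ℤ) ^ n) :
    E.a = -Q ^ 3 ∧ R * ((Q : ℚ) ^ 2 + Q + 1) = ((Q : ℚ) + 1) ^ 2 := by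
  have hp2 : (2 : ℤ) ≤ p := by exact_mod_cast hp.two_le
  have hqp : (2 : ℤ) ≤ (p : ℤ) ^ n := hp2.trans (le_self_pow₀ (by linarith) hn.ne')
  have h1 : Q ≠ 1 := by rcases hQ with h | h <;> omega
  have h0 : Q ≠ 0 := by rcases hQ with h | h <;> omega
  have hm : Q ≠ -1 := by rcases hQ with h | h <;> omega
  obtain ⟨hb, hT, hu⟩ := E.b_eq hR h1 h0 hm
  obtain ⟨hx, hsq⟩ := E.x_eq hR h1 h0 hm
  have hqn := abs_pow_of hQ
  -- the absolute value of `a` is a power of `p`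
  obtain ⟨i, hi⟩ : ∃ i : ℕ, E.a.natAbs = p ^ i := by
    refine ⟨_, Nat.eq_prime_pow_of_unique_prime_dvd (Int.natAbs_ne_zero.2 E.a0) fun {l} hl hdvd => ?_⟩
    have hla : (l : ℤ) ∣ E.a := Int.natCast_dvd.2 hdvd
    have hlQ : (l : ℤ) ∣ Q := by
      have h : (l : ℤ) ∣ Q * (E.a + Q) ^ 2 := by
        have := hla.mul_right (((Q - 1) * (E.X + 1)) ^ 2)
        rw [hsq, neg_mul, dvd_neg] at this
        exact this
      rcases (Nat.prime_iff_prime_int.1 hl).dvd_mul.1 h with h | h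
      · exact h
      · exact (dvd_add_right hla).1 ((Nat.prime_iff_prime_int.1 hl).dvd_of_dvd_pow h)
    have h := Int.natCast_dvd.1 hlQ
    rw [hqn] at h
    exact (Nat.prime_dvd_prime_iff_eq hl hp).1 (hl.dvd_of_dvd_pow h)
  set m := (Q - 1) * (E.X + 1)
  have hm0 : m ≠ 0 := fun e => by
    rw [e, zero_pow two_ne_zero, mul_zero] at hsq
    exact mul_ne_zero (neg_ne_zero.2 h0) (pow_ne_zero 2 hu) hsq.symm
  -- the sign
  have hsign : (Q = (p : ℤ) ^ n ∧ E.a = -(p : ℤ) ^ i) ∨ (Q = -(p : ℤ) ^ n ∧ E.a = (p : ℤ) ^ i) := by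
    have h2 : E.a = (p : ℤ) ^ i ∨ E.a = -(p : ℤ) ^ i := by
      have := Int.natAbs_eq E.a
      rw [hi] at this
      push_cast at this
      exact this
    have hm2 : 0 < m ^ 2 := by positivity
    have hu2 : 0 < (E.a + Q) ^ 2 := by positivity
    have hpi : 0 < (p : ℤ) ^ i := by positivity
    rcases hQ with hQ | hQ <;> rcases h2 with h2 | h2
    · exfalso; have hq2 := congrArg (· * (E.a + Q) ^ 2) hQ; have ha2 := congrArg (· * m ^ 2) h2; (try simp only [neg_mul] at hq2 ha2); linarith [hsq, hq2, ha2, mul_pos hpi hm2, mul_pos (show (0:ℤ) < (p : ℤ) ^ n by positivity) hu2, neg_mul Q ((E.a + Q) ^ 2)]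
    · exact Or.inl ⟨hQ, h2⟩
    · exact Or.inr ⟨hQ, h2⟩
    · exfalso; have hq2 := congrArg (· * (E.a + Q) ^ 2) hQ; have ha2 := congrArg (· * m ^ 2) h2; (try simp only [neg_mul] at hq2 ha2); linarith [hsq, hq2, ha2, mul_pos hpi hm2, mul_pos (show (0:ℤ) < (p : ℤ) ^ n by positivity) hu2, neg_mul Q ((E.a + Q) ^ 2)]
  have hin : i ≠ n := fun e => hu (by rcases hsign with ⟨q, a⟩ | ⟨q, a⟩ <;> rw [e] at a <;> linear_combination a + q)
  have heq : (p : ℤ) ^ i * m ^ 2 = (p : ℤ) ^ n * ((p : ℤ) ^ n - (p : ℤ) ^ i) ^ 2 := by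
    rcases hsign with ⟨q, a⟩ | ⟨q, a⟩
    · rw [show E.a + Q = (p : ℤ) ^ n - (p : ℤ) ^ i by linear_combination a + q, a] at hsq
      linear_combination -hsq + ((p : ℤ) ^ n - (p : ℤ) ^ i) ^ 2 * q
    · rw [show E.a + Q = (p : ℤ) ^ i - (p : ℤ) ^ n by linear_combination a + q, a] at hsq
      linear_combination hsq - ((p : ℤ) ^ i - (p : ℤ) ^ n) ^ 2 * q
  have hi3 : i ≤ 3 * n := by
    by_contra hlt
    push Not at hlt
    obtain ⟨j, rfl⟩ : ∃ j, i = 3 * n + (j + 1) := ⟨i - 3 * n - 1, by omega⟩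
    have h2 : (p : ℤ) ^ (j + 1) * m ^ 2 = (1 - (p : ℤ) ^ (2 * n + (j + 1))) ^ 2 :=
      mul_left_cancel₀ (show (p : ℤ) ^ (3 * n) ≠ 0 by positivity) (by linear_combination heq)
    have h3 : (p : ℤ) ∣ (1 - (p : ℤ) ^ (2 * n + (j + 1))) ^ 2 :=
      h2 ▸ dvd_mul_of_dvd_left (dvd_pow_self _ (Nat.succ_ne_zero j)) _
    have h4 := (Nat.prime_iff_prime_int.1 hp).dvd_of_dvd_pow h3
    rw [dvd_sub_left (dvd_pow_self _ (by omega))] at h4
    exact (Nat.prime_iff_prime_int.1 hp).not_dvd_one h4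
  have hsolve : E.a = -Q ^ 3 := by
    rcases hsign with ⟨q, a⟩ | ⟨q, a⟩
    · have hd : ((p : ℤ) ^ n - 1) ∣ (p : ℤ) ^ i - 1 := ⟨-E.x, by linear_combination hx + a - E.x * q⟩
      obtain ⟨k, rfl⟩ := pow_congr hp.two_le hn hd
      have hk3 : k ≤ 3 := Nat.le_of_mul_le_mul_left (show n * k ≤ n * 3 by linarith) hn
      rcases k with _ | _ | _ | _ | k
      · exact absurd (by simpa using a) E.a1
      · exact absurd (mul_one n) hin
      · exfalso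
        have h2 : E.a = -Q ^ 2 := by rw [a, q, ← pow_mul]
        rw [h2] at hb
        have h3 : Q ^ 2 * (-Q ^ 2 + 1) = 0 := by linear_combination hb
        rcases mul_eq_zero.1 h3 with h | h
        · exact h0 (pow_eq_zero_iff two_ne_zero |>.1 h)
        · exact E.a1 (by rw [h2]; linarith)
      · rw [a, q, ← pow_mul]
      · omega
    · have hd : ((p : ℤ) ^ n + 1) ∣ (p : ℤ) ^ i + 1 := ⟨-E.x, by
        linear_combination -hx - a + E.x * q⟩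
      have hd2 : ((p : ℤ) ^ (2 * n) - 1) ∣ ((p : ℤ) ^ (i + n) - 1) * ((p : ℤ) ^ n - 1) := by
        rw [show (p : ℤ) ^ (2 * n) - 1 = ((p : ℤ) ^ n + 1) * ((p : ℤ) ^ n - 1) by ring]
        refine mul_dvd_mul_right ?_ _
        have : (p : ℤ) ^ (i + n) - 1 = (p : ℤ) ^ n * ((p : ℤ) ^ i + 1) - ((p : ℤ) ^ n + 1) := by ring
        rw [this]
        exact dvd_sub (dvd_mul_of_dvd_right hd _) dvd_rfl
      have hd1 : ((p : ℤ) ^ n + 1) ∣ (p : ℤ) ^ i + 1 := hd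
      rcases Nat.lt_or_ge i n with hlt | hge
      · exfalso
        have := Int.le_of_dvd (by positivity) hd1
        have := pow_lt_pow_right₀ (show (1 : ℤ) < p by linarith) hlt
        linarith
      obtain ⟨j, rfl⟩ : ∃ j, i = n + j := ⟨i - n, by omega⟩
      -- `p ^ j ≡ 1 mod p ^ n + 1`
      have hj : ((p : ℤ) ^ n + 1) ∣ (p : ℤ) ^ j - 1 := by
        have h' : (p : ℤ) ^ j - 1 = ((p : ℤ) ^ n + 1) * (p : ℤ) ^ j - ((p : ℤ) ^ (n + j) + 1) := by ring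
        rw [h']
        exact dvd_sub (dvd_mul_right _ _) hd1
      have hjle : j ≤ 2 * n := by omega
      rcases Nat.lt_or_ge j (n + 1) with hlt | hge'
      · exfalso
        rcases Nat.eq_zero_or_pos j with rfl | hj0
        · exact hin (by omega)
        · have h2 := one_lt_pow₀ (show (1 : ℤ) < p by linarith) hj0.ne'
          have h3 := Int.le_of_dvd (by linarith) hj
          have h4 := pow_le_pow_right₀ (show (1 : ℤ) ≤ p by linarith) (Nat.lt_succ_iff.1 hlt)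
          linarith
      obtain ⟨j', rfl⟩ : ∃ j', j = n + j' := ⟨j - n, by omega⟩
      have hj' : ((p : ℤ) ^ n + 1) ∣ (p : ℤ) ^ j' + 1 := by
        have h' : (p : ℤ) ^ j' + 1 = ((p : ℤ) ^ n + 1) * (p : ℤ) ^ j' - ((p : ℤ) ^ (n + j') - 1) := by ring
        rw [h']
        exact dvd_sub (dvd_mul_right _ _) hj
      have : n ≤ j' := by
        by_contra hlt
        push Not at hlt
        have := Int.le_of_dvd (by positivity) hj'
        have := pow_lt_pow_right₀ (show (1 : ℤ) < p by linarith) hlt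
        linarith
      obtain rfl : j' = n := by omega
      rw [a, q]; ring
  refine ⟨hsolve, ?_⟩
  have ha : (E.a : ℚ) = -(Q : ℚ) ^ 3 := by rw [hsolve]; push_cast; ring
  have hq : (Q : ℚ) ≠ 0 := by exact_mod_cast h0
  have hq1 : (Q : ℚ) - 1 ≠ 0 := sub_ne_zero.2 (by exact_mod_cast h1)
  refine mul_left_cancel₀ (mul_ne_zero (pow_ne_zero 2 hq1) (pow_ne_zero 3 hq)) ?_
  rw [ha] at hT
  linear_combination hT

end Cfsg.Agent.Invol.BrauerL3
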