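import Cfsg.Agent.Lib.Invol.BrauerL3.LinearGL

/-!
# Brauer's theorem: subgroups of `GL(2, F)` of order prime to `p` over the diagonal torus

Their order is `i (q - 1)²` with `i = 1, 2`, or `(q + 1)(q - 1)²` and then `q ≤ 5`.
-/

set_option autoImplicit false
set_option linter.unusedSectionVars false

namespace Cfsg.Agent.Invol.BrauerL3.Lin

open Matrix

universe v

variable {F : Type v} [Field F] [Fintype F]

local notation "M2" => Matrix (Fin 2) (Fin 2) F

variable {p : ℕ} [Fact p.Prime] [CharP F p] {H : Subgroup (GL (Fin 2) F)} (hH : HasTorus H)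
  (hp : ¬ p ∣ Nat.card H)
include hH hp

theorem no_up {x : F} (h : up x ∈ H) : x = 0 := by
  have key : ∀ k : ℕ, up x ^ k = up ((k : F) * x) := fun k => by
    induction k with
    | zero => simp [up_zero]
    | succ k ih => rw [pow_succ, ih, ← up_add]; congr 1; push_cast; ring
  have h1 : orderOf (up x) ∣ p := orderOf_dvd_of_pow_eq_one (by rw [key, CharP.cast_eq_zero, zero_mul, up_zero])
  rcases (Nat.dvd_prime (Fact.out : p.Prime)).1 h1 with h2 | h2
  · have h3 := congrArg (fun g : GL (Fin 2) F => (g : M2) 0 1) (orderOf_eq_one_iff.1 h2)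
    simpa using h3
  · exact absurd (h2 ▸ Subgroup.orderOf_dvd_natCard H h) hp

theorem no_lo {x : F} (h : lo x ∈ H) : x = 0 := by
  have key : ∀ k : ℕ, lo x ^ k = lo ((k : F) * x) := fun k => by
    induction k with
    | zero => refine ext2 ?_ ?_ ?_ ?_ <;> simp
    | succ k ih => rw [pow_succ, ih, ← lo_add]; congr 1; push_cast; ring
  have h0 : lo (0 : F) = 1 := by refine ext2 ?_ ?_ ?_ ?_ <;> simp
  have h1 : orderOf (lo x) ∣ p := orderOf_dvd_of_pow_eq_one (by rw [key, CharP.cast_eq_zero, zero_mul, h0])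
  rcases (Nat.dvd_prime (Fact.out : p.Prime)).1 h1 with h2 | h2
  · have h3 := congrArg (fun g : GL (Fin 2) F => (g : M2) 1 0) (orderOf_eq_one_iff.1 h2)
    simpa using h3
  · exact absurd (h2 ▸ Subgroup.orderOf_dvd_natCard H h) hp

theorem upper_diag {g : GL (Fin 2) F} (hg : g ∈ H) (h : (g : M2) 1 0 = 0) : (g : M2) 0 1 = 0 := by
  obtain ⟨a, b, x, rfl⟩ := upper_of h
  have h1 := no_up hH hp (x := x) (by have := mul_mem (inv_mem (hH a b)) hg; rwa [inv_mul_cancel_left] at this)
  simp [mul01, h1]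

theorem lower_diag {g : GL (Fin 2) F} (hg : g ∈ H) (h : (g : M2) 0 1 = 0) : (g : M2) 1 0 = 0 := by
  have hd := det_ne g
  rw [h, zero_mul, sub_zero] at hd
  have ha := left_ne_zero_of_mul hd
  have hb := right_ne_zero_of_mul hd
  have e : g = dg (Units.mk0 _ ha) (Units.mk0 _ hb) * lo ((g : M2) 1 0 / (g : M2) 1 1) := by
    refine ext2 ?_ ?_ ?_ ?_ <;> simp [mul00, mul01, mul10, mul11, h]
    field_simp
  have h1 := no_lo hH hp (x := (g : M2) 1 0 / (g : M2) 1 1) (by
    have h2 := mul_mem (inv_mem (hH (Units.mk0 _ ha) (Units.mk0 _ hb))) hg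
    have e2 : (dg (Units.mk0 _ ha) (Units.mk0 _ hb))⁻¹ * g = lo ((g : M2) 1 0 / (g : M2) 1 1) :=
      inv_mul_eq_iff_eq_mul.2 e
    rwa [e2] at h2)
  exact (div_eq_zero_iff.1 h1).resolve_right hb

theorem card_small (hm : ∀ g ∈ H, ((g : M2) 0 0 = 0 ∧ (g : M2) 1 1 = 0) ∨ ((g : M2) 0 1 = 0 ∧ (g : M2) 1 0 = 0)) :
    ∃ i, (i = 1 ∨ i = 2) ∧ Nat.card H = i * (Fintype.card F - 1) ^ 2 := by
  classical
  let f : Fˣ × Fˣ →* H := dgHom.codRestrict H fun v => hH v.1 v.2
  have hf : Function.Injective f := fun a b h => dgHom_injective (congrArg Subtype.val h)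
  have hcard : Nat.card f.range = (Fintype.card F - 1) ^ 2 := by
    rw [← Nat.card_congr (MonoidHom.ofInjective hf).toEquiv, Nat.card_prod, Nat.card_units,
      Nat.card_eq_fintype_card, pow_two]
  refine ⟨Nat.card (H ⧸ f.range), ?_, by rw [f.range.card_eq_card_quotient_mul_card_subgroup, hcard]⟩
  have hd : ∀ g : H, ((g : GL (Fin 2) F) : M2) 0 1 = 0 → ((g : GL (Fin 2) F) : M2) 1 0 = 0 → g ∈ f.range := by
    intro g h1 h2
    obtain ⟨a, b, hab⟩ := diag_of h1 h2
    exact ⟨(a, b), Subtype.ext hab.symm⟩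
  let φ : H ⧸ f.range → Bool := Quotient.lift (fun g : H => decide (((g : GL (Fin 2) F) : M2) 0 0 = 0))
    fun g k e => by
      obtain ⟨⟨a, b⟩, hab⟩ := QuotientGroup.leftRel_apply.1 e
      have e1 : (k : GL (Fin 2) F) = (g : GL (Fin 2) F) * dg a b := by
        have := congrArg Subtype.val hab
        simp [f, dgHom] at this
        rw [this, mul_inv_cancel_left]
      simp [e1, mul00]
  have hφ : Function.Injective φ := by
    rintro ⟨g⟩ ⟨k⟩ e
    refine QuotientGroup.eq.2 ?_
    have e1 : ((g : GL (Fin 2) F) : M2) 0 0 = 0 ↔ ((k : GL (Fin 2) F) : M2) 0 0 = 0 := by simpa [φ] using e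
    rcases hm _ (g⁻¹ * k : H).2 with ⟨h0, h1⟩ | ⟨h0, h1⟩
    swap
    · exact hd _ h0 h1
    exfalso
    have e2 : (k : GL (Fin 2) F) = (g : GL (Fin 2) F) * ((g⁻¹ * k : H) : GL (Fin 2) F) := by simp
    have hd1 := det_ne (g : GL (Fin 2) F)
    have hd2 := det_ne (k : GL (Fin 2) F)
    have hd3 := det_ne ((g⁻¹ * k : H) : GL (Fin 2) F)
    rw [h0, zero_mul, zero_sub, neg_ne_zero] at hd3
    by_cases hg0 : ((g : GL (Fin 2) F) : M2) 0 0 = 0
    · have hk0 := e1.1 hg0
      rw [e2, mul00, h0, mul_zero, zero_add] at hk0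
      rw [hg0, zero_mul, zero_sub, neg_ne_zero] at hd1
      exact mul_ne_zero (left_ne_zero_of_mul hd1) (right_ne_zero_of_mul hd3) hk0
    · rcases hm _ g.2 with ⟨h, -⟩ | ⟨h, -⟩
      · exact hg0 h
      · refine (fun hk => hg0 (e1.2 hk)) ?_
        rw [e2, mul00, h0, mul_zero, zero_add, h, zero_mul]
  have h2 : Nat.card (H ⧸ f.range) ≤ 2 := by
    refine (Nat.card_le_card_of_injective φ hφ).trans ?_
    simp
  have h3 := Nat.card_pos (α := H ⧸ f.range)
  omega

theorem transitive_small (hodd : (2 : F) ≠ 0) (hT : Transitive H) :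
    Nat.card H = (Fintype.card F + 1) * (Fintype.card F - 1) ^ 2 ∧ Fintype.card F ≤ 5 := by
  classical
  -- an element is fixed up to the torus by its first column
  have hsame : ∀ g ∈ H, ∀ g' ∈ H, (g : M2) 0 0 = (g' : M2) 0 0 → (g : M2) 1 0 = (g' : M2) 1 0 →
      (g : M2) 0 1 * (g' : M2) 1 1 = (g : M2) 1 1 * (g' : M2) 0 1 := by
    intro g hg g' hg' e0 e1
    have i0 := congrArg (fun k : GL (Fin 2) F => (k : M2) 1 0) (inv_mul_cancel g)
    simp only [mul10, e0, e1] at i0
    have h10 : ((g⁻¹ * g' : GL (Fin 2) F) : M2) 1 0 = 0 := by rw [mul10, i0]; simp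
    have h01 := upper_diag hH hp (mul_mem (inv_mem hg) hg') h10
    have e2 : g' = g * (g⁻¹ * g') := by group
    conv_lhs => rw [e2, mul11, h01]
    conv_rhs => rw [e2, mul01, h01]
    ring
  have hstab : Nat.card (colStab H) = Fintype.card F - 1 := by
    let f : Fˣ → colStab H := fun b => ⟨⟨dg 1 b, hH 1 b⟩, by simp [colStab]⟩
    rw [← Fintype.card_units, ← Nat.card_eq_fintype_card]
    refine (Nat.card_congr (Equiv.ofBijective f ⟨fun b c h => ?_, ?_⟩)).symm
    · exact congrArg Prod.snd (@dgHom_injective F _ (1, b) (1, c)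
        (congrArg (fun k : colStab H => ((k : H) : GL (Fin 2) F)) h))
    · rintro ⟨⟨g, hg⟩, h0, h1⟩
      obtain ⟨a, b, rfl⟩ := diag_of (upper_diag hH hp hg h1) h1
      simp at h0
      exact ⟨b, Subtype.ext (Subtype.ext (by show dg 1 b = dg a b; rw [h0]))⟩
  constructor
  · rw [card_transitive hT, hstab]
    have h1 := Fintype.one_lt_card (α := F)
    obtain ⟨r, hr⟩ : ∃ r, Fintype.card F = r + 1 := ⟨Fintype.card F - 1, by omega⟩
    rw [hr, Nat.add_sub_cancel, show (r + 1) ^ 2 - 1 = r * (r + 2) from Nat.sub_eq_of_eq_add (by ring)]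
    ring
  -- the antidiagonal element
  have hsw : sw ∈ H := by
    obtain ⟨g, hg, e0, e1⟩ := hT 0 1 (Or.inr one_ne_zero)
    have hd := det_ne g
    rw [e0, zero_mul, zero_sub, neg_ne_zero, e1, mul_one] at hd
    have h1 := hsame g hg (dg (-1) 1 * g) (mul_mem (hH _ _) hg) (by simp [mul00, e0]) (by simp [mul10])
    simp [mul01, mul11] at h1
    have hd0 : (g : M2) 1 1 = 0 := by
      have e : (2 : F) * ((g : M2) 0 1 * (g : M2) 1 1) = 0 := by linear_combination h1
      exact (mul_eq_zero.1 ((mul_eq_zero.1 e).resolve_left hodd)).resolve_left hd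
    have e : sw = dg (Units.mk0 _ hd)⁻¹ (-1) * g := by
      refine ext2 ?_ ?_ ?_ ?_ <;> simp [mul00, mul01, mul10, mul11, sw_val, e0, e1, hd0, hd]
    rw [e]; exact mul_mem (hH _ _) hg
  -- the elements outside the monomial group
  have hfull : ∀ g ∈ H, (g : M2) 0 0 ≠ 0 → (g : M2) 1 0 ≠ 0 →
      (g : M2) 0 0 * (g : M2) 1 1 = -((g : M2) 0 1 * (g : M2) 1 0) := by
    intro g hg ha hc
    have hb : (g : M2) 0 1 ≠ 0 := fun h => hc (lower_diag hH hp hg h)
    have hd : (g : M2) 1 1 ≠ 0 := fun h => ha (by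
      have h1 := upper_diag hH hp (mul_mem hg hsw) (by simp [mul10, sw_val, h])
      simpa [mul01, sw_val, h] using h1)
    set k : GL (Fin 2) F :=
      dg (Units.mk0 _ (div_ne_zero (mul_ne_zero ha hd) (mul_ne_zero hb hc))) 1 * (g * sw) with hk
    set g' : GL (Fin 2) F := dg (Units.mk0 _ (div_ne_zero (neg_ne_zero.2 hc) hd)) (Units.mk0 _ (div_ne_zero (neg_ne_zero.2 hc) hd)) * k
      with hg'
    have h1 := hsame g hg g' (mul_mem (hH _ _) (mul_mem (hH _ _) (mul_mem hg hsw))) ?_ ?_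
    · simp [hg', hk, mul00, mul01, mul10, mul11, sw_val] at h1
      field_simp at h1
      have e : ((g : M2) 0 0 * (g : M2) 1 1 - (g : M2) 0 1 * (g : M2) 1 0) *
          ((g : M2) 0 0 * (g : M2) 1 1 + (g : M2) 0 1 * (g : M2) 1 0) = 0 := by
        rcases eq_or_ne ((g : M2) 0 0 * (g : M2) 1 1) ((g : M2) 0 1 * (g : M2) 1 0) with h | h
        · rw [h, sub_self, zero_mul]
        · linear_combination h1
      linear_combination (mul_eq_zero.1 e).resolve_left (det_ne g)
    · simp [hg', hk, mul00, mul01, mul10, mul11, sw_val]; field_simp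
    · simp [hg', hk, mul00, mul01, mul10, mul11, sw_val]; field_simp
  obtain ⟨g, hg, e0, e1⟩ := hT 1 1 (Or.inl one_ne_zero)
  have hbd := hfull g hg (by simp [e0]) (by simp [e1])
  rw [e0, e1, one_mul, mul_one] at hbd
  set d := (g : M2) 1 1 with hd
  have hd0 : d ≠ 0 := fun h => by
    have := det_ne g
    rw [e0, e1, ← hd, h] at this
    rw [h, eq_comm, neg_eq_zero] at hbd
    simp [hbd] at this
  have hb : (g : M2) 0 1 = -d := by rw [hbd, neg_neg]
  have hroot : ∀ l : Fˣ, (l : F) ^ 4 = (1 / d) ^ 4 := by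
    intro l
    by_cases h0 : 1 - (l : F) * d = 0
    · rw [show (l : F) = 1 / d from (eq_div_iff hd0).2 (by linear_combination -h0)]
    by_cases h1 : 1 + (l : F) * d = 0
    · rw [show (l : F) = -(1 / d) from neg_eq_iff_eq_neg.1 ((eq_div_iff hd0).2 (by linear_combination -h1))]; ring
    -- otherwise the product has full first column
    have h2 := hfull (g * dg 1 l * g) (mul_mem (mul_mem hg (hH 1 l)) hg)
      (by simp [mul00, mul01, mul10, mul11, e0, e1, hb]; intro h; exact h0 (by linear_combination h))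
      (by simp [mul00, mul01, mul10, mul11, e0, e1, hb, ← hd]; intro h; exact h1 (by linear_combination h))
    simp [mul00, mul01, mul10, mul11, e0, e1, hb, ← hd] at h2
    have h3 : (2 : F) * d * (1 + (l : F) ^ 2 * d ^ 2) = 0 := by linear_combination -h2
    have h4 := (mul_eq_zero.1 h3).resolve_left (mul_ne_zero hodd hd0)
    field_simp
    linear_combination ((l : F) ^ 2 * d ^ 2 - 1) * h4
  have hsub : (Finset.univ.image fun l : Fˣ => (l : F)) ⊆
      (Polynomial.X ^ 4 - Polynomial.C ((1 / d) ^ 4)).roots.toFinset := by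
    intro x hx
    obtain ⟨l, -, rfl⟩ := Finset.mem_image.1 hx
    rw [Multiset.mem_toFinset, Polynomial.mem_roots (Polynomial.X_pow_sub_C_ne_zero (by norm_num) _)]
    simp [hroot l]
  have h5 := (Finset.card_le_card hsub).trans ((Multiset.toFinset_card_le _).trans (Polynomial.card_roots' _))
  rw [Finset.card_image_of_injective _ (fun a b h => Units.ext h), Finset.card_univ, Fintype.card_units,
    Polynomial.natDegree_X_pow_sub_C] at h5
  omega

theorem card_pprime (hodd : (2 : F) ≠ 0) : (∃ i, (i = 1 ∨ i = 2) ∧ Nat.card H = i * (Fintype.card F - 1) ^ 2) ∨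
    (Nat.card H = (Fintype.card F + 1) * (Fintype.card F - 1) ^ 2 ∧ Fintype.card F ≤ 5) := by
  rcases torus_cases hH with h | h | h | h
  · exact Or.inl (card_small hH hp fun g hg => Or.inr ⟨upper_diag hH hp hg (h g hg), h g hg⟩)
  · exact Or.inl (card_small hH hp fun g hg => Or.inr ⟨h g hg, lower_diag hH hp hg (h g hg)⟩)
  · exact Or.inl (card_small hH hp h)
  · exact Or.inr (transitive_small hH hp hodd h)

end Cfsg.Agent.Invol.BrauerL3.Lin
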