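import Cfsg.Agent.Lib.Invol.BrauerL3.LinearMain
import Cfsg.Agent.Lib.Invol.BrauerL3.LinearGLPrime

/-!
# Brauer's theorem: the order of the Mathieu type

`mtype_card_eq_three`: if the index of the centraliser of `t` is `(q² + q - 1)(q² + 2q)`, then `q = 3`.  The product of
`X` and its one partner is a Sylow `p`-subgroup; the number of its conjugates is `1` modulo `p`.
-/

set_option autoImplicit false
set_option linter.unusedSectionVars false
set_option linter.style.haveILetI false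

namespace Cfsg.Agent.Invol.BrauerL3.Lin

open Subgroup
open scoped Pointwise

universe u v

variable {G : Type u} [Group G] [Finite G] {F : Type v} [Field F] [Fintype F]

namespace Sys

variable (S : Sys G F)

noncomputable section

/-- The order of the Mathieu type, the part prime to `p` apart from the torus. -/
def mOrd (q : ℕ) : ℕ := (q + 1) * (q ^ 2 + q - 1) * (q + 2)

variable {p : ℕ} [Fact p.Prime] [CharP F p]

theorem mOrd_cast : ((mOrd (Fintype.card F) : ℕ) : ZMod p) = -2 := by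
  have h : ((Fintype.card F : ℕ) : ZMod p) = 0 := by
    obtain ⟨m, -, hm⟩ := FiniteField.card F p
    rw [hm, Nat.cast_pow, ZMod.natCast_self, zero_pow m.ne_zero]
  rw [mOrd, Nat.cast_mul, Nat.cast_mul, Nat.cast_sub (by have := Fintype.card_pos (α := F); nlinarith)]
  simp only [Nat.cast_add, Nat.cast_one, Nat.cast_pow, h]
  norm_num

include S in
theorem mOrd_coprime : ¬ p ∣ mOrd (Fintype.card F) := fun h => by
  rw [← ZMod.natCast_eq_zero_iff, mOrd_cast (p := p)] at h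
  have h2 : p ∣ 2 := by
    rw [← ZMod.natCast_eq_zero_iff, Nat.cast_ofNat]
    exact neg_eq_zero.1 h
  have h3 := (Nat.prime_dvd_prime_iff_eq (Fact.out : p.Prime) Nat.prime_two).1 h2
  exact Nat.not_even_iff_odd.2 (S.p_odd (p := p)) (h3 ▸ even_two)

/-- An element of a subgroup containing a root group has upper triangular shape. -/
theorem borel_form {g : G} (hg : S.Good g) {Y : Subgroup G} (hY : Odd (Nat.card Y))
    (hYu : ∀ y ∈ Y, Commute y (g * S.t * g⁻¹)) (hn : ∀ a ∈ S.A, ∀ y ∈ Y, a * y * a⁻¹ ∈ Y)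
    (hr : ∀ x, S.rt g x ∈ Y) {y : G} (hy : y ∈ Y) : ∃ a ∈ S.A, ∃ x, y = a * S.rt g x := by
  obtain ⟨hodd, hct, hnA⟩ := S.pulled hg hY hYu hn
  rcases S.triangular _ hodd hct hnA with h | h
  · obtain ⟨a, ha, x, hax⟩ := h (g⁻¹ * y * g) (show g * (g⁻¹ * y * g) * g⁻¹ ∈ Y by simpa [mul_assoc] using hy)
    refine ⟨g * a * g⁻¹, hg.conj S ha, x, ?_⟩
    calc y = g * (g⁻¹ * y * g) * g⁻¹ := by group
      _ = _ := by rw [hax, rt]; group
  · exfalso
    obtain ⟨a, ha, x, hax⟩ := h (S.e 1) (show g * S.e 1 * g⁻¹ ∈ Y from hr 1)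
    have e : S.μ (lo x) = S.n * S.e (-x) * S.n⁻¹ := by rw [S.n_e, neg_neg]
    have h1 := congrArg (fun k => S.n * k * S.n⁻¹) hax
    simp only [S.n_e] at h1
    refine one_ne_zero (α := F) (neg_eq_zero.1 (S.lo_eq (S.good_n.conj S ha) (y := -x) ?_))
    rw [h1, e]
    calc S.n * (a * (S.n * S.e (-x) * S.n⁻¹)) * S.n⁻¹
        = (S.n * a * S.n⁻¹) * ((S.n * S.n) * S.e (-x) * (S.n * S.n)⁻¹) := by group
      _ = _ := by rw [S.n_sq, ← (S.e_t (-x)).eq, mul_inv_cancel_right]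

variable {g u k₁ k₂ : G} (hu : u = S.w ∨ u = S.t * S.w) (hgu : g * S.t * g⁻¹ = u)
  (hgv : g * (S.t * u) * g⁻¹ = S.t * u) (hginv : ∀ x, S.t * S.rt g x * S.t⁻¹ = S.rt g (-x)) (hg : S.Good g)
  (hk₁ : S.Moves k₁ (S.t * u) S.t) (hk₂ : S.Moves k₂ (S.t * u) u) (hg₁ : S.Good k₁) (hg₂ : S.Good k₂)
  (hP : S.P g) (hn₁ : ¬ S.P k₁) (hn₂ : ¬ S.P k₂)
include hu hgu hgv hginv hg hk₁ hk₂ hg₁ hg₂ hP hn₁ hn₂

include p in
theorem cent_pair_le : centralizer (S.pair hP : Set G) ≤
    (normalizer (S.pair hP : Set G) ⊓ centralizer ({S.t * u} : Set G)) ⊔ S.pair hP := by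
  obtain ⟨huA, -, -⟩ := S.u_facts hu hgu hgv hginv hg hk₁ hk₂ hg₁ hg₂ hP hn₁ hn₂
  have hvA : S.t * u ∈ S.A := mul_mem S.tA huA
  haveI hKK : IsKleinFour ↥(S.U) := JankoWard.fourSub_klein S.t1 S.w1 S.w_ne.symm
  haveI : IsMulCommutative ↥(S.U) := IsKleinFour.isMulCommutative
  have hUA : S.U ≤ S.A := by
    intro y hy
    rcases hy with e | e | e | e <;> rw [e]
    exacts [one_mem _, S.tA, S.wA, mul_mem S.tA S.wA]
  have hodd := S.cent_pair_odd (p := p) hP hginv
  set K := normalizer (S.pair hP : Set G) ⊓ centralizer ({S.t * u} : Set G)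
  set CE := centralizer (S.pair hP : Set G)
  have hAK : ∀ a ∈ S.A, a ∈ K := fun a ha =>
    ⟨S.A_normalizes_pair hg hP ha, mem_centralizer_singleton_iff.2 (S.A_comm ha hvA).eq⟩
  obtain ⟨W, hWo, hW, hWd⟩ := S.exists_W
  have hCW : ∀ y ∈ CE, y ∈ W := fun y hy =>
    (hW y).2 ⟨S.cent_pair_CX hP hy, hodd.of_dvd_nat (orderOf_dvd_natCard CE hy)⟩
  have h0 : ∀ y ∈ CE, Commute y S.t → y ∈ K ⊔ S.pair hP := fun y hy hyt => by
    obtain ⟨a, c, rfl⟩ := S.cent_e hyt one_ne_zero (S.mem_CX.1 (S.cent_pair_CX hP hy) 1)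
    exact mul_mem (mem_sup_left (hAK _ (S.dg_mem a a))) (mem_sup_right (S.pair_e hP c))
  have hU : ∀ y ∈ CE, Commute y u → y ∈ K ⊔ S.pair hP := fun y hy hyu => by
    have hu' : g * S.t * g⁻¹ = S.t ∨ g * S.t * g⁻¹ = S.w ∨ g * S.t * g⁻¹ = S.t * S.w := Or.inr (hgu ▸ hu)
    obtain ⟨ho, hc, hn⟩ := S.W_part hWo hW hWd (g := g) hu'
    obtain ⟨a, ha, x, rfl⟩ := S.borel_form hg ho hc hn
      (fun x => ⟨S.rt_mem_W hWo hW hWd hP x, mem_centralizer_singleton_iff.2 (cconj g (S.e_t x)).eq⟩)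
      (y := y) ⟨hCW y hy, mem_centralizer_singleton_iff.2 (hgu.symm ▸ hyu).eq⟩
    exact mul_mem (mem_sup_left (hAK a ha)) (mem_sup_right (S.pair_rt hP x))
  have hV : ∀ y ∈ CE, Commute y (S.t * u) → y ∈ K ⊔ S.pair hP := fun y hy hyv =>
    mem_sup_left (hAK _ (S.cent_pair_v (p := p) hu hgu hgv hginv hg hk₁ hk₂ hg₁ hg₂ hP hn₁ hn₂ hy hyv))
  rw [← Grp.generated_by_centralizers S.U CE IsKleinFour.not_isCyclic
    (fun a ha => mem_normalizer_fintype fun y hy => S.cent_pair_A_conj hg hP (hUA ha) hy)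
    (by rw [IsKleinFour.card_four, show (4 : ℕ) = 2 ^ 2 by norm_num]; exact (Nat.coprime_two_left.2 hodd).pow_left 2)]
  refine iSup₂_le fun z hz y hy => ?_
  have hyz : Commute y z := mem_centralizer_singleton_iff.1 hy.2
  rcases hz.1 with e | e | e | e <;> rw [e] at hyz
  · exact absurd e hz.2
  · exact h0 y hy.1 hyz
  · rcases hu with h | h
    · exact hU y hy.1 (h ▸ hyz)
    · refine hV y hy.1 ?_
      rwa [h, ← mul_assoc, S.tt, one_mul]
  · rcases hu with h | h
    · refine hV y hy.1 ?_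
      rwa [h]
    · exact hU y hy.1 (h ▸ hyz)

include p in
theorem mtype_single
    (hord : Nat.card G = Nat.card S.A * Fintype.card F ^ 2 * mOrd (Fintype.card F)) : Fintype.card F = 3 := by
  classical
  obtain ⟨huA, huu, -⟩ := S.u_facts hu hgu hgv hginv hg hk₁ hk₂ hg₁ hg₂ hP hn₁ hn₂
  have htu : Commute S.t u := (S.A_t huA).symm
  have hvA : S.t * u ∈ S.A := mul_mem S.tA huA
  set E := S.pair hP with hE
  set v := S.t * u with hvdef
  set K := normalizer (E : Set G) ⊓ centralizer ({v} : Set G) with hK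
  have hAK : S.A ≤ K := fun a ha =>
    ⟨S.A_normalizes_pair hg hP ha, mem_centralizer_singleton_iff.2 (S.A_comm ha hvA).eq⟩
  have hN : normalizer (E : Set G) = K ⊔ E :=
    le_antisymm ((S.norm_pair_le (p := p) hu hgu hgv hginv hg hk₁ hk₂ hg₁ hg₂ hP hn₁ hn₂).trans
      (sup_le le_sup_left (S.cent_pair_le (p := p) hu hgu hgv hginv hg hk₁ hk₂ hg₁ hg₂ hP hn₁ hn₂)))
      (sup_le inf_le_left le_normalizer)
  have hcE : Nat.card E = Fintype.card F ^ 2 := S.card_pair hP hginv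
  have hinf : K ⊓ E = ⊥ := by
    refine eq_bot_iff.2 fun y hy => ?_
    obtain ⟨hyK, hyE⟩ := mem_inf.1 hy
    have h1 := S.v_inverts hu hgu hgv hginv hg hk₁ hk₂ hg₁ hg₂ hP hn₁ hn₂ y hyE
    have h2 : Commute y v := mem_centralizer_singleton_iff.1 hyK.2
    rw [← h2.eq, mul_inv_cancel_right, eq_inv_iff_mul_eq_one] at h1
    obtain ⟨j, hj⟩ := S.pair_pgroup (p := p) hP ⟨y, hyE⟩
    exact mem_bot.2 (orderOf_eq_one_iff.1 (Nat.eq_one_of_dvd_coprimes
      ((Nat.coprime_two_left.2 (S.p_odd (p := p))).pow_right j) (orderOf_dvd_of_pow_eq_one (by rw [pow_two, h1]))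
      (orderOf_dvd_of_pow_eq_one (congrArg Subtype.val hj))))
  have hcN : Nat.card ↥(normalizer (E : Set G)) = Nat.card K * Fintype.card F ^ 2 := by
    have h := Grp.card_sup_mul_card_inf (show K ≤ normalizer (E : Set G) from inf_le_left)
    rwa [hinf, card_bot, mul_one, ← hN, hcE] at h
  -- the Sylow number
  have hpA := S.A_coprime (p := p)
  have hpM := S.mOrd_coprime (p := p)
  have hidx : E.index = Nat.card S.A * mOrd (Fintype.card F) := by
    refine Nat.eq_of_mul_eq_mul_left (Nat.card_pos (α := E)) ?_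
    rw [E.card_mul_index, hord, hcE]; ring
  have hnd : ¬ p ∣ E.index := by
    rw [hidx]
    exact fun h => ((Fact.out : p.Prime).dvd_mul.1 h).elim hpA hpM
  set P : Sylow p G := (S.pair_pgroup (p := p) hP).toSylow hnd
  have hsyl : (normalizer (E : Set G)).index ≡ 1 [MOD p] := by
    have h := card_sylow_modEq_one p G
    rwa [Sylow.card_eq_index_normalizer P] at h
  have hM : (normalizer (E : Set G)).index * Nat.card K = Nat.card S.A * mOrd (Fintype.card F) := by
    refine Nat.eq_of_mul_eq_mul_left (show 0 < Fintype.card F ^ 2 from pow_pos Fintype.card_pos 2) ?_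
    calc Fintype.card F ^ 2 * ((normalizer (E : Set G)).index * Nat.card K)
        = Nat.card ↥(normalizer (E : Set G)) * (normalizer (E : Set G)).index := by rw [hcN]; ring
      _ = Nat.card G := Subgroup.card_mul_index _
      _ = _ := by rw [hord]; ring
  -- the subgroup of matrices
  set H := K.comap ((MulAut.conj k₁).toMonoidHom.comp S.μ) with hH
  have hHm : ∀ {m}, m ∈ H ↔ k₁ * S.μ m * k₁⁻¹ ∈ K := Iff.rfl
  have hHT : HasTorus H := fun a b => hHm.2 (hAK (hg₁.conj S (S.dg_mem a b)))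
  have hcH : Nat.card H = Nat.card K * Nat.card S.μ.ker := by
    set f := ((MulAut.conj k₁).toMonoidHom.comp S.μ).comp H.subtype
    have hrange : f.range = K := by
      refine le_antisymm (fun z => ?_) fun z hz => ?_
      · rintro ⟨⟨m, hm⟩, rfl⟩; exact hHm.1 hm
      have hzv : Commute (k₁⁻¹ * z * k₁) S.t := by
        have h := cconj k₁⁻¹ (mem_centralizer_singleton_iff.1 hz.2 : Commute z v)
        rwa [inv_inv, ← hk₁.1, show k₁⁻¹ * (k₁ * S.t * k₁⁻¹) * k₁ = S.t by group] at h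
      obtain ⟨m, hm⟩ := S.onto _ hzv
      have e : k₁ * S.μ m * k₁⁻¹ = z := by rw [hm]; group
      exact ⟨⟨m, hHm.2 (e.symm ▸ hz)⟩, e⟩
    have hker : Nat.card f.ker = Nat.card S.μ.ker := by
      have hk : ∀ z : f.ker, ((z : H) : GL (Fin 2) F) ∈ S.μ.ker := fun z => by
        have h : k₁ * S.μ ((z : H) : GL (Fin 2) F) * k₁⁻¹ = 1 := z.2
        exact conj_eq_one_iff.1 h
      refine Nat.card_congr (Equiv.ofBijective (fun z => (⟨_, hk z⟩ : S.μ.ker)) ⟨?_, ?_⟩)
      · intro a b h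
        exact Subtype.ext (Subtype.ext (congrArg Subtype.val h :))
      · rintro ⟨z, hz⟩
        have e : k₁ * S.μ z * k₁⁻¹ = 1 := by rw [show S.μ z = 1 from hz, mul_one, mul_inv_cancel]
        exact ⟨⟨⟨z, hHm.2 (e ▸ one_mem K)⟩, e⟩, rfl⟩
    rw [f.ker.card_eq_card_quotient_mul_card_subgroup,
      Nat.card_congr (QuotientGroup.quotientKerEquivRange f).toEquiv, hrange, hker]
  have hkpos : 0 < Nat.card S.μ.ker := Nat.card_pos
  have hkpr : ¬ p ∣ Nat.card S.μ.ker := fun h => by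
    have h1 := h.trans (Dvd.intro_left _ S.card_A)
    exact (S.coprime_sq_sub (p := p)) (((Fact.out : p.Prime).dvd_of_dvd_pow h1).trans
      ⟨Fintype.card F + 1, by
        obtain ⟨r, hr⟩ : ∃ r, Fintype.card F = r + 1 := ⟨Fintype.card F - 1, by have := S.three_le_card; omega⟩
        rw [hr, Nat.add_sub_cancel]; exact Nat.sub_eq_of_eq_add (by ring)⟩)
  have hpK : ¬ p ∣ Nat.card K := fun h => by
    have h2 : p ∣ Nat.card S.A * mOrd (Fintype.card F) := hM ▸ h.mul_left _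
    exact ((Fact.out : p.Prime).dvd_mul.1 h2).elim hpA hpM
  have hpH : ¬ p ∣ Nat.card H := hcH ▸ fun h => ((Fact.out : p.Prime).dvd_mul.1 h).elim hpK hkpr
  -- `k = |K : A|`
  have key : ∀ k, Nat.card H = k * (Fintype.card F - 1) ^ 2 → Nat.card K = k * Nat.card S.A ∧ p ∣ k + 2 := by
    intro k hk
    have e1 : Nat.card K = k * Nat.card S.A := by
      refine Nat.eq_of_mul_eq_mul_right hkpos ?_
      rw [← hcH, hk, mul_assoc, S.card_A]
    refine ⟨e1, ?_⟩
    have e2 : (normalizer (E : Set G)).index * k = mOrd (Fintype.card F) := by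
      refine Nat.eq_of_mul_eq_mul_left (Nat.card_pos (α := S.A)) ?_
      rw [← hM, e1]; ring
    rw [← ZMod.natCast_eq_zero_iff]
    have e3 := congrArg (fun n : ℕ => (n : ZMod p)) e2
    simp only [Nat.cast_mul] at e3
    rw [(ZMod.natCast_eq_natCast_iff _ _ _).2 hsyl, Nat.cast_one, one_mul, mOrd_cast (p := p)] at e3
    push_cast
    rw [e3]; ring
  have hp3 : 3 ≤ p := by
    have := (Fact.out : p.Prime).two_le
    obtain ⟨r, hr⟩ := S.p_odd (p := p)
    omega
  rcases card_pprime hHT hpH S.two_ne with ⟨i, hi | hi, hHi⟩ | ⟨hH', hle⟩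
  · -- the element interchanging the two roots is not in the torus
    exfalso
    obtain ⟨e1, -⟩ := key i hHi
    rw [hi, one_mul] at e1
    have hKA : S.A = K := Subgroup.eq_of_le_of_card_ge hAK e1.le
    have hg2 : g * u * g⁻¹ = S.t := by
      calc g * u * g⁻¹ = g * (S.t * (S.t * u)) * g⁻¹ := by rw [← mul_assoc S.t, S.tt, one_mul]
        _ = g * S.t * g⁻¹ * (g * (S.t * u) * g⁻¹) := by group
        _ = u * v := by rw [hgu, hgv]
        _ = S.t := by rw [hvdef, ← mul_assoc, ← htu.eq, mul_assoc, huu, mul_one]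
    have hggt : g * g * S.t * (g * g)⁻¹ = S.t := by
      calc g * g * S.t * (g * g)⁻¹ = g * (g * S.t * g⁻¹) * g⁻¹ := by group
        _ = _ := by rw [hgu, hg2]
    have hggv : g * g * v * (g * g)⁻¹ = v := by
      calc g * g * v * (g * g)⁻¹ = g * (g * v * g⁻¹) * g⁻¹ := by group
        _ = _ := by rw [hgv, hgv]
    have hgg : g * g ∈ S.A := by
      refine S.mem_A.2 ⟨mul_inv_eq_iff_eq_mul.1 hggt, mul_inv_eq_iff_eq_mul.1 ?_⟩
      rcases hu with h | h
      · have hw' : S.w = S.t * v := by rw [hvdef, ← mul_assoc, S.tt, one_mul, h]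
        calc g * g * S.w * (g * g)⁻¹ = g * g * S.t * (g * g)⁻¹ * (g * g * v * (g * g)⁻¹) := by rw [hw']; group
          _ = S.w := by rw [hggt, hggv, ← hw']
      · have hw' : S.w = v := by rw [hvdef, h, ← mul_assoc, S.tt, one_mul]
        rw [hw']; exact hggv
    obtain ⟨c, -, hc⟩ := S.A_scale hgg
    have hgN : g ∈ normalizer (E : Set G) := mem_normalizer_fintype fun y hy => by
      obtain ⟨a, b, rfl⟩ := (S.mem_pair hP).1 hy
      refine (S.mem_pair hP).2 ⟨c * b, a, ?_⟩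
      calc g * (S.e a * S.rt g b) * g⁻¹ = S.rt g a * (g * g * S.e b * (g * g)⁻¹) := by simp only [rt]; group
        _ = _ := by rw [hc]; exact (hP _ _).symm.eq
    have hgK : g ∈ K := ⟨hgN, mem_centralizer_singleton_iff.2 (mul_inv_eq_iff_eq_mul.1 hgv)⟩
    rw [← hKA] at hgK
    have h3 := hgu
    rw [(S.A_t hgK).eq, mul_inv_cancel_right] at h3
    rcases hu with h | h
    · exact S.w_ne (h3.trans h).symm
    · exact S.w1 (mul_left_cancel (((h3.trans h).symm.trans (mul_one S.t).symm)))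
  · exfalso
    obtain ⟨-, e2⟩ := key i hHi
    rw [hi] at e2
    have := Nat.le_of_dvd (by norm_num) e2
    obtain ⟨r, hr⟩ := S.p_odd (p := p)
    interval_cases p <;> omega
  · obtain ⟨-, e2⟩ := key _ hH'
    have hq : p ∣ Fintype.card F := by
      obtain ⟨m, -, hm⟩ := FiniteField.card F p
      exact hm ▸ dvd_pow_self p m.ne_zero
    have h3 : p ∣ 3 := by
      rw [show Fintype.card F + 1 + 2 = Fintype.card F + 3 by ring] at e2
      exact (Nat.dvd_add_right hq).1 e2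
    obtain rfl : p = 3 := (Nat.prime_dvd_prime_iff_eq (Fact.out : p.Prime) Nat.prime_three).1 h3
    obtain ⟨r, hr⟩ := hq
    have := S.three_le_card
    omega

end

end Sys

end Lin

open Subgroup

theorem mtype_card_eq_three {G : Type*} [Group G] [Finite G] {t : G} {F : Type*} [Field F] [Fintype F]
    (hq : Odd (Fintype.card F)) (Z : Subgroup (GL (Fin 2) F)) [Z.Normal]
    (hZ : Z ≤ center (GL (Fin 2) F)) (hZo : Odd (Nat.card Z))
    (e : Cen t ≃* GL (Fin 2) F ⧸ Z) (ht : orderOf t = 2)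
    (hswap : ∀ w : G, orderOf w = 2 → Commute w t → w ≠ t → ∃ h, h * t * h⁻¹ = w ∧ h * w * h⁻¹ = t)
    (hord : Nat.card G = Nat.card (Cen t) *
      ((Fintype.card F ^ 2 + Fintype.card F - 1) * (Fintype.card F ^ 2 + 2 * Fintype.card F))) :
    Fintype.card F = 3 := by
  classical
  obtain ⟨S, hSt, -⟩ := exists_sys hq Z hZ hZo e ht hswap
  subst hSt
  obtain ⟨p, hp⟩ := CharP.exists F
  haveI := hp
  haveI : Fact p.Prime := ⟨CharP.char_is_prime F p⟩
  obtain ⟨m, -, hm⟩ := FiniteField.card F p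
  have hpq : p ∣ Fintype.card F := hm ▸ dvd_pow_self p m.ne_zero
  have hord' : Nat.card G = Nat.card S.A * Fintype.card F ^ 2 * Lin.Sys.mOrd (Fintype.card F) := by
    change Nat.card G = Nat.card ↥(centralizer ({S.t} : Set G)) * _ at hord
    rw [hord, S.card_C_A, Lin.Sys.mOrd]
    ring
  have hcop : ¬ p ∣ Nat.card S.A * Lin.Sys.mOrd (Fintype.card F) := fun h =>
    ((Fact.out : p.Prime).dvd_mul.1 h).elim (S.A_coprime (p := p)) (S.mOrd_coprime (p := p))
  -- no subgroup of order above `q²` of `p`-power order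
  have hbig : ¬ Fintype.card F ^ 2 * p ∣ Nat.card G := fun h => by
    rw [hord', mul_right_comm, mul_comm (Nat.card S.A * _)] at h
    exact hcop (Nat.dvd_of_mul_dvd_mul_left (pow_pos Fintype.card_pos 2) h)
  have hd1 : Fintype.card F * p ∣ Nat.card G := by
    rw [hord', mul_comm (Nat.card S.A), pow_two]
    exact Dvd.dvd.mul_right (Dvd.dvd.mul_right (mul_dvd_mul_left _ hpq) _) _
  have hnr₀ : ¬ S.P S.r₀ := fun h => hbig ((by
      rw [S.card_tri h, pow_succ]; exact mul_dvd_mul_left _ hpq :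
        Fintype.card F ^ 2 * p ∣ Nat.card (S.triHom h).range).trans (card_subgroup_dvd_card _))
  have hnr₁ : ¬ S.P S.r₁ := fun h => hnr₀ (Lin.Sys.P_r₀ h)
  have htw : S.t * (S.t * S.w) = S.w := by rw [← mul_assoc, S.tt, one_mul]
  have hnb : ¬ (S.P S.h₀ ∧ S.P S.h₁) := by
    rintro ⟨h0, h1⟩
    have hn : ∀ x, S.rt S.h₀ x ∈ normalizer (S.pair h1 : Set G) := fun x => mem_normalizer_fintype fun y hy => by
      obtain ⟨a, b, rfl⟩ := (S.mem_pair h1).1 hy
      obtain ⟨c, hc⟩ := S.comm_mem (p := p) h0 h1 x b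
      refine (S.mem_pair h1).2 ⟨a + c, b, ?_⟩
      rw [S.e_add, ← hc, commutatorElement_def]
      calc S.rt S.h₀ x * (S.e a * S.rt S.h₁ b) * (S.rt S.h₀ x)⁻¹
          = (S.rt S.h₀ x * S.e a) * S.rt S.h₁ b * (S.rt S.h₀ x)⁻¹ := by group
        _ = _ := by rw [(h0 a x).symm.eq]; group
    set R := S.X.map (MulAut.conj S.h₀).toMonoidHom with hR
    have hRn : R ≤ normalizer (S.pair h1 : Set G) := by
      rintro _ ⟨_, ⟨x, rfl⟩, rfl⟩
      exact hn x
    have hps : IsPGroup p ↥(S.pair h1 ⊔ R) :=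
      (S.pair_pgroup (p := p) h1).to_sup_of_normal_left' ((S.X_pgroup (p := p)).map _) hRn
    have hlt : S.pair h1 < S.pair h1 ⊔ R := lt_of_le_not_ge le_sup_left fun hle => by
      refine one_ne_zero (α := F) (S.pair_fixed (u := S.w) h1 S.w_e (S.moves_h₁.inverts S) (S.moves_h₀.fix S 1) ?_)
      exact hle (mem_sup_right ⟨_, S.e_mem 1, rfl⟩)
    obtain ⟨j, hj⟩ := hps.exists_card_eq
    have h3 : Nat.card (S.pair h1) < Nat.card ↥(S.pair h1 ⊔ R) :=
      lt_of_le_of_ne (Nat.le_of_dvd Nat.card_pos (card_dvd_of_le hlt.le))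
        fun e => hlt.ne (Subgroup.eq_of_le_of_card_ge hlt.le e.ge)
    rw [S.card_pair h1 S.t_inverts_h₁, hj, hm, ← pow_mul, Nat.pow_lt_pow_iff_right (Fact.out : p.Prime).one_lt] at h3
    refine hbig ?_
    rw [hm, ← pow_mul, ← pow_succ]
    exact (pow_dvd_pow p h3).trans (hj ▸ card_subgroup_dvd_card _)
  rcases S.exists_partner (p := p) hd1 with h | h | h | h
  · exact S.mtype_single (p := p) (Or.inl rfl) S.moves_h₀.1 S.h₀_tw (S.moves_h₀.inverts S) S.good_h₀ S.moves_r₁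
      S.moves_h₁ S.good_r₁ S.good_h₁ h hnr₁ (fun h' => hnb ⟨h, h'⟩) hord'
  · exact absurd h hnr₀
  · refine S.mtype_single (p := p) (u := S.t * S.w) (k₁ := S.h₀) (k₂ := S.r₀) (Or.inr rfl) S.moves_h₁.1 ?_
      S.t_inverts_h₁ S.good_h₁ ?_ ?_ S.good_h₀ S.good_r₀ h (fun h' => hnb ⟨h', h⟩) hnr₀ hord'
    · rw [htw]; exact S.moves_h₁.2
    · rw [htw]; exact S.moves_h₀
    · rw [htw]; exact S.moves_r₀
  · exact absurd h hnr₁

end Cfsg.Agent.Invol.BrauerL3
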