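import Cfsg.Agent.Lib.Invol.BrauerL3.UnitaryLocal
import Cfsg.Agent.Lib.Recog.PguThree.Ident
import Mathlib.FieldTheory.Finite.GaloisField

/-!
# Brauer's characterisation: the identification of `PSU(3, q)`

`psu_of_facts`: a simple group in which the centraliser of an involution is `GU(2, q)/Z`, `|Z| = (3, q + 1)`, which
has the order of `PSU(3, q)` and in which the torus elements of odd prime order have their centralisers inside that
of the involution, is `PSU(3, q)`.
-/

set_option autoImplicit false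
set_option linter.unusedSectionVars false
set_option linter.style.haveILetI false

namespace Cfsg.Agent.Invol.BrauerL3

open Subgroup Cfsg

universe u v

variable {G : Type u} [Group G] [Finite G]

/-- The rank one configuration. -/
theorem USet.exists_psu [IsSimpleGroup G] {t : G} {q : ℕ} {D : UData t q (Nat.gcd 3 (q + 1))} {p n : ℕ}
    (S : USet D p n) :
    ∃ (F : Type) (_ : Field F) (_ : Fintype F), Fintype.card F = q ^ 2 ∧ Nonempty (G ≃* PSU 3 F q) := by
  classical
  obtain ⟨K, hK3, hKR, hKt, hKN, hNK, hTN, hsplit, hT1, hNc⟩ := S.exists_kernel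
  set N := normalizer (D.R : Set G) with hN
  have hq3 := S.three_le_q
  have hwN : D.w ∉ N := fun h => by
    obtain ⟨r, hr⟩ : ∃ r : ↥D.R, r ≠ 1 := by
      haveI : Nontrivial ↥D.R := Finite.one_lt_card_iff_nontrivial.1 (by have := D.cardR; omega)
      exact exists_ne 1
    exact hr (Subtype.ext (D.Rw r r.2 (GW.ThreeClass.conj_mem h r.2)))
  -- the torus is normalised by `w`
  have hwT : ∀ s ∈ D.T, D.w⁻¹ * s * D.w ∈ D.T := by
    let f : ↥D.T → ↥D.T := fun s => ⟨D.w * s * D.w⁻¹, D.wT s s.2⟩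
    have hf : Function.Surjective f := Finite.injective_iff_surjective.1 fun a b h =>
      Subtype.ext (mul_left_cancel (mul_right_cancel (congrArg Subtype.val h :)))
    intro s hs
    obtain ⟨a, ha⟩ := hf ⟨s, hs⟩
    rw [← show D.w * (a : G) * D.w⁻¹ = s from congrArg Subtype.val ha]
    rw [show D.w⁻¹ * (D.w * (a : G) * D.w⁻¹) * D.w = a by group]
    exact a.2
  -- `p`-elements of the normaliser lie in `K`
  have hpK : ∀ y ∈ N, y ^ (q ^ 3) = 1 → y ∈ K := by
    intro y hy hy3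
    obtain ⟨k, hk, s, hs, rfl⟩ := hsplit y hy
    have key : ∀ m : ℕ, ∃ k' ∈ K, (k * s) ^ m = k' * s ^ m := by
      intro m
      induction m with
      | zero => exact ⟨1, one_mem _, by simp⟩
      | succ m ih =>
        obtain ⟨k', hk', e⟩ := ih
        refine ⟨k' * (s ^ m * k * (s ^ m)⁻¹), mul_mem hk'
          (GW.ThreeClass.conj_mem (pow_mem (hNK (hTN hs)) m) hk), ?_⟩
        rw [pow_succ, e, pow_succ]; group
    obtain ⟨k', hk', e⟩ := key (q ^ 3)
    rw [hy3, eq_comm, mul_eq_one_iff_inv_eq] at e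
    have h1 : s ^ (q ^ 3) = 1 := hT1 _ (e ▸ inv_mem hk') (pow_mem hs _)
    have hco : (q ^ 3).Coprime (Nat.card D.T) := by
      have h := S.coprime_RT
      rw [D.cardR] at h
      exact h.pow_left 3
    have h2 : s = 1 := orderOf_eq_one_iff.1 (Nat.eq_one_of_dvd_coprimes hco (orderOf_dvd_of_pow_eq_one h1)
      (D.T.orderOf_dvd_natCard hs))
    rw [h2, mul_one]; exact hk
  -- the opposite point has trivial stabiliser in `K`
  have hKb : ∀ x ∈ K, D.w⁻¹ * x * D.w ∈ N → x = 1 := by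
    intro x hx hxN
    set y := D.w⁻¹ * x * D.w with hy
    have hxy : x = D.w * y * D.w⁻¹ := by rw [hy]; group
    have hyK : y ∈ K := hpK y hxN (by
      rw [hy, show D.w⁻¹ * x * D.w = D.w⁻¹ * x * D.w⁻¹⁻¹ by group, conj_pow, ← hK3,
        show x ^ Nat.card K = 1 from congrArg Subtype.val (pow_card_eq_one' (x := (⟨x, hx⟩ : ↥K))), mul_one,
        mul_inv_cancel])
    have htx : Commute x t := by
      have hle : D.R ⊔ D.R.map (MulAut.conj D.w).toMonoidHom ≤ centralizer ({x} : Set G) := by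
        refine sup_le (fun r hr => mem_centralizer_singleton_iff.2 (hKR x hx r hr).symm.eq) ?_
        rintro _ ⟨r, hr, rfl⟩
        refine mem_centralizer_singleton_iff.2 ?_
        show D.w * r * D.w⁻¹ * x = x * (D.w * r * D.w⁻¹)
        rw [hxy, conj_mul, conj_mul, (hKR y hyK r hr).eq]
      exact (mem_centralizer_singleton_iff.1 (hle D.tgen)).symm
    have hty : Commute y t := by
      have hwt : Commute D.w t := mem_centralizer_singleton_iff.1 D.wC
      exact (hwt.inv_left.mul_left htx).mul_left hwt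
    have h1 : y = 1 := D.Rw y (hKt y hyK hty) (hxy ▸ hKt x hx htx)
    rw [hxy, h1, mul_one, mul_inv_cancel]
  -- the index
  have hC : Nat.card ↥(centralizer ({t} : Set G)) = q * Nat.card D.T * (q + 1) := by
    refine Nat.eq_of_mul_eq_mul_left (show 0 < Nat.gcd 3 (q + 1) from Nat.gcd_pos_of_pos_left _ (by norm_num)) ?_
    rw [D.cardC, ← D.cardT]; ring
  have hidx : N.index = q ^ 3 + 1 := by
    refine Nat.eq_of_mul_eq_mul_left (Nat.card_pos (α := ↥N)) ?_
    rw [N.card_mul_index, hNc, S.hord, hC]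
    have hle : q ≤ q ^ 2 := Nat.le_self_pow two_ne_zero q
    have hz : q ^ 2 - q + q = q ^ 2 := Nat.sub_add_cancel hle
    generalize q ^ 2 - q = m at hz
    have h3 : (q + 1) * (m + 1) = q ^ 3 + 1 := by nlinarith [hz]
    rw [← h3]; ring
  -- the action
  have hfix1 : ∀ {g : G}, g • ((1 : G) : G ⧸ N) = ((1 : G) : G ⧸ N) ↔ g ∈ N := fun {g} => by
    rw [MulAction.Quotient.smul_mk, eq_comm, QuotientGroup.eq, smul_eq_mul, mul_one, inv_one, one_mul]
  have hfixw : ∀ {g : G}, g • (D.w : G ⧸ N) = (D.w : G ⧸ N) ↔ D.w⁻¹ * g * D.w ∈ N := fun {g} => by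
    rw [MulAction.Quotient.smul_mk, eq_comm, QuotientGroup.eq, smul_eq_mul, mul_assoc]
  have hab : ((1 : G) : G ⧸ N) ≠ (D.w : G ⧸ N) := fun e => hwN (by
    rw [QuotientGroup.eq, inv_one, one_mul] at e; exact e)
  have hKa : ∀ u ∈ K, u • ((1 : G) : G ⧸ N) = ((1 : G) : G ⧸ N) := fun u hu => hfix1.2 (hKN hu)
  have hne : ∀ u : K, (u : G) • (D.w : G ⧸ N) ≠ ((1 : G) : G ⧸ N) := fun u e =>
    hab.symm (smul_left_cancel (u : G) (e.trans (hKa u u.2).symm))
  let φ : K → {c : G ⧸ N // c ≠ ((1 : G) : G ⧸ N)} := fun u => ⟨(u : G) • (D.w : G ⧸ N), hne u⟩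
  have hφi : Function.Injective φ := fun u v h => by
    have h1 : (u : G) • (D.w : G ⧸ N) = (v : G) • (D.w : G ⧸ N) := congrArg Subtype.val h
    have h2 := hKb _ (mul_mem (inv_mem v.2) u.2) (hfixw.1 (by rw [mul_smul, h1, inv_smul_smul]))
    exact (Subtype.ext (inv_mul_eq_one.1 h2)).symm
  have hφ : Function.Bijective φ := by
    refine (Nat.bijective_iff_injective_and_card φ).2 ⟨hφi, ?_⟩
    haveI := Fintype.ofFinite (G ⧸ N)
    rw [hK3, Nat.card_eq_fintype_card, Fintype.card_subtype_compl, Fintype.card_subtype_eq,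
      ← Nat.card_eq_fintype_card, ← Subgroup.index_eq_card, hidx, Nat.add_sub_cancel]
  have hs : ∀ g : G, g ∉ N → ∃ u ∈ K, u • (D.w : G ⧸ N) = (g : G ⧸ N) := fun g hg => by
    obtain ⟨u, hu⟩ := hφ.2 ⟨(g : G ⧸ N), fun e => hg (by
      have e' := e.symm
      rw [QuotientGroup.eq, inv_one, one_mul] at e'; exact e')⟩
    exact ⟨u, u.2, congrArg Subtype.val hu⟩
  have key : ∀ x y : G ⧸ N, x ≠ y → ∃ g : G, g • ((1 : G) : G ⧸ N) = x ∧ g • (D.w : G ⧸ N) = y := by
    intro x y hxy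
    induction x using QuotientGroup.induction_on with
    | H x =>
    induction y using QuotientGroup.induction_on with
    | H y =>
    obtain ⟨u, hu, e⟩ := hs (x⁻¹ * y) fun hm => hxy (QuotientGroup.eq.2 hm)
    refine ⟨x * u, ?_, ?_⟩
    · rw [mul_smul, hKa u hu, MulAction.Quotient.smul_mk, smul_eq_mul, mul_one]
    · rw [mul_smul, e, MulAction.Quotient.smul_mk, smul_eq_mul, mul_inv_cancel_left]
  have hstab : MulAction.stabilizer G ((1 : G) : G ⧸ N) ⊓ MulAction.stabilizer G (D.w : G ⧸ N) = D.T := by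
    refine le_antisymm (fun x hx => ?_) fun s hs => ⟨hfix1.2 (hTN hs), hfixw.2 (hTN (hwT s hs))⟩
    obtain ⟨k, hk, s, hs, rfl⟩ := hsplit x (hfix1.1 hx.1)
    have h : D.w⁻¹ * (k * s) * D.w ∈ N := hfixw.1 hx.2
    rw [show D.w⁻¹ * (k * s) * D.w = D.w⁻¹ * k * D.w * (D.w⁻¹ * s * D.w) by group,
      Subgroup.mul_mem_cancel_right _ (hTN (hwT s hs))] at h
    rw [hKb k hk h, one_mul]
    exact hs
  haveI : FaithfulSMul G (G ⧸ N) := by
    have hcore : N.normalCore = ⊥ := by
      rcases (inferInstance : N.normalCore.Normal).eq_bot_or_eq_top with h | h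
      · exact h
      · exact absurd (N.normalCore_le (h ▸ Subgroup.mem_top D.w)) hwN
    refine ⟨fun {g₁ g₂} h => ?_⟩
    have h3 : g₂⁻¹ * g₁ ∈ N.normalCore := fun b => by
      have h4 : (g₂⁻¹ * g₁) • ((b⁻¹ : G) : G ⧸ N) = ((b⁻¹ : G) : G ⧸ N) := by rw [mul_smul, h, inv_smul_smul]
      rw [MulAction.Quotient.smul_mk, eq_comm, QuotientGroup.eq, smul_eq_mul, inv_inv, ← mul_assoc] at h4
      exact h4
    rw [hcore, Subgroup.mem_bot, inv_mul_eq_one] at h3
    exact h3.symm
  haveI := D.Tcyc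
  let H : Lie.UThreeOdd.Hyp G (G ⧸ N) :=
  { a := ((1 : G) : G ⧸ N)
    b := (D.w : G ⧸ N)
    U := K
    p := p
    n := n
    hab := hab
    hp := S.hp
    hp2 := S.hp2
    hn := S.hn
    U_fix := hKa
    U_norm := fun g hg u hu => GW.ThreeClass.conj_mem (hNK (hfix1.1 hg)) hu
    U_reg := fun c hc => by
      obtain ⟨u, hu⟩ := hφ.2 ⟨c, hc⟩
      exact ⟨u, congrArg Subtype.val hu, fun v hv => hφ.1 ((Subtype.ext hv).trans hu.symm)⟩
    two := fun {x y z w} hxy hzw => by
      obtain ⟨g, hg1, hg2⟩ := key x y hxy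
      obtain ⟨k, hk1, hk2⟩ := key z w hzw
      exact ⟨k * g⁻¹, by rw [mul_smul, inv_smul_eq_iff.2 hg1.symm, hk1],
        by rw [mul_smul, inv_smul_eq_iff.2 hg2.symm, hk2]⟩
    card_U := by rw [hK3, S.q_cube, mul_comm 3 n, pow_mul]
    cyc := by rw [hstab]; infer_instance
    card_H := by rw [hstab, ← S.hq]; exact D.cardT }
  obtain ⟨F, _, _, hFc, hiso⟩ := H.exists_iso
  exact ⟨F, inferInstance, inferInstance, by rw [hFc, S.hq], by rw [S.hq]; exact hiso⟩

/-- The identification. -/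
theorem psu_of_facts [IsSimpleGroup G] {F : Type v} [Field F] [Fintype F] (q : ℕ) (hq : Odd q)
    (hF : Fintype.card F = q ^ 2) (Z : Subgroup (GU 2 F q)) [Z.Normal] (hZc : Z ≤ center (GU 2 F q))
    (hz3 : Nat.card Z = Nat.gcd 3 (q + 1)) (t : G) (ht : orderOf t = 2)
    (e : ↥(centralizer ({t} : Set G)) ≃* GU 2 F q ⧸ Z)
    (hord : Nat.card G = Nat.card ↥(centralizer ({t} : Set G)) * (q ^ 2 * (q ^ 2 - q + 1)))
    (hfix : ∀ y : ↥(centralizer ({t} : Set G)), (orderOf y).Prime → Odd (orderOf y) → IsTorusElt q Z (e y) →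
      (orderOf y ∣ q - 1 ∨ y ∈ center ↥(centralizer ({t} : Set G))) →
        centralizer ({(y : G)} : Set G) ≤ centralizer ({t} : Set G)) :
    Nonempty (G ≃* PSU 3 F q) := by
  classical
  obtain ⟨m, hp, hFp⟩ := FiniteField.card F (ringChar F)
  rw [hF] at hFp
  obtain ⟨n, -, hn⟩ := (Nat.dvd_prime_pow hp).1 (hFp ▸ dvd_pow_self q two_ne_zero : q ∣ _)
  have hn1 : 1 ≤ n := by
    by_contra h
    have h1 := Fintype.one_lt_card (α := F)
    rw [hF, hn, show n = 0 by omega] at h1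
    simp at h1
  have hp2 : ringChar F ≠ 2 := fun h => by
    rw [hn, h] at hq
    exact Nat.not_odd_iff_even.2 (Nat.even_pow.2 ⟨even_two, by omega⟩) hq
  have hZo : Odd (Nat.card Z) := by
    rw [hz3]; exact (show Odd 3 by decide).of_dvd_nat (Nat.gcd_dvd_left _ _)
  have hex := exists_udata hq hF Z hZc hZo ht e
  rw [hz3] at hex
  obtain ⟨D, hD⟩ := hex
  have S : USet D (ringChar F) n :=
    { hp := hp
      hp2 := hp2
      hn := hn1
      hq := hn
      ht := ht
      hord := hord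
      hT := fun y hy hyp hyo => by
        have ho : orderOf (⟨y, D.TC hy⟩ : ↥(centralizer ({t} : Set G))) = orderOf y := Subgroup.orderOf_mk _ _
        obtain ⟨h1, h2⟩ := hD ⟨y, D.TC hy⟩ hy (by rw [ho]; exact hyp)
        exact hfix ⟨y, D.TC hy⟩ (by rw [ho]; exact hyp) (by rw [ho]; exact hyo) h1 h2 }
  obtain ⟨F', _, _, hF', ⟨i⟩⟩ := S.exists_psu
  obtain ⟨j⟩ := Recog.PguThree.psu_congr 3 q (FiniteField.ringEquivOfCardEq (hF'.trans hF.symm) : F' ≃+* F)
  exact ⟨i.trans j⟩

end Cfsg.Agent.Invol.BrauerL3
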