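import Cfsg.Agent.Lib.Invol.BrauerL3.MainCases
import Cfsg.Agent.Lib.Invol.BrauerL3.LocalFrames
import Cfsg.Agent.Lib.Invol.BrauerL3.LinearMType
import Cfsg.Agent.Lib.Invol.BrauerL3.UnitaryMain
import Cfsg.Agent.Lib.Invol.BrauerL3.UnitaryExclude

/-!
# Brauer's characterisations of `PSL(3, q)`, `M₁₁` and `PSU(3, q)`, given the small cases

The small cases are the exceptional kernels, the index for `q = 3` in the unitary case and the index `357`.
-/

set_option autoImplicit false
set_option linter.unusedSectionVars false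

open scoped Classical

namespace Cfsg.Agent.Invol.BrauerL3

open Cfsg Subgroup

universe u v

variable {G : Type u} [Group G] [Fintype G] {t : G}

/-- The exceptional configuration. -/
def Exceptional (t : G) (Q : ℤ) : Prop :=
  ∃ (p : ℕ) (F : Frame (Cen t) (tc t) p Q) (S : Type v) (_ : CommGroup S) (D : TSetup F S),
    (Q - 1).natAbs = 2 * D.kk ∧ (D.kk = 5 ∨ D.kk = 15) ∧ ∃ W : Tw D, W.r = 5 ∧ W.fx.IsFive

theorem exceptional_values {Q : ℤ} (h : Exceptional.{u, v} t Q) : Q = 11 ∨ Q = -9 ∨ Q = 31 ∨ Q = -29 := by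
  obtain ⟨p, F, S, _, D, h1, h2, -⟩ := h
  rcases h2 with h2 | h2 <;> rw [h2] at h1 <;> omega

section Linear

variable {F : Type v} [Field F] [Fintype F]

theorem card_GL2 : (Nat.card (GL (Fin 2) F) : ℤ) =
    (Fintype.card F : ℤ) * ((Fintype.card F : ℤ) ^ 2 - 1) * ((Fintype.card F : ℤ) - 1) := by
  have h := Fintype.one_lt_card (α := F)
  rw [Matrix.card_GL_field, Fin.prod_univ_two]
  simp only [Fin.val_zero, Fin.val_one, pow_zero, pow_one]
  push_cast [Nat.cast_sub (show 1 ≤ Fintype.card F ^ 2 by nlinarith),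
    Nat.cast_sub (show Fintype.card F ≤ Fintype.card F ^ 2 by nlinarith)]
  ring

/-- The linear case. -/
theorem linear_main [IsSimpleGroup G] (hF : Odd (Fintype.card F)) (Z : Subgroup (GL (Fin 2) F)) [Z.Normal]
    (hZc : Z ≤ center (GL (Fin 2) F)) (hZo : Odd (Nat.card Z)) (ht : orderOf t = 2)
    (e : Cen t ≃* GL (Fin 2) F ⧸ Z) (hexc : ¬ Exceptional.{u, 0} t (Fintype.card F : ℤ)) :
    Nonempty (G ≃* Matrix.ProjectiveSpecialLinearGroup (Fin 3) F) ∨ IsM11 G := by
  obtain ⟨p, ⟨Fr⟩⟩ := frame_GL hF Z hZc hZo ht e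
  obtain ⟨K, _, ⟨T⟩⟩ := exists_tblGL hF
  set π := e.symm.toMonoidHom.comp (QuotientGroup.mk' Z) with hπdef
  have hk : π.ker = Z := by
    ext g
    simp [hπdef]
  have hπ : Function.Surjective π := e.symm.surjective.comp (QuotientGroup.mk'_surjective Z)
  obtain ⟨n, hp, hn⟩ := FiniteField.card F (ringChar F)
  have hQ : ((Fintype.card F : ℤ)) = ((ringChar F : ℕ) : ℤ) ^ (n : ℕ) := by rw [hn]; push_cast; rfl
  rcases main_cases T π Fr ht card_GL2 hπ (hk ▸ hZc) (hk ▸ hZo) hp n.pos (Or.inl hQ) (by omega) with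
    ⟨hZ, -, hidx⟩ | ⟨D, -, h1, h2, W, h5⟩
  swap
  · exact absurd ⟨p, Fr, _, inferInstance, D, h1, h2, W, h5⟩ hexc
  have hq := Fintype.one_lt_card (α := F)
  rw [hk, show ((Fintype.card F : ℤ) - 1).natAbs = Fintype.card F - 1 by omega] at hZ
  have hord : ∀ {i : ℕ}, ((Cen t).index : ℤ) = (i : ℤ) → Nat.card G = Nat.card (Cen t) * i := fun {i} h => by
    rw [← Int.natCast_inj.1 h, Subgroup.card_mul_index]
  rcases hidx with h | ⟨-, h⟩ | ⟨h, -⟩ | ⟨h, -⟩
  · exact Or.inl (psl_of_facts hF Z hZc hZ e ht Fr.swap (hord (by rw [h]; push_cast; ring)))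
  · have hsub : 1 ≤ Fintype.card F ^ 2 + Fintype.card F := by omega
    have hG := hord (i := (Fintype.card F ^ 2 + Fintype.card F - 1) * (Fintype.card F ^ 2 + 2 * Fintype.card F))
      (by rw [h]; push_cast [Nat.cast_sub hsub]; ring)
    have h3 := mtype_card_eq_three hF Z hZc hZo e ht Fr.swap hG
    refine Or.inr ⟨inferInstance, ?_⟩
    have hZ1 : Nat.card Z = 1 := by rw [hZ, h3]; decide
    have hc : Nat.card (Cen t) = 48 := by
      rw [Nat.card_congr e.toEquiv]
      have h4 := Subgroup.card_eq_card_quotient_mul_card_subgroup Z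
      rw [hZ1, mul_one] at h4
      rw [← h4]
      exact Int.natCast_inj.1 (card_GL2.trans (by rw [h3]; norm_num))
    rw [hG, hc, h3]
    norm_num
  · omega
  · omega

end Linear

section Unitary

variable {F : Type v} [Field F] [Fintype F]

/-- The unitary case. -/
theorem unitary_main [IsSimpleGroup G] (q : ℕ) (hq : Odd q) (hF : Fintype.card F = q ^ 2) (Z : Subgroup (GU 2 F q))
    [Z.Normal] (hZc : Z ≤ center (GU 2 F q)) (hZo : Odd (Nat.card Z)) (ht : orderOf t = 2)
    (e : Cen t ≃* GU 2 F q ⧸ Z) (hexc : q = 29 → ¬ Exceptional.{u, v} t (-(q : ℤ)))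
    (h63 : q = 3 → (Cen t).index = 63) (h357 : q = 5 → (Cen t).index = 357 → False) :
    Nonempty (G ≃* PSU 3 F q) := by
  obtain ⟨p, ⟨Fr⟩⟩ := frame_GU hF hq Z hZc hZo ht e
  obtain ⟨K, _, ⟨T⟩⟩ := exists_tblGU hF hq
  haveI : Fintype (GU 2 F q) := Fintype.ofFinite _
  set π := e.symm.toMonoidHom.comp (QuotientGroup.mk' Z) with hπdef
  have hk : π.ker = Z := by
    ext g
    simp [hπdef]
  have hπ : Function.Surjective π := e.symm.surjective.comp (QuotientGroup.mk'_surjective Z)
  have hH : (Nat.card (GU 2 F q) : ℤ) = -(q : ℤ) * ((-(q : ℤ)) ^ 2 - 1) * (-(q : ℤ) - 1) :=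
    (TwoSylowGLTwo.card_GU_two hF).trans (by ring)
  have hq3 : 3 ≤ q := by
    have h2 := Classical.two_le_q hF
    obtain ⟨i, hi⟩ := hq
    omega
  have hord : ∀ {i : ℕ}, ((Cen t).index : ℤ) = (i : ℤ) → Nat.card G = Nat.card (Cen t) * i := fun {i} h => by
    rw [← Int.natCast_inj.1 h, Subgroup.card_mul_index]
  by_cases h3 : q = 3
  · subst h3
    have hZ1 : Nat.card Z = 1 := by
      have hd := gu_card_central_dvd hF hq hZc
      have hle := Nat.le_of_dvd (by norm_num) hd
      obtain ⟨i, hi⟩ := hZo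
      rcases (show Nat.card Z = 1 ∨ Nat.card Z = 3 by omega) with h | h
      · exact h
      · rw [h] at hd; norm_num at hd
    refine psu_of_facts 3 hq hF Z hZc (by rw [hZ1]; decide) t ht e ?_ fun y hy ho _ h => ?_
    · rw [hord (i := 63) (by rw [h63 rfl])]
      norm_num
    · exfalso
      rcases h with h | h
      · exact Nat.not_odd_iff_even.2 even_two
          (((Nat.prime_dvd_prime_iff_eq hy Nat.prime_two).1 h) ▸ ho)
      · obtain ⟨D, hDk, -⟩ := exists_tsetup T π Fr hH hπ (hk ▸ hZc) (hk ▸ hZo)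
        have hd := D.center_prime h rfl
        rw [hDk, hk, hZ1, mul_one] at hd
        norm_num at hd
        exact Nat.not_odd_iff_even.2 even_two (((Nat.prime_dvd_prime_iff_eq hy Nat.prime_two).1
          (hy.dvd_of_dvd_pow (n := 2) hd)) ▸ ho)
  obtain ⟨p₀, n, hp, hn, hQ⟩ : ∃ p₀ n : ℕ, p₀.Prime ∧ 0 < n ∧ q = p₀ ^ n := by
    obtain ⟨m, hr, hFp⟩ := FiniteField.card F (ringChar F)
    rw [hF] at hFp
    obtain ⟨n, -, hn⟩ := (Nat.dvd_prime_pow hr).1 (hFp ▸ dvd_pow_self q two_ne_zero : q ∣ _)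
    refine ⟨_, n, hr, Nat.pos_of_ne_zero fun h0 => ?_, hn⟩
    rw [h0, pow_zero] at hn
    omega
  have hfixof : CentOK t (-(q : ℤ)) → ∀ y : Cen t, (orderOf y).Prime → Odd (orderOf y) →
      (orderOf y ∣ q - 1 ∨ y ∈ center (Cen t)) → centralizer ({(y : G)} : Set G) ≤ Cen t := fun hc y hy ho h => by
    refine hc y hy ho (h.imp_left fun h => ?_)
    have h1 : ((orderOf y : ℕ) : ℤ) ∣ ((q - 1 : ℕ) : ℤ) := Int.natCast_dvd_natCast.2 h
    rw [Nat.cast_sub (by omega), Nat.cast_one] at h1
    rw [show -(q : ℤ) + 1 = -((q : ℤ) - 1) by ring]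
    exact h1.neg_right
  rcases main_cases T π Fr ht hH hπ (hk ▸ hZc) (hk ▸ hZo) hp hn (Or.inr (by rw [hQ]; push_cast; rfl))
    (by omega) with ⟨hZ, hc, hidx⟩ | ⟨D, hDk, h1, h2, W, h5⟩
  · rw [hk, show (-(q : ℤ) - 1).natAbs = q + 1 by omega] at hZ
    rcases hidx with h | ⟨-, h⟩ | ⟨h5, h⟩ | ⟨h9, h⟩
    · refine psu_of_facts q hq hF Z hZc hZ t ht e (hord ?_) fun y hy ho _ h => hfixof hc y hy ho h
      have hsub : q ≤ q ^ 2 := by nlinarith
      rw [h]
      push_cast [Nat.cast_sub hsub]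
      ring
    · exact (gu_not_mtype q hq hF Z hZc hZo t ht e (hfixof hc) h).elim
    · exact (h357 (by omega) h).elim
    · obtain rfl : q = 9 := by omega
      exact (gu_not_exceptional hF Z hZc hZo t ht e (hfixof hc) h).elim
  · have hex : Exceptional.{u, v} t (-(q : ℤ)) := ⟨p, Fr, _, inferInstance, D, h1, h2, W, h5⟩
    rcases exceptional_values hex with h | h | h | h
    · omega
    · exfalso
      obtain rfl : q = 9 := by omega
      have hkk : D.kk = 5 := by
        rcases h2 with h2 | h2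
        · exact h2
        · rw [h2] at h1; norm_num at h1
      have hc : CentOK t (-((9 : ℕ) : ℤ)) := by
        intro y hy ho hy'
        exfalso
        have hr2 : orderOf y ≠ 2 := fun e => Nat.not_odd_iff_even.2 even_two (e ▸ ho)
        refine hr2 ((Nat.prime_dvd_prime_iff_eq hy Nat.prime_two).1 ?_)
        rcases hy' with hy' | hy'
        · norm_num at hy'
          exact hy.dvd_of_dvd_pow (n := 3) (show orderOf y ∣ 2 ^ 3 by exact_mod_cast hy')
        · have hd := D.center_prime hy' rfl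
          rw [h1] at hd
          exact Nat.dvd_of_mul_dvd_mul_right D.kk_odd.pos hd
      obtain ⟨Fn, -⟩ := T.sdFuns_vanish π (by norm_num) hπ (hk ▸ hZc) (hk ▸ hZo) (tc t)
        (by rw [← Subgroup.orderOf_coe]; exact ht) (tc_central t)
      have hL : 300 ∣ Nat.card G := by
        refine dvd_trans (dvd_of_eq ?_) (Subgroup.card_subgroup_dvd_card W.fx.L)
        have hA := D.card_A
        rw [show (Nat.card D.T.τ.ker : ℤ) = ((5 : ℕ) : ℤ) by exact_mod_cast hkk] at hA
        push_cast at hA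
        norm_num [-Nat.card_eq_fintype_card] at hA
        rw [W.fx.card_L, h5.2.five]
        omega
      have hG : Nat.card G = Nat.card (Cen t) * (Cen t).index := (Subgroup.card_mul_index _).symm
      have hCc : Nat.card (Cen t) = 1440 := by
        have h' := D.card_cen
        rw [hkk] at h'
        push_cast at h'
        norm_num [-Nat.card_eq_fintype_card] at h'
        omega
      rcases sd_index (fun hh => Fr.not_comm hh) ht Fr.one_classG hp hn (Or.inr (by rw [hQ]; push_cast; rfl))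
        (by norm_num) Fn Fr.index_odd (fun l hl hl2 hlQ _ => by
          norm_num at hlQ
          exact hl2 ((Nat.prime_dvd_prime_iff_eq hl Nat.prime_two).1
            (hl.dvd_of_dvd_pow (n := 3) (show l ∣ 2 ^ 3 by exact_mod_cast hlQ)))) with h' | h' | ⟨h', -⟩ | ⟨-, h'⟩
      · push_cast at h'
        norm_num [-Nat.card_eq_fintype_card] at h'
        rw [hG, hCc] at hL
        omega
      · push_cast at h'
        norm_num [-Nat.card_eq_fintype_card] at h'
        rw [hG, hCc] at hL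
        omega
      · norm_num at h'
      · exact gu_not_exceptional hF Z hZc hZo t ht e (hfixof hc) h'
    · omega
    · exact absurd hex (hexc (by omega))

end Unitary

end Cfsg.Agent.Invol.BrauerL3
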