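import Cfsg.Agent.Lib.Invol.BrauerL3.TwistKer
import Mathlib.GroupTheory.NoncommCoprod

/-!
# The exceptional kernel: subgroups of order 25 of the centraliser `L` of `a₁`

`L` has order `60 k` with `k ∈ {5, 15}`.  Its subgroups of order 25 contain `a₁`, and no involution of `s L` which
exchanges `w, t w` and commutes with `t` centralises a `5`-element of `L` outside `A`.
-/

set_option autoImplicit false
set_option linter.unusedSectionVars false

namespace Cfsg.Agent.Invol.BrauerL3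

open Subgroup

universe u v

variable {G : Type u} [Group G] [Fintype G] {t : G} {p : ℕ} {Q : ℤ}

/-- The data of the exceptional case. -/
structure Exc {F : Frame (Cen t) (tc t) p Q} {S : Type v} [CommGroup S] (D : TSetup F S) where
  /-- the twisted element -/
  T : Tw D
  hr : T.r = 5
  hC : T.fx.IsFive
  /-- the order of the kernel -/
  k : ℕ
  hk : k = 5 ∨ k = 15
  cardA : Nat.card D.A = 4 * k
  expA : ∀ x ∈ D.A, x ^ (2 * k) = 1

namespace Exc

variable {F : Frame (Cen t) (tc t) p Q} {S : Type v} [CommGroup S] {D : TSetup F S} (E : Exc D)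

/-- The element of order five. -/
def a : G := E.T.a₁

/-- Its centraliser. -/
abbrev L : Subgroup G := E.T.fx.L

theorem ord_a : orderOf E.a = 5 := E.T.ord₁.trans E.hr

theorem a_five : E.a ^ 5 = 1 := E.ord_a ▸ pow_orderOf_eq_one _

theorem a_mem : E.a ∈ D.A := E.T.mem₁

theorem A_le : D.A ≤ E.L := E.T.fx.A_le

theorem mem_L {x : G} : x ∈ E.L ↔ Commute x E.a := E.T.fx.mem_L

theorem a_L : E.a ∈ E.L := E.A_le E.a_mem

theorem five_prime (_ : Exc D) : Fact (Nat.Prime 5) := ⟨by norm_num⟩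

theorem dvd_of_a_zpow {i : ℤ} (h : E.a ^ i = 1) : (5 : ℤ) ∣ i := by
  have := orderOf_dvd_iff_zpow_eq_one.2 h
  rwa [E.ord_a] at this

theorem a_zpow_congr {i j : ℤ} (h : (5 : ℤ) ∣ i - j) : E.a ^ i = E.a ^ j := by
  rw [← mul_inv_eq_one, ← zpow_sub, ← orderOf_dvd_iff_zpow_eq_one, E.ord_a]
  exact h

theorem k_odd : Odd E.k := by rcases E.hk with h | h <;> rw [h] <;> decide

theorem gcd_five (i : ℕ) : Nat.gcd (5 ^ i) (2 * E.k) ∣ 5 := by
  obtain ⟨e, he, h⟩ := (Nat.dvd_prime_pow (by norm_num : Nat.Prime 5)).1 (Nat.gcd_dvd_left (5 ^ i) (2 * E.k))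
  have h2 := Nat.gcd_dvd_right (5 ^ i) (2 * E.k)
  rw [h] at h2 ⊢
  rcases e with _ | _ | e
  · exact one_dvd _
  · rw [zero_add, pow_one]
  · exfalso
    have h25 : 25 ∣ 2 * E.k := dvd_trans (pow_dvd_pow 5 (show 2 ≤ e + 1 + 1 by omega)) h2
    rcases E.hk with hk | hk <;> omega

variable [IsSimpleGroup G]

theorem card_L : Nat.card E.L = 60 * E.k := by
  rw [L, E.T.fx.card_L, E.hC.five, E.cardA]
  ring

/-- The `5`-elements of the torus are powers of `a`. -/
theorem mem_zp_of_five {x : G} (hx : x ∈ D.A) {i : ℕ} (h : x ^ 5 ^ i = 1) : x ∈ zpowers E.a := by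
  have hd : orderOf x ∣ 5 :=
    (Nat.dvd_gcd (orderOf_dvd_of_pow_eq_one h) (orderOf_dvd_of_pow_eq_one (E.expA x hx))).trans (E.gcd_five i)
  exact D.mem_zpowers_of_inverted hx E.a_mem (E.T.inverted (by rw [E.hr]; decide) hx (i := i) (by rw [E.hr]; exact h))
    E.T.inv₁ (by rw [E.ord_a]; exact hd)

/-- An element of `L` commuting with an involution of `A` is in `A`. -/
theorem mem_A_of_cent {x e : G} (hx : x ∈ E.L) (he : e ∈ D.A) (he2 : orderOf e = 2) (hc : Commute x e) : x ∈ D.A :=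
  E.T.fx.mem_A_of_commute hx
    (E.T.fx.comm_cent he2 (E.A_le he) hx E.T.fx.tL hc (D.comm D.t_mem_A he))

/-- The three involutions of `A`. -/
def es (_ : Exc D) : Fin 3 → G := ![t, (F.w : G), t * (F.w : G)]

theorem es_mem (i : Fin 3) : E.es i ∈ D.A ∧ orderOf (E.es i) = 2 := by
  fin_cases i
  · exact ⟨D.t_mem_A, F.tG⟩
  · exact ⟨D.w_mem_A, F.wG⟩
  · refine ⟨mul_mem D.t_mem_A D.w_mem_A, ?_⟩
    show orderOf (t * (F.w : G)) = 2
    rw [← D.ii_w]
    exact (orderOf_conj_eq _ _).trans F.wG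

theorem es_injective : Function.Injective E.es := by
  have h1 : t ≠ (F.w : G) := F.w_neG.symm
  have h2 : t ≠ t * (F.w : G) := fun e => ne_one_of_orderOf_two F.wG (mul_eq_left.1 e.symm)
  have h3 : (F.w : G) ≠ t * (F.w : G) := fun e => ne_one_of_orderOf_two F.tG (mul_eq_right.1 e.symm)
  intro i j h
  fin_cases i <;> fin_cases j
  all_goals first
    | rfl
    | exact absurd h h1
    | exact absurd h.symm h1
    | exact absurd h h2
    | exact absurd h.symm h2
    | exact absurd h h3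
    | exact absurd h.symm h3

/-- A `5`-element of `L` outside `A` moves no involution of `A` into `A`. -/
theorem moves {x e : G} (hx : x ∈ E.L) (h25 : x ^ 25 = 1) (hxA : x ∉ D.A) {d : ℕ} (hd : ¬ 5 ∣ d) (he : e ∈ D.A)
    (he2 : orderOf e = 2) : x ^ d * e * (x ^ d)⁻¹ ∉ D.A := by
  intro h
  have hpow : ∀ n : ℕ, ¬ 5 ∣ n → x ^ n ∉ D.A := fun n hn hA => by
    obtain ⟨m, hm⟩ := exists_pow_eq_self_of_coprime (x := x) (n := n) (by
      refine Nat.Coprime.coprime_dvd_right (orderOf_dvd_of_pow_eq_one h25) ?_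
      exact ((Nat.prime_five.coprime_iff_not_dvd.2 hn).symm.pow_right 2))
    exact hxA (hm ▸ pow_mem hA m)
  set y := x ^ d with hy
  have hyL : y ∈ E.L := pow_mem hx d
  have he' : orderOf (y * e * y⁻¹) = 2 := (orderOf_conj_eq _ _).trans he2
  -- `y` maps the involutions of `A` into `A`
  have hmap : ∀ f ∈ D.A, orderOf f = 2 → y * f * y⁻¹ ∈ D.A := fun f hf hf2 =>
    E.mem_A_of_cent (mul_mem (mul_mem hyL (E.A_le hf)) (inv_mem hyL)) h he' (commute_conj y (D.comm hf he))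
  have hnot : ∀ n : ℕ, ¬ 5 ∣ n → ¬ y ^ n * t * (y ^ n)⁻¹ = t := fun n hn e1 => by
    refine hpow (d * n) (fun h5 => (Nat.prime_five.dvd_mul.1 h5).elim hd hn) ?_
    rw [pow_mul, ← hy]
    exact E.mem_A_of_cent (pow_mem hyL n) D.t_mem_A F.tG (mul_inv_eq_iff_eq_mul.1 e1)
  have hin : ∀ n : ℕ, y ^ n * t * (y ^ n)⁻¹ ∈ D.A := by
    intro n
    induction n with
    | zero => simpa using D.t_mem_A
    | succ n ih =>
      rw [show y ^ (n + 1) * t * (y ^ (n + 1))⁻¹ = y * (y ^ n * t * (y ^ n)⁻¹) * y⁻¹ by rw [pow_succ']; group]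
      exact hmap _ ih ((orderOf_conj_eq _ _).trans F.tG)
  have hcases : ∀ n : ℕ, ¬ 5 ∣ n →
      y ^ n * t * (y ^ n)⁻¹ = (F.w : G) ∨ y ^ n * t * (y ^ n)⁻¹ = t * (F.w : G) := fun n hn =>
    (D.invol_A (hin n) ((orderOf_conj_eq _ _).trans F.tG)).resolve_left (hnot n hn)
  have heq : ∀ i j : ℕ, y ^ (i + j) * t * (y ^ (i + j))⁻¹ = y ^ i * t * (y ^ i)⁻¹ →
      y ^ j * t * (y ^ j)⁻¹ = t := fun i j e1 => by
    rw [pow_add] at e1
    calc y ^ j * t * (y ^ j)⁻¹ = (y ^ i)⁻¹ * (y ^ i * y ^ j * t * (y ^ i * y ^ j)⁻¹) * y ^ i := by group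
      _ = t := by rw [e1]; group
  rcases hcases 1 (by norm_num) with e1 | e1 <;> rcases hcases 2 (by norm_num) with e2 | e2 <;>
    rcases hcases 3 (by norm_num) with e3 | e3 <;>
    first
      | exact hnot 1 (by norm_num) (heq 1 1 (e2.trans e1.symm))
      | exact hnot 1 (by norm_num) (heq 2 1 (e3.trans e2.symm))
      | exact hnot 2 (by norm_num) (heq 1 2 (e3.trans e1.symm))

/-- No involution acting on the four group as `s` centralises a `5`-element of `L` outside `A`. -/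
theorem no_fix {u x : G} (hut : u * t * u⁻¹ = t) (huw : u * (F.w : G) * u⁻¹ = t * (F.w : G))
    (hx : x ∈ E.L) (h25 : x ^ 25 = 1) (hxA : x ∉ D.A) (hux : u * x * u⁻¹ = x) : False := by
  classical
  let f : Fin 5 × Fin 3 → G := fun z => x ^ (z.1 : ℕ) * E.es z.2 * (x ^ (z.1 : ℕ))⁻¹
  have hinj : Function.Injective f := by
    rintro ⟨n, i⟩ ⟨m, j⟩ h
    have h' : x ^ (n : ℕ) * E.es i * (x ^ (n : ℕ))⁻¹ = x ^ (m : ℕ) * E.es j * (x ^ (m : ℕ))⁻¹ := h
    by_cases hnm : n = m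
    · subst hnm
      exact Prod.ext rfl (E.es_injective (mul_left_cancel (mul_right_cancel h')))
    · exfalso
      have hn := n.isLt
      have hm := m.isLt
      have hne : (n : ℕ) ≠ m := fun e => hnm (Fin.ext e)
      refine E.moves hx h25 hxA (d := (25 - (m : ℕ)) + n) (by omega) (E.es_mem i).1 (E.es_mem i).2 ?_
      have e25 : x ^ (25 - (m : ℕ)) = (x ^ (m : ℕ))⁻¹ := eq_inv_of_mul_eq_one_left (by
        rw [← pow_add, Nat.sub_add_cancel (by omega), h25])
      rw [pow_add, e25, show (x ^ (m : ℕ))⁻¹ * x ^ (n : ℕ) * E.es i * ((x ^ (m : ℕ))⁻¹ * x ^ (n : ℕ))⁻¹ =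
        (x ^ (m : ℕ))⁻¹ * (x ^ (n : ℕ) * E.es i * (x ^ (n : ℕ))⁻¹) * x ^ (m : ℕ) by group, h',
        show (x ^ (m : ℕ))⁻¹ * (x ^ (m : ℕ) * E.es j * (x ^ (m : ℕ))⁻¹) * x ^ (m : ℕ) = E.es j by group]
      exact (E.es_mem j).1
  have hall : Finset.univ.image f = E.T.fx.invols := by
    refine Finset.eq_of_subset_of_card_le (fun z hz => ?_) ?_
    · obtain ⟨⟨n, i⟩, -, rfl⟩ := Finset.mem_image.1 hz
      exact E.T.mem_invols.2 ⟨(orderOf_conj_eq _ _).trans (E.es_mem i).2,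
        mul_mem (mul_mem (pow_mem hx _) (E.A_le (E.es_mem i).1)) (inv_mem (pow_mem hx _))⟩
    · rw [Finset.card_image_of_injective _ hinj, E.hC.five, Finset.card_univ, Fintype.card_prod, Fintype.card_fin,
        Fintype.card_fin]
  set j := (F.w : G) * (x * t * x⁻¹) * (F.w : G)⁻¹ with hj
  have hjL : j ∈ E.L :=
    mul_mem (mul_mem (E.A_le D.w_mem_A) (mul_mem (mul_mem hx E.T.fx.tL) (inv_mem hx))) (inv_mem (E.A_le D.w_mem_A))
  have hj2 : orderOf j = 2 := (orderOf_conj_eq _ _).trans ((orderOf_conj_eq _ _).trans F.tG)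
  have hti : t⁻¹ = t := inv_eq_of_mul_eq_one_right D.tt
  have hc : Commute t j := by
    have hmem : j ∈ Finset.univ.image f := hall ▸ E.T.mem_invols.2 ⟨hj2, hjL⟩
    obtain ⟨⟨n, i⟩, -, hni⟩ := Finset.mem_image.1 hmem
    set tn := x ^ (n : ℕ) * t * (x ^ (n : ℕ))⁻¹ with htn
    have hjn : Commute j tn := hni ▸ commute_conj (x ^ (n : ℕ)) (D.comm (E.es_mem i).1 D.t_mem_A)
    have hcu : Commute u x := mul_inv_eq_iff_eq_mul.1 hux
    have hfix : u * tn * u⁻¹ = tn := mul_inv_eq_iff_eq_mul.2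
      (((hcu.pow_right n).mul_right (mul_inv_eq_iff_eq_mul.1 hut)).mul_right (hcu.pow_right n).inv_right).eq
    have huj : u * j * u⁻¹ = t * j * t⁻¹ := by
      rw [hj, show u * ((F.w : G) * (x * t * x⁻¹) * (F.w : G)⁻¹) * u⁻¹ = (u * (F.w : G) * u⁻¹) *
        ((u * x * u⁻¹) * (u * t * u⁻¹) * (u * x * u⁻¹)⁻¹) * (u * (F.w : G) * u⁻¹)⁻¹ by group, huw, hux, hut]
      group
    have h2 : Commute (t * j * t⁻¹) tn := by
      have := commute_conj u hjn
      rwa [hfix, huj] at this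
    have htnL : tn ∈ E.L := mul_mem (mul_mem (pow_mem hx _) E.T.fx.tL) (inv_mem (pow_mem hx _))
    have h3 : Commute j (t * j * t⁻¹) := E.T.fx.comm_cent ((orderOf_conj_eq _ _).trans F.tG) htnL hjL
      (mul_mem (mul_mem E.T.fx.tL hjL) (inv_mem E.T.fx.tL)) hjn h2
    rcases E.T.fx.AI_L.commute_or_odd (s := (⟨t, E.T.fx.tL⟩ : E.T.fx.L)) (w := ⟨j, hjL⟩)
      (by rw [Subgroup.orderOf_mk]; exact F.tG) (by rw [Subgroup.orderOf_mk]; exact hj2) with h | h
    · exact congrArg Subtype.val h.eq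
    · rw [← Subgroup.orderOf_coe] at h
      have h4 : (t * j) ^ 4 = 1 := by
        have hjj : j⁻¹ = j := inv_eq_of_mul_eq_one_right (sq_of_two hj2)
        have e1 : ((t * j) ^ 2)⁻¹ = (t * j) ^ 2 := by
          rw [← inv_pow, mul_inv_rev, hti, hjj, pow_two, pow_two]
          have h3' := h3.eq
          rw [hti] at h3'
          simpa [mul_assoc] using h3'
        calc (t * j) ^ 4 = (t * j) ^ 2 * (t * j) ^ 2 := by rw [← pow_add]
          _ = 1 := by nth_rewrite 1 [← e1]; exact inv_mul_cancel _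
      have h1 : t * j = 1 := eq_one_of_coprime (m := orderOf (t * j)) (n := 4)
        (by rw [show (4 : ℕ) = 2 ^ 2 by norm_num]; exact (Nat.coprime_two_right.2 h).pow_right 2)
        (pow_orderOf_eq_one _) h4
      rw [show j = t from (eq_inv_of_mul_eq_one_right h1).trans hti]
  have hjA : j ∈ D.A := E.mem_A_of_cent hjL D.t_mem_A F.tG hc.symm
  refine E.moves hx h25 hxA (d := 1) (by norm_num) D.t_mem_A F.tG ?_
  rw [pow_one, show x * t * x⁻¹ = (F.w : G)⁻¹ * j * (F.w : G) by rw [hj]; group]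
  exact mul_mem (mul_mem (inv_mem D.w_mem_A) hjA) D.w_mem_A

/-- A subgroup of order 25 of `L`. -/
structure Is25 (P : Subgroup G) : Prop where
  le : P ≤ E.L
  card : Nat.card P = 25

namespace Is25

variable {E} {P : Subgroup G} (hP : E.Is25 P)

include hP

theorem pow25 {y : G} (hy : y ∈ P) : y ^ 25 = 1 :=
  orderOf_dvd_iff_pow_eq_one.1 (hP.card ▸ Subgroup.orderOf_dvd_natCard P hy)

theorem comm {x y : G} (hx : x ∈ P) (hy : y ∈ P) : Commute x y := by
  haveI := E.five_prime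
  exact congrArg Subtype.val
    (IsPGroup.commutative_of_card_eq_prime_sq (p := 5) (by rw [hP.card]; norm_num) (⟨x, hx⟩ : P) ⟨y, hy⟩)

/-- An element of order dividing five centralising `P` lies in `P`. -/
theorem mem_of_comm {h : G} (hL : h ∈ E.L) (h5 : h ^ 5 = 1) (hc : ∀ z ∈ P, Commute h z) : h ∈ P := by
  let f := MonoidHom.noncommCoprod P.subtype (zpowers h).subtype fun z l => by
    obtain ⟨i, hi⟩ := Subgroup.mem_zpowers_iff.1 l.2
    show Commute (z : G) (l : G)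
    rw [← hi]
    exact ((hc z z.2).zpow_left i).symm
  have hPle : P ≤ f.range := fun z hz => ⟨(⟨z, hz⟩, 1), by simp [f]⟩
  have hmem : h ∈ f.range := ⟨(1, ⟨h, mem_zpowers h⟩), by simp [f]⟩
  have hle : f.range ≤ E.L := by
    rintro _ ⟨⟨z, l⟩, rfl⟩
    exact mul_mem (hP.le z.2) (Subgroup.zpowers_le.2 hL l.2)
  have h1 : Nat.card f.range ∣ 60 * E.k := E.card_L ▸ Subgroup.card_dvd_of_le hle
  have h2 : Nat.card f.range ∣ 125 := by
    refine (Subgroup.card_range_dvd f).trans ?_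
    rw [Nat.card_prod, hP.card, Nat.card_zpowers]
    exact mul_dvd_mul_left 25 (orderOf_dvd_of_pow_eq_one h5)
  have h3 : Nat.card f.range ≤ 25 := by
    refine Nat.le_of_dvd (by norm_num) ((Nat.dvd_gcd h2 h1).trans ?_)
    rcases E.hk with hk | hk <;> rw [hk] <;> norm_num
  rw [Subgroup.eq_of_le_of_card_ge hPle (hP.card.symm ▸ h3)]
  exact hmem

theorem a_mem : E.a ∈ P :=
  hP.mem_of_comm E.a_L E.a_five fun z hz => (E.mem_L.1 (hP.le hz)).symm

theorem exists_gen : ∃ y ∈ P, y ∉ zpowers E.a := by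
  by_contra hcon
  push Not at hcon
  have := Subgroup.card_dvd_of_le (show P ≤ zpowers E.a from hcon)
  rw [hP.card, Nat.card_zpowers, E.ord_a] at this
  norm_num at this

variable {y : G} (hy : y ∈ P) (hya : y ∉ zpowers E.a)

include hy hya

theorem not_mem_A : y ∉ D.A := fun h => hya (E.mem_zp_of_five h (i := 2) (by norm_num; exact hP.pow25 hy))

/-- Coordinates. -/
theorem exists_coord {z : G} (hz : z ∈ P) : ∃ i j : ℤ, z = y ^ i * E.a ^ j := by
  let f := MonoidHom.noncommCoprod (zpowers y).subtype (zpowers E.a).subtype fun z l =>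
    hP.comm (Subgroup.zpowers_le.2 hy z.2) (Subgroup.zpowers_le.2 hP.a_mem l.2)
  have hle : f.range ≤ P := by
    rintro _ ⟨⟨z, l⟩, rfl⟩
    exact mul_mem (Subgroup.zpowers_le.2 hy z.2) (Subgroup.zpowers_le.2 hP.a_mem l.2)
  have hym : y ∈ f.range := ⟨(⟨y, mem_zpowers y⟩, 1), by simp [f]⟩
  have hae : zpowers E.a ≤ f.range := Subgroup.zpowers_le.2 ⟨(1, ⟨E.a, mem_zpowers _⟩), by simp [f]⟩
  have heq : P ≤ f.range := by
    haveI := E.five_prime
    obtain ⟨e, he, h⟩ := (Nat.dvd_prime_pow (by norm_num : Nat.Prime 5)).1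
      (show Nat.card f.range ∣ 5 ^ 2 by
        rw [show (5 : ℕ) ^ 2 = Nat.card P by rw [hP.card]; norm_num]; exact Subgroup.card_dvd_of_le hle)
    have hlt : 5 < Nat.card f.range := by
      refine lt_of_le_of_ne ?_ fun e1 => hya ?_
      · have := Nat.le_of_dvd Nat.card_pos (Subgroup.card_dvd_of_le hae)
        rwa [Nat.card_zpowers, E.ord_a] at this
      · rw [Subgroup.eq_of_le_of_card_ge hae (by rw [← e1, Nat.card_zpowers, E.ord_a])]
        exact hym
    have he2 : e = 2 := by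
      rw [h] at hlt
      interval_cases e <;> simp_all
    rw [Subgroup.eq_of_le_of_card_ge hle (by rw [h, he2, hP.card]; norm_num)]
  obtain ⟨⟨z', l⟩, rfl⟩ := heq hz
  obtain ⟨i, hi⟩ := Subgroup.mem_zpowers_iff.1 z'.2
  obtain ⟨j, hj⟩ := Subgroup.mem_zpowers_iff.1 l.2
  exact ⟨i, j, by rw [hi, hj]; rfl⟩

theorem pow_five_mem : y ^ 5 ∈ zpowers E.a := by
  by_contra hcon
  have hall : ∀ z ∈ P, z ^ 5 = 1 := fun z hz => by
    obtain ⟨i, j, rfl⟩ := hP.exists_coord (pow_mem hy 5) hcon hz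
    rw [(((hP.comm (pow_mem hy 5) hP.a_mem).zpow_left i).zpow_right j).mul_pow, ← zpow_natCast, ← zpow_mul,
      mul_comm, zpow_mul, zpow_natCast, ← pow_mul, hP.pow25 hy, one_zpow, one_mul, ← zpow_natCast, ← zpow_mul,
      mul_comm, zpow_mul, zpow_natCast, E.a_five, one_zpow]
  exact hcon (by rw [hall y hy]; exact one_mem _)

theorem zpow_mem {i : ℤ} (h : (5 : ℤ) ∣ i) : y ^ i ∈ zpowers E.a := by
  obtain ⟨c, rfl⟩ := h
  rw [zpow_mul, show (5 : ℤ) = ((5 : ℕ) : ℤ) from rfl, zpow_natCast]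
  exact Subgroup.zpow_mem _ (hP.pow_five_mem hy hya) c

/-- The first coordinate is determined modulo five. -/
theorem coord_unique {i j i' j' : ℤ} (h : y ^ i * E.a ^ j = y ^ i' * E.a ^ j') : (5 : ℤ) ∣ i - i' := by
  by_contra hcon
  have hd : y ^ (i - i') ∈ zpowers E.a := by
    have e1 : y ^ (i - i') = E.a ^ (j' - j) := by
      calc y ^ (i - i') = (y ^ i')⁻¹ * (y ^ i * E.a ^ j) * (E.a ^ j)⁻¹ := by group
        _ = (y ^ i')⁻¹ * (y ^ i' * E.a ^ j') * (E.a ^ j)⁻¹ := by rw [h]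
        _ = _ := by group
    exact e1 ▸ Subgroup.zpow_mem _ (mem_zpowers _) _
  obtain ⟨u, v, huv⟩ := (Int.prime_iff_natAbs_prime.2 (by norm_num : Nat.Prime ((5 : ℤ).natAbs))).coprime_iff_not_dvd.2 hcon
  refine hya ?_
  rw [← zpow_one y, ← huv, zpow_add]
  exact mul_mem (hP.zpow_mem hy hya (dvd_mul_left _ _))
    (by rw [mul_comm, zpow_mul]; exact Subgroup.zpow_mem _ hd v)

/-- Change of the first coordinate. -/
theorem coord_change {i r : ℤ} (h : (5 : ℤ) ∣ i - r) (j : ℤ) : ∃ j' : ℤ, y ^ i * E.a ^ j = y ^ r * E.a ^ j' := by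
  obtain ⟨c, hc⟩ := Subgroup.mem_zpowers_iff.1 (hP.zpow_mem hy hya h)
  exact ⟨c + j, by rw [zpow_add, hc, ← mul_assoc, ← zpow_add, add_sub_cancel]⟩

end Is25

end Exc

end Cfsg.Agent.Invol.BrauerL3
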