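import Cfsg.Agent.Lib.Invol.BrauerL3.ExceptionalPair
import Mathlib.GroupTheory.GroupAction.Quotient
import Mathlib.Data.ZMod.Basic

/-!
# The exceptional kernel: the index of `L` is `0` or `2` modulo five

The subgroup `⟨x⟩ × ⟨a₁⟩` fixes the cosets `g L` with `g a₁ g⁻¹` in it.  These conjugates lie on no line `⟨x⟩`, come in
pairs, and the element of order four permutes the four remaining lines.
-/

set_option autoImplicit false
set_option linter.unusedSectionVars false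

open scoped Classical

namespace Cfsg.Agent.Invol.BrauerL3

open Subgroup

universe u v

/-- The possible sets of conjugates. -/
theorem exc_card_mod (S : Finset (ZMod 5 × ZMod 5)) (r : ℕ) (hr : r = 2 ∨ r = 3) (h0 : (0, 1) ∈ S)
    (hneg : ∀ v ∈ S, -v ∈ S) (hphi : ∀ v ∈ S, ((r : ZMod 5) * v.1, -v.2) ∈ S) (hline : ∀ v ∈ S, v + v ∉ S)
    (hx : ∀ v ∈ S, v.2 ≠ 0) : S.card % 5 = 0 ∨ S.card % 5 = 2 := by
  have hψ : ∀ v ∈ S, ((-(r : ZMod 5)) * v.1, v.2) ∈ S := fun v hv => by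
    have := hneg _ (hphi v hv)
    rwa [Prod.neg_mk, neg_neg, ← neg_mul] at this
  have hpow : ∀ (k : ℕ) (v : ZMod 5 × ZMod 5), v ∈ S → ((-(r : ZMod 5)) ^ k * v.1, v.2) ∈ S := fun k v hv => by
    induction k with
    | zero => simpa using hv
    | succ k ih =>
      have := hψ _ ih
      rwa [← mul_assoc, ← pow_succ'] at this
  have hgen : ∀ i i' : ZMod 5, i ≠ 0 → i' ≠ 0 → ∃ k ∈ Finset.range 4, (-(r : ZMod 5)) ^ k * i = i' := by
    rcases hr with rfl | rfl <;> decide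
  have hrow : ∀ i i' j : ZMod 5, i ≠ 0 → i' ≠ 0 → (i, j) ∈ S → (i', j) ∈ S := fun i i' j hi hi' h => by
    obtain ⟨k, -, hk⟩ := hgen i i' hi hi'
    simpa [hk] using hpow k _ h
  have hsym : ∀ j : ZMod 5, (1, j) ∈ S → (1, -j) ∈ S := fun j h => by
    have := hneg _ h
    rw [Prod.neg_mk] at this
    exact hrow _ _ _ (by decide) (by decide) this
  have hnot : ¬ ((1, 1) ∈ S ∧ ((1 : ZMod 5), (2 : ZMod 5)) ∈ S) := fun ⟨h1, h2⟩ =>
    hline _ (hrow 1 2 1 (by decide) (by decide) h1) (hrow 1 (2 + 2) (1 + 1) (by decide) (by decide) h2)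
  have hzero : ∀ j : ZMod 5, ((0, j) ∈ S ↔ (j = 1 ∨ j = 4)) := by
    intro j
    have h4 : ((0 : ZMod 5), (4 : ZMod 5)) ∈ S := by
      have := hneg _ h0
      rwa [Prod.neg_mk, neg_zero] at this
    refine ⟨fun h => ?_, ?_⟩
    · rcases (show j = 0 ∨ j = 1 ∨ j = 4 ∨ j = 1 + 1 ∨ j = 4 + 4 by clear h; revert j; decide) with rfl | rfl | rfl | rfl | rfl
      · exact absurd rfl (hx _ h)
      · exact Or.inl rfl
      · exact Or.inr rfl
      · exact absurd h (by simpa using hline _ h0)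
      · exact absurd h (by simpa using hline _ h4)
    · rintro (rfl | rfl)
      · exact h0
      · exact h4
  have hone : ∀ j : ZMod 5, ((1, j) ∈ S ↔
      ((1, 1) ∈ S ∧ (j = 1 ∨ j = 4)) ∨ (((1 : ZMod 5), (2 : ZMod 5)) ∈ S ∧ (j = 2 ∨ j = 3))) := by
    intro j
    constructor
    · intro h
      rcases (show j = 0 ∨ j = 1 ∨ j = 2 ∨ j = 3 ∨ j = 4 by clear h; revert j; decide) with rfl | rfl | rfl | rfl | rfl
      · exact absurd rfl (hx _ h)
      · exact Or.inl ⟨h, Or.inl rfl⟩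
      · exact Or.inr ⟨h, Or.inl rfl⟩
      · exact Or.inr ⟨hsym 3 h, Or.inr rfl⟩
      · exact Or.inl ⟨hsym 4 h, Or.inr rfl⟩
    · rintro (⟨h, rfl | rfl⟩ | ⟨h, rfl | rfl⟩)
      · exact h
      · exact hsym 1 h
      · exact h
      · exact hsym 2 h
  have hS : S = Finset.univ.filter fun v : ZMod 5 × ZMod 5 => (v.1 = 0 ∧ (v.2 = 1 ∨ v.2 = 4)) ∨
      (v.1 ≠ 0 ∧ (((1, 1) ∈ S ∧ (v.2 = 1 ∨ v.2 = 4)) ∨
        (((1 : ZMod 5), (2 : ZMod 5)) ∈ S ∧ (v.2 = 2 ∨ v.2 = 3)))) := by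
    ext ⟨i, j⟩
    rw [Finset.mem_filter]
    by_cases hi : i = 0
    · subst hi
      simp [hzero j]
    · have h1 : (i, j) ∈ S ↔ (1, j) ∈ S :=
        ⟨hrow i 1 j hi one_ne_zero, hrow 1 i j one_ne_zero hi⟩
      simp [hi, h1, hone j]
  rw [hS]
  by_cases b1 : ((1, 1) : ZMod 5 × ZMod 5) ∈ S <;> by_cases b2 : ((1, 2) : ZMod 5 × ZMod 5) ∈ S
  · exact absurd ⟨b1, b2⟩ hnot
  all_goals simp only [b1, b2, true_and, false_and, or_false, false_or, and_false]
  all_goals decide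

namespace Exc

variable {G : Type u} [Group G] [Fintype G] {t : G} {p : ℕ} {Q : ℤ}
variable {F : Frame (Cen t) (tc t) p Q} {S : Type v} [CommGroup S] {D : TSetup F S} (E : Exc D)
variable [IsSimpleGroup G]

/-- A power conjugate to a conjugate of `a` corresponds to a power conjugate to `a` in the normaliser. -/
theorem pow_of_conj {h : G} {n : ℕ} (h1 : IsConj E.a h) (h2 : IsConj E.a (h ^ n)) :
    E.a ^ n = E.a ∨ E.a ^ n = E.a⁻¹ := by
  obtain ⟨g, rfl⟩ := isConj_iff.1 h1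
  obtain ⟨g', hg'⟩ := isConj_iff.1 h2
  rw [conj_pow] at hg'
  set y := g⁻¹ * g' with hy
  have e : y * E.a * y⁻¹ = E.a ^ n := by
    rw [show y * E.a * y⁻¹ = g⁻¹ * (g' * E.a * g'⁻¹) * g by rw [hy]; group, hg']
    group
  rcases E.T.norm_L (x := y) (by rw [show y * E.T.a₁ * y⁻¹ = E.a ^ n from e]; exact pow_mem (mem_zpowers _) n) with
    hL | hL
  · left
    rw [← e, (E.mem_L.1 hL).eq, mul_inv_cancel_right]
  · right
    have h3 : D.ci (E.a ^ n) = E.a := by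
      rw [← e, D.ci_apply, show D.ii * (y * E.a * y⁻¹) * D.ii⁻¹ = (D.ii * y) * E.a * (D.ii * y)⁻¹ by group,
        (E.mem_L.1 hL).eq, mul_inv_cancel_right]
    rw [← D.ci_ci (E.a ^ n), h3]
    exact E.T.inv₁

theorem isConj_inv {h : G} (h1 : IsConj E.a h) : IsConj E.a h⁻¹ := by
  have h2 : IsConj E.a E.a⁻¹ := isConj_iff.2 ⟨D.ii, E.T.inv₁⟩
  obtain ⟨g, rfl⟩ := isConj_iff.1 h1
  exact h2.trans (isConj_iff.2 ⟨g, by group⟩)

theorem pow_ne {n : ℕ} (hn : n = 2 ∨ n = 3) : ¬ (E.a ^ n = E.a ∨ E.a ^ n = E.a⁻¹) := by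
  rintro (h | h)
  · rw [← pow_one E.a, ← pow_mul, one_mul, pow_eq_pow_iff_modEq, E.ord_a] at h
    rcases hn with rfl | rfl <;> exact absurd h (by decide)
  · have h' : E.a ^ (n + 1) = 1 := by rw [pow_succ, h, inv_mul_cancel]
    rw [← orderOf_dvd_iff_pow_eq_one, E.ord_a] at h'
    rcases hn with rfl | rfl <;> norm_num at h'

/-- The map `g L ↦ g a g⁻¹`. -/
def conjMap (gL : G ⧸ E.L) : G :=
  Quotient.liftOn' gL (fun g => g * E.a * g⁻¹) fun g g' h => by
    have hc := E.mem_L.1 (QuotientGroup.leftRel_apply.1 h)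
    calc g * E.a * g⁻¹ = g * (g⁻¹ * g' * E.a * (g⁻¹ * g')⁻¹) * g⁻¹ := by rw [hc.eq]; group
      _ = g' * E.a * g'⁻¹ := by group

theorem conjMap_mk (g : G) : E.conjMap (g : G ⧸ E.L) = g * E.a * g⁻¹ := rfl

theorem conjMap_injective : Function.Injective E.conjMap := by
  intro u v
  induction u using QuotientGroup.induction_on with | H g => ?_
  induction v using QuotientGroup.induction_on with | H g' => ?_
  rw [E.conjMap_mk, E.conjMap_mk]
  intro h
  refine QuotientGroup.eq.2 (E.mem_L.2 (mul_inv_eq_iff_eq_mul.1 ?_))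
  calc g⁻¹ * g' * E.a * (g⁻¹ * g')⁻¹ = g⁻¹ * (g' * E.a * g'⁻¹) * g := by group
    _ = E.a := by rw [← h]; group

/-- The index of `L` modulo five. -/
theorem index_mod : E.L.index % 5 = 0 ∨ E.L.index % 5 = 2 := by
  haveI := E.five_prime
  obtain ⟨P, x, m, r, hP, hr, hx, hx5, hxa, hm, hmx⟩ := E.exists_pair
  set ψ : ZMod 5 × ZMod 5 → G := fun v => x ^ v.1.val * E.a ^ v.2.val with hψ
  have hcast : ∀ i j : ℕ, ψ (i, j) = x ^ i * E.a ^ j := fun i j => by
    simp only [hψ, ZMod.val_natCast]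
    rw [← pow_eq_pow_mod i hx5, ← pow_eq_pow_mod j E.a_five]
  have hrepr : ∀ v : ZMod 5 × ZMod 5, v = (((v.1.val : ℕ) : ZMod 5), ((v.2.val : ℕ) : ZMod 5)) := fun v =>
    Prod.ext (ZMod.natCast_zmod_val _).symm (ZMod.natCast_zmod_val _).symm
  have hadd : ∀ u v, ψ (u + v) = ψ u * ψ v := fun u v => by
    conv_lhs => rw [hrepr u, hrepr v, Prod.mk_add_mk, ← Nat.cast_add, ← Nat.cast_add, hcast]
    rw [pow_add, pow_add]
    exact (((hP.comm hx hP.a_mem).symm.pow_pow _ _).mul_mul_mul_comm _ _).symm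
  have hψ0 : ψ 0 = 1 := by simp [hψ]
  have hψneg : ∀ v, ψ (-v) = (ψ v)⁻¹ := fun v =>
    eq_inv_of_mul_eq_one_left (by rw [← hadd, neg_add_cancel, hψ0])
  have hψphi : ∀ v : ZMod 5 × ZMod 5, ψ ((r : ZMod 5) * v.1, -v.2) = m * ψ v * m⁻¹ := fun v => by
    conv_rhs => rw [hψ]
    show _ = m * (x ^ v.1.val * E.a ^ v.2.val) * m⁻¹
    rw [← conj_mul, ← conj_pow, ← conj_pow, hmx, hm.conj_a, ← pow_mul,
      show E.a⁻¹ = E.a ^ 4 from inv_eq_of_mul_eq_one_right (by rw [← pow_succ']; exact E.a_five), ← pow_mul, ← hcast]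
    refine congrArg ψ (Prod.ext ?_ ?_)
    · push_cast; rw [ZMod.natCast_zmod_val]
    · push_cast
      rw [ZMod.natCast_zmod_val, show (4 : ZMod 5) = -1 from rfl, neg_one_mul]
  have hψmem : ∀ v, ψ v ∈ P := fun v => mul_mem (pow_mem hx _) (pow_mem hP.a_mem _)
  have hsurj : ∀ z ∈ P, ∃ v, ψ v = z := fun z hz => by
    obtain ⟨i, j, rfl⟩ := hP.exists_coord hx hxa hz
    refine ⟨((i : ZMod 5), (j : ZMod 5)), ?_⟩
    simp only [hψ]
    rw [← zpow_natCast x, ← zpow_natCast E.a, ZMod.val_intCast, ZMod.val_intCast]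
    have hx' : x ^ (5 : ℤ) = 1 := by rw [show (5 : ℤ) = ((5 : ℕ) : ℤ) from rfl, zpow_natCast, hx5]
    have ha' : E.a ^ (5 : ℤ) = 1 := by rw [show (5 : ℤ) = ((5 : ℕ) : ℤ) from rfl, zpow_natCast, E.a_five]
    conv_rhs => rw [← Int.mul_ediv_add_emod i 5, ← Int.mul_ediv_add_emod j 5]
    rw [zpow_add x, zpow_mul, hx', one_zpow, one_mul, zpow_add E.a, zpow_mul, ha', one_zpow, one_mul]
    norm_num
  have hinj : Function.Injective ψ := fun u v h => by
    have h' : x ^ ((u.1.val : ℕ) : ℤ) * E.a ^ ((u.2.val : ℕ) : ℤ) =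
        x ^ ((v.1.val : ℕ) : ℤ) * E.a ^ ((v.2.val : ℕ) : ℤ) := by
      simp only [zpow_natCast]
      exact h
    have h1 := hP.coord_unique hx hxa h'
    have e1 : u.1 = v.1 := ZMod.val_injective 5 (by have := u.1.val_lt; have := v.1.val_lt; omega)
    rw [e1, mul_right_inj, ← mul_inv_eq_one, ← zpow_sub] at h'
    have h2 := E.dvd_of_a_zpow h'
    exact Prod.ext e1 (ZMod.val_injective 5 (by have := u.2.val_lt; have := v.2.val_lt; omega))
  set T := Finset.univ.filter fun v => IsConj E.a (ψ v) with hT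
  have hmemT : ∀ {v}, v ∈ T ↔ IsConj E.a (ψ v) := fun {v} => by simp [hT]
  have hfix : E.conjMap '' MulAction.fixedPoints P (G ⧸ E.L) = ψ '' (T : Set (ZMod 5 × ZMod 5)) := by
    ext h
    constructor
    · rintro ⟨gL, hgL, rfl⟩
      induction gL using QuotientGroup.induction_on with | H g => ?_
      rw [E.conjMap_mk]
      have hc : ∀ z ∈ P, Commute (g * E.a * g⁻¹) z := fun z hz => by
        have e1 : ((z * g : G) : G ⧸ E.L) = (g : G ⧸ E.L) := MulAction.mem_fixedPoints.1 hgL ⟨z, hz⟩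
        have h2 := commute_conj g (E.mem_L.1 (QuotientGroup.eq.1 e1))
        rw [show g * ((z * g)⁻¹ * g) * g⁻¹ = z⁻¹ by group] at h2
        exact (Commute.inv_left_iff.1 h2).symm
      have hL : g * E.a * g⁻¹ ∈ E.L := E.mem_L.2 (hc _ hP.a_mem)
      obtain ⟨v, hv⟩ := hsurj _ (hP.mem_of_comm hL (by rw [conj_pow, E.a_five]; group) hc)
      exact ⟨v, hmemT.2 (isConj_iff.2 ⟨g, hv.symm⟩), hv⟩
    · rintro ⟨v, hv, rfl⟩
      obtain ⟨g, hg⟩ := isConj_iff.1 (hmemT.1 hv)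
      refine ⟨(g : G ⧸ E.L), fun z => ?_, hg⟩
      show ((((z : G) * g : G)) : G ⧸ E.L) = g
      refine QuotientGroup.eq.2 (E.mem_L.2 ?_)
      have h2 := commute_conj g⁻¹ (hP.comm (inv_mem z.2) (hψmem v))
      rw [← hg, inv_inv, show g⁻¹ * (g * E.a * g⁻¹) * g = E.a by group] at h2
      rwa [show ((z : G) * g)⁻¹ * g = g⁻¹ * (z : G)⁻¹ * g by group]
  have hcard : Nat.card (MulAction.fixedPoints P (G ⧸ E.L)) = T.card := by
    rw [Nat.card_coe_set_eq, ← Set.ncard_image_of_injective _ E.conjMap_injective, hfix,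
      Set.ncard_image_of_injective _ hinj, Set.ncard_coe_finset]
  have hmod := (IsPGroup.of_card (p := 5) (n := 2) (show Nat.card P = 5 ^ 2 by rw [hP.card]; norm_num)
    ).card_modEq_card_fixedPoints (G ⧸ E.L)
  rw [hcard, ← Subgroup.index_eq_card] at hmod
  rw [hmod]
  have hψ01 : ψ (0, 1) = E.a := by
    have := hcast 0 1
    rwa [Nat.cast_zero, Nat.cast_one, pow_zero, one_mul, pow_one] at this
  refine exc_card_mod T r hr (hmemT.2 (hψ01.symm ▸ IsConj.refl _)) (fun v hv => hmemT.2 ?_)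
    (fun v hv => hmemT.2 ?_) (fun v hv h2 => ?_) (fun v hv h0 => ?_)
  · rw [hψneg]; exact E.isConj_inv (hmemT.1 hv)
  · rw [hψphi]
    exact (hmemT.1 hv).trans (isConj_iff.2 ⟨m, rfl⟩)
  · have h3 := hmemT.1 h2
    rw [hadd, ← pow_two] at h3
    exact E.pow_ne (Or.inl rfl) (E.pow_of_conj (hmemT.1 hv) h3)
  · have h1 := hmemT.1 hv
    have e1 : ψ v = x ^ v.1.val := by simp [hψ, h0]
    rw [e1] at h1
    refine E.pow_ne hr (E.pow_of_conj h1 (h1.trans (isConj_iff.2 ⟨m, ?_⟩)))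
    rw [← conj_pow, hmx, ← pow_mul, ← pow_mul, mul_comm]

end Exc

end Cfsg.Agent.Invol.BrauerL3
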