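import Cfsg.Agent.Lib.Invol.BrauerL3.ExceptionalBasic

/-!
# The exceptional kernel: the element of order four

Some element of `s A` normalises a subgroup `⟨x⟩ × ⟨a₁⟩` of order 25 of `L`, inverts `a₁` and maps `x` to `x ^ r`
with `r ∈ {2, 3}`.
-/

set_option autoImplicit false
set_option linter.unusedSectionVars false

namespace Cfsg.Agent.Invol.BrauerL3

open Subgroup
open scoped Pointwise

universe u v

variable {G : Type u} [Group G] [Fintype G] {t : G} {p : ℕ} {Q : ℤ}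

theorem mem_normalizer_of_maps {G : Type*} [Group G] [Finite G] {P : Subgroup G} {n : G} (h : ∀ z ∈ P, n * z * n⁻¹ ∈ P) :
    n ∈ normalizer (P : Set G) := by
  refine Subgroup.mem_normalizer_iff.2 fun z => ⟨h z, fun hz => ?_⟩
  have hbij : Function.Bijective (fun w : P => (⟨n * w * n⁻¹, h w w.2⟩ : P)) :=
    Finite.injective_iff_bijective.1 fun a b e =>
      Subtype.ext (mul_left_cancel (mul_right_cancel (congrArg Subtype.val e)))
  obtain ⟨w, hw⟩ := hbij.2 ⟨n * z * n⁻¹, hz⟩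
  rw [← mul_left_cancel (mul_right_cancel (congrArg Subtype.val hw) :
    n * (w : G) = n * z)]
  exact w.2

theorem maps_of_normalizer {G : Type*} [Group G] {P : Subgroup G} {n z : G} (h : n ∈ normalizer (P : Set G)) (hz : z ∈ P) :
    n * z * n⁻¹ ∈ P :=
  (Subgroup.mem_normalizer_iff.1 h z).1 hz

theorem zpow_pow_comm {G : Type*} [Group G] (z : G) (i : ℤ) (n : ℕ) : (z ^ i) ^ n = (z ^ n) ^ i := by
  rw [← zpow_natCast, ← zpow_mul, mul_comm, zpow_mul, zpow_natCast]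

namespace Exc

variable {F : Frame (Cen t) (tc t) p Q} {S : Type v} [CommGroup S] {D : TSetup F S} (E : Exc D)

/-- The coset `s A`. -/
def Out (_ : Exc D) (m : G) : Prop := ∃ z ∈ D.A, m = D.ii * z

namespace Out

variable {E} {m : G} (h : E.Out m)

include h

theorem conj_t : m * t * m⁻¹ = t := by
  obtain ⟨z, hz, rfl⟩ := h
  rw [show D.ii * z * t * (D.ii * z)⁻¹ = D.ii * (z * t * z⁻¹) * D.ii⁻¹ by group,
    mul_inv_eq_iff_eq_mul.2 (D.comm hz D.t_mem_A).eq, D.ii_t]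

theorem conj_w : m * (F.w : G) * m⁻¹ = t * (F.w : G) := by
  obtain ⟨z, hz, rfl⟩ := h
  rw [show D.ii * z * (F.w : G) * (D.ii * z)⁻¹ = D.ii * (z * (F.w : G) * z⁻¹) * D.ii⁻¹ by group,
    mul_inv_eq_iff_eq_mul.2 (D.comm hz D.w_mem_A).eq, D.ii_w]

theorem sq_mem : m * m ∈ D.A := by
  obtain ⟨z, hz, rfl⟩ := h
  rw [show D.ii * z * (D.ii * z) = D.ii * z * D.ii * z by group]
  nth_rewrite 2 [← D.ii_inv]
  exact mul_mem (D.conj_ii hz) hz

theorem mul {z : G} (hz : z ∈ D.A) : E.Out (m * z) := by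
  obtain ⟨z', hz', rfl⟩ := h
  exact ⟨z' * z, mul_mem hz' hz, by rw [mul_assoc]⟩

variable [IsSimpleGroup G]

theorem conj_a : m * E.a * m⁻¹ = E.a⁻¹ := by
  obtain ⟨z, hz, rfl⟩ := h
  rw [show D.ii * z * E.a * (D.ii * z)⁻¹ = D.ii * (z * E.a * z⁻¹) * D.ii⁻¹ by group,
    mul_inv_eq_iff_eq_mul.2 (D.comm hz E.a_mem).eq]
  exact E.T.inv₁

theorem conj_a_zpow (j : ℤ) : m * E.a ^ j * m⁻¹ = E.a ^ (-j) := by
  rw [← conj_zpow, h.conj_a, inv_zpow, zpow_neg]

end Out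

variable [IsSimpleGroup G]

theorem sylow_card (R : Sylow 5 E.L) : Nat.card R = 25 := by
  haveI := E.five_prime
  obtain ⟨e, he⟩ := R.isPGroup'.exists_card_eq
  have h1 : (R : Subgroup E.L).map E.L.subtype ≤ E.L := Subgroup.map_subtype_le _
  have h2 := Subgroup.card_subgroup_dvd_card (R : Subgroup E.L)
  rw [E.card_L] at h2
  have h3 : 5 ^ 2 ∣ Nat.card R := R.pow_dvd_card_of_pow_dvd_card (by
    rw [E.card_L]; rcases E.hk with hk | hk <;> rw [hk] <;> norm_num)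
  have h4 : Nat.card R ∣ 60 * E.k := h2
  rw [he] at h3 h4 ⊢
  have h5 := (Nat.pow_dvd_pow_iff_le_right (by norm_num : 1 < 5)).1 h3
  have h6 : e ≤ 2 := by
    by_contra hlt
    have h7 : 125 ∣ 60 * E.k := dvd_trans (pow_dvd_pow 5 (show 3 ≤ e by omega)) h4
    rcases E.hk with hk | hk <;> omega
  rw [show e = 2 by omega]
  norm_num

theorem exists_sylow {P : Subgroup G} (hP : E.Is25 P) :
    ∃ R : Sylow 5 E.L, ∀ z : E.L, z ∈ R ↔ (z : G) ∈ P := by
  haveI := E.five_prime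
  have hc : Nat.card (P.subgroupOf E.L) = 5 ^ 2 := by
    rw [Nat.card_congr (Subgroup.subgroupOfEquivOfLe hP.le).toEquiv, hP.card]
    norm_num
  obtain ⟨R, hR⟩ := (IsPGroup.of_card hc).exists_le_sylow
  refine ⟨R, fun z => ?_⟩
  have := Subgroup.eq_of_le_of_card_ge hR (by rw [hc]; exact (E.sylow_card R).le)
  show z ∈ (R : Subgroup E.L) ↔ _
  rw [← this]
  exact Subgroup.mem_subgroupOf

theorem exists_conj_25 {P R : Subgroup G} (hP : E.Is25 P) (hR : E.Is25 R) :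
    ∃ l ∈ E.L, ∀ z ∈ R, l * z * l⁻¹ ∈ P := by
  haveI := E.five_prime
  obtain ⟨SP, hSP⟩ := E.exists_sylow hP
  obtain ⟨SR, hSR⟩ := E.exists_sylow hR
  obtain ⟨l, hl⟩ := MulAction.exists_smul_eq E.L SR SP
  refine ⟨l, l.2, fun z hz => ?_⟩
  have h1 : MulAut.conj l ((⟨z, hR.le hz⟩ : E.L)) ∈ (l • SR : Sylow 5 E.L) :=
    Subgroup.smul_mem_pointwise_smul _ _ _ ((hSR ⟨z, hR.le hz⟩).2 hz)
  rw [hl] at h1
  exact (hSP _).1 h1

/-- An involution of `A` normalising `P` inverts it modulo `⟨a⟩`. -/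
theorem inverts {P : Subgroup G} (hP : E.Is25 P) {y : G} (hy : y ∈ P) (hya : y ∉ zpowers E.a) {e : G}
    (he : e ∈ D.A) (he2 : orderOf e = 2) (hn : e ∈ normalizer (P : Set G)) :
    ∃ c : ℤ, e * y * e⁻¹ = y ^ (-1 : ℤ) * E.a ^ c := by
  obtain ⟨l, c, hlc⟩ := hP.exists_coord hy hya (maps_of_normalizer hn hy)
  have hea : e * E.a * e⁻¹ = E.a := mul_inv_eq_iff_eq_mul.2 (D.comm he E.a_mem).eq
  have hee : e * e = 1 := sq_of_two he2
  have twice : ∀ {l c : ℤ}, e * y * e⁻¹ = y ^ l * E.a ^ c → y = y ^ (l * l) * E.a ^ (c * l + c) := by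
    intro l c h
    calc y = e * (e * y * e⁻¹) * e⁻¹ := by
          rw [show e * (e * y * e⁻¹) * e⁻¹ = (e * e) * y * (e * e)⁻¹ by group, hee]; group
      _ = e * (y ^ l * E.a ^ c) * e⁻¹ := by rw [h]
      _ = (e * y * e⁻¹) ^ l * (e * E.a * e⁻¹) ^ c := by rw [conj_zpow, conj_zpow, conj_mul]
      _ = y ^ (l * l) * E.a ^ (c * l + c) := by
          rw [hea, h, ((hP.comm hy hP.a_mem).zpow_left l |>.zpow_right c).mul_zpow, ← zpow_mul, ← zpow_mul,
            mul_assoc, ← zpow_add]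
  have h2 : y ^ (1 : ℤ) * E.a ^ (0 : ℤ) = y ^ (l * l) * E.a ^ (c * l + c) := by
    rw [zpow_one, zpow_zero, mul_one]; exact twice hlc
  have h3 := hP.coord_unique hy hya h2
  rcases (Int.prime_iff_natAbs_prime.2 (by norm_num : Nat.Prime ((5 : ℤ).natAbs))).dvd_mul.1
      (show (5 : ℤ) ∣ (1 - l) * (1 + l) by rwa [show (1 - l) * (1 + l) = 1 - l * l by ring]) with h | h
  · exfalso
    obtain ⟨d, hd⟩ := hP.coord_change hy hya (show (5 : ℤ) ∣ l - 1 by omega) c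
    rw [hd] at hlc
    have h4 := twice hlc
    rw [one_mul, zpow_one, left_eq_mul] at h4
    have h5 : E.a ^ d = 1 := by
      rw [← zpow_zero E.a]
      exact E.a_zpow_congr (by have := E.dvd_of_a_zpow h4; omega)
    rw [h5, mul_one, zpow_one] at hlc
    exact hP.not_mem_A hy hya (E.mem_A_of_cent (hP.le hy) he he2 (mul_inv_eq_iff_eq_mul.1 hlc).symm)
  · obtain ⟨d, hd⟩ := hP.coord_change hy hya (show (5 : ℤ) ∣ l - (-1) by omega) c
    exact ⟨d, hlc.trans hd⟩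

/-- A subgroup of order 25 normalised by `t`. -/
theorem exists_norm_t : ∃ P : Subgroup G, E.Is25 P ∧ t ∈ normalizer (P : Set G) := by
  haveI := E.five_prime
  obtain ⟨R⟩ : Nonempty (Sylow 5 E.L) := inferInstance
  set N := normalizer (R : Set E.L) with hN
  have hcard : N.index * Nat.card N = 60 * E.k := by rw [Subgroup.index_mul_card, E.card_L]
  have hmod : N.index % 5 = 1 := by
    rw [hN, ← R.card_eq_index_normalizer]
    exact card_sylow_modEq_one 5 E.L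
  have h25 : 25 ∣ Nat.card N := by
    rw [← E.sylow_card R]
    exact Subgroup.card_dvd_of_le Subgroup.le_normalizer
  have h3 : E.k = 15 → 3 ∣ Nat.card N := fun hk => by
    haveI : Fact (Nat.Prime 3) := ⟨Nat.prime_three⟩
    obtain ⟨z, hz⟩ := exists_prime_orderOf_dvd_card' (G := D.A) 3 (by rw [E.cardA, hk]; norm_num)
    have hz' : orderOf (z : G) = 3 := by rw [Subgroup.orderOf_coe, hz]
    have hzL : (⟨(z : G), E.A_le z.2⟩ : E.L) ∈ N := by
      refine mem_normalizer_of_maps fun l hl => ?_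
      rw [show (⟨(z : G), E.A_le z.2⟩ : E.L) * l * (⟨(z : G), E.A_le z.2⟩ : E.L)⁻¹ = l from Subtype.ext
        (mul_inv_eq_iff_eq_mul.2 (E.hC.odd_central z z.2 (by rw [hz']; decide) l l.2).eq)]
      exact hl
    have := Subgroup.orderOf_dvd_natCard N hzL
    rwa [Subgroup.orderOf_mk, hz'] at this
  have heven : 2 ∣ Nat.card N := by
    by_contra hodd
    rcases E.hk with hk | hk <;> rw [hk] at hcard
    · obtain ⟨c, hc⟩ := h25
      rw [hc] at hcard hodd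
      have h12 : N.index * c = 12 := by linarith
      have h4 : ¬ 2 ∣ c := fun h => hodd (dvd_mul_of_dvd_right h 25)
      have : c ≤ 12 := Nat.le_of_dvd (by norm_num) (Dvd.intro_left _ h12)
      interval_cases c <;> omega
    · obtain ⟨c, hc⟩ := Nat.Coprime.mul_dvd_of_dvd_of_dvd (by norm_num : Nat.Coprime 25 3) h25 (h3 hk)
      rw [hc] at hcard hodd
      have h12 : N.index * c = 12 := by linarith
      have h4 : ¬ 2 ∣ c := fun h => hodd (dvd_mul_of_dvd_right h _)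
      have : c ≤ 12 := Nat.le_of_dvd (by norm_num) (Dvd.intro_left _ h12)
      interval_cases c <;> omega
  haveI : Fact (Nat.Prime 2) := ⟨Nat.prime_two⟩
  obtain ⟨i, hi⟩ := exists_prime_orderOf_dvd_card' (G := N) 2 heven
  rw [← Subgroup.orderOf_coe, ← Subgroup.orderOf_coe] at hi
  obtain ⟨l, hl, el⟩ := E.T.fx.exists_conj (i : E.L).2 hi
  set lL : E.L := ⟨l, hl⟩
  set P := ((R : Subgroup E.L).map (MulAut.conj lL⁻¹).toMonoidHom).map E.L.subtype with hP
  have hinj : Function.Injective (MulAut.conj lL⁻¹).toMonoidHom := (MulAut.conj lL⁻¹).injective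
  refine ⟨P, ⟨Subgroup.map_subtype_le _, ?_⟩, mem_normalizer_of_maps ?_⟩
  · rw [hP, Subgroup.card_map_of_injective E.L.subtype_injective, Subgroup.card_map_of_injective hinj]
    exact E.sylow_card R
  · rintro _ ⟨_, ⟨z, hz, rfl⟩, rfl⟩
    refine ⟨_, ⟨(i : E.L) * z * (i : E.L)⁻¹, maps_of_normalizer i.2 hz, rfl⟩, ?_⟩
    show l⁻¹ * ((i : E.L) * (z : G) * ((i : E.L) : G)⁻¹) * l⁻¹⁻¹ = t * (l⁻¹ * z * l⁻¹⁻¹) * t⁻¹
    have et : l⁻¹ * ((i : E.L) : G) * l = t := by rw [← el]; group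
    calc l⁻¹ * ((i : E.L) * (z : G) * ((i : E.L) : G)⁻¹) * l⁻¹⁻¹
        = l⁻¹ * ((i : E.L) : G) * l * (l⁻¹ * z * l⁻¹⁻¹) * (l⁻¹ * ((i : E.L) : G) * l)⁻¹ := by group
      _ = _ := by rw [et]

/-- An element of `s A` normalising it. -/
theorem exists_out {P : Subgroup G} (hP : E.Is25 P) (ht : t ∈ normalizer (P : Set G)) :
    ∃ m, E.Out m ∧ m ∈ normalizer (P : Set G) := by
  obtain ⟨y, hy, hya⟩ := hP.exists_gen
  have hR : E.Is25 (P.map (MulAut.conj D.ii).toMonoidHom) := by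
    refine ⟨?_, by rw [Subgroup.card_map_of_injective (f := (MulAut.conj D.ii).toMonoidHom)
      (MulAut.conj D.ii).injective, hP.card]⟩
    rintro _ ⟨z, hz, rfl⟩
    exact E.T.fx.conj_L (hP.le hz)
  obtain ⟨l, hl, hmap⟩ := E.exists_conj_25 hP hR
  have hm0 : l * D.ii ∈ normalizer (P : Set G) := mem_normalizer_of_maps fun z hz => by
    have := hmap _ ⟨z, hz, rfl⟩
    simpa [mul_assoc] using this
  have out_of : ∀ {l : G}, l ∈ E.L → Commute (l * D.ii) t → E.Out (l * D.ii) := fun {l} hl hc => by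
    refine ⟨D.ii * l * D.ii⁻¹, ?_, ?_⟩
    · refine E.mem_A_of_cent (E.T.fx.conj_L hl) D.t_mem_A F.tG ?_
      rw [D.ii_inv, mul_assoc]
      exact (show Commute D.ii t from mul_inv_eq_iff_eq_mul.1 D.ii_t).mul_left hc
    · rw [D.ii_inv, ← mul_assoc, ← mul_assoc, D.ii_mul, one_mul]
  set t' := l * t * l⁻¹ with ht'
  have ht'L : t' ∈ E.L := mul_mem (mul_mem hl E.T.fx.tL) (inv_mem hl)
  have ht'2 : orderOf t' = 2 := (orderOf_conj_eq _ _).trans F.tG
  have ht'N : t' ∈ normalizer (P : Set G) := by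
    have e : t' = (l * D.ii) * t * (l * D.ii)⁻¹ := by
      rw [show (l * D.ii) * t * (l * D.ii)⁻¹ = l * (D.ii * t * D.ii⁻¹) * l⁻¹ by group, D.ii_t]
    rw [e]
    exact mul_mem (mul_mem hm0 ht) (inv_mem hm0)
  obtain ⟨k, hk, hkN, ek⟩ : ∃ k ∈ E.L, k ∈ normalizer (P : Set G) ∧ k * t * k⁻¹ = t' := by
    rcases E.T.fx.AI_L.commute_or_odd (s := (⟨t, E.T.fx.tL⟩ : E.T.fx.L)) (w := ⟨t', ht'L⟩)
      (by rw [Subgroup.orderOf_mk]; exact F.tG) (by rw [Subgroup.orderOf_mk]; exact ht'2) with h | h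
    · refine ⟨1, one_mem _, one_mem _, ?_⟩
      have hA : t' ∈ D.A := E.mem_A_of_cent ht'L D.t_mem_A F.tG (congrArg Subtype.val h.eq : Commute t t').symm
      by_contra hne
      have hne' : t' ≠ t := fun e => hne (by rw [e]; group)
      -- `t`, `t'` and `t t'` would all invert `y` modulo `a`
      obtain ⟨c, hc⟩ := E.inverts hP hy hya D.t_mem_A F.tG ht
      obtain ⟨c', hc'⟩ := E.inverts hP hy hya hA ht'2 ht'N
      have h2 : orderOf (t * t') = 2 := Invol.orderOf_two_iff.2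
        ⟨by rw [(D.comm hA D.t_mem_A).mul_mul_mul_comm, D.tt, sq_of_two ht'2, one_mul],
          fun e => hne' ((eq_inv_of_mul_eq_one_right e).trans (inv_eq_of_mul_eq_one_right D.tt))⟩
      obtain ⟨c'', hc''⟩ := E.inverts hP hy hya (mul_mem D.t_mem_A hA) h2 (mul_mem ht ht'N)
      have h3 : t * t' * y * (t * t')⁻¹ = y ^ (1 : ℤ) * E.a ^ (c' - c) := by
        rw [show t * t' * y * (t * t')⁻¹ = t * (t' * y * t'⁻¹) * t⁻¹ by group, hc', ← conj_mul, ← conj_zpow,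
          ← conj_zpow, hc, mul_inv_eq_iff_eq_mul.2 (D.comm D.t_mem_A E.a_mem).eq,
          ((hP.comm hy hP.a_mem).zpow_left (-1) |>.zpow_right c).mul_zpow, ← zpow_mul, ← zpow_mul, mul_assoc,
          ← zpow_add]
        norm_num
        rw [neg_add_eq_sub]
      have := hP.coord_unique hy hya (hc''.symm.trans h3)
      norm_num at this
    · rw [← Subgroup.orderOf_coe] at h
      obtain ⟨k, hk, e⟩ := Bender.Cor.exists_conj_of_odd F.tG ht'2 h
      exact ⟨k, Subgroup.zpowers_le.2 (mul_mem E.T.fx.tL ht'L) hk,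
        Subgroup.zpowers_le.2 (mul_mem ht ht'N) hk, e⟩
  refine ⟨k⁻¹ * l * D.ii, out_of (mul_mem (inv_mem hk) hl) (mul_inv_eq_iff_eq_mul.1 ?_), ?_⟩
  · rw [show k⁻¹ * l * D.ii * t * (k⁻¹ * l * D.ii)⁻¹ = k⁻¹ * (l * (D.ii * t * D.ii⁻¹) * l⁻¹) * k by group, D.ii_t,
      ← ht', ← ek]
    group
  · rw [mul_assoc]
    exact mul_mem (inv_mem hkN) hm0

/-- The element of order four. -/
theorem exists_pair : ∃ (P : Subgroup G) (x m : G) (r : ℕ), E.Is25 P ∧ (r = 2 ∨ r = 3) ∧ x ∈ P ∧ x ^ 5 = 1 ∧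
    x ∉ zpowers E.a ∧ E.Out m ∧ m * x * m⁻¹ = x ^ r := by
  obtain ⟨P, hP, ht⟩ := E.exists_norm_t
  obtain ⟨m0, hm0, hm0N⟩ := E.exists_out hP ht
  obtain ⟨y, hy, hya⟩ := hP.exists_gen
  obtain ⟨h, hh⟩ := E.k_odd
  set m := m0 ^ E.k with hmdef
  have hm : E.Out m := by
    rw [hmdef, hh, pow_succ', pow_mul, pow_two]
    exact hm0.mul (pow_mem hm0.sq_mem h)
  have hmN : m ∈ normalizer (P : Set G) := pow_mem hm0N _
  have hmm : (m * m) * (m * m) = 1 := by
    have h1 := E.expA _ hm0.sq_mem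
    rw [← pow_two, ← pow_mul] at h1
    rw [← pow_two, ← pow_two, hmdef, ← pow_mul, ← pow_mul, ← h1]
    congr 1
    ring
  have hea : ∀ j : ℤ, t * E.a ^ j * t⁻¹ = E.a ^ j := fun j =>
    mul_inv_eq_iff_eq_mul.2 ((D.comm D.t_mem_A E.a_mem).zpow_right j).eq
  obtain ⟨ct, hct⟩ := E.inverts hP hy hya D.t_mem_A F.tG ht
  obtain ⟨l, c, hlc⟩ := hP.exists_coord hy hya (maps_of_normalizer hmN hy)
  have hconj : ∀ i j : ℤ, m * (y ^ i * E.a ^ j) * m⁻¹ = y ^ (l * i) * E.a ^ (c * i + -j) := fun i j => by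
    rw [← conj_mul, ← conj_zpow, hlc, hm.conj_a_zpow,
      ((hP.comm hy hP.a_mem).zpow_left l |>.zpow_right c).mul_zpow, ← zpow_mul, ← zpow_mul, mul_assoc, ← zpow_add]
  have htwice : m * m * y * (m * m)⁻¹ = y ^ (l * l) * E.a ^ (c * l + -c) := by
    rw [show m * m * y * (m * m)⁻¹ = m * (m * y * m⁻¹) * m⁻¹ by group, hlc, hconj]
  have hp5 := Int.prime_iff_natAbs_prime.2 (by norm_num : Nat.Prime ((5 : ℤ).natAbs))
  by_cases hone : m * m = 1
  · exfalso
    rw [hone] at htwice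
    have h3 := hP.coord_unique hy hya (show y ^ (1 : ℤ) * E.a ^ (0 : ℤ) = y ^ (l * l) * E.a ^ (c * l + -c) by
      rw [← htwice]; group)
    obtain ⟨u, hu, huu, d, hd⟩ : ∃ u, E.Out u ∧ u * u = 1 ∧ ∃ d : ℤ, u * y * u⁻¹ = y ^ (1 : ℤ) * E.a ^ d := by
      rcases hp5.dvd_mul.1
          (show (5 : ℤ) ∣ (1 - l) * (1 + l) by rwa [show (1 - l) * (1 + l) = 1 - l * l by ring]) with h | h
      · obtain ⟨d, hd⟩ := hP.coord_change hy hya (show (5 : ℤ) ∣ l - 1 by omega) c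
        exact ⟨m, hm, hone, d, hlc.trans hd⟩
      · obtain ⟨d, hd⟩ := hP.coord_change hy hya (show (5 : ℤ) ∣ l * (-1) - 1 by omega) (c * (-1) + -ct)
        refine ⟨m * t, hm.mul D.t_mem_A, ?_, d, ?_⟩
        · have hmt : Commute t m := (mul_inv_eq_iff_eq_mul.1 hm.conj_t).symm
          rw [hmt.mul_mul_mul_comm, hone, D.tt, one_mul]
        · rw [show m * t * y * (m * t)⁻¹ = m * (t * y * t⁻¹) * m⁻¹ by group, hct, hconj, hd]
    have hux : u * (y * E.a ^ (3 * d)) * u⁻¹ = y * E.a ^ (3 * d) := by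
      rw [← conj_mul, hd, hu.conj_a_zpow, zpow_one, mul_assoc, ← zpow_add]
      exact congrArg _ (E.a_zpow_congr ⟨-d, by ring⟩)
    have hxP : y * E.a ^ (3 * d) ∈ P := mul_mem hy (Subgroup.zpow_mem _ hP.a_mem _)
    refine E.no_fix hu.conj_t hu.conj_w (hP.le hxP) (hP.pow25 hxP) (fun hA => hP.not_mem_A hy hya ?_) hux
    have := mul_mem hA (inv_mem (Subgroup.zpow_mem D.A E.a_mem (3 * d)))
    rwa [mul_inv_cancel_right] at this
  · have hmt : m * m = t := by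
      have hA := hm.sq_mem
      have ho : orderOf (m * m) = 2 := Invol.orderOf_two_iff.2 ⟨hmm, hone⟩
      have hfix : m * (m * m) * m⁻¹ = m * m := by group
      rcases D.invol_A hA ho with e | e | e
      · exact e
      · rw [e, hm.conj_w] at hfix
        exact absurd (mul_eq_right.1 hfix) (ne_one_of_orderOf_two F.tG)
      · rw [e, ← conj_mul, hm.conj_t, hm.conj_w, ← mul_assoc, D.tt, one_mul] at hfix
        exact absurd (right_eq_mul.1 hfix) (ne_one_of_orderOf_two F.tG)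
    rw [hmt] at htwice
    have h3 := hP.coord_unique hy hya (hct.symm.trans htwice)
    obtain ⟨r, hr, hr'⟩ : ∃ r : ℕ, (r = 2 ∨ r = 3) ∧ (5 : ℤ) ∣ l - r := by
      obtain ⟨q, r, hlr, h0, h5⟩ : ∃ q r : ℤ, l = 5 * q + r ∧ 0 ≤ r ∧ r < 5 :=
        ⟨l / 5, l % 5, (Int.mul_ediv_add_emod l 5).symm, Int.emod_nonneg _ (by norm_num), Int.emod_lt_of_pos _ (by norm_num)⟩
      have h4 : (5 : ℤ) ∣ 1 + r * r := by
        have h6 := dvd_sub h3.neg_right (dvd_mul_right (5 : ℤ) (5 * q * q + 2 * q * r))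
        rwa [show -(-1 - l * l) - 5 * (5 * q * q + 2 * q * r) = 1 + r * r by rw [hlr]; ring] at h6
      interval_cases r <;> norm_num at h4
      · exact ⟨2, Or.inl rfl, ⟨q, by rw [hlr]; norm_num⟩⟩
      · exact ⟨3, Or.inr rfl, ⟨q, by rw [hlr]; norm_num⟩⟩
    obtain ⟨c1, hc1⟩ := hP.coord_change hy hya hr' c
    have hmy : m * y * m⁻¹ = y ^ (r : ℤ) * E.a ^ c1 := hlc.trans hc1
    obtain ⟨i, hi⟩ := Subgroup.mem_zpowers_iff.1 (hP.pow_five_mem hy hya)
    have hy5 : y ^ 5 = 1 := by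
      have e1 : E.a ^ (-i) = E.a ^ (i * r) := by
        calc E.a ^ (-i) = m * E.a ^ i * m⁻¹ := (hm.conj_a_zpow i).symm
          _ = (m * y * m⁻¹) ^ 5 := by rw [hi, conj_pow]
          _ = (y ^ 5) ^ (r : ℤ) * (E.a ^ 5) ^ c1 := by
            rw [hmy, ((hP.comm hy hP.a_mem).zpow_left _ |>.zpow_right c1).mul_pow, zpow_pow_comm, zpow_pow_comm]
          _ = E.a ^ (i * r) := by rw [E.a_five, one_zpow, mul_one, ← hi, zpow_mul]
      have h5 : (5 : ℤ) ∣ i * (1 + r) := by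
        refine E.dvd_of_a_zpow ?_
        rw [show i * (1 + r) = i * r - -i by ring, zpow_sub, ← e1, mul_inv_cancel]
      have h6 : (5 : ℤ) ∣ i := by rcases hr with rfl | rfl <;> push_cast at h5 <;> omega
      rw [← hi, ← zpow_zero E.a]
      exact E.a_zpow_congr (by simpa using h6)
    obtain ⟨d, hd⟩ : ∃ d : ℤ, (5 : ℤ) ∣ c1 + -d - d * r := by
      rcases hr with rfl | rfl
      · exact ⟨2 * c1, ⟨-c1, by push_cast; ring⟩⟩
      · exact ⟨4 * c1, ⟨-3 * c1, by push_cast; ring⟩⟩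
    refine ⟨P, y * E.a ^ d, m, r, hP, hr, mul_mem hy (Subgroup.zpow_mem _ hP.a_mem d), ?_, fun hA => hya ?_, hm, ?_⟩
    · rw [((hP.comm hy hP.a_mem).zpow_right d).mul_pow, hy5, one_mul, ← zpow_natCast, ← zpow_mul, mul_comm, zpow_mul,
        zpow_natCast, E.a_five, one_zpow]
    · have := mul_mem hA (inv_mem (Subgroup.zpow_mem _ (mem_zpowers E.a) d))
      rwa [mul_inv_cancel_right] at this
    · rw [← conj_mul, hmy, hm.conj_a_zpow, mul_assoc, ← zpow_add, ((hP.comm hy hP.a_mem).zpow_right d).mul_pow,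
        zpow_natCast, ← zpow_natCast (E.a ^ d), ← zpow_mul]
      exact congrArg _ (E.a_zpow_congr hd)

end Exc

end Cfsg.Agent.Invol.BrauerL3
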