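import Cfsg.Agent.Lib.Invol.BrauerL3.Funs

/-!
# The images of the functions

Integral vectors with the given inner products: `1+a+b+c`, `1+b+i`, `1+a+e`, and in the wreathed case `1+a+x+y`,
`-x+y'+j`.  The output are the equations between degrees and values at the involution.
-/

set_option autoImplicit false

open scoped Classical

namespace Cfsg.Agent.Invol.BrauerL3

universe u

variable {ι : Type u} [Fintype ι]

/-- The functional of the equation. -/
noncomputable def evalE (deg val : ι → ℤ) (v : ι → ℤ) : ℚ :=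
  ∑ χ, (v χ : ℚ) * (val χ : ℚ) ^ 2 / (deg χ : ℚ)

/-- Integral vectors with the properties of the induced functions. -/
structure Vecs (ι : Type u) [Fintype ι] {k : ℕ} (gram : Fin k → Fin k → ℤ) (tr tv : Fin k → ℤ)
    (pr : Fin k → ℚ) where
  /-- degrees -/
  deg : ι → ℤ
  /-- values at the involution -/
  val : ι → ℤ
  /-- the trivial character -/
  o : ι
  deg_pos : ∀ χ, 0 < deg χ
  deg_o : deg o = 1
  val_o : val o = 1
  linear : ∀ χ, deg χ = 1 → χ = o
  /-- the vectors -/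
  v : Fin k → ι → ℤ
  gram_eq : ∀ i j, ∑ χ, v i χ * v j χ = gram i j
  v_o : ∀ i, v i o = tr i
  deg_sum : ∀ i, ∑ χ, v i χ * deg χ = 0
  val_sum : ∀ i, ∑ χ, v i χ * val χ = tv i
  /-- the factor `c² N / g` -/
  R : ℚ
  R_ne : R ≠ 0
  eq : ∀ i, evalE deg val (v i) = R * pr i

/-! ### Signed elements -/

/-- A signed element as a vector. -/
noncomputable def sv (x : ι × ℤ) : ι → ℤ := fun χ => if χ = x.1 then x.2 else 0

/-- A signed element. -/
def IsSigned (x : ι × ℤ) : Prop := x.2 = 1 ∨ x.2 = -1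

theorem sum_sv_mul (x : ι × ℤ) (f : ι → ℤ) : ∑ χ, sv x χ * f χ = x.2 * f x.1 := by
  simp [sv, ite_mul]

theorem evalE_add (deg val v w : ι → ℤ) : evalE deg val (v + w) = evalE deg val v + evalE deg val w := by
  simp only [evalE, Pi.add_apply, Int.cast_add, add_mul, add_div, Finset.sum_add_distrib]

theorem evalE_sv (deg val : ι → ℤ) {x : ι × ℤ} (hx : IsSigned x) :
    evalE deg val (sv x) = ((x.2 * val x.1 : ℤ) : ℚ) ^ 2 / ((x.2 * deg x.1 : ℤ) : ℚ) := by
  rw [evalE, Finset.sum_eq_single x.1 (fun χ _ h => by simp [sv, h]) (fun h => absurd (Finset.mem_univ _) h)]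
  rcases hx with h | h <;> simp [sv, h] <;> ring

/-- A vector with norm two. -/
theorem norm_two {v : ι → ℤ} (h : ∑ χ, v χ * v χ = 2) :
    ∃ x y : ι × ℤ, IsSigned x ∧ IsSigned y ∧ x.1 ≠ y.1 ∧ v = sv x + sv y := by
  obtain ⟨x, hx⟩ : ∃ x, v x ≠ 0 := by
    by_contra hno
    push Not at hno
    simp [hno] at h
  have hsq : ∀ z, v z * v z ≤ 2 := fun z => h ▸ Finset.single_le_sum (f := fun χ => v χ * v χ)
    (fun χ _ => mul_self_nonneg _) (Finset.mem_univ z)
  have h1 : ∀ z, v z ≠ 0 → v z = 1 ∨ v z = -1 := fun z hz => by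
    have h3 := hsq z
    have : -1 ≤ v z ∧ v z ≤ 1 := ⟨by nlinarith, by nlinarith⟩
    omega
  have hxx : v x * v x = 1 := by rcases h1 x hx with e | e <;> rw [e] <;> rfl
  have hr : ∑ χ ∈ Finset.univ.erase x, v χ * v χ = 1 := by
    have := Finset.add_sum_erase Finset.univ (fun χ => v χ * v χ) (Finset.mem_univ x)
    omega
  obtain ⟨y, hy, hy0⟩ : ∃ y ∈ Finset.univ.erase x, v y ≠ 0 := by
    by_contra hno
    push Not at hno
    rw [Finset.sum_eq_zero fun z hz => by rw [hno z hz, mul_zero]] at hr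
    exact zero_ne_one hr
  have hyy : v y * v y = 1 := by rcases h1 y hy0 with e | e <;> rw [e] <;> rfl
  have hz : ∀ z, z ≠ x → z ≠ y → v z = 0 := fun z hzx hzy => by
    have := Finset.add_sum_erase (Finset.univ.erase x) (fun χ => v χ * v χ) hy
    have hle := Finset.single_le_sum (f := fun χ => v χ * v χ) (s := (Finset.univ.erase x).erase y)
      (fun χ _ => mul_self_nonneg _) (a := z) (by simp [hzx, hzy])
    exact mul_self_eq_zero.1 (le_antisymm (by omega) (mul_self_nonneg _))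
  refine ⟨(x, v x), (y, v y), h1 x hx, h1 y hy0, (Finset.ne_of_mem_erase hy).symm, ?_⟩
  funext z
  simp only [Pi.add_apply, sv]
  by_cases hzx : z = x
  · subst hzx; simp [(Finset.ne_of_mem_erase hy).symm]
  · by_cases hzy : z = y
    · subst hzy; simp [hzx]
    · simp [hzx, hzy, hz z hzx hzy]

/-- A vector with norm three and a given support element. -/
theorem norm_three {v : ι → ℤ} (h : ∑ χ, v χ * v χ = 3) {x : ι × ℤ} (hx : IsSigned x) (hv : v x.1 = x.2) :
    ∃ y z : ι × ℤ, IsSigned y ∧ IsSigned z ∧ y.1 ≠ z.1 ∧ x.1 ≠ y.1 ∧ x.1 ≠ z.1 ∧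
      v = sv x + sv y + sv z := by
  have hxx : x.2 * x.2 = 1 := by rcases hx with e | e <;> rw [e] <;> rfl
  have hw : ∑ χ, (v - sv x) χ * (v - sv x) χ = 2 := by
    have e : ∀ χ, (v - sv x) χ * (v - sv x) χ = v χ * v χ - sv x χ * v χ := fun χ => by
      simp only [Pi.sub_apply, sv]
      split_ifs with hχ
      · rw [hχ, hv]; ring
      · ring
    rw [Finset.sum_congr rfl fun χ _ => e χ, Finset.sum_sub_distrib, h, sum_sv_mul, hv, hxx]; rfl
  obtain ⟨y, z, hy, hz, hyz, e⟩ := norm_two hw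
  have h0 : (v - sv x) x.1 = 0 := by simp [sv, hv]
  rw [e] at h0
  have hne : ∀ {y z : ι × ℤ}, IsSigned y → y.1 ≠ z.1 → (sv y + sv z) x.1 = 0 → x.1 ≠ y.1 :=
    fun {y z} hy hyz h0 exy => by
      rw [Pi.add_apply, exy, sv, sv, if_pos rfl, if_neg hyz, add_zero] at h0
      rcases hy with e | e <;> omega
  refine ⟨y, z, hy, hz, hyz, hne hy hyz h0, hne hz hyz.symm (by rw [add_comm]; exact h0), ?_⟩
  rw [add_assoc, ← e]; abel

namespace Vecs

variable {k : ℕ} {gram : Fin k → Fin k → ℤ} {tr tv : Fin k → ℤ} {pr : Fin k → ℚ}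
  (V : Vecs ι gram tr tv pr)

/-- The signed degree. -/
def dg (x : ι × ℤ) : ℤ := x.2 * V.deg x.1

/-- The signed value. -/
def vl (x : ι × ℤ) : ℤ := x.2 * V.val x.1

/-- The vector without the trivial character. -/
noncomputable def w (i : Fin k) : ι → ℤ := fun χ => if χ = V.o then 0 else V.v i χ

theorem w_o (i : Fin k) : V.w i V.o = 0 := if_pos rfl

theorem v_eq (i : Fin k) : V.v i = sv (V.o, tr i) + V.w i := by
  funext χ
  simp only [Pi.add_apply, sv, w]
  split_ifs with h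
  · rw [h, V.v_o, add_zero]
  · rw [zero_add]

theorem inner_w (i j : Fin k) : ∑ χ, V.w i χ * V.w j χ = gram i j - tr i * tr j := by
  have h := V.gram_eq i j
  have e : ∀ χ, V.v i χ * V.v j χ = sv (V.o, tr i * tr j) χ * 1 + V.w i χ * V.w j χ := fun χ => by
    simp only [sv, w]
    split_ifs with hχ
    · rw [hχ, V.v_o, V.v_o]; ring
    · ring
  rw [Finset.sum_congr rfl fun χ _ => e χ, Finset.sum_add_distrib, sum_sv_mul] at h
  linarith

theorem ne_o {i : Fin k} {x : ι} (h : V.w i x ≠ 0) : x ≠ V.o := fun e => h (e ▸ V.w_o i)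

theorem two_le {x : ι} (hx : x ≠ V.o) : 2 ≤ V.deg x := by
  have h1 := V.deg_pos x
  have h2 : V.deg x ≠ 1 := fun e => hx (V.linear x e)
  omega

theorem dg_ne {x : ι × ℤ} (hs : IsSigned x) (hx : x.1 ≠ V.o) : V.dg x ≠ 0 ∧ V.dg x ≠ 1 ∧ V.dg x ≠ -1 := by
  have := V.two_le hx
  rcases hs with h | h <;> simp only [dg, h] <;> omega

theorem deg_w (i : Fin k) : ∑ χ, V.w i χ * V.deg χ = -tr i := by
  have h := V.deg_sum i
  rw [V.v_eq i] at h
  simp only [Pi.add_apply, add_mul, Finset.sum_add_distrib, sum_sv_mul, V.deg_o] at h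
  linarith

theorem val_w (i : Fin k) : ∑ χ, V.w i χ * V.val χ = tv i - tr i := by
  have h := V.val_sum i
  rw [V.v_eq i] at h
  simp only [Pi.add_apply, add_mul, Finset.sum_add_distrib, sum_sv_mul, V.val_o] at h
  linarith

theorem eq_w (i : Fin k) : (tr i : ℚ) + evalE V.deg V.val (V.w i) = V.R * pr i := by
  have h := V.eq i
  rw [V.v_eq i, evalE_add] at h
  have e : evalE V.deg V.val (sv (V.o, tr i)) = (tr i : ℚ) := by
    rw [evalE, Finset.sum_eq_single V.o (fun χ _ h => by simp [sv, h]) (fun h => absurd (Finset.mem_univ _) h)]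
    simp [sv, V.deg_o, V.val_o]
  rwa [e] at h

theorem sum_two {i : Fin k} {x y : ι × ℤ} (hx : IsSigned x) (hy : IsSigned y) (e : V.w i = sv x + sv y) :
    V.dg x + V.dg y = -tr i ∧ V.vl x + V.vl y = tv i - tr i ∧
      (tr i : ℚ) + (V.vl x : ℚ) ^ 2 / (V.dg x : ℚ) + (V.vl y : ℚ) ^ 2 / (V.dg y : ℚ) = V.R * pr i := by
  have h1 := V.deg_w i
  have h2 := V.val_w i
  have h3 := V.eq_w i
  rw [e] at h1 h2 h3
  simp only [Pi.add_apply, add_mul, Finset.sum_add_distrib, sum_sv_mul] at h1 h2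
  rw [evalE_add, evalE_sv _ _ hx, evalE_sv _ _ hy, ← add_assoc] at h3
  exact ⟨h1, h2, h3⟩

theorem sum_three {i : Fin k} {x y z : ι × ℤ} (hx : IsSigned x) (hy : IsSigned y) (hz : IsSigned z)
    (e : V.w i = sv x + sv y + sv z) :
    V.dg x + V.dg y + V.dg z = -tr i ∧ V.vl x + V.vl y + V.vl z = tv i - tr i ∧
      (tr i : ℚ) + (V.vl x : ℚ) ^ 2 / (V.dg x : ℚ) + (V.vl y : ℚ) ^ 2 / (V.dg y : ℚ) +
        (V.vl z : ℚ) ^ 2 / (V.dg z : ℚ) = V.R * pr i := by
  have h1 := V.deg_w i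
  have h2 := V.val_w i
  have h3 := V.eq_w i
  rw [e] at h1 h2 h3
  simp only [Pi.add_apply, add_mul, Finset.sum_add_distrib, sum_sv_mul] at h1 h2
  rw [evalE_add, evalE_add, evalE_sv _ _ hx, evalE_sv _ _ hy, evalE_sv _ _ hz, ← add_assoc, ← add_assoc] at h3
  exact ⟨h1, h2, h3⟩

end Vecs

end Cfsg.Agent.Invol.BrauerL3
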