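import Cfsg.Agent.Lib.Invol.BrauerL3.LinearSingle

/-!
# Brauer's theorem: the commutator of the two partners

`comm_mem`: if root groups at `w` and at `tw` both commute with `X`, their commutators lie in `X`.
-/

set_option autoImplicit false
set_option linter.unusedSectionVars false
set_option linter.style.haveILetI false

namespace Cfsg.Agent.Invol.BrauerL3.Lin

open Subgroup
open scoped commutatorElement Pointwise

universe u v

variable {G : Type u} [Group G] {F : Type v} [Field F] [Fintype F]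

namespace Sys

variable (S : Sys G F)

noncomputable section

theorem wA : S.w ∈ S.A := S.mem_A.2 ⟨S.tw_comm.symm, Commute.refl _⟩

theorem tA : S.t ∈ S.A := S.mem_A.2 ⟨Commute.refl _, S.tw_comm⟩

variable [Finite G] {p : ℕ} [Fact p.Prime] [CharP F p]

/-- In a product of `X` and a root group inverted by `u`, only `1` commutes with `u`, if `u` inverts `X`. -/
theorem pair_fixed {g u : G} (hP : S.P g) (hue : ∀ x, u * S.e x * u⁻¹ = S.e (-x))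
    (hug : ∀ x, u * S.rt g x * u⁻¹ = S.rt g (-x)) {k : G} {z : F} (hku : Commute (S.rt k z) u)
    (hmem : S.rt k z ∈ S.pair hP) : z = 0 := by
  obtain ⟨a, b, h⟩ := (S.mem_pair hP).1 hmem
  have h1 : (S.rt k z)⁻¹ = S.rt k z := by
    calc (S.rt k z)⁻¹ = u * S.e a * u⁻¹ * (u * S.rt g b * u⁻¹) := by
          rw [hue, hug, h, mul_inv_rev, S.e_neg, S.rt_neg, ((hP a b).inv_left.inv_right).eq]
      _ = u * S.rt k z * u⁻¹ := by rw [h]; group
      _ = _ := by rw [← hku.eq, mul_inv_cancel_right]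
  rw [← S.rt_neg] at h1
  have h2 : S.rt k (z + z) = 1 := by
    rw [S.rt_add]; nth_rw 1 [← h1]; rw [← S.rt_add, neg_add_cancel, S.rt_zero]
  have h3 : (2 : F) * z = 0 := by linear_combination (S.rt_eq_one.1 h2)
  exact (mul_eq_zero.1 h3).resolve_left S.two_ne

include p in
theorem comm_mem (hP₀ : S.P S.h₀) (hP₁ : S.P S.h₁) (a b : F) :
    ∃ c, ⁅S.rt S.h₀ a, S.rt S.h₁ b⁆ = S.e c := by
  classical
  obtain ⟨W, hWo, hW, hWd⟩ := S.exists_W
  haveI hKK : IsKleinFour ↥(S.U) := JankoWard.fourSub_klein S.t1 S.w1 S.w_ne.symm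
  haveI : IsMulCommutative ↥(S.U) := IsKleinFour.isMulCommutative
  have hUA : S.U ≤ S.A := by
    intro y hy
    rcases hy with e | e | e | e <;> rw [e]
    exacts [one_mem _, S.tA, S.wA, mul_mem S.tA S.wA]
  have hcop : ∀ Q : Subgroup G, Odd (Nat.card Q) → (Nat.card S.U).Coprime (Nat.card Q) := fun Q hQ => by
    rw [IsKleinFour.card_four, show (4 : ℕ) = 2 ^ 2 by norm_num]; exact (Nat.coprime_two_left.2 hQ).pow_left 2
  have hUW : S.U ≤ normalizer (W : Set G) := fun g hg => mem_normalizer_fintype fun v hv =>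
    S.W_conj hWo hW hWd (fun y hy => S.A_conj_X (hUA hg) hy) hv
  have heW : ∀ x, S.e x ∈ W := fun x => (hW _).2 ⟨S.mem_CX.2 fun y => S.e_comm x y,
    (S.p_odd (p := p)).of_dvd_nat (orderOf_dvd_of_pow_eq_one (by rw [S.pow_e, CharP.cast_eq_zero, zero_mul, S.e_zero]))⟩
  have hpairW : ∀ {g : G} (hP : S.P g), S.pair hP ≤ W := fun {g} hP y hy => by
    obtain ⟨x, z, rfl⟩ := (S.mem_pair hP).1 hy
    exact mul_mem (heW x) (S.rt_mem_W hWo hW hWd hP z)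
  have hsolv : Group.IsSolvable ↥(S.U) ∨ Group.IsSolvable ↥W := Or.inl (Group.isSolvable_of_comm mul_comm')
  obtain ⟨Q₀, hQ₀, hUQ₀, hEQ₀⟩ := Grp.exists_invariant_sylow_ge S.U W hUW (hcop _ hWo) hsolv (hpairW hP₀)
    (S.pair_pgroup (p := p) hP₀) (hUA.trans (S.A_normalizes_pair S.good_h₀ hP₀))
  obtain ⟨Q, hQ, hUQ, hEQ⟩ := Grp.exists_invariant_sylow_ge S.U W hUW (hcop _ hWo) hsolv (hpairW hP₁)
    (S.pair_pgroup (p := p) hP₁) (hUA.trans (S.A_normalizes_pair S.good_h₁ hP₁))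
  obtain ⟨c, hc, hcQ⟩ := Grp.invariant_sylow_conj S.U W hUW (hcop _ hWo) hsolv hQ₀ hQ hUQ₀ hUQ
  have hcA : c ∈ S.A := S.mem_A.2
    ⟨(mem_centralizer_iff.1 hc.2 S.t (Or.inr (Or.inl rfl))).symm,
      (mem_centralizer_iff.1 hc.2 S.w (Or.inr (Or.inr (Or.inl rfl)))).symm⟩
  have hR₀Q : ∀ x, S.rt S.h₀ x ∈ Q := fun x => by
    obtain ⟨d, hd0, hd⟩ := S.A_conj_rt S.good_h₀ hcA
    have h1 : c * S.rt S.h₀ (x / d) * c⁻¹ ∈ MulAut.conj c • Q₀ := ⟨_, hEQ₀ (S.pair_rt hP₀ _), rfl⟩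
    rwa [hcQ, hd, mul_div_cancel₀ x hd0] at h1
  have hR₁Q : ∀ x, S.rt S.h₁ x ∈ Q := fun x => hEQ (S.pair_rt hP₁ x)
  have hXQ : ∀ x, S.e x ∈ Q := fun x => hEQ (S.pair_e hP₁ x)
  -- `p`-elements of `Q` at the involutions
  have hpow : ∀ y ∈ Q, ∃ j, y ^ p ^ j = 1 := fun y hy => by
    obtain ⟨j, hj⟩ := hQ.2.1 ⟨y, hy⟩
    exact ⟨j, congrArg Subtype.val hj⟩
  have hparts : ∀ y ∈ Q, (Commute y S.t → y ∈ S.X) ∧ (Commute y S.w → ∃ x, y = S.rt S.h₀ x) ∧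
      (Commute y (S.t * S.w) → ∃ x, y = S.rt S.h₁ x) := by
    intro y hy
    obtain ⟨j, hj⟩ := hpow y hy
    have hyW := hQ.1 hy
    refine ⟨fun hyt => ?_, fun hyw => ?_, fun hyv => ?_⟩
    · obtain ⟨d, z, rfl⟩ := S.cent_e hyt one_ne_zero (S.mem_CX.1 ((hW y).1 hyW).1 1)
      exact S.borel_pelem (p := p) (S.dg_mem d d) hj
    · obtain ⟨ho, hc', hn⟩ := S.W_part hWo hW hWd (g := S.h₀) (Or.inr (Or.inl S.moves_h₀.1))
      exact S.pelem_root S.good_h₀ ho hc' hn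
        (fun x => ⟨S.rt_mem_W hWo hW hWd hP₀ x, mem_centralizer_singleton_iff.2 (cconj S.h₀ (S.e_t x)).eq⟩)
        ⟨hyW, mem_centralizer_singleton_iff.2 (S.moves_h₀.1.symm ▸ hyw).eq⟩ hj
    · obtain ⟨ho, hc', hn⟩ := S.W_part hWo hW hWd (g := S.h₁) (Or.inr (Or.inr S.moves_h₁.1))
      exact S.pelem_root S.good_h₁ ho hc' hn
        (fun x => ⟨S.rt_mem_W hWo hW hWd hP₁ x, mem_centralizer_singleton_iff.2 (cconj S.h₁ (S.e_t x)).eq⟩)
        ⟨hyW, mem_centralizer_singleton_iff.2 (S.moves_h₁.1.symm ▸ hyv).eq⟩ hj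
  -- one partner normalises the product of `X` and the other
  have hnorm : ∀ (g k : G) (hP : S.P g) (u : G), S.Good g → S.Good k → (∀ x, S.rt g x ∈ Q) → (∀ x, S.rt k x ∈ Q) →
      (∀ x, u * S.e x * u⁻¹ = S.e (-x)) → (∀ x, u * S.rt g x * u⁻¹ = S.rt g (-x)) → (∀ x, Commute (S.rt k x) u) →
      (∀ y ∈ Q, ∀ z ∈ S.U, z ≠ 1 → Commute y z → y ∈ S.pair hP ∨ ∃ x, y = S.rt k x) →
      ∀ x, S.rt k x ∈ normalizer (S.pair hP : Set G) := by
    intro g k hP u hg hk hgQ hkQ hue hug hku hdec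
    set E := S.pair hP with hE
    have hEQ' : E ≤ Q := fun y hy => by
      obtain ⟨x, z, rfl⟩ := (S.mem_pair hP).1 hy
      exact mul_mem (hXQ x) (hgQ z)
    set M := Q ⊓ normalizer (E : Set G) with hM
    haveI : Group.IsNilpotent ↥Q := hQ.2.1.isNilpotent
    have hne : E.subgroupOf Q < ⊤ := lt_top_iff_ne_top.2 fun e => by
      have h1 := S.pair_fixed hP hue hug (hku 1) (subgroupOf_eq_top.1 e (hkQ 1))
      exact one_ne_zero h1
    obtain ⟨⟨y, hyQ⟩, hyN, hyE⟩ := SetLike.exists_of_lt (Group.normalizerCondition_of_isNilpotent _ hne)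
    have hyM : y ∈ M := ⟨hyQ, mem_normalizer_fintype fun z hz => (mem_normalizer_iff.1 hyN ⟨z, hEQ' hz⟩).1 hz⟩
    have hUM : S.U ≤ normalizer (M : Set G) := fun z hz => mem_normalizer_fintype fun m hm => by
      have hzE : z ∈ normalizer (E : Set G) := S.A_normalizes_pair hg hP (hUA hz)
      exact ⟨(mem_normalizer_iff.1 (hUQ hz) m).1 hm.1,
        Subgroup.mul_mem _ (Subgroup.mul_mem _ hzE hm.2) (Subgroup.inv_mem _ hzE)⟩
    obtain ⟨x₀, hx₀, hx₀M⟩ : ∃ x ≠ 0, S.rt k x ∈ M := by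
      by_contra hno
      push Not at hno
      refine hyE ?_
      have hle : M ≤ E := by
        rw [← Grp.generated_by_centralizers S.U M IsKleinFour.not_isCyclic hUM
          (hcop _ (hWo.of_dvd_nat (card_dvd_of_le (inf_le_left.trans hQ.1))))]
        refine iSup₂_le fun z hz m hm => ?_
        rcases hdec m hm.1.1 z hz.1 hz.2 (mem_centralizer_singleton_iff.1 hm.2) with h | ⟨x, rfl⟩
        · exact h
        · by_cases hx : x = 0
          · rw [hx, S.rt_zero]; exact one_mem _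
          · exact absurd hm.1 (hno x hx)
      exact hle hyM
    intro x
    exact S.root_le hk (Y := normalizer (E : Set G))
      (fun a ha m hm => mul_mem (mul_mem (S.A_normalizes_pair hg hP ha) hm) (inv_mem (S.A_normalizes_pair hg hP ha)))
      hx₀ hx₀M.2 x
  have hdec : ∀ y ∈ Q, ∀ z ∈ S.U, z ≠ 1 → Commute y z →
      y ∈ S.X ∨ (∃ x, y = S.rt S.h₀ x) ∨ ∃ x, y = S.rt S.h₁ x := by
    intro y hy z hz hz1 hyz
    obtain ⟨p1, p2, p3⟩ := hparts y hy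
    rcases hz with e | e | e | e <;> rw [e] at hyz
    exacts [absurd e hz1, Or.inl (p1 hyz), Or.inr (Or.inl (p2 hyz)), Or.inr (Or.inr (p3 hyz))]
  have hwe : ∀ x, S.w * S.e x * S.w⁻¹ = S.e (-x) := S.w_e
  have hw₁ : ∀ x, S.w * S.rt S.h₁ x * S.w⁻¹ = S.rt S.h₁ (-x) := S.moves_h₁.inverts S
  have hve : ∀ x, S.t * S.w * S.e x * (S.t * S.w)⁻¹ = S.e (-x) := fun x => by
    rw [show S.t * S.w * S.e x * (S.t * S.w)⁻¹ = S.t * (S.w * S.e x * S.w⁻¹) * S.t⁻¹ by group, S.w_e,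
      (S.e_t _).symm.eq, mul_inv_cancel_right]
  have hv₀ : ∀ x, S.t * S.w * S.rt S.h₀ x * (S.t * S.w)⁻¹ = S.rt S.h₀ (-x) := fun x => by
    have h := S.moves_h₀.inverts' S x
    rwa [S.tw_comm.symm.eq] at h
  have hk₁ := hnorm S.h₁ S.h₀ hP₁ S.w S.good_h₁ S.good_h₀ hR₁Q hR₀Q hwe hw₁ (S.moves_h₀.fix S) fun y hy z hz hz1 hyz => by
    rcases hdec y hy z hz hz1 hyz with ⟨x, rfl⟩ | h | ⟨x, rfl⟩
    exacts [Or.inl (S.pair_e hP₁ x), Or.inr h, Or.inl (S.pair_rt hP₁ x)]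
  have hk₀ := hnorm S.h₀ S.h₁ hP₀ (S.t * S.w) S.good_h₀ S.good_h₁ hR₀Q hR₁Q hve hv₀ (S.moves_h₁.fix S)
    fun y hy z hz hz1 hyz => by
    rcases hdec y hy z hz hz1 hyz with ⟨x, rfl⟩ | ⟨x, rfl⟩ | h
    exacts [Or.inl (S.pair_e hP₀ x), Or.inl (S.pair_rt hP₀ x), Or.inr h]
  have h1 : ⁅S.rt S.h₀ a, S.rt S.h₁ b⁆ ∈ S.pair hP₁ := by
    rw [commutatorElement_def]
    exact mul_mem ((mem_normalizer_iff.1 (hk₁ a) _).1 (S.pair_rt hP₁ b)) (inv_mem (S.pair_rt hP₁ b))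
  have h0 : ⁅S.rt S.h₀ a, S.rt S.h₁ b⁆ ∈ S.pair hP₀ := by
    rw [commutatorElement_def, show S.rt S.h₀ a * S.rt S.h₁ b * (S.rt S.h₀ a)⁻¹ * (S.rt S.h₁ b)⁻¹ =
      S.rt S.h₀ a * (S.rt S.h₁ b * (S.rt S.h₀ a)⁻¹ * (S.rt S.h₁ b)⁻¹) by group]
    exact mul_mem (S.pair_rt hP₀ a) ((mem_normalizer_iff.1 (hk₀ b) _).1 (inv_mem (S.pair_rt hP₀ a)))
  obtain ⟨c₀, d₀, h0⟩ := (S.mem_pair hP₀).1 h0
  rw [h0] at h1
  have h2 : S.rt S.h₀ d₀ ∈ S.pair hP₁ := by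
    have := mul_mem (inv_mem (S.pair_e hP₁ c₀)) h1
    rwa [inv_mul_cancel_left] at this
  rw [S.pair_fixed hP₁ hwe hw₁ (S.moves_h₀.fix S d₀) h2, S.rt_zero, mul_one] at h0
  exact ⟨c₀, h0⟩

end

end Sys

end Cfsg.Agent.Invol.BrauerL3.Lin
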