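import Cfsg.Agent.Lib.Invol.BrauerL3.LinearComm

/-!
# Brauer's theorem: no triangle

`no_triangle`: in the order of `PSL(3, q)` the three commuting root groups would form an abelian Sylow subgroup with more
opposite conjugates than its index allows.
-/

set_option autoImplicit false
set_option linter.unusedSectionVars false
set_option linter.style.haveILetI false

namespace Cfsg.Agent.Invol.BrauerL3.Lin

open Subgroup
open scoped Pointwise

universe u v

variable {G : Type u} [Group G] {F : Type v} [Field F] [Fintype F]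

namespace Sys

variable (S : Sys G F)

noncomputable section

theorem card_A : Nat.card S.A * Nat.card S.μ.ker = (Fintype.card F - 1) ^ 2 := by
  classical
  have h1 := (S.μ.comp (dgHom (F := F))).ker.card_eq_card_quotient_mul_card_subgroup
  rw [Nat.card_congr (QuotientGroup.quotientKerEquivRange _).toEquiv, Nat.card_prod, Nat.card_units,
    Nat.card_eq_fintype_card (α := F), ← pow_two] at h1
  have h2 : Nat.card (S.μ.comp (dgHom (F := F))).ker = Nat.card S.μ.ker := by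
    refine Nat.card_congr (Equiv.ofBijective (fun z => (⟨dgHom z.1, z.2⟩ : S.μ.ker)) ⟨?_, ?_⟩)
    · intro a b h
      exact Subtype.ext (dgHom_injective (congrArg Subtype.val h))
    · rintro ⟨z, hz⟩
      obtain ⟨a, rfl, -⟩ := S.ker_scalar hz
      exact ⟨⟨(a, a), hz⟩, rfl⟩
  rw [h1, h2]; rfl

theorem card_C : Nat.card ↥(centralizer ({S.t} : Set G)) * Nat.card S.μ.ker =
    (Fintype.card F ^ 2 - 1) * (Fintype.card F ^ 2 - Fintype.card F) := by
  have h1 := S.μ.ker.card_eq_card_quotient_mul_card_subgroup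
  rw [Nat.card_congr (QuotientGroup.quotientKerEquivRange _).toEquiv,
    show S.μ.range = centralizer ({S.t} : Set G) from le_antisymm
      (by rintro _ ⟨g, rfl⟩; exact mem_centralizer_singleton_iff.2 (S.commute_μ_t g).eq)
      fun x hx => S.onto x (mem_centralizer_singleton_iff.1 hx), Matrix.card_GL_field, Fin.prod_univ_two] at h1
  rw [← h1]
  simp

theorem card_C_A : Nat.card ↥(centralizer ({S.t} : Set G)) =
    Nat.card S.A * (Fintype.card F * (Fintype.card F + 1)) := by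
  have hk : 0 < Nat.card S.μ.ker :=
    S.ker_odd.pos
  refine Nat.eq_of_mul_eq_mul_right hk ?_
  rw [S.card_C, mul_right_comm, S.card_A]
  obtain ⟨r, hr⟩ : ∃ r, Fintype.card F = r + 1 := ⟨Fintype.card F - 1, by have := Fintype.card_pos (α := F); omega⟩
  rw [hr, show (r + 1) ^ 2 - 1 = r * (r + 2) from Nat.sub_eq_of_eq_add (by ring),
    show (r + 1) ^ 2 - (r + 1) = r * (r + 1) from Nat.sub_eq_of_eq_add (by ring), Nat.add_sub_cancel]
  ring

theorem A_coprime {p : ℕ} [Fact p.Prime] [CharP F p] : ¬ p ∣ Nat.card S.A := fun h => by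
  have h1 := h.trans (Dvd.intro _ S.card_A)
  obtain ⟨m, -, hm⟩ := FiniteField.card F p
  have h2 : p ∣ Fintype.card F - 1 := (Fact.out : p.Prime).dvd_of_dvd_pow h1
  have h3 : p ∣ Fintype.card F := hm ▸ dvd_pow_self p m.ne_zero
  have h4 := Nat.dvd_sub h3 h2
  rw [Nat.sub_sub_self Fintype.card_pos] at h4
  exact (Fact.out : p.Prime).one_lt.ne' (Nat.dvd_one.1 h4)

theorem three_le_card (S : Sys G F) : 3 ≤ Fintype.card F := by
  have h1 := Fintype.one_lt_card (α := F)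
  obtain ⟨k, hk⟩ := S.hq
  omega

variable [Finite G] {p : ℕ} [Fact p.Prime] [CharP F p]

include p in
theorem no_triangle
    (hord : Nat.card G = Nat.card ↥(centralizer ({S.t} : Set G)) *
      (Fintype.card F ^ 2 * (Fintype.card F ^ 2 + Fintype.card F + 1))) : ¬ S.P S.r₀ := by
  intro hP
  classical
  set P₀ := (S.triHom hP).range with hP₀
  have hcP : Nat.card P₀ = Fintype.card F ^ 3 := S.card_tri hP
  have hmem : ∀ {y}, y ∈ P₀ ↔ ∃ x a b, S.triHom hP (Multiplicative.ofAdd (x, a, b)) = y := fun {y} =>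
    ⟨fun ⟨v, hv⟩ => ⟨_, _, _, hv⟩, fun ⟨x, a, b, h⟩ => ⟨_, h⟩⟩
  have hme : ∀ x, S.e x ∈ P₀ := fun x => hmem.2 ⟨x, 0, 0, by rw [S.triHom_apply, S.rt_zero, S.rt_zero, mul_one, mul_one]⟩
  have hm₀ : ∀ x, S.rt S.r₀ x ∈ P₀ := fun x => hmem.2 ⟨0, x, 0, by rw [S.triHom_apply, S.e_zero, S.rt_zero, mul_one, one_mul]⟩
  have hm₁ : ∀ x, S.rt S.r₁ x ∈ P₀ := fun x => hmem.2 ⟨0, 0, x, by rw [S.triHom_apply, S.e_zero, S.rt_zero, one_mul, one_mul]⟩
  have hAn : S.A ≤ normalizer (P₀ : Set G) := fun a ha => mem_normalizer_fintype fun y hy => by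
    obtain ⟨x, c, d, rfl⟩ := hmem.1 hy
    obtain ⟨l₀, -, h₀⟩ := S.A_scale ha
    obtain ⟨l₁, -, h₁⟩ := S.A_conj_rt S.good_r₀ ha
    obtain ⟨l₂, -, h₂⟩ := S.A_conj_rt S.good_r₁ ha
    refine hmem.2 ⟨l₀ * x, l₁ * c, l₂ * d, ?_⟩
    rw [S.triHom_apply, S.triHom_apply, ← h₀, ← h₁, ← h₂]; group
  have hinf : S.A ⊓ P₀ = ⊥ := by
    rw [eq_bot_iff]
    intro y hy
    obtain ⟨hyA, hyP⟩ := mem_inf.1 hy
    obtain ⟨x, c, d, rfl⟩ := hmem.1 hyP
    have h1 := (S.A_t hyA).symm.eq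
    rw [← mul_inv_eq_iff_eq_mul, S.t_conj_tri] at h1
    have h2 := (S.A_w hyA).symm.eq
    rw [← mul_inv_eq_iff_eq_mul, S.w_conj_tri] at h2
    have e1 := S.triHom_injective hP h1
    have e2 := S.triHom_injective hP h2
    simp only [EmbeddingLike.apply_eq_iff_eq, Prod.mk.injEq] at e1 e2
    have h2' : ∀ {r : F}, -r = r → r = 0 := fun {r} h =>
      (mul_eq_zero.1 (show (2 : F) * r = 0 by linear_combination -h)).resolve_left S.two_ne
    rw [h2' e2.1, h2' e1.2.1, h2' e1.2.2, mem_bot]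
    exact map_one _
  set B := S.A ⊔ P₀ with hB
  have hcB : Nat.card B = Nat.card S.A * Fintype.card F ^ 3 := by
    have h := Grp.card_sup_mul_card_inf hAn
    rwa [hinf, card_bot, mul_one, hcP] at h
  have hidx : B.index = (Fintype.card F + 1) * (Fintype.card F ^ 2 + Fintype.card F + 1) := by
    refine Nat.eq_of_mul_eq_mul_left (Nat.card_pos (α := B)) ?_
    rw [B.card_mul_index, hord, S.card_C_A, hcB]
    ring
  -- the opposite subgroup
  set P₁ := P₀.map (MulAut.conj S.n).toMonoidHom with hP₁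
  have hp₀ : IsPGroup p P₀ := fun ⟨y, hy⟩ => by
    obtain ⟨v, rfl⟩ := hy
    refine ⟨1, Subtype.ext ?_⟩
    rw [SubmonoidClass.coe_pow, pow_one, ← map_pow]
    have e : v ^ p = 1 := by
      obtain ⟨x, c, d⟩ := v
      show Multiplicative.ofAdd (p • (x, c, d)) = 1
      simp [Prod.smul_mk, nsmul_eq_mul, CharP.cast_eq_zero]
    rw [e, map_one]; rfl
  have hdisj : ∀ y, y ∈ P₀ → y ∈ P₁ → y = 1 := by
    have h2z : ∀ {r : F}, r + r = 0 → r = 0 := fun {r} h =>
      (mul_eq_zero.1 (show (2 : F) * r = 0 by linear_combination h)).resolve_left S.two_ne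
    have ht : ∀ z ∈ P₁, S.t * z * S.t⁻¹ ∈ P₁ := by
      rintro _ ⟨z, hz, rfl⟩
      refine ⟨S.t * z * S.t⁻¹, (mem_normalizer_iff.1 (hAn S.tA) z).1 hz, ?_⟩
      show S.n * (S.t * z * S.t⁻¹) * S.n⁻¹ = S.t * (S.n * z * S.n⁻¹) * S.t⁻¹
      rw [show S.n * (S.t * z * S.t⁻¹) * S.n⁻¹ = (S.n * S.t) * z * (S.n * S.t)⁻¹ by group, S.n_t.eq]
      group
    have hw : ∀ z ∈ P₁, S.w * z * S.w⁻¹ ∈ P₁ := by
      rintro _ ⟨z, hz, rfl⟩
      refine ⟨S.t * S.w * z * (S.t * S.w)⁻¹, (mem_normalizer_iff.1 (hAn (mul_mem S.tA S.wA)) z).1 hz, ?_⟩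
      show S.n * (S.t * S.w * z * (S.t * S.w)⁻¹) * S.n⁻¹ = S.w * (S.n * z * S.n⁻¹) * S.w⁻¹
      have e : S.n * (S.t * S.w) = S.w * S.n := by rw [← mul_inv_eq_iff_eq_mul, S.n_tw]
      rw [show S.n * (S.t * S.w * z * (S.t * S.w)⁻¹) * S.n⁻¹ = (S.n * (S.t * S.w)) * z * (S.n * (S.t * S.w))⁻¹ by group,
        e]
      group
    -- the fixed parts
    have f0 : ∀ x, S.e x ∈ P₁ → x = 0 := by
      rintro x ⟨z, hz, hzx⟩
      obtain ⟨x', c, d, rfl⟩ := hmem.1 hz
      have hzx' : S.n * S.triHom hP (Multiplicative.ofAdd (x', c, d)) * S.n⁻¹ = S.e x := hzx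
      have h1 : Commute (S.triHom hP (Multiplicative.ofAdd (x', c, d))) S.t := by
        have h := cconj S.n⁻¹ (hzx' ▸ S.e_t x)
        rwa [inv_inv, S.ninv_t, show S.n⁻¹ * (S.n * S.triHom hP (Multiplicative.ofAdd (x', c, d)) * S.n⁻¹) * S.n =
          S.triHom hP (Multiplicative.ofAdd (x', c, d)) by group] at h
      have h1' := h1.symm.eq
      rw [← mul_inv_eq_iff_eq_mul, S.t_conj_tri] at h1'
      have e1 := S.triHom_injective hP h1'
      simp only [EmbeddingLike.apply_eq_iff_eq, Prod.mk.injEq] at e1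
      rw [h2z (show c + c = 0 by linear_combination -e1.2.1), h2z (show d + d = 0 by linear_combination -e1.2.2),
        S.triHom_apply, S.rt_zero, S.rt_zero, mul_one, mul_one] at hzx'
      exact S.upper_ne_lower hzx'.symm
    have f12 : ∀ g g' h : G, S.Moves g' (g' * S.t * g'⁻¹) (g' * S.w * g'⁻¹) → ∀ x : F,
        (∃ y, S.n * S.rt g' y * S.n⁻¹ = S.rt g x) → S.Moves (S.n * g') (h * S.t * h⁻¹) (h * S.w * h⁻¹) →
        S.Moves g (h * S.n * S.t * (h * S.n)⁻¹) (h * S.n * S.w * (h * S.n)⁻¹) → x = 0 := by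
      intro g g' h _ x ⟨y, hy⟩ hm1 hm2
      rw [← S.rt_mul] at hy
      obtain ⟨c, -, hc⟩ := S.exists_rescale (g := h) ⟨rfl, rfl⟩ hm1
      obtain ⟨d, hd0, hd⟩ := S.exists_rescale (g := h * S.n) ⟨rfl, rfl⟩ hm2
      rw [hc, hd] at hy
      have h1 := S.root_disjoint hy
      rw [h1, S.rt_zero, eq_comm, S.rt_eq_one] at hy
      exact (mul_eq_zero.1 hy).resolve_left hd0
    have hn' : ∀ {g u v u' v' : G}, S.Moves g u v → S.n * u * S.n⁻¹ = u' → S.n * v * S.n⁻¹ = v' →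
        S.Moves (S.n * g) u' v' := fun hg e1 e2 => e1 ▸ e2 ▸ S.moves_n.mul S hg
    have hh₀n : S.Moves (S.h₀ * S.n) S.w (S.t * S.w) := S.moves_r₀
    have hh₁n : S.Moves (S.h₁ * S.n) (S.t * S.w) S.t := S.moves_r₁
    have f1 : ∀ x, S.rt S.r₀ x ∈ P₁ → x = 0 := by
      rintro x ⟨z, hz, hzx⟩
      obtain ⟨x', c, d, rfl⟩ := hmem.1 hz
      have hzx' : S.n * S.triHom hP (Multiplicative.ofAdd (x', c, d)) * S.n⁻¹ = S.rt S.r₀ x := hzx
      have h1 : Commute (S.triHom hP (Multiplicative.ofAdd (x', c, d))) (S.t * S.w) := by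
        have h := cconj S.n⁻¹ (hzx' ▸ S.moves_r₀.fix S x)
        rwa [inv_inv, S.ninv_w, show S.n⁻¹ * (S.n * S.triHom hP (Multiplicative.ofAdd (x', c, d)) * S.n⁻¹) * S.n =
          S.triHom hP (Multiplicative.ofAdd (x', c, d)) by group] at h
      have h1' := h1.symm.eq
      rw [← mul_inv_eq_iff_eq_mul, show S.t * S.w * S.triHom hP (Multiplicative.ofAdd (x', c, d)) * (S.t * S.w)⁻¹ =
        S.t * (S.w * S.triHom hP (Multiplicative.ofAdd (x', c, d)) * S.w⁻¹) * S.t⁻¹ by group, S.w_conj_tri,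
        S.t_conj_tri, neg_neg] at h1'
      have e1 := S.triHom_injective hP h1'
      simp only [EmbeddingLike.apply_eq_iff_eq, Prod.mk.injEq] at e1
      rw [h2z (show x' + x' = 0 by linear_combination -e1.1), h2z (show c + c = 0 by linear_combination -e1.2.1),
        S.triHom_apply, S.rt_zero, S.e_zero, one_mul, one_mul] at hzx'
      refine f12 S.r₀ S.r₁ S.h₀ ⟨rfl, rfl⟩ x ⟨d, hzx'⟩ ?_ ?_
      · rw [S.moves_h₀.1, S.moves_h₀.2]
        exact hn' S.moves_r₁ S.n_tw S.moves_n.1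
      · rw [hh₀n.1, hh₀n.2]; exact S.moves_r₀
    have f2 : ∀ x, S.rt S.r₁ x ∈ P₁ → x = 0 := by
      rintro x ⟨z, hz, hzx⟩
      obtain ⟨x', c, d, rfl⟩ := hmem.1 hz
      have hzx' : S.n * S.triHom hP (Multiplicative.ofAdd (x', c, d)) * S.n⁻¹ = S.rt S.r₁ x := hzx
      have h1 : Commute (S.triHom hP (Multiplicative.ofAdd (x', c, d))) S.w := by
        have h := cconj S.n⁻¹ (hzx' ▸ S.moves_r₁.fix S x)
        rwa [inv_inv, show S.n⁻¹ * (S.t * S.w) * S.n = (S.n⁻¹ * S.t * S.n) * (S.n⁻¹ * S.w * S.n) by group, S.ninv_t,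
          S.ninv_w, ← mul_assoc S.t, S.tt, one_mul, show S.n⁻¹ * (S.n * S.triHom hP (Multiplicative.ofAdd (x', c, d)) *
            S.n⁻¹) * S.n = S.triHom hP (Multiplicative.ofAdd (x', c, d)) by group] at h
      have h1' := h1.symm.eq
      rw [← mul_inv_eq_iff_eq_mul, S.w_conj_tri] at h1'
      have e1 := S.triHom_injective hP h1'
      simp only [EmbeddingLike.apply_eq_iff_eq, Prod.mk.injEq] at e1
      rw [h2z (show x' + x' = 0 by linear_combination -e1.1), h2z (show d + d = 0 by linear_combination -e1.2.2),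
        S.triHom_apply, S.rt_zero, S.e_zero, mul_one, one_mul] at hzx'
      refine f12 S.r₁ S.r₀ S.h₁ ⟨rfl, rfl⟩ x ⟨c, hzx'⟩ ?_ ?_
      · rw [S.moves_h₁.1, S.moves_h₁.2]
        exact hn' S.moves_r₀ S.n_w S.n_tw
      · rw [hh₁n.1, hh₁n.2]; exact S.moves_r₁
    intro y hy hy'
    obtain ⟨x, c, d, rfl⟩ := hmem.1 hy
    have h1 := mul_mem hy' (ht _ hy')
    rw [S.t_conj_tri, ← map_mul, ← ofAdd_add, Prod.mk_add_mk, Prod.mk_add_mk, add_neg_cancel, add_neg_cancel,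
      S.triHom_apply, S.rt_zero, S.rt_zero, mul_one, mul_one] at h1
    obtain rfl := h2z (f0 _ h1)
    have h2 := mul_mem hy' (hw _ hy')
    rw [S.w_conj_tri, ← map_mul, ← ofAdd_add, Prod.mk_add_mk, Prod.mk_add_mk, neg_zero, add_zero, add_neg_cancel,
      S.triHom_apply, S.rt_zero, S.e_zero, mul_one, one_mul] at h2
    obtain rfl := h2z (f1 _ h2)
    rw [S.triHom_apply, S.rt_zero, S.e_zero, one_mul, one_mul] at hy' ⊢
    rw [f2 d hy', S.rt_zero]
  -- `r₀` normalises `P₀`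
  have hr : ∀ y ∈ P₀, S.r₀ * y * S.r₀⁻¹ ∈ P₀ := by
    intro y hy
    obtain ⟨x, c, d, rfl⟩ := hmem.1 hy
    have m00 : S.Moves (S.r₀ * S.r₀) (S.t * S.w) S.t := by
      have h := S.moves_r₀.mul S S.moves_r₀
      rwa [S.moves_r₀.2, show S.r₀ * (S.t * S.w) * S.r₀⁻¹ = S.t by
        rw [S.moves_r₀.prod, ← mul_assoc, S.tw_comm.symm.eq, mul_assoc, S.ww, mul_one]] at h
    have m01 : S.Moves (S.r₀ * S.r₁) S.t S.w := by
      have h := S.moves_r₀.mul S S.moves_r₁
      rwa [S.moves_r₀.1, show S.r₀ * (S.t * S.w) * S.r₀⁻¹ = S.t by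
        rw [S.moves_r₀.prod, ← mul_assoc, S.tw_comm.symm.eq, mul_assoc, S.ww, mul_one]] at h
    obtain ⟨k₀, -, hk₀⟩ := S.exists_rescale S.moves_r₁ m00
    obtain ⟨k₁, -, hk₁⟩ := S.exists_rescale S.moves_one m01
    rw [S.triHom_apply, show S.r₀ * (S.e x * (S.rt S.r₀ c * S.rt S.r₁ d)) * S.r₀⁻¹ =
      S.rt S.r₀ x * ((S.r₀ * S.rt S.r₀ c * S.r₀⁻¹) * (S.r₀ * S.rt S.r₁ d * S.r₀⁻¹)) by simp [rt, mul_assoc],
      ← S.rt_mul, ← S.rt_mul, hk₀, hk₁, S.rt_one]
    exact mul_mem (hm₀ _) (mul_mem (hm₁ _) (hme _))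
  -- the two families of cosets
  have hSyl : ∀ y ∈ P₀, (∀ z ∈ P₁, y * z * y⁻¹ ∈ P₁) → y ∈ P₁ := by
    intro y hy hn
    have hle : zpowers y ≤ normalizer (P₁ : Set G) := zpowers_le.2 (mem_normalizer_fintype hn)
    have hp1 : IsPGroup p P₁ := hp₀.map _
    have hps : IsPGroup p ↥(P₁ ⊔ zpowers y) := hp1.to_sup_of_normal_left' (hp₀.to_le (zpowers_le.2 hy)) hle
    obtain ⟨j, hj⟩ := hps.exists_card_eq
    have hc1 : Nat.card P₁ = Fintype.card F ^ 3 := by
      rw [hP₁, card_map_of_injective (MulAut.conj S.n).injective, hcP]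
    obtain ⟨m, -, hm⟩ := FiniteField.card F p
    have hd : p ^ j ∣ Nat.card G := hj ▸ card_subgroup_dvd_card _
    have hcop : ¬ p ∣ Nat.card S.A * ((Fintype.card F + 1) * (Fintype.card F ^ 2 + Fintype.card F + 1)) := by
      intro h
      have hq : p ∣ Fintype.card F := hm ▸ dvd_pow_self p m.ne_zero
      rcases (Fact.out : p.Prime).dvd_mul.1 h with h | h
      · exact S.A_coprime h
      rcases (Fact.out : p.Prime).dvd_mul.1 h with h | h
      · exact (Fact.out : p.Prime).one_lt.ne' (Nat.dvd_one.1 ((Nat.dvd_add_right hq).1 h))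
      · exact (Fact.out : p.Prime).one_lt.ne' (Nat.dvd_one.1 ((Nat.dvd_add_right
          (dvd_add (dvd_pow hq two_ne_zero) hq)).1 h))
    rw [hord, S.card_C_A, show Nat.card S.A * (Fintype.card F * (Fintype.card F + 1)) *
      (Fintype.card F ^ 2 * (Fintype.card F ^ 2 + Fintype.card F + 1)) = Fintype.card F ^ 3 *
        (Nat.card S.A * ((Fintype.card F + 1) * (Fintype.card F ^ 2 + Fintype.card F + 1))) by ring] at hd
    have hle2 : Nat.card ↥(P₁ ⊔ zpowers y) ≤ Nat.card P₁ := by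
      rw [hj, hc1]
      exact Nat.le_of_dvd (pow_pos Fintype.card_pos 3)
        (Nat.Coprime.dvd_of_dvd_mul_right (((Fact.out : p.Prime).coprime_iff_not_dvd.2 hcop).pow_left j) hd)
    exact (Subgroup.eq_of_le_of_card_ge le_sup_left hle2).symm ▸ mem_sup_right (mem_zpowers y)
  let σ : Bool → G := fun b => if b then S.n * S.r₀ else S.n
  have hσ : ∀ b, ∀ y, y ∈ P₁ ↔ ∃ z ∈ P₀, σ b * z * (σ b)⁻¹ = y := by
    intro b y
    cases b
    · exact Iff.rfl
    · let f : P₀ → P₀ := fun z => ⟨S.r₀ * z * S.r₀⁻¹, hr z z.2⟩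
      have hf : Function.Surjective f := Finite.injective_iff_surjective.1 fun a b h =>
        Subtype.ext (mul_left_cancel (mul_right_cancel (congrArg Subtype.val h :)))
      constructor
      · rintro ⟨z, hz, rfl⟩
        obtain ⟨z', hz'⟩ := hf ⟨z, hz⟩
        refine ⟨z', z'.2, ?_⟩
        rw [← show S.r₀ * (z' : G) * S.r₀⁻¹ = z from congrArg Subtype.val hz']
        simp [σ, mul_assoc]
      · rintro ⟨z, hz, rfl⟩
        exact ⟨_, hr z hz, by simp [σ, mul_assoc]⟩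
  let φ : Bool × P₀ → G ⧸ B := fun v => ((v.2 : G) * σ v.1 : G)
  have hφ : Function.Injective φ := by
    rintro ⟨b, y⟩ ⟨b', y'⟩ h
    have hB' : ((y : G) * σ b)⁻¹ * ((y' : G) * σ b') ∈ B := QuotientGroup.eq.1 h
    have hnB : B ≤ normalizer (P₀ : Set G) := sup_le hAn le_normalizer
    have hconj : ∀ z ∈ P₁, (y : G)⁻¹ * y' * z * ((y : G)⁻¹ * y')⁻¹ ∈ P₁ := by
      intro z hz
      obtain ⟨z₀, hz₀, rfl⟩ := (hσ b' z).1 hz
      refine (hσ b _).2 ⟨_, (mem_normalizer_iff.1 (hnB hB') z₀).1 hz₀, ?_⟩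
      group
    have h1 : (y : G)⁻¹ * y' = 1 := hdisj _ (mul_mem (inv_mem y.2) y'.2) (hSyl _ (mul_mem (inv_mem y.2) y'.2) hconj)
    obtain rfl : y = y' := Subtype.ext (inv_mul_eq_one.1 h1)
    rw [show ((y : G) * σ b)⁻¹ * ((y : G) * σ b') = (σ b)⁻¹ * σ b' by group] at hB'
    have hr₀ : S.r₀ ∉ B := by
      intro hr₀
      rw [hB, ← SetLike.mem_coe, Subgroup.coe_mul_of_left_le_normalizer_right S.A P₀ hAn] at hr₀
      obtain ⟨a, ha, z, hz, e⟩ := hr₀
      obtain ⟨x, c, d, rfl⟩ := hmem.1 hz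
      have h3 : S.triHom hP (Multiplicative.ofAdd (x, c, d)) * S.t *
          (S.triHom hP (Multiplicative.ofAdd (x, c, d)))⁻¹ = S.w := by
        have h := S.moves_r₀.1
        rw [← show a * S.triHom hP (Multiplicative.ofAdd (x, c, d)) = S.r₀ from e] at h
        calc _ = a⁻¹ * (a * S.triHom hP (Multiplicative.ofAdd (x, c, d)) * S.t *
              (a * S.triHom hP (Multiplicative.ofAdd (x, c, d)))⁻¹) * a := by group
          _ = _ := by rw [h, mul_assoc, ← (S.A_w ha).eq, inv_mul_cancel_left]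
      have h4 : S.w * S.t⁻¹ ∈ S.A ⊓ P₀ := by
        refine mem_inf.2 ⟨mul_mem S.wA (Subgroup.inv_mem _ S.tA), ?_⟩
        rw [← h3, show ∀ q : G, q * S.t * q⁻¹ * S.t⁻¹ = q * (S.t * q⁻¹ * S.t⁻¹) from fun q => by group]
        exact Subgroup.mul_mem _ hz ((mem_normalizer_iff.1 (hAn S.tA) _).1 (Subgroup.inv_mem _ hz))
      rw [hinf, mem_bot, mul_inv_eq_one] at h4
      exact S.w_ne h4
    cases b <;> cases b'
    · rfl
    · exact absurd (by simpa [σ] using hB') hr₀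
    · exact absurd (inv_mem_iff.1 (by simpa [σ, mul_assoc] using hB')) hr₀
    · rfl
  have hle := Nat.card_le_card_of_injective φ hφ
  rw [Nat.card_prod, Nat.card_eq_fintype_card, Fintype.card_bool, hcP, ← Subgroup.index_eq_card, hidx] at hle
  have h3 := S.three_le_card
  generalize Fintype.card F = q at hle h3
  nlinarith [mul_le_mul_of_nonneg_right h3 (Nat.zero_le (q * q)), mul_le_mul_of_nonneg_right h3 (Nat.zero_le q)]

end

end Sys

end Cfsg.Agent.Invol.BrauerL3.Lin
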