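import Mathlib
import Cfsg.Agent.Lib.Grp.Basic

/-!
# Brauer's theorem: matrix facts about `GL(2, F)`

Subgroups containing the diagonal torus, subgroups of odd order normalised by it, centralisers and normalisers of the
root group, all modulo scalars of odd order.
-/

set_option autoImplicit false
set_option linter.unusedSectionVars false

namespace Cfsg.Agent.Invol.BrauerL3.Lin

open Matrix

universe v

variable {F : Type v} [Field F]

local notation "M2" => Matrix (Fin 2) (Fin 2) F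

/-- `diag(a, b)`. -/
noncomputable def dg (a b : Fˣ) : GL (Fin 2) F :=
  GeneralLinearGroup.mkOfDetNeZero !![(a : F), 0; 0, (b : F)] (by simp [Matrix.det_fin_two])

/-- Upper transvection. -/
noncomputable def up (x : F) : GL (Fin 2) F :=
  GeneralLinearGroup.mkOfDetNeZero !![1, x; 0, 1] (by simp [Matrix.det_fin_two])

/-- Lower transvection. -/
noncomputable def lo (x : F) : GL (Fin 2) F :=
  GeneralLinearGroup.mkOfDetNeZero !![1, 0; x, 1] (by simp [Matrix.det_fin_two])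

@[simp] theorem dg_val (a b : Fˣ) : (dg a b : M2) = !![(a : F), 0; 0, (b : F)] := rfl

@[simp] theorem up_val (x : F) : (up x : M2) = !![1, x; 0, 1] := rfl

@[simp] theorem lo_val (x : F) : (lo x : M2) = !![1, 0; x, 1] := rfl

theorem ext2 {g h : GL (Fin 2) F} (h00 : (g : M2) 0 0 = (h : M2) 0 0) (h01 : (g : M2) 0 1 = (h : M2) 0 1)
    (h10 : (g : M2) 1 0 = (h : M2) 1 0) (h11 : (g : M2) 1 1 = (h : M2) 1 1) : g = h :=
  Units.ext (Matrix.ext fun i j => by fin_cases i <;> fin_cases j <;> assumption)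

theorem mul00 (g h : GL (Fin 2) F) :
    ((g * h : GL (Fin 2) F) : M2) 0 0 = (g : M2) 0 0 * (h : M2) 0 0 + (g : M2) 0 1 * (h : M2) 1 0 := by
  simp [Matrix.mul_apply, Fin.sum_univ_two]

theorem mul01 (g h : GL (Fin 2) F) :
    ((g * h : GL (Fin 2) F) : M2) 0 1 = (g : M2) 0 0 * (h : M2) 0 1 + (g : M2) 0 1 * (h : M2) 1 1 := by
  simp [Matrix.mul_apply, Fin.sum_univ_two]

theorem mul10 (g h : GL (Fin 2) F) :
    ((g * h : GL (Fin 2) F) : M2) 1 0 = (g : M2) 1 0 * (h : M2) 0 0 + (g : M2) 1 1 * (h : M2) 1 0 := by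
  simp [Matrix.mul_apply, Fin.sum_univ_two]

theorem mul11 (g h : GL (Fin 2) F) :
    ((g * h : GL (Fin 2) F) : M2) 1 1 = (g : M2) 1 0 * (h : M2) 0 1 + (g : M2) 1 1 * (h : M2) 1 1 := by
  simp [Matrix.mul_apply, Fin.sum_univ_two]

theorem det_ne (g : GL (Fin 2) F) : (g : M2) 0 0 * (g : M2) 1 1 - (g : M2) 0 1 * (g : M2) 1 0 ≠ 0 := by
  rw [← Matrix.det_fin_two]
  exact (Matrix.GeneralLinearGroup.det g).ne_zero

theorem dg_mul (a b c d : Fˣ) : dg a b * dg c d = dg (a * c) (b * d) := by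
  refine ext2 ?_ ?_ ?_ ?_ <;> simp [mul00, mul01, mul10, mul11]

theorem dg_one : dg (1 : Fˣ) 1 = 1 := by
  refine ext2 ?_ ?_ ?_ ?_ <;> simp

theorem dg_inv (a b : Fˣ) : (dg a b)⁻¹ = dg a⁻¹ b⁻¹ :=
  inv_eq_of_mul_eq_one_right (by rw [dg_mul, mul_inv_cancel, mul_inv_cancel, dg_one])

theorem up_add (x y : F) : up (x + y) = up x * up y := by
  refine ext2 ?_ ?_ ?_ ?_ <;> simp [mul00, mul01, mul10, mul11, add_comm]

theorem up_zero : up (0 : F) = 1 := by
  refine ext2 ?_ ?_ ?_ ?_ <;> simp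

theorem lo_add (x y : F) : lo (x + y) = lo x * lo y := by
  refine ext2 ?_ ?_ ?_ ?_ <;> simp [mul00, mul01, mul10, mul11]

theorem dg_up (a b : Fˣ) (x : F) : dg a b * up x * (dg a b)⁻¹ = up ((a : F) / (b : F) * x) := by
  rw [mul_inv_eq_iff_eq_mul]
  refine ext2 ?_ ?_ ?_ ?_ <;> simp [mul00, mul01, mul10, mul11]
  field_simp

/-- The monomial element. -/
noncomputable def sw : GL (Fin 2) F := up 1 * lo (-1) * up 1

theorem sw_val : (sw : GL (Fin 2) F).val = !![0, 1; -1, 0] := by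
  ext i j
  fin_cases i <;> fin_cases j <;> simp [sw, Matrix.mul_apply, Fin.sum_univ_two]

theorem sw_sq : (sw : GL (Fin 2) F) * sw = dg (-1) (-1) := by
  refine ext2 ?_ ?_ ?_ ?_ <;> simp [mul00, mul01, mul10, mul11, sw_val]

theorem sw_up (x : F) : sw * up x * sw⁻¹ = lo (-x) := by
  rw [mul_inv_eq_iff_eq_mul]
  refine ext2 ?_ ?_ ?_ ?_ <;> simp [mul00, mul01, mul10, mul11, sw_val]

theorem sw_dg (a b : Fˣ) : sw * dg a b * sw⁻¹ = dg b a := by
  rw [mul_inv_eq_iff_eq_mul]
  refine ext2 ?_ ?_ ?_ ?_ <;> simp [mul00, mul01, mul10, mul11, sw_val]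

theorem up_lo_up (b : Fˣ) : up (b : F) * lo (-(b : F)⁻¹) * up (b : F) = dg b b⁻¹ * sw := by
  refine ext2 ?_ ?_ ?_ ?_ <;> simp [mul00, mul01, mul10, mul11, sw_val]

theorem diag_of {g : GL (Fin 2) F} (h01 : (g : M2) 0 1 = 0) (h10 : (g : M2) 1 0 = 0) : ∃ a b, g = dg a b := by
  have hd := det_ne g
  rw [h01, zero_mul, sub_zero] at hd
  exact ⟨Units.mk0 _ (left_ne_zero_of_mul hd), Units.mk0 _ (right_ne_zero_of_mul hd),
    ext2 (by simp) (by simp [h01]) (by simp [h10]) (by simp)⟩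

theorem upper_of {g : GL (Fin 2) F} (h10 : (g : M2) 1 0 = 0) : ∃ a b x, g = dg a b * up x := by
  have hd := det_ne g
  rw [h10, mul_zero, sub_zero] at hd
  refine ⟨Units.mk0 _ (left_ne_zero_of_mul hd), Units.mk0 _ (right_ne_zero_of_mul hd),
    (g : M2) 0 1 / (g : M2) 0 0, ext2 ?_ ?_ ?_ ?_⟩ <;> simp [mul00, mul01, mul10, mul11, h10]
  rw [mul_div_cancel₀ _ (left_ne_zero_of_mul hd)]

theorem center_dg {z : GL (Fin 2) F} (hz : z ∈ Subgroup.center (GL (Fin 2) F)) : ∃ a, z = dg a a := by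
  have h1 := Subgroup.mem_center_iff.1 hz (up 1)
  have h2 := Subgroup.mem_center_iff.1 hz (lo 1)
  have e10 : (z : M2) 1 0 = 0 := by
    have := congrArg (fun g : GL (Fin 2) F => (g : M2) 0 0) h1
    simpa [mul00] using this
  have e01 : (z : M2) 0 1 = 0 := by
    have := congrArg (fun g : GL (Fin 2) F => (g : M2) 1 1) h2
    simpa [mul11] using this
  obtain ⟨a, b, rfl⟩ := diag_of e01 e10
  have e := congrArg (fun g : GL (Fin 2) F => (g : M2) 0 1) h1
  simp [mul01] at e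
  exact ⟨a, by rw [Units.ext e]⟩

theorem dg_center (a : Fˣ) : dg a a ∈ Subgroup.center (GL (Fin 2) F) := by
  refine Subgroup.mem_center_iff.2 fun g => ext2 ?_ ?_ ?_ ?_ <;> simp [mul00, mul01, mul10, mul11, mul_comm]

/-- The diagonal torus. -/
noncomputable def dgHom : Fˣ × Fˣ →* GL (Fin 2) F where
  toFun p := dg p.1 p.2
  map_one' := dg_one
  map_mul' p r := (dg_mul p.1 p.2 r.1 r.2).symm

theorem dgHom_injective : Function.Injective (dgHom (F := F)) := by
  rintro ⟨a, b⟩ ⟨c, d⟩ h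
  have h' := congrArg Units.val h
  exact Prod.ext (Units.ext (by simpa [dgHom] using congrFun (congrFun h' 0) 0))
    (Units.ext (by simpa [dgHom] using congrFun (congrFun h' 1) 1))

/-- `H` contains the diagonal torus. -/
def HasTorus (H : Subgroup (GL (Fin 2) F)) : Prop := ∀ a b, dg a b ∈ H

/-- All elements are diagonal or antidiagonal. -/
def Monomial (H : Subgroup (GL (Fin 2) F)) : Prop :=
  ∀ g ∈ H, ((g : M2) 0 0 = 0 ∧ (g : M2) 1 1 = 0) ∨ ((g : M2) 0 1 = 0 ∧ (g : M2) 1 0 = 0)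

/-- Every non-zero vector is a first column. -/
def Transitive (H : Subgroup (GL (Fin 2) F)) : Prop :=
  ∀ x y : F, (x ≠ 0 ∨ y ≠ 0) → ∃ g ∈ H, (g : M2) 0 0 = x ∧ (g : M2) 1 0 = y

theorem torus_cases {H : Subgroup (GL (Fin 2) F)} (hH : HasTorus H) :
    (∀ g ∈ H, (g : M2) 1 0 = 0) ∨ (∀ g ∈ H, (g : M2) 0 1 = 0) ∨ Monomial H ∨ Transitive H := by
  classical
  by_cases h1 : ∀ g ∈ H, (g : M2) 1 0 = 0
  · exact Or.inl h1
  by_cases h2 : ∀ g ∈ H, (g : M2) 0 1 = 0
  · exact Or.inr (Or.inl h2)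
  push Not at h1 h2
  obtain ⟨g₁, hg₁, hc₁⟩ := h1
  obtain ⟨g₂, hg₂, hb₂⟩ := h2
  refine Or.inr (Or.inr ?_)
  by_cases hf : ∃ g ∈ H, (g : M2) 0 0 ≠ 0 ∧ (g : M2) 1 0 ≠ 0
  · obtain ⟨g, hg, ha, hc⟩ := hf
    have full : ∀ x y : F, x ≠ 0 → y ≠ 0 → ∃ k ∈ H, (k : M2) 0 0 = x ∧ (k : M2) 1 0 = y := fun x y hx hy =>
      ⟨dg (Units.mk0 x hx / Units.mk0 _ ha) (Units.mk0 y hy / Units.mk0 _ hc) * g, mul_mem (hH _ _) hg,
        by simp [mul00, ha], by simp [mul10, hc]⟩
    refine Or.inr fun x y hxy => ?_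
    by_cases hx : x = 0
    · have hy : y ≠ 0 := hxy.resolve_left fun h => h hx
      obtain ⟨k, hk, hk0, hk1⟩ : ∃ k ∈ H, (k : M2) 0 0 = 0 ∧ (k : M2) 1 0 ≠ 0 := by
        by_cases ha₂ : (g₂ : M2) 0 0 = 0
        · refine ⟨g₂, hg₂, ha₂, fun h => det_ne g₂ ?_⟩
          rw [ha₂, h, zero_mul, mul_zero, sub_zero]
        · obtain ⟨k, hk, e0, e1⟩ := full 1 (-(g₂ : M2) 0 0 / (g₂ : M2) 0 1) one_ne_zero
            (div_ne_zero (neg_ne_zero.2 ha₂) hb₂)
          have e : ((g₂ * k : GL (Fin 2) F) : M2) 0 0 = 0 := by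
            rw [mul00, e0, e1, mul_one, mul_div_cancel₀ _ hb₂, add_neg_cancel]
          refine ⟨g₂ * k, mul_mem hg₂ hk, e, fun h => det_ne (g₂ * k) ?_⟩
          rw [e, h, zero_mul, mul_zero, sub_zero]
      exact ⟨dg 1 (Units.mk0 y hy / Units.mk0 _ hk1) * k, mul_mem (hH _ _) hk, by simp [mul00, hk0, hx],
        by simp [mul10, hk1]⟩
    by_cases hy : y = 0
    · exact ⟨dg (Units.mk0 x hx) 1, hH _ _, by simp, by simp [hy]⟩
    exact full x y hx hy
  · push Not at hf
    refine Or.inl fun g hg => ?_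
    have ha₁ : (g₁ : M2) 0 0 = 0 := by
      by_contra h
      exact hc₁ (hf g₁ hg₁ h)
    have hd := det_ne g
    have e := hf (g * g₁) (mul_mem hg hg₁)
    rw [mul00, mul10, ha₁, mul_zero, mul_zero, zero_add, zero_add] at e
    by_cases ha : (g : M2) 0 0 = 0
    · refine Or.inl ⟨ha, ?_⟩
      have hb : (g : M2) 0 1 ≠ 0 := fun h => hd (by rw [ha, h, zero_mul, zero_mul, sub_zero])
      exact (mul_eq_zero.1 (e (mul_ne_zero hb hc₁))).resolve_right hc₁
    · have hc : (g : M2) 1 0 = 0 := hf g hg ha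
      refine Or.inr ⟨?_, hc⟩
      by_contra hb
      have hd' : (g : M2) 1 1 = 0 := (mul_eq_zero.1 (e (mul_ne_zero hb hc₁))).resolve_right hc₁
      exact hd (by rw [hd', hc, mul_zero, mul_zero, sub_zero])

variable [Fintype F]

/-- The elements fixing the first basis vector. -/
def colStab (H : Subgroup (GL (Fin 2) F)) : Subgroup H where
  carrier := {g | ((g : GL (Fin 2) F) : M2) 0 0 = 1 ∧ ((g : GL (Fin 2) F) : M2) 1 0 = 0}
  one_mem' := by simp
  mul_mem' {g h} hg hh := ⟨by rw [Subgroup.coe_mul, mul00, hh.1, hh.2, hg.1]; simp,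
    by rw [Subgroup.coe_mul, mul10, hh.1, hh.2, hg.2]; simp⟩
  inv_mem' {g} hg := by
    have e : (g⁻¹ : H) * g = 1 := inv_mul_cancel g
    have e0 := congrArg (fun k : H => ((k : GL (Fin 2) F) : M2) 0 0) e
    have e1 := congrArg (fun k : H => ((k : GL (Fin 2) F) : M2) 1 0) e
    simp only [Subgroup.coe_mul, mul00, mul10, hg.1, hg.2, mul_one, mul_zero, add_zero] at e0 e1
    exact ⟨by simpa using e0, by simpa using e1⟩

theorem card_transitive {H : Subgroup (GL (Fin 2) F)} (hT : Transitive H) :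
    Nat.card H = (Fintype.card F ^ 2 - 1) * Nat.card (colStab H) := by
  classical
  have hv : Nat.card {v : F × F // v ≠ 0} = Fintype.card F ^ 2 - 1 := by
    rw [Nat.card_eq_fintype_card, Fintype.card_subtype_compl, Fintype.card_prod, Fintype.card_subtype_eq, pow_two]
  rw [(colStab H).card_eq_card_quotient_mul_card_subgroup, ← hv]
  congr 1
  let f : H → {v : F × F // v ≠ 0} := fun g =>
    ⟨(((g : GL (Fin 2) F) : M2) 0 0, ((g : GL (Fin 2) F) : M2) 1 0), fun h => det_ne (g : GL (Fin 2) F) (by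
      rw [show ((g : GL (Fin 2) F) : M2) 0 0 = 0 from congrArg Prod.fst h,
        show ((g : GL (Fin 2) F) : M2) 1 0 = 0 from congrArg Prod.snd h, zero_mul, mul_zero, sub_zero])⟩
  have hf : ∀ g h : H, f g = f h ↔ g⁻¹ * h ∈ colStab H := by
    intro g h
    constructor
    · intro e
      have e0 : ((h : GL (Fin 2) F) : M2) 0 0 = ((g : GL (Fin 2) F) : M2) 0 0 :=
        (congrArg (fun v : {v : F × F // v ≠ 0} => (v : F × F).1) e).symm
      have e1 : ((h : GL (Fin 2) F) : M2) 1 0 = ((g : GL (Fin 2) F) : M2) 1 0 :=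
        (congrArg (fun v : {v : F × F // v ≠ 0} => (v : F × F).2) e).symm
      have i0 := congrArg (fun k : GL (Fin 2) F => (k : M2) 0 0) (inv_mul_cancel (g : GL (Fin 2) F))
      have i1 := congrArg (fun k : GL (Fin 2) F => (k : M2) 1 0) (inv_mul_cancel (g : GL (Fin 2) F))
      simp only [mul00, mul10] at i0 i1
      refine ⟨?_, ?_⟩
      · rw [Subgroup.coe_mul, Subgroup.coe_inv, mul00, e0, e1, i0]; simp
      · rw [Subgroup.coe_mul, Subgroup.coe_inv, mul10, e0, e1, i1]; simp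
    · intro e
      have eh : (h : GL (Fin 2) F) = (g : GL (Fin 2) F) * ((g⁻¹ * h : H) : GL (Fin 2) F) := by simp
      refine Subtype.ext (Prod.ext ?_ ?_) <;> simp only [f] <;>
        conv_rhs => rw [eh]
      · rw [mul00, e.1, e.2, mul_one, mul_zero, add_zero]
      · rw [mul10, e.1, e.2, mul_one, mul_zero, add_zero]
  let φ : H ⧸ colStab H → {v : F × F // v ≠ 0} :=
    Quotient.lift f fun g h e => (hf g h).2 (QuotientGroup.leftRel_apply.1 e)
  refine Nat.card_congr (Equiv.ofBijective φ ⟨?_, ?_⟩)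
  · rintro ⟨g⟩ ⟨h⟩ e
    exact QuotientGroup.eq.2 ((hf g h).1 e)
  · rintro ⟨⟨x, y⟩, hv⟩
    obtain ⟨g, hg, e0, e1⟩ := hT x y (by
      by_contra h
      push Not at h
      exact hv (Prod.ext h.1 h.2))
    exact ⟨QuotientGroup.mk ⟨g, hg⟩, Subtype.ext (Prod.ext e0 e1)⟩

theorem dvd_colStab {H : Subgroup (GL (Fin 2) F)} (hH : HasTorus H) :
    Fintype.card F - 1 ∣ Nat.card (colStab H) := by
  classical
  let f : Fˣ →* colStab H :=
    { toFun := fun b => ⟨⟨dg 1 b, hH 1 b⟩, by simp [colStab]⟩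
      map_one' := Subtype.ext (Subtype.ext dg_one)
      map_mul' := fun b c => Subtype.ext (Subtype.ext (by
        show dg 1 (b * c) = dg 1 b * dg 1 c
        rw [dg_mul, one_mul])) }
  have hf : Function.Injective f := fun b c h =>
    congrArg Prod.snd (@dgHom_injective F _ (1, b) (1, c) (congrArg (fun k : colStab H => ((k : H) : GL (Fin 2) F)) h))
  rw [← Fintype.card_units, ← Nat.card_eq_fintype_card]
  exact Subgroup.card_dvd_of_injective f hf

theorem dvd_transitive {H : Subgroup (GL (Fin 2) F)} (hH : HasTorus H) (hT : Transitive H) :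
    (Fintype.card F ^ 2 - 1) * (Fintype.card F - 1) ∣ Nat.card H := by
  rw [card_transitive hT]
  exact mul_dvd_mul_left _ (dvd_colStab hH)

/-- A subgroup of odd order normalised by the diagonal torus is triangular. -/
theorem odd_triangular (hq : Odd (Fintype.card F)) {Y : Subgroup (GL (Fin 2) F)} (hY : Odd (Nat.card Y))
    (hn : ∀ a b, ∀ y ∈ Y, dg a b * y * (dg a b)⁻¹ ∈ Y) :
    (∀ g ∈ Y, (g : M2) 1 0 = 0) ∨ (∀ g ∈ Y, (g : M2) 0 1 = 0) := by
  classical
  set D := (dgHom (F := F)).range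
  have hDn : D ≤ Subgroup.normalizer (Y : Set (GL (Fin 2) F)) := by
    rintro _ ⟨⟨a, b⟩, rfl⟩
    exact Subgroup.mem_normalizer_fintype fun y hy => hn a b y hy
  have hH : HasTorus (D ⊔ Y) := fun a b => Subgroup.mem_sup_left ⟨(a, b), rfl⟩
  rcases torus_cases hH with h | h | h | h
  · exact Or.inl fun g hg => h g (Subgroup.mem_sup_right hg)
  · exact Or.inr fun g hg => h g (Subgroup.mem_sup_right hg)
  · refine Or.inl fun g hg => ?_
    rcases h g (Subgroup.mem_sup_right hg) with ⟨ha, hd⟩ | ⟨-, hc⟩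
    swap
    · exact hc
    exfalso
    have key : ∀ k : ℕ, Odd k → ((g ^ k : GL (Fin 2) F) : M2) 0 0 = 0 := by
      intro k hk
      obtain ⟨j, rfl⟩ := hk
      induction j with
      | zero => simpa using ha
      | succ j ih =>
        rw [show 2 * (j + 1) + 1 = (2 * j + 1) + 2 by ring, pow_add, pow_two]
        rw [mul00, mul00, mul10, ih, ha, hd]
        simp
    have h1 := key _ (hY.of_dvd_nat (Subgroup.orderOf_dvd_natCard Y hg))
    rw [pow_orderOf_eq_one] at h1
    simp at h1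
  · exfalso
    have h1 := (dvd_transitive hH h).trans (Dvd.intro _ (Grp.card_sup_mul_card_inf hDn))
    rw [show Nat.card D = Nat.card (Fˣ × Fˣ) from
      (Nat.card_congr (MonoidHom.ofInjective dgHom_injective).toEquiv).symm, Nat.card_prod, Nat.card_units,
      Nat.card_eq_fintype_card (α := F)] at h1
    have hq1 : 1 < Fintype.card F := Fintype.one_lt_card
    obtain ⟨m, hm⟩ := hq
    rw [hm, show (2 * m + 1) ^ 2 - 1 = (2 * m + 2) * (2 * m) from
      Nat.sub_eq_of_eq_add (by ring), Nat.add_sub_cancel, mul_assoc, mul_comm (2 * m + 2)] at h1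
    have h2 : 2 * m + 2 ∣ Nat.card Y :=
      Nat.dvd_of_mul_dvd_mul_left (Nat.mul_pos (by omega) (by omega)) h1
    exact Nat.not_odd_iff_even.2 (even_iff_two_dvd.2 (dvd_trans ⟨m + 1, by ring⟩ h2)) hY

/-- A triangular element of `p`-power order is a transvection. -/
theorem eq_up_of_pow {p : ℕ} [Fact p.Prime] [CharP F p] {g : GL (Fin 2) F} (h10 : (g : M2) 1 0 = 0) {j : ℕ}
    (hg : g ^ p ^ j = 1) : g = up ((g : M2) 0 1) := by
  have key : ∀ k : ℕ, ((g ^ k : GL (Fin 2) F) : M2) 1 0 = 0 ∧ ((g ^ k : GL (Fin 2) F) : M2) 0 0 = (g : M2) 0 0 ^ k ∧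
      ((g ^ k : GL (Fin 2) F) : M2) 1 1 = (g : M2) 1 1 ^ k := by
    intro k
    induction k with
    | zero => simp
    | succ k ih => refine ⟨?_, ?_, ?_⟩ <;> simp [pow_succ, mul00, mul10, mul11, ih.1, ih.2, h10]
  have hroot : ∀ a : F, a ^ p ^ j = 1 → a = 1 := fun a ha => by
    refine sub_eq_zero.1 (eq_zero_of_pow_eq_zero (n := p ^ j) ?_)
    rw [sub_pow_char_pow, ha, one_pow, sub_self]
  have e0 := (key (p ^ j)).2.1
  have e1 := (key (p ^ j)).2.2
  rw [hg] at e0 e1
  refine ext2 ?_ ?_ ?_ ?_ <;> simp [h10, hroot _ (by simpa using e0.symm), hroot _ (by simpa using e1.symm)]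

/-- Conjugation of the upper root group into a scalar multiple of itself. -/
theorem upper_of_conj {g : GL (Fin 2) F} {z : Fˣ} {x y : F} (hz : z * z = 1 → z = 1) (hx : x ≠ 0)
    (h : g * up x = dg z z * up y * g) :
    z = 1 ∧ (g : M2) 1 0 = 0 ∧ (g : M2) 0 0 * x = y * (g : M2) 1 1 := by
  have hz1 : z = 1 := hz (Units.ext (by
    have e := congrArg (fun k : GL (Fin 2) F => ((k : M2)).det) h
    simp only [GeneralLinearGroup.coe_mul, Matrix.det_mul, up_val, dg_val, Matrix.det_fin_two_of] at e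
    simp only [mul_zero, mul_one, sub_zero, zero_mul] at e
    have hd : Matrix.det (g : M2) ≠ 0 := (GeneralLinearGroup.det g).ne_zero
    simpa using (mul_right_cancel₀ hd (by rw [one_mul]; exact e)).symm))
  subst hz1
  rw [dg_one, one_mul] at h
  have e10 : (g : M2) 1 0 = 0 := by
    have := congrArg (fun k : GL (Fin 2) F => (k : M2) 1 1) h
    simp [mul11, hx] at this
    exact this
  refine ⟨rfl, e10, ?_⟩
  have := congrArg (fun k : GL (Fin 2) F => (k : M2) 0 1) h
  simp [mul01] at this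
  linear_combination this

/-- The centraliser of `diag(1, -1)` up to a scalar of odd order. -/
theorem diag_of_comm (h2 : (2 : F) ≠ 0) {g : GL (Fin 2) F} {z : Fˣ} (hz : z * z = 1 → z = 1)
    (h : g * dg 1 (-1) = dg z z * dg 1 (-1) * g) : ∃ a b, g = dg a b := by
  have hz1 : z = 1 := hz (Units.ext (by
    have e := congrArg (fun k : GL (Fin 2) F => ((k : M2)).det) h
    simp only [GeneralLinearGroup.coe_mul, Matrix.det_mul, dg_val, Matrix.det_fin_two_of] at e
    simp only [mul_zero, sub_zero, Units.val_one, Units.val_neg] at e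
    have hd : Matrix.det (g : M2) ≠ 0 := (GeneralLinearGroup.det g).ne_zero
    have e' : ((z : F) * (z : F) - 1) * Matrix.det (g : M2) = 0 := by linear_combination e
    have := (mul_eq_zero.1 e').resolve_right hd
    simpa using sub_eq_zero.1 this))
  subst hz1
  rw [dg_one, one_mul] at h
  refine diag_of ?_ ?_
  · have := congrArg (fun k : GL (Fin 2) F => (k : M2) 0 1) h
    simp [mul01] at this
    have e : (2 : F) * (g : M2) 0 1 = 0 := by linear_combination -this
    exact (mul_eq_zero.1 e).resolve_left h2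
  · have := congrArg (fun k : GL (Fin 2) F => (k : M2) 1 0) h
    simp [mul10] at this
    have e : (2 : F) * (g : M2) 1 0 = 0 := by linear_combination this
    exact (mul_eq_zero.1 e).resolve_left h2

end Cfsg.Agent.Invol.BrauerL3.Lin
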