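import Cfsg.Agent.Lib.Lie.Sl3Pres
import Cfsg.Agent.Lib.Lie.CurtisTitsBlocks

/-!
# Brauer's theorem: the six root groups of `SL(3, F)`

`Hexagon`: four root groups, the other two being conjugates, with two commutator relations and the braid relation of the
two monomial elements; such data come from a homomorphism of `SL(3, F)`.
-/

set_option autoImplicit false
set_option linter.unusedSectionVars false

namespace Cfsg.Agent.Invol.BrauerL3.Lin

open Cfsg.Agent.Lie
open scoped commutatorElement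

universe u v

variable {G : Type u} [Group G] {F : Type v} [Field F]

/-- The monomial element of a pair of opposite root groups. -/
def mono (x y : F → G) : G := x 1 * y (-1) * x 1

/-- The third root group. -/
def third (x23 x32 x12 : F → G) (a : F) : G := mono x23 x32 * x12 (-a) * (mono x23 x32)⁻¹

/-- Root groups at the places `(1,2), (2,1), (2,3), (3,2)`; `t` and `T` are the squares of the monomial elements. -/
structure Hexagon (t T : G) (x12 x21 x23 x32 : F → G) : Prop where
  add12 : ∀ a b, x12 (a + b) = x12 a * x12 b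
  ne : x12 1 ≠ 1
  m2 : mono x12 x21 * mono x12 x21 = T
  n2 : mono x23 x32 * mono x23 x32 = t
  tt : t * t = 1
  TT : T * T = 1
  tT : Commute t T
  nT : mono x23 x32 * T * (mono x23 x32)⁻¹ = t * T
  m12 : ∀ a, mono x12 x21 * x12 a * (mono x12 x21)⁻¹ = x21 (-a)
  n23 : ∀ a, mono x23 x32 * x23 a * (mono x23 x32)⁻¹ = x32 (-a)
  t12 : ∀ a, t * x12 a * t⁻¹ = x12 (-a)
  T23 : ∀ a, T * x23 a * T⁻¹ = x23 (-a)
  c12 : ∀ a b, Commute (x12 a) (third x23 x32 x12 b)
  c23 : ∀ a b, Commute (x23 a) (third x23 x32 x12 b)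
  rel₁ : ∀ a b, ⁅x12 a, x23 b⁆ = third x23 x32 x12 (a * b)
  rel₂ : ∀ a b, ⁅third x23 x32 x12 a, x32 b⁆ = x12 (a * b)
  m23 : ∀ a, mono x12 x21 * x23 a * (mono x12 x21)⁻¹ = third x23 x32 x12 a
  braid : mono x12 x21 * mono x23 x32 * mono x12 x21 * (mono x12 x21 * mono x23 x32)⁻¹ = mono x23 x32

namespace Hexagon

variable {t T : G} {x12 x21 x23 x32 : F → G} (H : Hexagon t T x12 x21 x23 x32)
include H

theorem exists_hom [Fintype F] : ∃ Φ : Matrix.SpecialLinearGroup (Fin 3) F →* G, Φ ≠ 1 := by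
  classical
  set m := mono x12 x21 with hm
  set n := mono x23 x32 with hn
  set c := m * n with hc
  have hT1 : T⁻¹ = T := inv_eq_of_mul_eq_one_right H.TT
  -- the images of the root groups under `c`
  have c12 : ∀ a, c * x12 a * c⁻¹ = x23 a := fun a => by
    have e : n * x12 a * n⁻¹ = third x23 x32 x12 (-a) := by rw [third, neg_neg]
    calc c * x12 a * c⁻¹ = m * (n * x12 a * n⁻¹) * m⁻¹ := by rw [hc]; group
      _ = (m * m) * x23 (-a) * (m * m)⁻¹ := by rw [e, ← H.m23, ← hm]; group
      _ = x23 a := by rw [H.m2, H.T23, neg_neg]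
  have c13 : ∀ b, c * third x23 x32 x12 b * c⁻¹ = x21 (-b) := fun b => by
    calc c * third x23 x32 x12 b * c⁻¹ = m * ((n * n) * x12 (-b) * (n * n)⁻¹) * m⁻¹ := by
          rw [hc, third, ← hn]; group
      _ = x21 (-b) := by rw [H.n2, H.t12, neg_neg, H.m12]
  have c21 : ∀ a, c * x21 a * c⁻¹ = x32 a := fun a => by
    calc c * x21 a * c⁻¹ = (c * m * c⁻¹) * (c * x12 (-a) * c⁻¹) * (c * m * c⁻¹)⁻¹ := by
          rw [← neg_neg a, ← H.m12, neg_neg, ← hm]; group
      _ = x32 a := by rw [hc, H.braid, ← hc, c12, H.n23, neg_neg]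
  have hc3 : c * c * c = 1 := by
    have hb : m * n * m = n * m * n := by
      calc m * n * m = (m * n * m * (m * n)⁻¹) * (m * n) := by group
        _ = _ := by rw [H.braid, ← hn]; group
    have hnTn : n * T * n = T := by
      calc n * T * n = (n * T * n⁻¹) * (n * n) := by group
        _ = _ := by rw [H.nT, H.n2, H.tT.eq, mul_assoc, H.tt, mul_one]
    calc c * c * c = (m * n * m) * (n * m * n) := by rw [hc]; group
      _ = (m * n * m) * (m * n * m) := by rw [hb]
      _ = m * (n * (m * m) * n) * m := by group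
      _ = (m * m) * (m * m) := by rw [H.m2, hnTn, ← H.m2, ← hm]; group
      _ = 1 := by rw [H.m2, H.TT]
  set φ : F → G := fun a => x12 (-a) with hφ
  have hcc : ∀ g, c * c * g * (c * c)⁻¹ = c * (c * g * c⁻¹) * c⁻¹ := fun g => by group
  have d : Sl3Pres.Core (1 : Fˣ) 1 c φ :=
    { c3 := hc3
      prod := by simp
      add := fun x y => by simp only [hφ]; rw [← H.add12, neg_add]
      conjh := fun s => by simp
      conja := fun s => by simp }
  have hZ : ∀ a b, Sl3Pres.Z c φ a b = third x23 x32 x12 (a * b) := fun a b => by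
    simp only [Sl3Pres.Z, hφ]
    rw [c12, H.rel₁, neg_mul_neg]
  have hY : ∀ r, Sl3Pres.Y c φ r = third x23 x32 x12 r := fun r => by rw [Sl3Pres.Y, hZ, mul_one]
  have he : Sl3Pres.Heis c φ := ⟨fun a b => Sl3Pres.mem_cen.2 fun r => by
      refine ⟨by rw [hZ]; exact H.c12 _ _, ?_⟩
      rw [hZ]
      simp only [hφ]
      rw [c12]
      exact H.c23 _ _, fun k a b => by rw [hZ, hZ]; congr 1; ring⟩
  have hR : ∀ a b, Sl3Pres.Rel c φ a b := fun a b => by
    rw [Sl3Pres.Rel, hY, hY, hcc, c13, c21, H.rel₂, mul_neg]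
  let P : SLSteinberg.SLPre F 3 G :=
    { X := Sl3Pres.root c φ
      add := fun i j hij a b => by
        simp only [Sl3Pres.root]
        split_ifs
        · rw [d.add]; group
        · rw [Sl3Pres.Y_add d he]; group
      comm₀ := Sl3Pres.comm₀_all d he
      comm₁ := Sl3Pres.comm₁_all d he hR }
  obtain ⟨Φ, hΦ⟩ := CurtisTitsA.exists_hom_of_SLPre le_rfl P
  refine ⟨Φ, fun e => H.ne ?_⟩
  have h1 := hΦ 0 1 (by decide) (-1)
  rw [e, MonoidHom.one_apply] at h1
  rw [show x12 1 = φ (-1) by simp [hφ], ← Sl3Pres.root_zero_one (c := c) (φ := φ) (-1)]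
  exact h1.symm

end Hexagon

end Cfsg.Agent.Invol.BrauerL3.Lin
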