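import Mathlib

/-!
# Brauer's theorem: the natural module of a rank one subgroup

`exists_field_aut`: if the monomial element of a pair of root groups `e, f` carries an abelian group `x` to `y`, `e`
centralises `y`, and moves `x` inside `x y`, and the torus multiplies `y` by scalars, then the action of `e` is
multiplication by a field automorphism.
-/

set_option autoImplicit false

namespace Cfsg.Agent.Invol.BrauerL3.Lin

universe u v

variable {G : Type u} [Group G] {F : Type v} [Field F] [Finite F]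

theorem exists_field_aut (e f x : F → G) (n : G) (h : F → G)
    (he : ∀ a b, e (a + b) = e a * e b) (hx : ∀ a b, x (a + b) = x a * x b)
    (hf : ∀ b, f b = n * e (-b) * n⁻¹)
    (hn2 : ∀ a, n * n * x a * (n * n)⁻¹ = x (-a))
    (hxy : ∀ a c, Commute (x a) (n * x c * n⁻¹))
    (hey : ∀ b c, Commute (e b) (n * x c * n⁻¹))
    (hex : ∀ b a, ∃ c, e b * x a * (e b)⁻¹ = x a * (n * x c * n⁻¹))
    (hinj : ∀ a c, x a * (n * x c * n⁻¹) = 1 → a = 0 ∧ c = 0)
    (hmono : ∀ b ≠ 0, e b * f (-b⁻¹) * e b = h b * n)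
    (hn1 : e 1 * f (-1) * e 1 = n)
    (hmul : ∀ b c, b ≠ 0 → c ≠ 0 → h (b * c) = h b * h c)
    (hsc : ∀ b ≠ 0, ∃ s : F, ∀ a, h b * (n * x a * n⁻¹) * (h b)⁻¹ = n * x (s * a) * n⁻¹) :
    ∃ σ : F ≃+* F, ∀ b a, e b * x a * (e b)⁻¹ = x a * (n * x (σ b * a) * n⁻¹) := by
  classical
  haveI := Fintype.ofFinite F
  have x0 : x 0 = 1 := by simpa using hx 0 0
  have xneg : ∀ a, x (-a) = (x a)⁻¹ := fun a => eq_inv_of_mul_eq_one_left (by rw [← hx, neg_add_cancel, x0])
  have e0 : e 0 = 1 := by simpa using he 0 0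
  set y : F → G := fun c => n * x c * n⁻¹ with hy
  have yadd : ∀ a b, y (a + b) = y a * y b := fun a b => by simp only [hy]; rw [hx]; group
  have y0 : y 0 = 1 := by simp [hy, x0]
  have uniq : ∀ a a' c c', x a * y c = x a' * y c' → a = a' ∧ c = c' := by
    intro a a' c c' h'
    have h1 : x (-a' + a) * (n * x (c + -c') * n⁻¹) = 1 := by
      show x (-a' + a) * y (c + -c') = 1
      rw [hx, yadd, xneg, show y (-c') = (y c')⁻¹ by simp [hy, xneg, mul_assoc],
        show (x a')⁻¹ * x a * (y c * (y c')⁻¹) = (x a')⁻¹ * (x a * y c) * (y c')⁻¹ by group, h']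
      group
    obtain ⟨e1, e2⟩ := hinj _ _ h1
    exact ⟨(neg_add_eq_zero.1 e1).symm, eq_of_sub_eq_zero (by rw [sub_eq_add_neg]; exact e2)⟩
  choose B hB using hex
  change ∀ b a, e b * x a * (e b)⁻¹ = x a * y (B b a) at hB
  have yinj : ∀ {c c'}, y c = y c' → c = c' := fun {c c'} h' =>
    (uniq 0 0 c c' (by rw [x0, one_mul, one_mul]; exact h')).2
  have hey' : ∀ b c, e b * y c * (e b)⁻¹ = y c := fun b c => by rw [(hey b c).eq, mul_inv_cancel_right]
  have Badd : ∀ b b' a, B (b + b') a = B b a + B b' a := by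
    intro b b' a
    refine (uniq a a _ _ ?_).2
    rw [← hB, he, yadd]
    calc e b * e b' * x a * (e b * e b')⁻¹ = e b * (e b' * x a * (e b')⁻¹) * (e b)⁻¹ := by group
      _ = (e b * x a * (e b)⁻¹) * (e b * y (B b' a) * (e b)⁻¹) := by rw [hB]; group
      _ = _ := by rw [hB, hey', mul_assoc]
  have B0 : ∀ a, B 0 a = 0 := fun a => (uniq a a _ _ (by rw [← hB, e0, y0]; group)).2
  have B0' : ∀ b, B b 0 = 0 := fun b => (uniq 0 0 _ _ (by rw [← hB, x0, y0]; group)).2
  have Bneg : ∀ b a, B (-b) a = -B b a := fun b a =>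
    eq_neg_of_add_eq_zero_left (by rw [← Badd, neg_add_cancel, B0])
  -- the opposite root group
  have fy : ∀ b a, f b * y a * (f b)⁻¹ = x (B b a) * y a := by
    intro b a
    rw [hf]
    calc n * e (-b) * n⁻¹ * y a * (n * e (-b) * n⁻¹)⁻¹ = n * (e (-b) * x a * (e (-b))⁻¹) * n⁻¹ := by
          simp only [hy]; group
      _ = y a * (n * n * x (B (-b) a) * (n * n)⁻¹) := by rw [hB]; simp only [hy]; group
      _ = y a * x (B b a) := by rw [hn2, Bneg, neg_neg]
      _ = _ := (hxy _ _).symm.eq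
  have fx : ∀ b a, f b * x a * (f b)⁻¹ = x a := by
    intro b a
    have e1 : x a = n * y (-a) * n⁻¹ := by
      calc x a = n * n * x (-a) * (n * n)⁻¹ := by rw [hn2, neg_neg]
        _ = _ := by simp only [hy]; group
    rw [hf, e1]
    calc n * e (-b) * n⁻¹ * (n * y (-a) * n⁻¹) * (n * e (-b) * n⁻¹)⁻¹
        = n * (e (-b) * y (-a) * (e (-b))⁻¹) * n⁻¹ := by group
      _ = _ := by rw [hey']
  -- the monomial elements
  have key : ∀ b, b ≠ 0 → ∀ a, (e b * f (-b⁻¹) * e b) * x a * (e b * f (-b⁻¹) * e b)⁻¹ =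
      x (B (-b⁻¹) (B b a) + a) * y (B b (B (-b⁻¹) (B b a) + a) + B b a) := by
    intro b _ a
    calc (e b * f (-b⁻¹) * e b) * x a * (e b * f (-b⁻¹) * e b)⁻¹
        = e b * (f (-b⁻¹) * (e b * x a * (e b)⁻¹) * (f (-b⁻¹))⁻¹) * (e b)⁻¹ := by group
      _ = e b * ((f (-b⁻¹) * x a * (f (-b⁻¹))⁻¹) * (f (-b⁻¹) * y (B b a) * (f (-b⁻¹))⁻¹)) * (e b)⁻¹ := by
          rw [hB]; group
      _ = e b * (x (B (-b⁻¹) (B b a) + a) * y (B b a)) * (e b)⁻¹ := by
          rw [fx, fy, ← mul_assoc (x a), ← hx, add_comm a]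
      _ = (e b * x (B (-b⁻¹) (B b a) + a) * (e b)⁻¹) * (e b * y (B b a) * (e b)⁻¹) := by group
      _ = _ := by rw [hB, hey', yadd]; group
  choose! s hs using hsc
  change ∀ b, b ≠ 0 → ∀ a, h b * y a * (h b)⁻¹ = y (s b * a) at hs
  have hP : ∀ b, b ≠ 0 → ∀ a, B b a = s b * a := by
    intro b hb a
    have h1 := key b hb a
    rw [hmono b hb, show h b * n * x a * (h b * n)⁻¹ = h b * y a * (h b)⁻¹ by simp only [hy]; group, hs b hb] at h1
    obtain ⟨e1, e2⟩ := uniq 0 (B (-b⁻¹) (B b a) + a) (s b * a) (B b (B (-b⁻¹) (B b a) + a) + B b a)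
      (by rw [x0, one_mul]; exact h1)
    rw [← e1, B0', zero_add] at e2
    exact e2.symm
  have hs1 : s 1 = 1 := by
    have h1 : h 1 = 1 := by
      have := hmono 1 one_ne_zero
      rw [inv_one, hn1] at this
      exact right_eq_mul.1 this
    have := hs 1 one_ne_zero 1
    rw [h1, one_mul, inv_one, mul_one] at this
    simpa using (yinj this).symm
  set σ : F → F := fun b => B b 1 with hσ
  have hσB : ∀ b a, B b a = σ b * a := by
    intro b a
    by_cases hb : b = 0
    · simp [hσ, hb, B0]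
    · simp [hσ, hP b hb]
  have σmul : ∀ b c, σ (b * c) = σ b * σ c := by
    intro b c
    by_cases hb : b = 0
    · simp [hσ, hb, B0]
    by_cases hc : c = 0
    · simp [hσ, hc, B0]
    simp only [hσ, hP b hb, hP c hc, hP (b * c) (mul_ne_zero hb hc), mul_one]
    refine mul_right_cancel₀ one_ne_zero (yinj ?_)
    rw [← hs _ (mul_ne_zero hb hc) 1, hmul b c hb hc,
      show h b * h c * y 1 * (h b * h c)⁻¹ = h b * (h c * y 1 * (h c)⁻¹) * (h b)⁻¹ by group, hs c hc, hs b hb]
    simp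
  let ψ : F →+* F :=
    { toFun := σ
      map_one' := by simp [hσ, hP 1 one_ne_zero, hs1]
      map_mul' := σmul
      map_zero' := by simp [hσ, B0]
      map_add' := fun b c => by simp [hσ, Badd] }
  exact ⟨RingEquiv.ofBijective ψ ⟨ψ.injective, Finite.injective_iff_surjective.1 ψ.injective⟩, fun b a => by
    rw [hB, hσB]; rfl⟩

end Cfsg.Agent.Invol.BrauerL3.Lin
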