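import Cfsg.Agent.Lib.Invol.BrauerL3.LinearCount
import Cfsg.Agent.Lib.Invol.BrauerL3.LinearModule
import Cfsg.Agent.Lib.Invol.BrauerL3.LinearHexagon

/-!
# Brauer's theorem: the relations of `SL(3, F)`

`exists_hom`: if both transpositions give commuting root groups, the six root groups satisfy Steinberg's relations.
-/

set_option autoImplicit false
set_option linter.unusedSectionVars false
set_option linter.style.haveILetI false

namespace Cfsg.Agent.Invol.BrauerL3.Lin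

open Subgroup
open scoped commutatorElement

universe u v

variable {G : Type u} [Group G] {F : Type v} [Field F] [Fintype F]

namespace Sys

variable (S : Sys G F)

noncomputable section

/-- The torus element `diag(b, b⁻¹)`. -/
def hd (b : F) : G := by
  classical exact if hb : b = 0 then 1 else S.μ (dg (Units.mk0 b hb) (Units.mk0 b hb)⁻¹)

theorem hd_eq {b : F} (hb : b ≠ 0) : S.hd b = S.μ (dg (Units.mk0 b hb) (Units.mk0 b hb)⁻¹) := by
  simp [hd, hb]

theorem hd_mem {b : F} (hb : b ≠ 0) : S.hd b ∈ S.A := S.hd_eq hb ▸ S.dg_mem _ _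

theorem hd_mul (b c : F) (hb : b ≠ 0) (hc : c ≠ 0) : S.hd (b * c) = S.hd b * S.hd c := by
  rw [S.hd_eq hb, S.hd_eq hc, S.hd_eq (mul_ne_zero hb hc), ← map_mul, dg_mul, ← mul_inv]
  congr 2 <;> simp [Units.ext_iff]

theorem mono_hd (b : F) (hb : b ≠ 0) : S.e b * S.μ (lo (-b⁻¹)) * S.e b = S.hd b * S.n := by
  rw [S.hd_eq hb, e, n, ← map_mul, ← map_mul, ← map_mul]
  exact congrArg S.μ (up_lo_up (Units.mk0 b hb))

variable [Finite G] {p : ℕ} [Fact p.Prime] [CharP F p]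

include p in
theorem exists_hom (hP₀ : S.P S.h₀) (hP₁ : S.P S.h₁) :
    ∃ Φ : Matrix.SpecialLinearGroup (Fin 3) F →* G, Φ ≠ 1 := by
  classical
  have mn₁ : S.Moves (S.n * S.r₁) S.w S.t := by
    have h := S.moves_n.mul S S.moves_r₁
    rwa [S.n_tw, S.moves_n.1] at h
  have hvinv : ∀ x, S.t * S.rt S.r₁ x * S.t⁻¹ = S.rt S.r₁ (-x) := S.t_inverts_r₁
  -- `r₁⁻¹ n r₁` moves as `h₁`
  have hri : S.Moves S.r₁⁻¹ S.w (S.t * S.w) := by
    obtain ⟨e1, e2⟩ := S.moves_r₁.inv S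
    rw [Moves, inv_inv]
    refine ⟨e2, ?_⟩
    have e3 : S.r₁⁻¹ * (S.t * S.w * S.t) * S.r₁ = S.r₁⁻¹ * (S.t * S.w) * S.r₁ * (S.r₁⁻¹ * S.t * S.r₁) := by group
    rw [e1, e2, show S.t * S.w * S.t = S.w by rw [mul_assoc, S.tw_comm.symm.eq, ← mul_assoc, S.tt, one_mul]] at e3
    exact e3
  have hA : S.P (S.r₁⁻¹ * (S.n * S.r₁)) := hP₁.congr S S.moves_h₁ (by
    have h := hri.mul S mn₁
    rwa [hri.2, hri.1] at h)
  have hxy : ∀ a c, Commute (S.rt S.r₁ a) (S.n * S.rt S.r₁ c * S.n⁻¹) := fun a c => by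
    rw [← S.rt_mul]
    have h := hA.translate S (g := S.r₁) a c
    rwa [mul_inv_cancel_left] at h
  have hey : ∀ b c, Commute (S.e b) (S.n * S.rt S.r₁ c * S.n⁻¹) := fun b c => by
    rw [← S.rt_mul]
    exact hP₀.congr S S.moves_h₀ mn₁ b c
  -- the commutator
  have hex : ∀ b a, ∃ c, S.e b * S.rt S.r₁ a * (S.e b)⁻¹ = S.rt S.r₁ a * (S.n * S.rt S.r₁ c * S.n⁻¹) := by
    intro b a
    have m00 : S.Moves (S.h₀ * S.h₀) S.t S.w := by
      have h := S.moves_h₀.mul S S.moves_h₀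
      rwa [S.moves_h₀.2, S.moves_h₀.1] at h
    have m01 : S.Moves (S.h₀ * S.h₁) (S.t * S.w) S.t := by
      have h := S.moves_h₀.mul S S.moves_h₁
      rwa [S.h₀_tw, S.moves_h₀.2] at h
    obtain ⟨k₀, hk₀, e₀⟩ := S.exists_rescale m00 S.moves_one
    obtain ⟨k₁, hk₁, e₁⟩ := S.exists_rescale m01 S.moves_r₁
    obtain ⟨k₂, hk₂, e₂⟩ := S.exists_rescale mn₁ S.moves_h₀
    obtain ⟨c, hc⟩ := S.comm_mem (p := p) hP₀ hP₁ (k₀ * b) (k₁ * a)
    refine ⟨k₂ * c, ?_⟩
    have h1 : ⁅S.e b, S.rt S.r₁ a⁆ = S.n * S.rt S.r₁ (k₂ * c) * S.n⁻¹ := by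
      rw [← S.rt_one b, e₀, e₁, S.rt_mul, S.rt_mul, ← S.rt_mul S.n, ← e₂]
      conv_rhs => rw [rt, ← hc]
      simp only [commutatorElement_def]
      group
    rw [(hxy a (k₂ * c)).eq, ← h1, commutatorElement_def]
    group
  have hinj : ∀ a c, S.rt S.r₁ a * (S.n * S.rt S.r₁ c * S.n⁻¹) = 1 → a = 0 ∧ c = 0 := by
    intro a c h
    rw [← S.rt_mul] at h
    have h1 : Commute (S.rt S.r₁ a) S.w := by
      have e1 : S.rt S.r₁ a = (S.rt (S.n * S.r₁) c)⁻¹ := eq_inv_of_mul_eq_one_left h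
      rw [e1]
      exact (mn₁.fix S c).inv_left
    have hw : ∀ x, S.w * S.rt S.r₁ x * S.w⁻¹ = S.rt S.r₁ (-x) := fun x => by
      have h := S.moves_r₁.inverts' S x
      rwa [S.tw_comm.eq, mul_assoc S.w, S.tt, mul_one] at h
    have h2 := hw a
    rw [h1.symm.eq, mul_inv_cancel_right, ← inv_inj, ← S.rt_neg, ← S.rt_neg, neg_neg] at h2
    have h3 : S.rt S.r₁ (a + a) = 1 := by rw [S.rt_add]; nth_rw 1 [← h2]; rw [← S.rt_add, neg_add_cancel, S.rt_zero]
    have h4 : a = 0 := (mul_eq_zero.1 (show (2 : F) * a = 0 by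
      linear_combination (S.rt_eq_one.1 h3))).resolve_left S.two_ne
    rw [h4, S.rt_zero, one_mul, S.rt_eq_one] at h
    exact ⟨h4, h⟩
  have hf : ∀ b, S.μ (lo b) = S.n * S.e (-b) * S.n⁻¹ := fun b => by rw [S.n_e, neg_neg]
  have hn1 : S.e 1 * S.μ (lo (-1)) * S.e 1 = S.n := S.n_eq_mono.symm
  have hn2 : ∀ a, S.n * S.n * S.rt S.r₁ a * (S.n * S.n)⁻¹ = S.rt S.r₁ (-a) := fun a => by rw [S.n_sq, hvinv]
  have hgood : S.Good (S.n * S.r₁) := S.good_n.mul S S.good_r₁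
  obtain ⟨σ, hσ⟩ := exists_field_aut S.e (fun b => S.μ (lo b)) (S.rt S.r₁) S.n S.hd S.e_add (S.rt_add S.r₁) hf
    hn2 hxy hey hex hinj (fun b hb => S.mono_hd b hb) hn1 S.hd_mul
    (fun b hb => by
      obtain ⟨c, -, hc⟩ := S.A_conj_rt hgood (S.hd_mem hb)
      exact ⟨c, fun a => by rw [← S.rt_mul S.n S.r₁, ← S.rt_mul S.n S.r₁, hc]⟩)
  -- the new parameters
  set x12 : F → G := fun a => S.rt S.r₁ (σ a) with hx12
  set x21 : F → G := fun a => S.r₁ * S.μ (lo (σ a)) * S.r₁⁻¹ with hx21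
  set x32 : F → G := fun a => S.μ (lo a) with hx32
  have hn : mono S.e x32 = S.n := hn1
  have hm : mono x12 x21 = S.r₁ * S.n * S.r₁⁻¹ := by
    simp only [mono, hx12, hx21, map_one, map_neg, rt]
    rw [← hn1]; group
  set m := S.r₁ * S.n * S.r₁⁻¹ with hmd
  have mm : S.Moves m S.w S.t := by
    obtain ⟨e1, e2⟩ := hri
    rw [inv_inv] at e1 e2
    refine ⟨?_, ?_⟩
    · rw [show m * S.t * m⁻¹ = S.r₁ * (S.n * (S.r₁⁻¹ * S.t * S.r₁) * S.n⁻¹) * S.r₁⁻¹ by rw [hmd]; group, e1, S.n_w,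
        S.moves_r₁.prod, mul_assoc, S.tw_comm.symm.eq, ← mul_assoc, S.tt, one_mul]
    · rw [show m * S.w * m⁻¹ = S.r₁ * (S.n * (S.r₁⁻¹ * S.w * S.r₁) * S.n⁻¹) * S.r₁⁻¹ by rw [hmd]; group, e2,
        S.n_tw, S.moves_r₁.2]
  have hrel : ∀ a b, S.e b * x12 a * (S.e b)⁻¹ = x12 a * (S.n * x12 (b * a) * S.n⁻¹) := fun a b => by
    simp only [hx12, map_mul, hσ]
  have hth : ∀ a, third S.e x32 x12 a = S.n * x12 (-a) * S.n⁻¹ := fun a => by rw [third, hn]
  have hr₁ : ∀ a b, ⁅x12 a, S.e b⁆ = third S.e x32 x12 (a * b) := fun a b => by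
    rw [hth, commutatorElement_def,
      show x12 a * S.e b * (x12 a)⁻¹ * (S.e b)⁻¹ = x12 a * (S.e b * (x12 a)⁻¹ * (S.e b)⁻¹) by group,
      show (x12 a)⁻¹ = x12 (-a) by simp [hx12, S.rt_neg], hrel, ← mul_assoc,
      show x12 a * x12 (-a) = 1 by simp only [hx12]; rw [← S.rt_add, ← map_add, add_neg_cancel, map_zero, S.rt_zero],
      one_mul, mul_neg, mul_comm a b]
  have hm2 : m * m = S.t * S.w := by
    rw [hmd, show S.r₁ * S.n * S.r₁⁻¹ * (S.r₁ * S.n * S.r₁⁻¹) = S.r₁ * (S.n * S.n) * S.r₁⁻¹ by group, S.n_sq,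
      S.moves_r₁.1]
  -- the second module
  obtain ⟨k₃, hk₃, e₃⟩ := S.exists_rescale mm mn₁
  have hT23 : ∀ a, S.t * S.w * S.e a * (S.t * S.w)⁻¹ = S.e (-a) := fun a => by
    rw [show S.t * S.w * S.e a * (S.t * S.w)⁻¹ = S.t * (S.w * S.e a * S.w⁻¹) * S.t⁻¹ by group, S.w_e,
      (S.e_t _).symm.eq, mul_inv_cancel_right]
  have hTA : S.t * S.w ∈ S.A := mul_mem (S.mem_A.2 ⟨Commute.refl _, S.tw_comm⟩)
    (S.mem_A.2 ⟨S.tw_comm.symm, Commute.refl _⟩)
  have hthird : ∀ c, third S.e x32 x12 c = m * S.e (k₃ * σ (-c)) * m⁻¹ := fun c => by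
    rw [hth]
    simp only [hx12]
    rw [← S.rt_mul, e₃]; rfl
  have hmg : S.Good m := mm.good S (fun _ h => S.A_w h) fun _ h => S.A_t h
  obtain ⟨τ, hτ⟩ := exists_field_aut x12 x21 S.e m (fun b => S.r₁ * S.hd (σ b) * S.r₁⁻¹)
    (fun a b => by simp [hx12, map_add, S.rt_add]) S.e_add
    (fun b => by
      simp only [hx21, hx12, hmd, rt, map_neg]
      rw [hf]; group)
    (fun a => by rw [hm2, hT23])
    (fun a c => hP₀.congr S S.moves_h₀ mm a c)
    (fun b c => by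
      obtain ⟨k, -, hk⟩ := S.exists_rescale mn₁ mm
      show Commute (x12 b) (S.rt m c)
      rw [hk, S.rt_mul]
      exact hxy _ _)
    (fun b a => by
      refine ⟨k₃ * σ (-(b * a)), ?_⟩
      rw [← hthird, ← hr₁, commutatorElement_def]
      rw [show S.e a * (x12 b * S.e a * (x12 b)⁻¹ * (S.e a)⁻¹) = S.e a * ⁅x12 b, S.e a⁆ by rw [commutatorElement_def],
        hr₁, show S.e a * third S.e x32 x12 (b * a) = third S.e x32 x12 (b * a) * S.e a by
          rw [hth]; exact (hey _ _).eq, ← hr₁, commutatorElement_def]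
      group)
    (fun a c h => by
      have h1 : Commute (S.e a) S.w := by
        rw [show S.e a = (S.rt m c)⁻¹ from eq_inv_of_mul_eq_one_left h]
        exact (mm.fix S c).inv_left
      have h2 : S.e a = 1 := S.A_inter_X (S.mem_A.2 ⟨S.e_t a, h1⟩) (S.e_mem a)
      rw [h2, one_mul, conj_eq_one_iff] at h
      exact ⟨S.e_eq_one.1 h2, S.e_eq_one.1 h⟩)
    (fun b hb => by
      have hs : σ b ≠ 0 := by simpa using hb
      simp only [hx12, hx21, hmd, rt, map_neg, map_inv₀]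
      calc S.r₁ * S.e (σ b) * S.r₁⁻¹ * (S.r₁ * S.μ (lo (-(σ b)⁻¹)) * S.r₁⁻¹) * (S.r₁ * S.e (σ b) * S.r₁⁻¹)
          = S.r₁ * (S.e (σ b) * S.μ (lo (-(σ b)⁻¹)) * S.e (σ b)) * S.r₁⁻¹ := by group
        _ = _ := by rw [S.mono_hd _ hs]; group)
    hm
    (fun b c hb hc => by
      simp only [map_mul]
      rw [S.hd_mul _ _ (by simpa using hb) (by simpa using hc)]; group)
    (fun b hb => by
      have hA' : S.r₁ * S.hd (σ b) * S.r₁⁻¹ ∈ S.A := S.good_r₁.conj S (S.hd_mem (by simpa using hb))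
      obtain ⟨c, -, hc⟩ := S.A_conj_rt hmg hA'
      exact ⟨c, fun a => hc a⟩)
  have hm23 : ∀ b, m * S.e b * m⁻¹ = third S.e x32 x12 b := by
    intro b
    have h := hτ 1 b
    rw [map_one, one_mul] at h
    have e1 : x12 1 * S.e b * (x12 1)⁻¹ = S.e b * third S.e x32 x12 b := by
      have e2 := hr₁ 1 b
      rw [one_mul, commutatorElement_def, mul_inv_eq_iff_eq_mul] at e2
      rw [e2, hth]; exact (hey b (σ (-b))).symm.eq
    exact (mul_left_cancel (e1.symm.trans h)).symm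
  have hT : Commute S.t (S.t * S.w) := (Commute.refl S.t).mul_right S.tw_comm
  -- the braid relation
  have hbraid : m * S.n * m * (m * S.n)⁻¹ = S.n := by
    set c := m * S.n with hc
    have c12 : ∀ a, c * x12 a * c⁻¹ = S.e a := fun a => by
      calc c * x12 a * c⁻¹ = m * (S.n * x12 (- -a) * S.n⁻¹) * m⁻¹ := by rw [hc, neg_neg]; group
        _ = m * (m * S.e (-a) * m⁻¹) * m⁻¹ := by rw [hm23, hth]
        _ = (m * m) * S.e (-a) * (m * m)⁻¹ := by group
        _ = S.e a := by rw [hm2, hT23, neg_neg]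
    have hcm : S.Moves c S.w (S.t * S.w) := by
      have h := mm.mul S S.moves_n
      rwa [mm.1, mm.prod, ← S.tw_comm.eq] at h
    have hcv : c * (S.t * S.w) * c⁻¹ = S.t := by
      rw [hcm.prod, ← mul_assoc, S.tw_comm.symm.eq, mul_assoc, S.ww, mul_one]
    have hlow : ∀ b, ∃ y, c * (S.r₁ * S.μ (lo b) * S.r₁⁻¹) * c⁻¹ = S.μ (lo y) := fun b => by
      have h1 : S.Moves (c * (S.r₁ * S.n)) S.t (S.t * S.w) := by
        have h := hcm.mul S (S.moves_r₁.mul S S.moves_n)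
        rwa [S.moves_r₁.1, S.moves_r₁.prod, show S.t * S.w * S.t = S.w by
          rw [mul_assoc, S.tw_comm.symm.eq, ← mul_assoc, S.tt, one_mul], hcv, hcm.2] at h
      obtain ⟨k, -, hk⟩ := S.exists_rescale S.moves_n h1
      refine ⟨-(k * -b), ?_⟩
      rw [← S.rt_n, ← hk, hf, rt]; group
    obtain ⟨y, hy⟩ := hlow (σ (-1))
    have hM : c * m * c⁻¹ = S.μ (up 1 * lo y * up 1) := by
      rw [map_mul, map_mul, ← hy, show S.μ (up 1) = c * x12 1 * c⁻¹ from (c12 1).symm]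
      simp only [hmd, hx12, rt, map_one, map_neg]
      rw [← hn1]; group
    have hmove : c * m * c⁻¹ * S.w * (c * m * c⁻¹)⁻¹ = S.t * S.w := by
      obtain ⟨e1, e2⟩ := hcm
      have e3 : c⁻¹ * S.w * c = S.t := by rw [← e1]; group
      rw [show c * m * c⁻¹ * S.w * (c * m * c⁻¹)⁻¹ = c * (m * (c⁻¹ * S.w * c) * m⁻¹) * c⁻¹ by group, e3, mm.1, e2]
    rw [hM, mul_inv_eq_iff_eq_mul, S.tw_eq, w, ← map_mul, ← map_mul] at hmove
    obtain ⟨z, hz, -⟩ := S.eq_scalar hmove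
    have e10 := congrArg (fun g : GL (Fin 2) F => (g : Matrix (Fin 2) (Fin 2) F) 1 0) hz
    have e01 := congrArg (fun g : GL (Fin 2) F => (g : Matrix (Fin 2) (Fin 2) F) 0 1) hz
    have e00 := congrArg (fun g : GL (Fin 2) F => (g : Matrix (Fin 2) (Fin 2) F) 0 0) hz
    simp [mul00, mul01, mul10, mul11] at e10 e01 e00
    have hy1 : y = -1 := by
      by_cases hy0 : y = 0
      · exfalso
        subst hy0
        simp at e00 e01
        have h2 := S.two_ne
        exact h2 (mul_right_cancel₀ h2 (by linear_combination (2 : F) * e00 - e01))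
      · have hz1 : (z : F) = 1 := mul_right_cancel₀ hy0 (by linear_combination -e10)
        rw [hz1] at e00
        have h2 : (2 : F) * (1 + y) = 0 := by linear_combination e00
        linear_combination (mul_eq_zero.1 h2).resolve_left S.two_ne
    rw [hc] at hM ⊢
    rw [hM, hy1]; rfl
  have H : Hexagon S.t (S.t * S.w) x12 x21 S.e x32 :=
    { add12 := fun a b => by simp [hx12, map_add, S.rt_add]
      ne := fun h => one_ne_zero (α := F) (by simpa [hx12, S.rt_eq_one] using h)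
      m2 := by rw [hm, hm2]
      n2 := by rw [hn, S.n_sq]
      tt := S.tt
      TT := by rw [show S.t * S.w * (S.t * S.w) = S.t * (S.w * S.t) * S.w by group, S.tw_comm.symm.eq, ← mul_assoc,
        S.tt, one_mul, S.ww]
      tT := hT
      nT := by rw [hn, S.n_tw, ← mul_assoc, S.tt, one_mul]
      m12 := fun a => by
        rw [hm]
        simp only [hx12, hx21, rt, map_neg]
        rw [← S.n_e (σ a), hmd]; group
      n23 := fun a => by rw [hn, S.n_e]
      t12 := fun a => by simp only [hx12, map_neg]; exact hvinv _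
      T23 := hT23
      c12 := fun a b => by rw [hth]; exact hxy _ _
      c23 := fun a b => by rw [hth]; exact hey _ _
      rel₁ := hr₁
      rel₂ := fun a b => by
        show ⁅third S.e x32 x12 a, S.μ (lo b)⁆ = x12 (a * b)
        have e1 : ⁅third S.e x32 x12 a, S.μ (lo b)⁆ = S.n * ⁅x12 (-a), S.e (-b)⁆ * S.n⁻¹ := by
          rw [hth, hf, commutatorElement_def, commutatorElement_def]; group
        rw [e1, hr₁, hth, neg_mul_neg]
        calc S.n * (S.n * x12 (-(a * b)) * S.n⁻¹) * S.n⁻¹ = S.n * S.n * x12 (-(a * b)) * (S.n * S.n)⁻¹ := by group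
          _ = _ := by simp only [hx12, map_neg]; rw [hn2, neg_neg]
      m23 := fun a => by rw [hm]; exact hm23 a
      braid := by rw [hm, hn]; exact hbraid }
  exact H.exists_hom

end

end Sys

end Cfsg.Agent.Invol.BrauerL3.Lin
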