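import Cfsg.Agent.Lib.Invol.BrauerL3.LinearHexSys
import Cfsg.Agent.Lib.Classical.SLNormal
import Cfsg.Agent.Lib.Classical.SLGroup

/-!
# Brauer's theorem: the identification of `PSL(3, q)`

`psl_of_facts`: a group in which the centraliser of the involution `t` is `GL(2, q)/Z`, `|Z| = (3, q - 1)`, which has
the order of `PSL(3, q)`, and in which `t` and any other involution of its centraliser are interchanged, is `PSL(3, q)`.
-/

set_option autoImplicit false
set_option linter.unusedSectionVars false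
set_option linter.style.haveILetI false

namespace Cfsg.Agent.Invol.BrauerL3

open Subgroup

universe u v

variable {G : Type u} [Group G]

/-- The hypothesis on `t` from the conjugacy of pairs of commuting involutions. -/
theorem Frame.swap [Fintype G] [IsSimpleGroup G] {t : G} {p : ℕ} {Q : ℤ} (F : Frame (Cen t) (tc t) p Q)
    (w : G) (hw : orderOf w = 2) (hwt : Commute w t) (hne : w ≠ t) :
    ∃ h, h * t * h⁻¹ = w ∧ h * w * h⁻¹ = t := by
  obtain ⟨h₁, e₁, e₂⟩ := F.pairs hw F.tG hwt hne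
  obtain ⟨h₂, e₃, e₄⟩ := F.pairs F.tG hw hwt.symm hne.symm
  refine ⟨h₁ * h₂⁻¹, ?_, ?_⟩
  · rw [← e₁]; conv_lhs => rw [← e₃]
    group
  · rw [← e₂]; conv_lhs => rw [← e₄]
    group

variable {F : Type v} [Field F] [Fintype F]

theorem exists_sys [Finite G] {t : G} (hq : Odd (Fintype.card F)) (Z : Subgroup (GL (Fin 2) F)) [Z.Normal]
    (hZ : Z ≤ center (GL (Fin 2) F)) (hZo : Odd (Nat.card Z)) (e : Cen t ≃* GL (Fin 2) F ⧸ Z) (ht : orderOf t = 2)
    (hswap : ∀ w : G, orderOf w = 2 → Commute w t → w ≠ t → ∃ h, h * t * h⁻¹ = w ∧ h * w * h⁻¹ = t) :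
    ∃ S : Lin.Sys G F, S.t = t ∧ Nat.card S.μ.ker = Nat.card Z := by
  classical
  haveI := Fintype.ofFinite G
  set μ : GL (Fin 2) F →* G :=
    (Cen t).subtype.comp (e.symm.toMonoidHom.comp (QuotientGroup.mk' Z)) with hμ
  have hker : μ.ker = Z := by
    ext g
    rw [MonoidHom.mem_ker, hμ]
    show ((e.symm (QuotientGroup.mk g) : Cen t) : G) = 1 ↔ g ∈ Z
    rw [OneMemClass.coe_eq_one, MulEquiv.map_eq_one_iff, QuotientGroup.eq_one_iff]
  have hsc : ∀ {a : Fˣ}, μ (Lin.dg a a) = 1 → a * a = 1 → a = 1 := fun {a} h h2 => by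
    have h1 : (Lin.dg a a : GL (Fin 2) F) ^ 2 = 1 := by rw [pow_two, Lin.dg_mul, h2, Lin.dg_one]
    have h3 : orderOf (Lin.dg a a) ∣ Nat.card Z := orderOf_dvd_natCard Z (hker ▸ h)
    have h4 : orderOf (Lin.dg a a) = 1 := Nat.eq_one_of_dvd_coprimes (Nat.coprime_two_right.2 hZo) h3
      (orderOf_dvd_of_pow_eq_one h1)
    rw [orderOf_eq_one_iff, ← Lin.dg_one] at h4
    exact congrArg Prod.fst (@Lin.dgHom_injective F _ (a, a) (1, 1) h4)
  have hscalar : ∀ {a b : Fˣ}, μ (Lin.dg a b) = 1 → a = b := fun {a b} h => by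
    obtain ⟨c, hc⟩ := Lin.center_dg (hZ (hker ▸ h : Lin.dg a b ∈ Z))
    obtain ⟨e1, e2⟩ := Prod.ext_iff.1 (@Lin.dgHom_injective F _ (a, b) (c, c) hc)
    exact e1.trans e2.symm
  have h2 : (2 : F) ≠ 0 := by
    intro h
    have h1 : ringChar F = 2 := by
      have hd := (ringChar.spec F 2).1 (by exact_mod_cast h)
      exact ((Nat.dvd_prime Nat.prime_two).1 hd).resolve_left (CharP.char_ne_one F _)
    exact Nat.not_even_iff_odd.2 hq (Nat.even_iff.2 (FiniteField.even_card_of_char_two h1))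
  have hneg : (-1 : Fˣ) ≠ 1 := fun h => h2 (by
    have := congrArg Units.val h
    simp only [Units.val_neg, Units.val_one] at this
    linear_combination -this)
  have hsurj : ∀ x ∈ Cen t, ∃ g, μ g = x := fun x hx => by
    obtain ⟨g, hg⟩ := QuotientGroup.mk'_surjective Z (e ⟨x, hx⟩)
    exact ⟨g, by rw [hμ]; show ((e.symm (QuotientGroup.mk' Z g) : Cen t) : G) = x; rw [hg, e.symm_apply_apply]⟩
  have hmemC : ∀ g, Commute (μ g) t := fun g => mem_Cen.1 (e.symm (QuotientGroup.mk g)).2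
  -- the image of `-1` is `t`
  have hneg1 : μ (Lin.dg (-1) (-1)) = t := by
    obtain ⟨g, hg⟩ := hsurj t (t_mem t)
    have hcomm : ∀ k, μ (g * k) = μ (k * g) := fun k => by
      rw [map_mul, map_mul, hg]; exact (hmemC k).symm.eq
    have scal : ∀ k, ∃ a, g * k = Lin.dg a a * (k * g) ∧ (a * a = 1 → a = 1) := fun k => by
      have h : μ (g * k * (k * g)⁻¹) = 1 := by rw [map_mul, map_inv, hcomm k, mul_inv_cancel]
      obtain ⟨a, ha⟩ := Lin.center_dg (hZ (hker ▸ h : g * k * (k * g)⁻¹ ∈ Z))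
      refine ⟨a, by rw [← ha, inv_mul_cancel_right], hsc ?_⟩
      rwa [← ha]
    obtain ⟨a, ha, ha'⟩ := scal (Lin.dg 1 (-1))
    obtain ⟨x, y, rfl⟩ := Lin.diag_of_comm h2 ha' (by rw [ha, mul_assoc])
    obtain ⟨b, hb, hb'⟩ := scal (Lin.up 1)
    obtain ⟨-, -, hxy⟩ := Lin.upper_of_conj hb' one_ne_zero (hb.trans (mul_assoc _ _ _).symm)
    simp at hxy
    obtain rfl : x = y := Units.ext hxy
    have hsq : μ (Lin.dg (x * x) (x * x)) = 1 := by
      rw [← Lin.dg_mul, map_mul, hg, ← pow_two, ← ht, pow_orderOf_eq_one]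
    obtain ⟨k, hk⟩ := hZo.of_dvd_nat (orderOf_dvd_natCard Z (hker ▸ hsq : Lin.dg (x * x) (x * x) ∈ Z))
    set c : Fˣ := (x * x) ^ (k + 1) with hc
    have hk' : (x * x) ^ (2 * k + 1) = 1 := by
      have h3 : Lin.dgHom (x * x, x * x) ^ (2 * k + 1) = Lin.dgHom (1 : Fˣ × Fˣ) := by
        rw [map_one, ← hk]; exact pow_orderOf_eq_one _
      rw [← map_pow] at h3
      exact congrArg Prod.fst (Lin.dgHom_injective h3)
    have hc2 : c * c = x * x := by
      rw [hc, ← pow_add, show k + 1 + (k + 1) = 2 * k + 1 + 1 by ring, pow_succ, hk', one_mul]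
    have hcker : μ (Lin.dg c c) = 1 := by
      rw [show Lin.dg c c = Lin.dgHom ((x * x, x * x) ^ (k + 1)) from rfl, map_pow, map_pow,
        show μ (Lin.dgHom (x * x, x * x)) = 1 from hsq, one_pow]
    have hμx : μ (Lin.dg (x * c⁻¹) (x * c⁻¹)) = t := by
      rw [← Lin.dg_mul, map_mul, ← Lin.dg_inv, map_inv, hcker, inv_one, mul_one, hg]
    have h4 : ((x * c⁻¹ : Fˣ) : F) * (x * c⁻¹ : Fˣ) = 1 :=
      congrArg Units.val (show (x * c⁻¹) * (x * c⁻¹) = 1 by rw [mul_mul_mul_comm, ← mul_inv, hc2, mul_inv_cancel])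
    rcases mul_self_eq_one_iff.1 h4 with h5 | h5
    · exfalso
      rw [show x * c⁻¹ = 1 from Units.ext h5, Lin.dg_one, map_one] at hμx
      rw [← hμx, orderOf_one] at ht
      omega
    · rw [show x * c⁻¹ = -1 from Units.ext (by simpa using h5)] at hμx
      exact hμx
  -- the involution `w`
  have hw2 : orderOf (μ (Lin.dg 1 (-1))) = 2 := by
    refine orderOf_eq_prime ?_ fun h => hneg (hscalar h).symm
    rw [pow_two, ← map_mul, Lin.dg_mul]
    simp [Lin.dg_one]
  have hwne : μ (Lin.dg 1 (-1)) ≠ t := fun h => by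
    have h1 : μ (Lin.dg (-1) 1) = 1 := by
      have h3 : μ (Lin.dg 1 (-1) * Lin.dg (-1) (-1)) = 1 := by
        rw [map_mul, h, hneg1, ← pow_two, ← ht, pow_orderOf_eq_one]
      rw [Lin.dg_mul] at h3
      simpa using h3
    exact hneg (hscalar h1)
  refine ⟨{ μ := μ, onto := fun x hx => hsurj x (mem_Cen.2 (by rw [hneg1] at hx; exact hx.eq)), ker_center := hker ▸ hZ,
            ker_odd := hker ▸ hZo, hq := hq, swap := ?_ }, hneg1, by rw [hker]⟩
  rw [hneg1]
  exact hswap _ hw2 (hmemC _) hwne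

theorem psl_of_facts [Finite G] {t : G} (hq : Odd (Fintype.card F)) (Z : Subgroup (GL (Fin 2) F)) [Z.Normal]
    (hZ : Z ≤ center (GL (Fin 2) F)) (hz3 : Nat.card Z = Nat.gcd 3 (Fintype.card F - 1))
    (e : Cen t ≃* GL (Fin 2) F ⧸ Z) (ht : orderOf t = 2)
    (hswap : ∀ w : G, orderOf w = 2 → Commute w t → w ≠ t → ∃ h, h * t * h⁻¹ = w ∧ h * w * h⁻¹ = t)
    (hord : Nat.card G = Nat.card (Cen t) * (Fintype.card F ^ 2 * (Fintype.card F ^ 2 + Fintype.card F + 1))) :
    Nonempty (G ≃* Matrix.ProjectiveSpecialLinearGroup (Fin 3) F) := by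
  classical
  have hZo : Odd (Nat.card Z) := (by decide : Odd 3).of_dvd_nat (hz3 ▸ Nat.gcd_dvd_left _ _)
  obtain ⟨S, hSt, hSk⟩ := exists_sys hq Z hZ hZo e ht hswap
  subst hSt
  obtain ⟨p, hp⟩ := CharP.exists F
  haveI := hp
  haveI : Fact p.Prime := ⟨CharP.char_is_prime F p⟩
  obtain ⟨m, -, hm⟩ := FiniteField.card F p
  have hpq : p ∣ Fintype.card F := hm ▸ dvd_pow_self p m.ne_zero
  have hord' : Nat.card G = Nat.card ↥(centralizer ({S.t} : Set G)) *
      (Fintype.card F ^ 2 * (Fintype.card F ^ 2 + Fintype.card F + 1)) := hord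
  have hd : Fintype.card F ^ 2 * p ∣ Nat.card G := by
    rw [hord', S.card_C_A,
      show Nat.card S.A * (Fintype.card F * (Fintype.card F + 1)) * (Fintype.card F ^ 2 *
        (Fintype.card F ^ 2 + Fintype.card F + 1)) = Fintype.card F ^ 2 * Fintype.card F *
          (Nat.card S.A * (Fintype.card F + 1) * (Fintype.card F ^ 2 + Fintype.card F + 1)) by ring]
    exact Dvd.dvd.mul_right (mul_dvd_mul_left _ hpq) _
  have hd1 : Fintype.card F * p ∣ Nat.card G := (mul_dvd_mul_right (dvd_pow_self _ two_ne_zero) p).trans hd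
  have hnr₀ : ¬ S.P S.r₀ := S.no_triangle (p := p) hord'
  have hnr₁ : ¬ S.P S.r₁ := fun h => hnr₀ (Lin.Sys.P_r₀ h)
  have htw : S.t * (S.t * S.w) = S.w := by rw [← mul_assoc, S.tt, one_mul]
  have hboth : S.P S.h₀ ∧ S.P S.h₁ := by
    rcases S.exists_partner (p := p) hd1 with h | h | h | h
    · refine ⟨h, by_contra fun h' => ?_⟩
      exact S.single (p := p) (Or.inl rfl) S.moves_h₀.1 S.h₀_tw (S.moves_h₀.inverts S) S.good_h₀ S.moves_r₁
        S.moves_h₁ S.good_r₁ S.good_h₁ h hnr₁ h' hd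
    · exact absurd h hnr₀
    · refine ⟨by_contra fun h' => ?_, h⟩
      refine S.single (p := p) (u := S.t * S.w) (k₁ := S.h₀) (k₂ := S.r₀) (Or.inr rfl) S.moves_h₁.1 ?_
        S.t_inverts_h₁ S.good_h₁ ?_ ?_ S.good_h₀ S.good_r₀ h h' hnr₀ hd
      · rw [htw]; exact S.moves_h₁.2
      · rw [htw]; exact S.moves_h₀
      · rw [htw]; exact S.moves_r₀
    · exact absurd h hnr₁
  obtain ⟨Φ, hΦ⟩ := S.exists_hom (p := p) hboth.1 hboth.2
  haveI := Classical.PSL_isSimple (F := F) (n := 3) (by norm_num) (by intro hc; omega)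
  have hk : Φ.ker ≤ center (Matrix.SpecialLinearGroup (Fin 3) F) := by
    by_contra hno
    have htop := Classical.SL_normal_eq_top (Classical.SL_commutator_eq_top (by intro hc; simp at hc)) Φ.ker hno
    exact hΦ (MonoidHom.ext fun x => (MonoidHom.mem_ker (f := Φ)).1 (htop ▸ mem_top x))
  have hcl := Cfsg.Agent.Classical.natCard_PSL_mul (F := F) 3 (by norm_num)
  have hGL := Cfsg.Agent.Classical.natCard_GL_eq_SL_mul (F := F) 3 (by norm_num)
  rw [Matrix.card_GL_field, Fin.prod_univ_three, Nat.card_units, Nat.card_eq_fintype_card (α := F)] at hGL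
  -- the orders
  have hsl : Nat.card (Matrix.SpecialLinearGroup (Fin 3) F) = Nat.card G * Nat.card Z := by
    have hq1 : 0 < Fintype.card F - 1 := by have := S.three_le_card; omega
    refine Nat.eq_of_mul_eq_mul_left hq1 (hGL.symm.trans ?_)
    rw [hord', S.card_C_A, ← hSk]
    have hA := S.card_A
    obtain ⟨r, hr⟩ : ∃ r, Fintype.card F = r + 1 := ⟨Fintype.card F - 1, by omega⟩
    rw [hr] at hA ⊢
    rw [Nat.add_sub_cancel] at hA ⊢
    simp only [Fin.val_zero, Fin.val_one, Fin.val_two, pow_zero, pow_one]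
    rw [show (r + 1) ^ 3 - 1 = r * ((r + 1) ^ 2 + (r + 1) + 1) from Nat.sub_eq_of_eq_add (by ring),
      show (r + 1) ^ 3 - (r + 1) = (r + 1) * (r * (r + 2)) from Nat.sub_eq_of_eq_add (by ring),
      show (r + 1) ^ 3 - (r + 1) ^ 2 = (r + 1) ^ 2 * r from Nat.sub_eq_of_eq_add (by ring)]
    have key := congrArg (fun k : ℕ => r * (r + 1) * (r + 2) * (r + 1) ^ 2 * ((r + 1) ^ 2 + (r + 1) + 1) * k) hA
    linarith [key]
  have hcen : Nat.card (center (Matrix.SpecialLinearGroup (Fin 3) F)) = Nat.card Z := by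
    rw [Cfsg.Agent.Classical.natCard_center_SL, hz3, Nat.card_units, Nat.card_eq_fintype_card]; norm_num
  have hrange : Nat.card Φ.range * Nat.card Φ.ker = Nat.card G * Nat.card Z := by
    rw [← hsl, Φ.ker.card_eq_card_quotient_mul_card_subgroup,
      Nat.card_congr (QuotientGroup.quotientKerEquivRange Φ).toEquiv]
  have hk2 : Nat.card Φ.ker ≤ Nat.card Z := hcen ▸ Nat.le_of_dvd Nat.card_pos (card_dvd_of_le hk)
  have hr2 : Nat.card Φ.range ≤ Nat.card G := Nat.le_of_dvd Nat.card_pos (card_subgroup_dvd_card _)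
  have hkeq : Nat.card Φ.ker = Nat.card Z := le_antisymm hk2 (by
    refine Nat.le_of_mul_le_mul_left ?_ (Nat.card_pos (α := G))
    calc Nat.card G * Nat.card Z = Nat.card Φ.range * Nat.card Φ.ker := hrange.symm
      _ ≤ Nat.card G * Nat.card Φ.ker := Nat.mul_le_mul_right _ hr2)
  have hrtop : Φ.range = ⊤ := eq_top_of_card_eq _ (by
    rw [hkeq] at hrange
    exact Nat.eq_of_mul_eq_mul_right Nat.card_pos hrange)
  have hkc : Φ.ker = center (Matrix.SpecialLinearGroup (Fin 3) F) :=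
    Subgroup.eq_of_le_of_card_ge hk (by rw [hcen, hkeq])
  exact ⟨((QuotientGroup.quotientMulEquivOfEq hkc.symm).trans
    (QuotientGroup.quotientKerEquivOfSurjective Φ (MonoidHom.range_eq_top.1 hrtop))).symm⟩

end Cfsg.Agent.Invol.BrauerL3
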