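import Cfsg.Agent.Lib.Invol.BrauerL3.LinearRoots

/-!
# Brauer's theorem: commuting root groups

Existence of a root group commuting with `X` at `w` or `tw`, products of two or three commuting root groups.
-/

set_option autoImplicit false
set_option linter.unusedSectionVars false
set_option linter.style.haveILetI false

namespace Cfsg.Agent.Invol.BrauerL3.Lin

open Subgroup

universe u v

variable {G : Type u} [Group G] {F : Type v} [Field F] [Fintype F]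

namespace Sys

variable (S : Sys G F)

noncomputable section

theorem card_X : Nat.card S.X = Fintype.card F := by
  rw [← Nat.card_eq_fintype_card]
  refine (Nat.card_congr (Equiv.ofBijective (fun x => (⟨S.e x, S.e_mem x⟩ : S.X)) ⟨?_, ?_⟩)).symm
  · exact fun x y h => S.e_inj (congrArg Subtype.val h)
  · rintro ⟨_, x, rfl⟩; exact ⟨x, rfl⟩

theorem r₀_inv : S.Moves S.r₀⁻¹ (S.t * S.w) S.t := by
  obtain ⟨h1, h2⟩ := S.moves_r₀.inv S
  rw [Moves, inv_inv]
  refine ⟨?_, h1⟩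
  calc S.r₀⁻¹ * S.t * S.r₀ = S.r₀⁻¹ * (S.w * (S.t * S.w)) * S.r₀ := by
        rw [← mul_assoc S.w, S.tw_comm.symm.eq, mul_assoc S.t, S.ww, mul_one]
    _ = (S.r₀⁻¹ * S.w * S.r₀) * (S.r₀⁻¹ * (S.t * S.w) * S.r₀) := by group
    _ = _ := by rw [h1, h2]

theorem P_r₁ {S : Sys G F} (h : S.P S.r₀) : S.P S.r₁ := (h.inv S).congr S S.r₀_inv S.moves_r₁

theorem P_r₀ {S : Sys G F} (h : S.P S.r₁) : S.P S.r₀ := by
  have h1 : S.Moves S.r₁⁻¹ S.w (S.t * S.w) := by
    obtain ⟨e1, e2⟩ := S.moves_r₁.inv S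
    rw [Moves, inv_inv]
    refine ⟨e2, ?_⟩
    have e3 : S.r₁⁻¹ * (S.t * S.w * S.t) * S.r₁ = S.r₁⁻¹ * (S.t * S.w) * S.r₁ * (S.r₁⁻¹ * S.t * S.r₁) := by group
    rw [e1, e2, show S.t * S.w * S.t = S.w by rw [mul_assoc, S.tw_comm.symm.eq, ← mul_assoc, S.tt, one_mul]] at e3
    exact e3
  exact (h.inv S).congr S h1 S.moves_r₀

/-- Two commuting root groups. -/
def pairHom {g : G} (hP : S.P g) : Multiplicative (F × F) →* G where
  toFun v := S.e (Multiplicative.toAdd v).1 * S.rt g (Multiplicative.toAdd v).2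
  map_one' := by simp [S.e_zero, S.rt_zero]
  map_mul' v v' := by
    obtain ⟨x, y⟩ := v
    obtain ⟨x', y'⟩ := v'
    show S.e (x + x') * S.rt g (y + y') = S.e x * S.rt g y * (S.e x' * S.rt g y')
    rw [S.e_add, S.rt_add, mul_assoc (S.e x), mul_assoc (S.e x), ← mul_assoc (S.e x'), (hP x' y).eq, mul_assoc (S.rt g y)]

/-- The product of two commuting root groups. -/
def pair {g : G} (hP : S.P g) : Subgroup G := (S.pairHom hP).range

theorem mem_pair {g : G} (hP : S.P g) {y : G} : y ∈ S.pair hP ↔ ∃ a b, y = S.e a * S.rt g b :=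
  ⟨fun ⟨v, hv⟩ => ⟨_, _, hv.symm⟩, fun ⟨a, b, h⟩ => ⟨Multiplicative.ofAdd (a, b), h.symm⟩⟩

theorem pair_e {g : G} (hP : S.P g) (x : F) : S.e x ∈ S.pair hP :=
  (S.mem_pair hP).2 ⟨x, 0, by rw [S.rt_zero, mul_one]⟩

theorem pair_rt {g : G} (hP : S.P g) (x : F) : S.rt g x ∈ S.pair hP :=
  (S.mem_pair hP).2 ⟨0, x, by rw [S.e_zero, one_mul]⟩

theorem pair_comm {g : G} (hP : S.P g) {y y' : G} (hy : y ∈ S.pair hP) (hy' : y' ∈ S.pair hP) : Commute y y' := by
  obtain ⟨v, rfl⟩ := hy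
  obtain ⟨v', rfl⟩ := hy'
  exact (Commute.all v v').map _

/-- If `t` inverts the second root group, the product is direct. -/
theorem pair_inj {g : G} (hP : S.P g) (ht : ∀ x, S.t * S.rt g x * S.t⁻¹ = S.rt g (-x)) {x y : F}
    (h : S.e x * S.rt g y = 1) : x = 0 ∧ y = 0 := by
  have h1 := congrArg (fun k => S.t * k * S.t⁻¹) h
  simp only [mul_one, mul_inv_cancel] at h1
  rw [show S.t * (S.e x * S.rt g y) * S.t⁻¹ = S.t * S.e x * S.t⁻¹ * (S.t * S.rt g y * S.t⁻¹) by group, ht,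
    (S.e_t x).symm.eq, mul_inv_cancel_right] at h1
  have h2 := S.rt_add g y y
  have h3 : S.rt g (-y) = S.rt g y := mul_left_cancel (h1.trans h.symm)
  have h4 : S.rt g (y + y) = 1 := by rw [h2]; nth_rw 1 [← h3]; rw [← S.rt_add, neg_add_cancel, S.rt_zero]
  have h5 : (2 : F) * y = 0 := by linear_combination (S.rt_eq_one.1 h4)
  obtain rfl : y = 0 := (mul_eq_zero.1 h5).resolve_left S.two_ne
  rw [S.rt_zero, mul_one] at h
  exact ⟨S.e_eq_one.1 h, rfl⟩

theorem card_pair {g : G} (hP : S.P g) (ht : ∀ x, S.t * S.rt g x * S.t⁻¹ = S.rt g (-x)) :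
    Nat.card (S.pair hP) = Fintype.card F ^ 2 := by
  have hinj : Function.Injective (S.pairHom hP) := (injective_iff_map_eq_one _).2 fun v hv => by
    obtain ⟨x, y⟩ := v
    obtain ⟨rfl, rfl⟩ := S.pair_inj hP ht hv
    rfl
  rw [pair, ← Nat.card_congr (MonoidHom.ofInjective hinj).toEquiv, Nat.card_congr Multiplicative.toAdd,
    Nat.card_prod, Nat.card_eq_fintype_card, pow_two]

section Prime

variable {p : ℕ} [Fact p.Prime] [CharP F p]

theorem pow_rt (g : G) (x : F) : S.rt g x ^ p = 1 := by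
  rw [rt, conj_pow, S.pow_e, CharP.cast_eq_zero, zero_mul, S.e_zero, mul_one, mul_inv_cancel]

theorem pair_pgroup {g : G} (hP : S.P g) : IsPGroup p (S.pair hP) := fun ⟨y, hy⟩ => by
  obtain ⟨a, b, rfl⟩ := (S.mem_pair hP).1 hy
  exact ⟨1, Subtype.ext (by
    rw [SubmonoidClass.coe_pow, pow_one, (hP a b).mul_pow, S.pow_e, CharP.cast_eq_zero, zero_mul, S.e_zero,
      S.pow_rt, one_mul]; rfl)⟩

variable [Finite G]

/-- Some root group at `w` or `tw` commutes with `X`. -/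
theorem exists_partner (hdvd : Fintype.card F * p ∣ Nat.card G) :
    S.P S.h₀ ∨ S.P S.r₀ ∨ S.P S.h₁ ∨ S.P S.r₁ := by
  by_contra hno
  push Not at hno
  obtain ⟨n0, n0', n1, n1'⟩ := hno
  obtain ⟨W, hWo, hW, hWd⟩ := S.exists_W
  have hside : ∀ g, S.Good g → (g * S.t * g⁻¹ = S.w ∨ g * S.t * g⁻¹ = S.t * S.w) → ¬ S.P g → ¬ S.P (g * S.n) →
      ∀ y ∈ W, Commute y (g * S.t * g⁻¹) → Commute y S.t := by
    intro g hg hu hg0 hg1 y hy hyu
    obtain ⟨ho, hc, hn⟩ := S.W_part hWo hW hWd (g := g) (Or.inr hu)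
    rcases S.torus_or_root hg ho hc hn with h | h | h
    · exact S.A_t (h ⟨hy, mem_centralizer_singleton_iff.2 hyu.eq⟩)
    · exact absurd (S.P_of_mem hWo hW hWd fun x => (h x).1) hg0
    · exact absurd (S.P_of_mem hWo hW hWd fun x => (h x).1) hg1
  have hWC : W ≤ centralizer ({S.t} : Set G) := S.W_gen hWo hW hWd
    (fun y _ h => mem_centralizer_singleton_iff.2 h.eq)
    (fun y hy h => mem_centralizer_singleton_iff.2
      (hside S.h₀ S.good_h₀ (Or.inl S.moves_h₀.1) n0 n0' y hy (by rwa [S.moves_h₀.1])).eq)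
    fun y hy h => mem_centralizer_singleton_iff.2
      (hside S.h₁ S.good_h₁ (Or.inr S.moves_h₁.1) n1 n1' y hy (by rwa [S.moves_h₁.1])).eq
  obtain ⟨P, hP⟩ := (S.X_pgroup (p := p)).exists_le_sylow
  have hne : S.X < (P : Subgroup G) := by
    refine lt_of_le_of_ne hP fun e => ?_
    obtain ⟨m, -, hm⟩ := FiniteField.card F p
    rw [hm, ← pow_succ, (Fact.out : p.Prime).pow_dvd_iff_le_factorization Nat.card_pos.ne'] at hdvd
    have h1 := P.card_eq_multiplicity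
    rw [← e, S.card_X, hm] at h1
    have h2 := Nat.pow_right_injective (Fact.out : p.Prime).two_le h1
    omega
  haveI : Group.IsNilpotent ↥(P : Subgroup G) := P.isPGroup'.isNilpotent
  have hlt : S.X.subgroupOf (P : Subgroup G) < ⊤ := lt_top_iff_ne_top.2 fun e =>
    not_le_of_gt hne (subgroupOf_eq_top.1 e)
  obtain ⟨⟨y, hyP⟩, hyN, hyX⟩ := SetLike.exists_of_lt (Group.normalizerCondition_of_isNilpotent _ hlt)
  have hnorm : ∀ z ∈ S.X, y * z * y⁻¹ ∈ S.X := fun z hz =>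
    (mem_normalizer_iff.1 hyN ⟨z, hP hz⟩).1 hz
  obtain ⟨k, hk, c, hc, rfl⟩ := S.norm_split hWo hW hWd hnorm
  have hyt : Commute (k * c) S.t := Commute.mul_left (mem_centralizer_singleton_iff.1 (hWC hk) : Commute k S.t) hc
  obtain ⟨a, ha, x, e⟩ := S.norm_e hyt one_ne_zero (hnorm _ (S.e_mem 1))
  obtain ⟨j, hj⟩ := P.isPGroup' ⟨k * c, hyP⟩
  refine hyX ?_
  show k * c ∈ S.X
  rw [e]
  exact S.borel_pelem (p := p) (j := j) ha (by rw [← e]; exact congrArg Subtype.val hj)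

end Prime

theorem t_inverts_h₀ (x : F) : S.t * S.rt S.h₀ x * S.t⁻¹ = S.rt S.h₀ (-x) := S.moves_h₀.inverts S x

theorem t_inverts_r₁ (x : F) : S.t * S.rt S.r₁ x * S.t⁻¹ = S.rt S.r₁ (-x) := S.moves_r₁.inverts S x

theorem t_inverts_h₁ (x : F) : S.t * S.rt S.h₁ x * S.t⁻¹ = S.rt S.h₁ (-x) := by
  have h := S.moves_h₁.inverts' S x
  rwa [mul_assoc S.t, S.ww, mul_one] at h

theorem t_inverts_r₀ (x : F) : S.t * S.rt S.r₀ x * S.t⁻¹ = S.rt S.r₀ (-x) := by
  have h := S.moves_r₀.inverts' S x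
  rwa [← mul_assoc S.w, S.tw_comm.symm.eq, mul_assoc S.t, S.ww, mul_one] at h

/-- The roots at `w` and `tw` of a triangle commute. -/
theorem triangle_comm {S : Sys G F} (hP : S.P S.r₀) (x y : F) : Commute (S.rt S.r₀ x) (S.rt S.r₁ y) := by
  have h1 : S.Moves (S.r₀⁻¹ * S.r₁) S.w (S.t * S.w) := by
    obtain ⟨e1, e2⟩ := S.moves_r₀.inv S
    refine ⟨?_, ?_⟩
    · rw [show S.r₀⁻¹ * S.r₁ * S.t * (S.r₀⁻¹ * S.r₁)⁻¹ = S.r₀⁻¹ * (S.r₁ * S.t * S.r₁⁻¹) * S.r₀ by group,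
        S.moves_r₁.1, e2]
    · rw [show S.r₀⁻¹ * S.r₁ * S.w * (S.r₀⁻¹ * S.r₁)⁻¹ = S.r₀⁻¹ * (S.r₁ * S.w * S.r₁⁻¹) * S.r₀ by group,
        S.moves_r₁.2]
      have := S.r₀_inv.1
      rwa [inv_inv] at this
  have h2 := (hP.congr S S.moves_r₀ h1).translate S (g := S.r₀) x y
  rwa [mul_inv_cancel_left] at h2

/-- The three root groups of a triangle. -/
def triHom (hP : S.P S.r₀) : Multiplicative (F × F × F) →* G where
  toFun v := S.e (Multiplicative.toAdd v).1 * (S.rt S.r₀ (Multiplicative.toAdd v).2.1 *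
    S.rt S.r₁ (Multiplicative.toAdd v).2.2)
  map_one' := by simp [S.e_zero, S.rt_zero]
  map_mul' v v' := by
    obtain ⟨x, y, z⟩ := v
    obtain ⟨x', y', z'⟩ := v'
    show S.e (x + x') * (S.rt S.r₀ (y + y') * S.rt S.r₁ (z + z')) =
      S.e x * (S.rt S.r₀ y * S.rt S.r₁ z) * (S.e x' * (S.rt S.r₀ y' * S.rt S.r₁ z'))
    rw [S.e_add, S.rt_add, S.rt_add]
    have h1 : Commute (S.rt S.r₀ y * S.rt S.r₁ z) (S.e x') :=
      (hP x' y).symm.mul_left (S.P_r₁ hP x' z).symm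
    have h2 : Commute (S.rt S.r₁ z) (S.rt S.r₀ y') := (triangle_comm hP y' z).symm
    calc S.e x * S.e x' * (S.rt S.r₀ y * S.rt S.r₀ y' * (S.rt S.r₁ z * S.rt S.r₁ z'))
        = S.e x * S.e x' * (S.rt S.r₀ y * (S.rt S.r₀ y' * S.rt S.r₁ z) * S.rt S.r₁ z') := by group
      _ = S.e x * S.e x' * (S.rt S.r₀ y * (S.rt S.r₁ z * S.rt S.r₀ y') * S.rt S.r₁ z') := by rw [h2.eq]
      _ = S.e x * (S.e x' * (S.rt S.r₀ y * S.rt S.r₁ z)) * (S.rt S.r₀ y' * S.rt S.r₁ z') := by group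
      _ = _ := by rw [← h1.eq]; group

theorem triHom_apply (hP : S.P S.r₀) (x y z : F) :
    S.triHom hP (Multiplicative.ofAdd (x, y, z)) = S.e x * (S.rt S.r₀ y * S.rt S.r₁ z) := rfl

theorem t_conj_tri (hP : S.P S.r₀) (x y z : F) :
    S.t * S.triHom hP (Multiplicative.ofAdd (x, y, z)) * S.t⁻¹ = S.triHom hP (Multiplicative.ofAdd (x, -y, -z)) := by
  rw [S.triHom_apply, S.triHom_apply, ← S.t_inverts_r₀ y, ← S.t_inverts_r₁ z]
  have := (S.e_t x).symm.eq
  calc S.t * (S.e x * (S.rt S.r₀ y * S.rt S.r₁ z)) * S.t⁻¹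
      = (S.t * S.e x) * (S.rt S.r₀ y * S.rt S.r₁ z) * S.t⁻¹ := by group
    _ = _ := by rw [this]; group

theorem w_conj_tri (hP : S.P S.r₀) (x y z : F) :
    S.w * S.triHom hP (Multiplicative.ofAdd (x, y, z)) * S.w⁻¹ = S.triHom hP (Multiplicative.ofAdd (-x, y, -z)) := by
  have h1 : S.w * S.rt S.r₁ z * S.w⁻¹ = S.rt S.r₁ (-z) := by
    have h := S.moves_r₁.inverts' S z
    rwa [S.tw_comm.eq, mul_assoc S.w, S.tt, mul_one] at h
  rw [S.triHom_apply, S.triHom_apply, ← S.w_e x, ← h1]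
  have := (S.moves_r₀.fix S y).eq
  calc S.w * (S.e x * (S.rt S.r₀ y * S.rt S.r₁ z)) * S.w⁻¹
      = S.w * S.e x * S.w⁻¹ * ((S.w * S.rt S.r₀ y) * S.rt S.r₁ z * S.w⁻¹) := by group
    _ = _ := by rw [← this]; group

theorem triHom_injective (hP : S.P S.r₀) : Function.Injective (S.triHom hP) := (injective_iff_map_eq_one _).2 fun v hv => by
  obtain ⟨x, y, z⟩ := v
  have h2 : ∀ {r : F}, r + r = 0 → r = 0 := fun {r} h =>
    (mul_eq_zero.1 (show (2 : F) * r = 0 by linear_combination h)).resolve_left S.two_ne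
  change S.triHom hP (Multiplicative.ofAdd (x, y, z)) = 1 at hv
  have h3 : S.t * S.triHom hP (Multiplicative.ofAdd (x, y, z)) * S.t⁻¹ = 1 := by rw [hv, mul_one, mul_inv_cancel]
  rw [S.t_conj_tri] at h3
  have h4 : S.triHom hP (Multiplicative.ofAdd (x, y, z)) * S.triHom hP (Multiplicative.ofAdd (x, -y, -z)) = 1 := by
    rw [hv, h3, mul_one]
  rw [← map_mul, ← ofAdd_add, Prod.mk_add_mk, Prod.mk_add_mk, add_neg_cancel, add_neg_cancel, S.triHom_apply,
    S.rt_zero, S.rt_zero, mul_one, mul_one, S.e_eq_one] at h4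
  obtain rfl := h2 h4
  have h5 : S.w * S.triHom hP (Multiplicative.ofAdd (0, y, z)) * S.w⁻¹ = 1 := by rw [hv, mul_one, mul_inv_cancel]
  rw [S.w_conj_tri, neg_zero] at h5
  have h6 : S.triHom hP (Multiplicative.ofAdd (0, y, z)) * S.triHom hP (Multiplicative.ofAdd (0, y, -z)) = 1 := by
    rw [hv, h5, mul_one]
  rw [← map_mul, ← ofAdd_add, Prod.mk_add_mk, Prod.mk_add_mk, add_neg_cancel, add_zero, S.triHom_apply,
    S.e_zero, S.rt_zero, mul_one, one_mul, S.rt_eq_one] at h6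
  obtain rfl := h2 h6
  rw [S.triHom_apply, S.e_zero, S.rt_zero, one_mul, one_mul, S.rt_eq_one] at hv
  subst hv
  rfl

theorem card_tri (hP : S.P S.r₀) : Nat.card (S.triHom hP).range = Fintype.card F ^ 3 := by
  rw [← Nat.card_congr (MonoidHom.ofInjective (S.triHom_injective hP)).toEquiv, Nat.card_congr Multiplicative.toAdd,
    Nat.card_prod, Nat.card_prod, Nat.card_eq_fintype_card]
  ring

end

end Sys

end Cfsg.Agent.Invol.BrauerL3.Lin
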