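import Cfsg.Agent.Lib.Invol.BrauerL3.LinearSys
import Cfsg.Agent.Lib.Invol.BrauerL3.LocalBase
import Cfsg.Agent.Lib.Invol.Aschbacher.OddCore
import Cfsg.Agent.Lib.Grp.CoprimeAbelian

/-!
# Brauer's theorem: the six root groups

`Moves g u v`: conjugation by `g` takes `(t, w)` to `(u, v)`; `rt g`: the conjugate root group, which depends on `(u, v)`
only; `P g`: it commutes with `X`.  The odd part `W` of the centraliser of `X`, the first restriction on `P`.
-/

set_option autoImplicit false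
set_option linter.unusedSectionVars false
set_option linter.style.haveILetI false

namespace Cfsg.Agent.Invol.BrauerL3.Lin

open Subgroup

universe u v

variable {G : Type u} [Group G] {F : Type v} [Field F] [Fintype F]

/-- Conjugation preserves commutation. -/
theorem cconj {x a : G} (h : G) (hx : Commute x a) : Commute (h * x * h⁻¹) (h * a * h⁻¹) := by
  simpa using hx.map (MulAut.conj h).toMonoidHom

namespace Sys

variable (S : Sys G F)

noncomputable section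

/-- Conjugation by `g` takes `(t, w)` to `(u, v)`. -/
def Moves (g u v : G) : Prop := g * S.t * g⁻¹ = u ∧ g * S.w * g⁻¹ = v

/-- A conjugate root element. -/
def rt (g : G) (x : F) : G := g * S.e x * g⁻¹

/-- The conjugate root group commutes with `X`. -/
def P (g : G) : Prop := ∀ x y, Commute (S.e x) (S.rt g y)

/-- An element interchanging `t` and `w`. -/
def h₀ : G := S.swap.choose

/-- An element interchanging `t` and `tw`. -/
def h₁ : G := S.n * S.h₀ * S.n⁻¹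

/-- An element taking `t` to `w` to `tw`. -/
def r₀ : G := S.h₀ * S.n

/-- An element taking `t` to `tw` to `w`. -/
def r₁ : G := S.h₁ * S.n

/-- An element normalises the torus. -/
def Good (g : G) : Prop := ∀ a ∈ S.A, g⁻¹ * a * g ∈ S.A

theorem moves_one : S.Moves 1 S.t S.w := ⟨by simp, by simp⟩

theorem moves_n : S.Moves S.n S.t (S.t * S.w) :=
  ⟨by rw [S.n_t.eq, mul_inv_cancel_right], S.n_w⟩

theorem Moves.mul {g h u v u' v' : G} (hg : S.Moves g u v) (hh : S.Moves h u' v') :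
    S.Moves (g * h) (g * u' * g⁻¹) (g * v' * g⁻¹) := by
  refine ⟨?_, ?_⟩
  · rw [← hh.1]; group
  · rw [← hh.2]; group

theorem Moves.prod {g u v : G} (hg : S.Moves g u v) : g * (S.t * S.w) * g⁻¹ = u * v := by
  rw [← hg.1, ← hg.2]; group

theorem moves_h₀ : S.Moves S.h₀ S.w S.t := S.swap.choose_spec

theorem h₀_tw : S.h₀ * (S.t * S.w) * S.h₀⁻¹ = S.t * S.w := by
  rw [S.moves_h₀.prod, S.tw_comm.symm.eq]

theorem n_tw : S.n * (S.t * S.w) * S.n⁻¹ = S.w := by
  rw [S.moves_n.prod, ← mul_assoc, S.tt, one_mul]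

theorem ninv_t : S.n⁻¹ * S.t * S.n = S.t := by rw [mul_assoc, ← S.n_t.eq, inv_mul_cancel_left]

theorem ninv_w : S.n⁻¹ * S.w * S.n = S.t * S.w := by
  calc S.n⁻¹ * S.w * S.n = S.n⁻¹ * (S.n * (S.t * S.w) * S.n⁻¹) * S.n := by rw [S.n_tw]
    _ = _ := by group

theorem moves_h₁ : S.Moves S.h₁ (S.t * S.w) S.w := by
  refine ⟨?_, ?_⟩
  · rw [show S.h₁ * S.t * S.h₁⁻¹ = S.n * (S.h₀ * (S.n⁻¹ * S.t * S.n) * S.h₀⁻¹) * S.n⁻¹ by rw [h₁]; group,
      S.ninv_t, S.moves_h₀.1, S.n_w]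
  · rw [show S.h₁ * S.w * S.h₁⁻¹ = S.n * (S.h₀ * (S.n⁻¹ * S.w * S.n) * S.h₀⁻¹) * S.n⁻¹ by rw [h₁]; group,
      S.ninv_w, S.h₀_tw, S.n_tw]

theorem moves_r₀ : S.Moves S.r₀ S.w (S.t * S.w) := by
  have h := S.moves_h₀.mul S S.moves_n
  rwa [S.moves_h₀.1, S.h₀_tw] at h

theorem moves_r₁ : S.Moves S.r₁ (S.t * S.w) S.t := by
  have h := S.moves_h₁.mul S S.moves_n
  rwa [S.moves_h₁.1, S.moves_h₁.prod, mul_assoc, S.ww, mul_one] at h

theorem Moves.inv {g u v : G} (hg : S.Moves g u v) : g⁻¹ * u * g = S.t ∧ g⁻¹ * v * g = S.w := by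
  rw [← hg.1, ← hg.2]; constructor <;> group

theorem Moves.good {g u v : G} (hg : S.Moves g u v) (hu : ∀ a ∈ S.A, Commute a u) (hv : ∀ a ∈ S.A, Commute a v) :
    S.Good g := fun a ha => by
  obtain ⟨h1, h2⟩ := hg.inv S
  refine S.mem_A.2 ⟨?_, ?_⟩
  · have h3 := cconj g⁻¹ (hu a ha)
    rwa [inv_inv, h1] at h3
  · have h3 := cconj g⁻¹ (hv a ha)
    rwa [inv_inv, h2] at h3

theorem A_t {a : G} (ha : a ∈ S.A) : Commute a S.t := (S.mem_A.1 ha).1

theorem A_w {a : G} (ha : a ∈ S.A) : Commute a S.w := (S.mem_A.1 ha).2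

theorem A_tw {a : G} (ha : a ∈ S.A) : Commute a (S.t * S.w) := (S.A_t ha).mul_right (S.A_w ha)

theorem good_one : S.Good 1 := fun a ha => by simpa using ha

theorem good_n : S.Good S.n := S.moves_n.good S (fun _ h => S.A_t h) fun _ h => S.A_tw h

theorem good_h₀ : S.Good S.h₀ := S.moves_h₀.good S (fun _ h => S.A_w h) fun _ h => S.A_t h

theorem good_h₁ : S.Good S.h₁ := S.moves_h₁.good S (fun _ h => S.A_tw h) fun _ h => S.A_w h

theorem Good.mul {g h : G} (hg : S.Good g) (hh : S.Good h) : S.Good (g * h) := fun a ha => by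
  rw [show (g * h)⁻¹ * a * (g * h) = h⁻¹ * (g⁻¹ * a * g) * h by group]
  exact hh _ (hg a ha)

theorem good_r₀ : S.Good S.r₀ := S.good_h₀.mul S S.good_n

theorem good_r₁ : S.Good S.r₁ := S.good_h₁.mul S S.good_n

theorem rt_one (x : F) : S.rt 1 x = S.e x := by simp [rt]

theorem rt_mul (g h : G) (x : F) : S.rt (g * h) x = g * S.rt h x * g⁻¹ := by simp [rt, mul_assoc]

theorem rt_add (g : G) (x y : F) : S.rt g (x + y) = S.rt g x * S.rt g y := by
  rw [rt, rt, rt, S.e_add]; group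

theorem rt_zero (g : G) : S.rt g 0 = 1 := by simp [rt, S.e_zero]

theorem rt_neg (g : G) (x : F) : S.rt g (-x) = (S.rt g x)⁻¹ :=
  eq_inv_of_mul_eq_one_left (by rw [← S.rt_add, neg_add_cancel, S.rt_zero])

theorem rt_comm (g : G) (x y : F) : Commute (S.rt g x) (S.rt g y) := cconj g (S.e_comm x y)

theorem rt_eq_one {g : G} {x : F} : S.rt g x = 1 ↔ x = 0 := by rw [rt, conj_eq_one_iff, S.e_eq_one]

theorem rt_n (x : F) : S.rt S.n x = S.μ (lo (-x)) := S.n_e x

theorem Moves.fix {g u v : G} (hg : S.Moves g u v) (x : F) : Commute (S.rt g x) u :=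
  hg.1 ▸ cconj g (S.e_t x)

theorem Moves.inverts {g u v : G} (hg : S.Moves g u v) (x : F) : v * S.rt g x * v⁻¹ = S.rt g (-x) := by
  rw [← hg.2, rt, rt, ← S.w_e]; group

theorem Moves.inverts' {g u v : G} (hg : S.Moves g u v) (x : F) : u * v * S.rt g x * (u * v)⁻¹ = S.rt g (-x) := by
  rw [show u * v * S.rt g x * (u * v)⁻¹ = u * (v * S.rt g x * v⁻¹) * u⁻¹ by group, hg.inverts S,
    ← (hg.fix S (-x)).eq, mul_inv_cancel_right]

/-- The root group depends only on the pair of involutions. -/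
theorem exists_rescale {g g' u v : G} (hg : S.Moves g u v) (hg' : S.Moves g' u v) :
    ∃ c : F, c ≠ 0 ∧ ∀ x, S.rt g' x = S.rt g (c * x) := by
  obtain ⟨h1, h2⟩ := hg.inv S
  have ha : g⁻¹ * g' ∈ S.A := by
    refine S.mem_A.2 ⟨?_, ?_⟩
    · show _ = _
      calc g⁻¹ * g' * S.t = g⁻¹ * (g' * S.t * g'⁻¹) * g' := by group
        _ = S.t * (g⁻¹ * g') := by rw [hg'.1, ← h1]; group
    · show _ = _
      calc g⁻¹ * g' * S.w = g⁻¹ * (g' * S.w * g'⁻¹) * g' := by group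
        _ = S.w * (g⁻¹ * g') := by rw [hg'.2, ← h2]; group
  obtain ⟨c, hc0, hc⟩ := S.A_scale ha
  exact ⟨c, hc0, fun x => by rw [rt, rt, ← hc]; group⟩

theorem P.congr {g g' u v : G} (hP : S.P g) (hg : S.Moves g u v) (hg' : S.Moves g' u v) : S.P g' := by
  obtain ⟨c, -, hc⟩ := S.exists_rescale hg hg'
  exact fun x y => hc y ▸ hP x (c * y)

theorem P.inv {g : G} (hP : S.P g) : S.P g⁻¹ := fun x y => by
  have h := cconj g⁻¹ (hP y x).symm
  simpa [rt, mul_assoc] using h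

theorem P.translate {g h : G} (hP : S.P h) (x y : F) : Commute (S.rt g x) (S.rt (g * h) y) := by
  rw [S.rt_mul]
  exact cconj g (hP x y)

theorem A_conj_rt {g : G} (hg : S.Good g) {a : G} (ha : a ∈ S.A) :
    ∃ c : F, c ≠ 0 ∧ ∀ x, a * S.rt g x * a⁻¹ = S.rt g (c * x) := by
  obtain ⟨c, hc0, hc⟩ := S.A_scale (hg a ha)
  exact ⟨c, hc0, fun x => by rw [rt, rt, ← hc]; group⟩

theorem exists_scale_rt [Finite G] {g : G} (hg : S.Good g) {c : F} (hc : c ≠ 0) :
    ∃ a ∈ S.A, ∀ x, a * S.rt g x * a⁻¹ = S.rt g (c * x) := by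
  let f : S.A → S.A := fun a => ⟨g⁻¹ * a * g, hg a a.2⟩
  have hf : Function.Surjective f := Finite.injective_iff_surjective.1 fun a b h =>
    Subtype.ext (mul_left_cancel (mul_right_cancel (congrArg Subtype.val h :)))
  obtain ⟨a₀, ha₀, hs⟩ := S.exists_scale c hc
  obtain ⟨a, ha⟩ := hf ⟨a₀, ha₀⟩
  have e : g⁻¹ * (a : G) * g = a₀ := congrArg Subtype.val ha
  exact ⟨a, a.2, fun x => by rw [rt, rt, ← hs, ← e]; group⟩

/-- A subgroup normalised by the torus containing a non-trivial root element contains the root group. -/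
theorem root_le [Finite G] {g : G} (hg : S.Good g) {Y : Subgroup G} (hn : ∀ a ∈ S.A, ∀ y ∈ Y, a * y * a⁻¹ ∈ Y)
    {x : F} (hx : x ≠ 0) (h : S.rt g x ∈ Y) (y : F) : S.rt g y ∈ Y := by
  by_cases hy : y = 0
  · rw [hy, S.rt_zero]; exact one_mem _
  obtain ⟨a, ha, hs⟩ := S.exists_scale_rt hg (div_ne_zero hy hx)
  have h1 := hn a ha _ h
  rwa [hs, div_mul_cancel₀ y hx] at h1

/-- The roots at one involution are distinct. -/
theorem upper_ne_lower {x y : F} (h : S.e x = S.rt S.n y) : x = 0 := by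
  rw [S.rt_n] at h
  have h1 := S.lo_eq (one_mem S.A) (y := x) (by rw [one_mul]; exact h.symm)
  rw [h1, show lo (0 : F) = 1 from ext2 (by simp) (by simp) (by simp) (by simp), map_one] at h
  exact S.e_eq_one.1 h

theorem root_disjoint {g : G} {x y : F} (h : S.rt g x = S.rt (g * S.n) y) : x = 0 := by
  rw [S.rt_mul] at h
  exact S.upper_ne_lower (mul_left_cancel (mul_right_cancel h))

section Triangular

variable [Finite G] {g : G} (hg : S.Good g) {Y : Subgroup G} (hY : Odd (Nat.card Y))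
  (hYu : ∀ y ∈ Y, Commute y (g * S.t * g⁻¹)) (hn : ∀ a ∈ S.A, ∀ y ∈ Y, a * y * a⁻¹ ∈ Y)
include hg hY hYu hn

theorem pulled : Odd (Nat.card (Y.comap (MulAut.conj g).toMonoidHom)) ∧
    (∀ y ∈ Y.comap (MulAut.conj g).toMonoidHom, Commute y S.t) ∧
    ∀ a ∈ S.A, ∀ y ∈ Y.comap (MulAut.conj g).toMonoidHom, a * y * a⁻¹ ∈ Y.comap (MulAut.conj g).toMonoidHom := by
  let f : S.A → S.A := fun a => ⟨g⁻¹ * a * g, hg a a.2⟩
  have hf : Function.Surjective f := Finite.injective_iff_surjective.1 fun a b h =>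
    Subtype.ext (mul_left_cancel (mul_right_cancel (congrArg Subtype.val h :)))
  refine ⟨hY.of_dvd_nat (card_comap_dvd_of_injective _ _ (MulAut.conj g).injective), fun y hy => ?_,
    fun a ha y hy => ?_⟩
  · have h := cconj g⁻¹ (hYu _ hy)
    simpa [mul_assoc] using h
  · obtain ⟨b, hb⟩ := hf ⟨a, ha⟩
    have e : g⁻¹ * (b : G) * g = a := congrArg Subtype.val hb
    show g * (a * y * a⁻¹) * g⁻¹ ∈ Y
    rw [← e]
    have h := hn b b.2 _ (show g * y * g⁻¹ ∈ Y from hy)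
    convert h using 1
    group

/-- Such a group lies in the torus or contains one of the two root groups. -/
theorem torus_or_root : Y ≤ S.A ∨ (∀ x, S.rt g x ∈ Y) ∨ (∀ x, S.rt (g * S.n) x ∈ Y) := by
  obtain ⟨hodd, hct, hnA⟩ := S.pulled hg hY hYu hn
  set Y' := Y.comap (MulAut.conj g).toMonoidHom
  have key : ∀ k : G, S.Good k → ∀ (x : F), x ≠ 0 → ∀ a ∈ S.A, a * S.rt k x ∈ Y' → (∀ z, k * S.e z * k⁻¹ = S.rt k z) →
      S.w * S.rt k x * S.w⁻¹ = S.rt k (-x) → ∀ z, S.rt k z ∈ Y' := by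
    intro k hk x hx a ha hy _ hw
    have hwA : S.w ∈ S.A := S.mem_A.2 ⟨S.tw_comm.symm, Commute.refl _⟩
    have h1 := mul_mem (inv_mem (hnA _ hwA _ hy)) hy
    have e : (S.w * (a * S.rt k x) * S.w⁻¹)⁻¹ * (a * S.rt k x) = S.rt k (x + x) := by
      rw [show S.w * (a * S.rt k x) * S.w⁻¹ = (S.w * a) * S.w⁻¹ * (S.w * S.rt k x * S.w⁻¹) by group, hw,
        (S.A_w ha).symm.eq, mul_inv_cancel_right, mul_inv_rev, ← S.rt_neg, neg_neg, mul_assoc, inv_mul_cancel_left,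
        S.rt_add]
    rw [e] at h1
    refine S.root_le hk hnA (x := x + x) (fun h => hx ?_) h1
    have h2 : (2 : F) * x = 0 := by linear_combination h
    exact (mul_eq_zero.1 h2).resolve_left S.two_ne
  rcases S.triangular Y' hodd hct hnA with h | h
  · by_cases hA : ∀ y ∈ Y', y ∈ S.A
    · refine Or.inl fun y hy => ?_
      let f : S.A → S.A := fun a => ⟨g⁻¹ * a * g, hg a a.2⟩
      have hf : Function.Surjective f := Finite.injective_iff_surjective.1 fun a b h =>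
        Subtype.ext (mul_left_cancel (mul_right_cancel (congrArg Subtype.val h :)))
      obtain ⟨b, hb⟩ := hf ⟨_, hA (g⁻¹ * y * g) (show g * (g⁻¹ * y * g) * g⁻¹ ∈ Y by simpa [mul_assoc] using hy)⟩
      have e := mul_left_cancel (mul_right_cancel (congrArg Subtype.val hb :))
      exact e ▸ b.2
    push Not at hA
    obtain ⟨y, hy, hyA⟩ := hA
    obtain ⟨a, ha, x, rfl⟩ := h y hy
    have hx : x ≠ 0 := by rintro rfl; exact hyA (by rwa [S.e_zero, mul_one])
    refine Or.inr (Or.inl fun z => ?_)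
    have := key 1 S.good_one x hx a ha (by rwa [S.rt_one]) (fun _ => rfl) (S.moves_one.inverts S x) z
    simpa [Y', rt] using this
  · by_cases hA : ∀ y ∈ Y', y ∈ S.A
    · refine Or.inl fun y hy => ?_
      let f : S.A → S.A := fun a => ⟨g⁻¹ * a * g, hg a a.2⟩
      have hf : Function.Surjective f := Finite.injective_iff_surjective.1 fun a b h =>
        Subtype.ext (mul_left_cancel (mul_right_cancel (congrArg Subtype.val h :)))
      obtain ⟨b, hb⟩ := hf ⟨_, hA (g⁻¹ * y * g) (show g * (g⁻¹ * y * g) * g⁻¹ ∈ Y by simpa [mul_assoc] using hy)⟩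
      have e := mul_left_cancel (mul_right_cancel (congrArg Subtype.val hb :))
      exact e ▸ b.2
    push Not at hA
    obtain ⟨y, hy, hyA⟩ := hA
    obtain ⟨a, ha, x, rfl⟩ := h y hy
    have hlo : S.μ (lo x) = S.rt S.n (-x) := by rw [S.rt_n, neg_neg]
    have hx : x ≠ 0 := by
      rintro rfl
      exact hyA (by rwa [hlo, neg_zero, S.rt_zero, mul_one])
    refine Or.inr (Or.inr fun z => ?_)
    have hw : S.w * S.rt S.n (-x) * S.w⁻¹ = S.rt S.n (- -x) := by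
      have h1 := S.moves_n.inverts' S (-x)
      rwa [← mul_assoc, S.tt, one_mul] at h1
    have := key S.n S.good_n (-x) (neg_ne_zero.2 hx) a ha (by rwa [← hlo]) (fun _ => rfl) hw z
    show S.rt (g * S.n) z ∈ Y
    rw [S.rt_mul]; exact this

/-- If it contains the first root group, its `p`-elements lie there. -/
theorem pelem_root {p : ℕ} [Fact p.Prime] [CharP F p] (hr : ∀ x, S.rt g x ∈ Y) {y : G} (hy : y ∈ Y) {j : ℕ}
    (hj : y ^ p ^ j = 1) : ∃ x, y = S.rt g x := by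
  obtain ⟨hodd, hct, hnA⟩ := S.pulled hg hY hYu hn
  set y' := g⁻¹ * y * g with hy'
  have hy'Y : y' ∈ Y.comap (MulAut.conj g).toMonoidHom := by simpa [hy', mul_assoc] using hy
  rcases S.triangular _ hodd hct hnA with h | h
  · obtain ⟨a, ha, x, hax⟩ := h y' hy'Y
    obtain ⟨z, hz⟩ := S.borel_pelem (j := j) ha (x := x) (by
      rw [← hax, hy', show g⁻¹ * y * g = g⁻¹ * y * g⁻¹⁻¹ by group, conj_pow, hj, mul_one, mul_inv_cancel])
    refine ⟨z, ?_⟩
    rw [rt, hz, ← hax, hy']; group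
  · exfalso
    obtain ⟨a, ha, x, hax⟩ := h (S.e 1) (show g * S.e 1 * g⁻¹ ∈ Y from hr 1)
    have h1 := congrArg (fun k => S.n * k * S.n⁻¹) hax
    simp only [S.n_e] at h1
    refine one_ne_zero (α := F) (neg_eq_zero.1 (S.lo_eq (a := S.n * a * S.n⁻¹) (y := -x) ?_ ?_))
    · let f : S.A → S.A := fun b => ⟨S.n⁻¹ * b * S.n, S.good_n b b.2⟩
      have hf : Function.Surjective f := Finite.injective_iff_surjective.1 fun b c h =>
        Subtype.ext (mul_left_cancel (mul_right_cancel (congrArg Subtype.val h :)))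
      obtain ⟨b, hb⟩ := hf ⟨a, ha⟩
      have e : S.n⁻¹ * (b : G) * S.n = a := congrArg Subtype.val hb
      rw [← e, show S.n * (S.n⁻¹ * (b : G) * S.n) * S.n⁻¹ = b by group]
      exact b.2
    · rw [h1]
      have e : S.μ (lo x) = S.n * S.e (-x) * S.n⁻¹ := by rw [S.n_e, neg_neg]
      rw [e]
      calc S.n * (a * (S.n * S.e (-x) * S.n⁻¹)) * S.n⁻¹
          = (S.n * a * S.n⁻¹) * ((S.n * S.n) * S.e (-x) * (S.n * S.n)⁻¹) := by group
        _ = _ := by rw [S.n_sq, ← (S.e_t (-x)).eq, mul_inv_cancel_right]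

end Triangular

section W

variable [Finite G]

/-- The elements centralising the root group. -/
def CX : Subgroup G := centralizer (S.X : Set G)

theorem mem_CX {g : G} : g ∈ S.CX ↔ ∀ x, Commute g (S.e x) := by
  rw [CX, mem_centralizer_iff]
  constructor
  · exact fun h x => (h _ (S.e_mem x)).symm
  · rintro h _ ⟨x, rfl⟩; exact (h x).symm.eq

theorem CX_conj {g : G} (hg : ∀ y ∈ S.X, g * y * g⁻¹ ∈ S.X) {v : G} (hv : v ∈ S.CX) : g * v * g⁻¹ ∈ S.CX := by
  refine S.mem_CX.2 fun x => ?_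
  obtain ⟨y, hy, e⟩ : ∃ y ∈ S.X, g * y * g⁻¹ = S.e x := by
    let f : S.X → S.X := fun y => ⟨g * y * g⁻¹, hg y y.2⟩
    have hf : Function.Surjective f := Finite.injective_iff_surjective.1 fun a b h =>
      Subtype.ext (mul_left_cancel (mul_right_cancel (congrArg Subtype.val h :)))
    obtain ⟨y, hy⟩ := hf ⟨_, S.e_mem x⟩
    exact ⟨y, y.2, congrArg Subtype.val hy⟩
  obtain ⟨z, rfl⟩ := hy
  exact e ▸ cconj g (S.mem_CX.1 hv z)

theorem t_CX : S.t ∈ S.CX := S.mem_CX.2 fun x => (S.e_t x).symm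

theorem exists_W : ∃ W : Subgroup G, Odd (Nat.card W) ∧ (∀ y, y ∈ W ↔ y ∈ S.CX ∧ Odd (orderOf y)) ∧
    ∀ y ∈ S.CX, ∃ c, Commute c S.t ∧ ∃ v ∈ W, y = v * c := by
  haveI := Fintype.ofFinite G
  exact exists_oddPart S.t_two S.CX S.t_CX
    (fun x hx hxt y hy hyt => S.cent_comm hxt hyt one_ne_zero (S.mem_CX.1 hx 1) (S.mem_CX.1 hy 1))
    fun x hx hxt h2 => S.cent_invol hxt one_ne_zero (S.mem_CX.1 hx 1) h2

variable {W : Subgroup G} (hWo : Odd (Nat.card W)) (hW : ∀ y, y ∈ W ↔ y ∈ S.CX ∧ Odd (orderOf y))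
  (hWd : ∀ y ∈ S.CX, ∃ c, Commute c S.t ∧ ∃ v ∈ W, y = v * c)
include hWo hW hWd

theorem W_conj {g : G} (hg : ∀ y ∈ S.X, g * y * g⁻¹ ∈ S.X) {v : G} (hv : v ∈ W) : g * v * g⁻¹ ∈ W :=
  (hW _).2 ⟨S.CX_conj hg ((hW v).1 hv).1, by rw [orderOf_conj_eq]; exact ((hW v).1 hv).2⟩

theorem t_X (y : G) (hy : y ∈ S.X) : S.t * y * S.t⁻¹ ∈ S.X := by
  obtain ⟨x, rfl⟩ := hy
  exact ⟨x, by rw [(S.e_t x).symm.eq, mul_inv_cancel_right]⟩

theorem W_CX_conj {g : G} (hg : g ∈ S.CX) {v : G} (hv : v ∈ W) : g * v * g⁻¹ ∈ W :=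
  S.W_conj hWo hW hWd (fun y hy => by
    obtain ⟨x, rfl⟩ := hy
    exact ⟨x, by rw [(S.mem_CX.1 hg x).eq, mul_inv_cancel_right]⟩) hv

/-- An involution centralising the root group is conjugate to `t` under `W`. -/
theorem invol_conj {i : G} (hi : i ∈ S.CX) (hi2 : i * i = 1) (hi1 : i ≠ 1) :
    i * S.t ∈ W ∧ ∃ k ∈ W, k * S.t * k⁻¹ = i := by
  obtain ⟨c, hc, v, hv, hiv⟩ := hWd i hi
  have hcX : c ∈ S.CX := by
    rw [show c = v⁻¹ * i by rw [hiv]; group]
    exact mul_mem (inv_mem ((hW v).1 hv).1) hi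
  have hcc : c * c ∈ W := by
    have h1 : c * v * c = v⁻¹ := by
      rw [hiv] at hi2
      calc c * v * c = v⁻¹ * (v * c * (v * c)) := by group
        _ = _ := by rw [hi2, mul_one]
    rw [show c * c = (c * v * c) * (c⁻¹ * v⁻¹ * c) by group, h1]
    refine mul_mem (inv_mem hv) ?_
    have := S.W_CX_conj hWo hW hWd (inv_mem hcX) (inv_mem hv)
    rwa [inv_inv] at this
  have hct : c * S.t ∈ W := by
    obtain ⟨m, hm⟩ := ((hW _).1 hcc).2
    have hpow : c ^ (2 * m + 1) * c ^ (2 * m + 1) = 1 := by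
      rw [← (Commute.refl c).mul_pow, ← hm, pow_orderOf_eq_one]
    rcases S.cent_invol (hc.pow_left _) one_ne_zero ((S.mem_CX.1 hcX 1).pow_left _) hpow with h | h
    · -- then `i` has odd order
      exfalso
      have hcW : c ∈ W := (hW c).2 ⟨hcX, (show Odd (2 * m + 1) from ⟨m, rfl⟩).of_dvd_nat (orderOf_dvd_of_pow_eq_one h)⟩
      have hiW : i ∈ W := hiv ▸ mul_mem hv hcW
      have ho := ((hW i).1 hiW).2
      rw [orderOf_eq_prime (by rw [pow_two, hi2]) hi1] at ho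
      exact absurd ho (by decide)
    · rw [← h, ← pow_succ', show 2 * m + 1 + 1 = 2 * (m + 1) by ring, pow_mul, pow_two]
      exact pow_mem hcc _
  have hit : i * S.t ∈ W := by
    rw [hiv, mul_assoc]
    exact mul_mem hv hct
  refine ⟨hit, ?_⟩
  obtain ⟨m, hm⟩ := ((hW _).1 hit).2
  set v₀ := i * S.t with hv0
  refine ⟨v₀ ^ (m + 1), pow_mem hit _, ?_⟩
  have hinv : S.t * v₀ * S.t⁻¹ = v₀⁻¹ := by
    rw [hv0, mul_inv_rev, S.t_inv, inv_eq_of_mul_eq_one_right hi2]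
    simp only [mul_assoc, S.tt, mul_one]
  calc v₀ ^ (m + 1) * S.t * (v₀ ^ (m + 1))⁻¹ = v₀ ^ (m + 1) * (S.t * (v₀ ^ (m + 1))⁻¹ * S.t⁻¹) * S.t := by group
    _ = v₀ ^ (m + 1) * v₀ ^ (m + 1) * S.t := by rw [← inv_pow, ← conj_pow, show S.t * v₀⁻¹ * S.t⁻¹ = (S.t * v₀ * S.t⁻¹)⁻¹ by group, hinv, inv_inv]
    _ = i := by
      rw [← pow_add, show m + 1 + (m + 1) = (2 * m + 1) + 1 by ring, pow_succ, ← hm, pow_orderOf_eq_one, one_mul, hv0,
        mul_assoc, S.tt, mul_one]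

/-- The normaliser of the root group is `W` times its part in the centraliser of `t`. -/
theorem norm_split {g : G} (hg : ∀ y ∈ S.X, g * y * g⁻¹ ∈ S.X) :
    ∃ k ∈ W, ∃ c, Commute c S.t ∧ g = k * c := by
  have hi := S.CX_conj hg S.t_CX
  obtain ⟨hit, -⟩ := S.invol_conj hWo hW hWd hi (by
    rw [show g * S.t * g⁻¹ * (g * S.t * g⁻¹) = g * (S.t * S.t) * g⁻¹ by group, S.tt, mul_one, mul_inv_cancel])
    (fun h => S.t1 (conj_eq_one_iff.1 h))
  refine Aschbacher.exists_mul_fixed S.t_two hWo (N := W) (x := g) ?_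
  have h1 := inv_mem hit
  convert h1 using 1
  rw [mul_inv_rev, S.t_inv, mul_inv_rev, mul_inv_rev, inv_inv, S.t_inv]
  group

/-- The Klein group. -/
def U : Subgroup G := JankoWard.fourSub S.t S.w S.tt S.ww S.tw_comm.eq

/-- `W` is generated by the centralisers in it of the three involutions. -/
theorem W_gen {M : Subgroup G} (h0 : ∀ y ∈ W, Commute y S.t → y ∈ M) (h1 : ∀ y ∈ W, Commute y S.w → y ∈ M)
    (h2 : ∀ y ∈ W, Commute y (S.t * S.w) → y ∈ M) : W ≤ M := by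
  haveI hKK : IsKleinFour ↥(S.U) := JankoWard.fourSub_klein S.t1 S.w1 S.w_ne.symm
  haveI : IsMulCommutative ↥(S.U) := IsKleinFour.isMulCommutative
  have hwX : ∀ y ∈ S.X, S.w * y * S.w⁻¹ ∈ S.X := fun y hy =>
    S.A_conj_X (S.mem_A.2 ⟨S.tw_comm.symm, Commute.refl _⟩) hy
  have hU : S.U ≤ normalizer (W : Set G) := by
    refine fun g hg => mem_normalizer_fintype fun v hv => S.W_conj hWo hW hWd (fun y hy => ?_) hv
    rcases hg with e | e | e | e <;> rw [e]
    · simpa using hy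
    · exact S.t_X hWo hW hWd y hy
    · exact hwX y hy
    · rw [show S.t * S.w * y * (S.t * S.w)⁻¹ = S.t * (S.w * y * S.w⁻¹) * S.t⁻¹ by group]
      exact S.t_X hWo hW hWd _ (hwX y hy)
  rw [← Grp.generated_by_centralizers S.U W IsKleinFour.not_isCyclic hU
    (by rw [IsKleinFour.card_four, show (4 : ℕ) = 2 ^ 2 by norm_num]; exact (Nat.coprime_two_left.2 hWo).pow_left 2)]
  refine iSup₂_le fun u hu v hv => ?_
  have hvu : Commute v u := mem_centralizer_singleton_iff.1 hv.2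
  rcases hu.1 with e | e | e | e
  · exact absurd e hu.2
  · exact h0 v hv.1 (e ▸ hvu)
  · exact h1 v hv.1 (e ▸ hvu)
  · exact h2 v hv.1 (e ▸ hvu)

/-- The part of `W` at an involution. -/
theorem W_part {g : G} (hu : g * S.t * g⁻¹ = S.t ∨ g * S.t * g⁻¹ = S.w ∨ g * S.t * g⁻¹ = S.t * S.w) :
    Odd (Nat.card ↥(W ⊓ centralizer ({g * S.t * g⁻¹} : Set G))) ∧
      (∀ y ∈ W ⊓ centralizer ({g * S.t * g⁻¹} : Set G), Commute y (g * S.t * g⁻¹)) ∧
      ∀ a ∈ S.A, ∀ y ∈ W ⊓ centralizer ({g * S.t * g⁻¹} : Set G),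
        a * y * a⁻¹ ∈ W ⊓ centralizer ({g * S.t * g⁻¹} : Set G) := by
  refine ⟨hWo.of_dvd_nat (card_dvd_of_le inf_le_left), fun y hy => mem_centralizer_singleton_iff.1 hy.2,
    fun a ha y hy => ?_⟩
  have hau : Commute a (g * S.t * g⁻¹) := by
    rcases hu with e | e | e <;> rw [e]
    exacts [S.A_t ha, S.A_w ha, S.A_tw ha]
  have hyu : Commute y (g * S.t * g⁻¹) := mem_centralizer_singleton_iff.1 hy.2
  exact ⟨S.W_conj hWo hW hWd (fun z hz => S.A_conj_X ha hz) hy.1,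
    mem_centralizer_singleton_iff.2 ((hau.mul_left hyu).mul_left hau.inv_left).eq⟩

theorem P_of_mem {g : G} (h : ∀ x, S.rt g x ∈ W) : S.P g := fun x y =>
  (S.mem_CX.1 ((hW _).1 (h y)).1 x).symm

theorem rt_mem_W {g : G} (hP : S.P g) (x : F) : S.rt g x ∈ W := by
  refine (hW _).2 ⟨S.mem_CX.2 fun y => (hP y x).symm, ?_⟩
  rw [rt, orderOf_conj_eq]
  obtain ⟨p, hp⟩ := CharP.exists F
  haveI := hp
  haveI : Fact p.Prime := ⟨CharP.char_is_prime F p⟩
  refine Odd.of_dvd_nat ?_ (orderOf_dvd_of_pow_eq_one (n := p) (by rw [S.pow_e, CharP.cast_eq_zero, zero_mul, S.e_zero]))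
  refine (Fact.out : p.Prime).odd_of_ne_two ?_
  rintro rfl
  exact S.two_ne (by exact_mod_cast CharP.cast_eq_zero F 2)

/-- At one involution only one of the two root groups commutes with `X`. -/
theorem not_both {g : G} (hg : S.Good g)
    (hu : g * S.t * g⁻¹ = S.t ∨ g * S.t * g⁻¹ = S.w ∨ g * S.t * g⁻¹ = S.t * S.w) :
    ¬ (S.P g ∧ S.P (g * S.n)) := by
  rintro ⟨hP, hP'⟩
  obtain ⟨p, hp⟩ := CharP.exists F
  haveI := hp
  haveI : Fact p.Prime := ⟨CharP.char_is_prime F p⟩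
  obtain ⟨ho, hc, hn⟩ := S.W_part hWo hW hWd hu
  have hmem : ∀ k, S.P k → k * S.t * k⁻¹ = g * S.t * g⁻¹ →
      ∀ x, S.rt k x ∈ W ⊓ centralizer ({g * S.t * g⁻¹} : Set G) := fun k hk e x =>
    ⟨S.rt_mem_W hWo hW hWd hk x, mem_centralizer_singleton_iff.2 (e ▸ cconj k (S.e_t x)).eq⟩
  have e : g * S.n * S.t * (g * S.n)⁻¹ = g * S.t * g⁻¹ := by
    rw [show g * S.n * S.t * (g * S.n)⁻¹ = g * (S.n * S.t * S.n⁻¹) * g⁻¹ by group, S.moves_n.1]
  obtain ⟨x, hx⟩ := S.pelem_root hg ho hc hn (p := p) (j := 1) (hmem g hP rfl) (hmem _ hP' e 1)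
    (by rw [pow_one, rt, conj_pow, S.pow_e, CharP.cast_eq_zero, zero_mul, S.e_zero, mul_one, mul_inv_cancel])
  have h0 := S.root_disjoint hx.symm
  rw [h0, S.rt_zero, S.rt_eq_one] at hx
  exact one_ne_zero hx

end W

end

end Sys

end Cfsg.Agent.Invol.BrauerL3.Lin
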