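import Cfsg.Agent.Lib.Invol.BrauerL3.LinearPartner

/-!
# Brauer's theorem: a root group has partners at both involutions

`single`: if `X` commutes with a root group at `u` but with none at `tu`, the Sylow `p`-subgroups have order at most
`q²`.  (The normaliser of the product of the two root groups meets the centraliser of `tu` in a subgroup containing
a root group, which would commute with one of the two.)
-/

set_option autoImplicit false
set_option linter.unusedSectionVars false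
set_option linter.style.haveILetI false

namespace Cfsg.Agent.Invol.BrauerL3.Lin

open Subgroup

universe u v

variable {G : Type u} [Group G] {F : Type v} [Field F] [Fintype F]

namespace Sys

variable (S : Sys G F)

noncomputable section

variable [Finite G]

theorem Good.conj {g : G} (hg : S.Good g) {a : G} (ha : a ∈ S.A) : g * a * g⁻¹ ∈ S.A := by
  let f : S.A → S.A := fun b => ⟨g⁻¹ * b * g, hg b b.2⟩
  have hf : Function.Surjective f := Finite.injective_iff_surjective.1 fun b c h =>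
    Subtype.ext (mul_left_cancel (mul_right_cancel (congrArg Subtype.val h :)))
  obtain ⟨b, hb⟩ := hf ⟨a, ha⟩
  have e : g⁻¹ * (b : G) * g = a := congrArg Subtype.val hb
  rw [← e, show g * (g⁻¹ * (b : G) * g) * g⁻¹ = b by group]
  exact b.2

/-- One non-trivial root element commuting with a root group suffices. -/
theorem P_of_comm {k : G} (hk : S.Good k) {x : F} (hx : x ≠ 0) (h : ∀ y, Commute (S.e x) (S.rt k y)) : S.P k := by
  intro x' y
  by_cases hx' : x' = 0
  · rw [hx', S.e_zero]; exact Commute.one_left _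
  obtain ⟨a, ha, hs⟩ := S.exists_scale (x' / x) (div_ne_zero hx' hx)
  obtain ⟨c, hc, hc'⟩ := S.A_conj_rt hk ha
  have h1 := cconj a (h (c⁻¹ * y))
  rwa [hs, hc', div_mul_cancel₀ x' hx, mul_inv_cancel_left₀ hc] at h1

section Kill

variable {p : ℕ} [Fact p.Prime] [CharP F p]

include S in
theorem p_odd : Odd p := (Fact.out : p.Prime).odd_of_ne_two fun h => S.two_ne (by
  subst h; exact_mod_cast CharP.cast_eq_zero F 2)

include S in
theorem coprime_sq_sub : ¬ p ∣ Fintype.card F ^ 2 - 1 := fun h => by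
  obtain ⟨m, -, hm⟩ := FiniteField.card F p
  have h1 : p ∣ Fintype.card F ^ 2 := hm ▸ dvd_pow (dvd_pow_self p m.ne_zero) two_ne_zero
  have h2 := Nat.dvd_sub h1 h
  rw [Nat.sub_sub_self (Nat.one_le_pow _ _ Fintype.card_pos)] at h2
  exact (Fact.out : p.Prime).one_lt.ne' (Nat.dvd_one.1 h2)

/-- A centralised product inverted by `v` is inverted elementwise. -/
theorem pair_inverts (v : G) {g : G} (hP : S.P g) (hve : ∀ x, v * S.e x * v⁻¹ = S.e (-x))
    (hvr : ∀ x, v * S.rt g x * v⁻¹ = S.rt g (-x)) : ∀ y ∈ S.pair hP, v * y * v⁻¹ = y⁻¹ := by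
  intro y hy
  obtain ⟨a, b, rfl⟩ := (S.mem_pair hP).1 hy
  rw [show v * (S.e a * S.rt g b) * v⁻¹ = v * S.e a * v⁻¹ * (v * S.rt g b * v⁻¹) by group, hve, hvr,
    mul_inv_rev, S.e_neg, S.rt_neg, ((hP a b).inv_left.inv_right).eq]

theorem A_normalizes_pair {g : G} (hg : S.Good g) (hP : S.P g) :
    S.A ≤ normalizer (S.pair hP : Set G) := fun a ha => mem_normalizer_fintype fun y hy => by
  obtain ⟨x, b, rfl⟩ := (S.mem_pair hP).1 hy
  obtain ⟨c, -, hc⟩ := S.A_scale ha
  obtain ⟨c', -, hc'⟩ := S.A_conj_rt hg ha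
  exact (S.mem_pair hP).2 ⟨c * x, c' * b, by rw [← hc, ← hc']; group⟩

theorem mem_cent_pair {g : G} (hP : S.P g) {y : G} :
    y ∈ centralizer (S.pair hP : Set G) ↔ ∀ z ∈ S.pair hP, Commute y z := by
  rw [mem_centralizer_iff]
  exact ⟨fun h z hz => (h z hz).symm, fun h z hz => (h z hz).symm.eq⟩

theorem cent_pair_CX {g : G} (hP : S.P g) {y : G} (hy : y ∈ centralizer (S.pair hP : Set G)) : y ∈ S.CX :=
  S.mem_CX.2 fun x => (S.mem_cent_pair hP).1 hy _ (S.pair_e hP x)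

include p in
theorem cent_pair_odd {g : G} (hP : S.P g) (hginv : ∀ x, S.t * S.rt g x * S.t⁻¹ = S.rt g (-x)) :
    Odd (Nat.card ↥(centralizer (S.pair hP : Set G))) := by
  obtain ⟨W, hWo, hW, hWd⟩ := S.exists_W
  set E := S.pair hP with hE
  have hmemCE : ∀ {y}, y ∈ centralizer (E : Set G) ↔ ∀ z ∈ E, Commute y z := fun {y} => S.mem_cent_pair hP
  have hCX : ∀ y ∈ centralizer (E : Set G), y ∈ S.CX := fun y hy => S.cent_pair_CX hP hy
  rw [← Nat.not_even_iff_odd, even_iff_two_dvd]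
  intro h2
  haveI : Fact (Nat.Prime 2) := ⟨Nat.prime_two⟩
  obtain ⟨⟨i, hi⟩, ho⟩ := exists_prime_orderOf_dvd_card' 2 h2
  rw [Subgroup.orderOf_mk] at ho
  obtain ⟨-, k, hk, hki⟩ := S.invol_conj hWo hW hWd (hCX i hi) (by rw [← pow_two, ← ho, pow_orderOf_eq_one])
    (fun e => by rw [e, orderOf_one] at ho; omega)
  have hkX : ∀ x, Commute k (S.e x) := S.mem_CX.1 ((hW k).1 hk).1
  have hri : Commute (S.rt g 1) i := (hmemCE.1 hi _ (S.pair_rt hP 1)).symm
  have h1 : Commute (k⁻¹ * S.rt g 1 * k) S.t := by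
    have h := cconj k⁻¹ hri
    rwa [inv_inv, ← hki, show k⁻¹ * (k * S.t * k⁻¹) * k = S.t by group] at h
  have h3 : Commute (k⁻¹ * S.rt g 1 * k) (S.e 1) :=
    ((hkX 1).inv_left.mul_left (hP 1 1).symm).mul_left (hkX 1)
  obtain ⟨a, z, haz⟩ := S.cent_e h1 one_ne_zero h3
  obtain ⟨z', hz'⟩ := S.borel_pelem (p := p) (j := 1) (S.dg_mem a a) (x := z) (by
    rw [← haz, pow_one, show k⁻¹ * S.rt g 1 * k = k⁻¹ * S.rt g 1 * k⁻¹⁻¹ by group, conj_pow, S.pow_rt, mul_one,
      mul_inv_cancel])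
  rw [← haz] at hz'
  have h4 : S.rt g 1 = S.e z' := by
    calc S.rt g 1 = k * (k⁻¹ * S.rt g 1 * k) * k⁻¹ := by group
      _ = k * S.e z' * k⁻¹ := by rw [hz']
      _ = S.e z' := by rw [(hkX z').eq, mul_inv_cancel_right]
  obtain ⟨-, h5⟩ := S.pair_inj hP hginv (x := z') (y := -1) (by rw [← h4, S.rt_neg, mul_inv_cancel])
  exact one_ne_zero (neg_eq_zero.1 h5)

theorem cent_pair_A_conj {g : G} (hg : S.Good g) (hP : S.P g) {a : G} (ha : a ∈ S.A) {y : G}
    (hy : y ∈ centralizer (S.pair hP : Set G)) : a * y * a⁻¹ ∈ centralizer (S.pair hP : Set G) :=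
  (S.mem_cent_pair hP).2 fun z hz => by
    have h := cconj a ((S.mem_cent_pair hP).1 hy (a⁻¹ * z * a)
      ((mem_normalizer_iff''.1 (S.A_normalizes_pair hg hP ha) z).1 hz))
    rwa [show a * (a⁻¹ * z * a) * a⁻¹ = z by group] at h

variable {g u k₁ k₂ : G} (hu : u = S.w ∨ u = S.t * S.w) (hgu : g * S.t * g⁻¹ = u)
  (hgv : g * (S.t * u) * g⁻¹ = S.t * u) (hginv : ∀ x, S.t * S.rt g x * S.t⁻¹ = S.rt g (-x)) (hg : S.Good g)
  (hk₁ : S.Moves k₁ (S.t * u) S.t) (hk₂ : S.Moves k₂ (S.t * u) u) (hg₁ : S.Good k₁) (hg₂ : S.Good k₂)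
  (hP : S.P g) (hn₁ : ¬ S.P k₁) (hn₂ : ¬ S.P k₂)
include hu hgu hgv hginv hg hk₁ hk₂ hg₁ hg₂ hP hn₁ hn₂

theorem u_facts : u ∈ S.A ∧ u * u = 1 ∧ ∀ x, u * S.e x * u⁻¹ = S.e (-x) := by
  refine ⟨?_, ?_, ?_⟩
  · rcases hu with rfl | rfl
    · exact S.mem_A.2 ⟨S.tw_comm.symm, Commute.refl _⟩
    · exact S.mem_A.2 ⟨(Commute.refl _).mul_left S.tw_comm.symm, S.tw_comm.mul_left (Commute.refl _)⟩
  · rcases hu with rfl | rfl
    · exact S.ww
    · rw [show S.t * S.w * (S.t * S.w) = S.t * (S.w * S.t) * S.w by group, S.tw_comm.symm.eq, ← mul_assoc, S.tt,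
        one_mul, S.ww]
  · rcases hu with rfl | rfl <;> intro x
    · exact S.w_e x
    · rw [show S.t * S.w * S.e x * (S.t * S.w)⁻¹ = S.t * (S.w * S.e x * S.w⁻¹) * S.t⁻¹ by group, S.w_e,
        (S.e_t _).symm.eq, mul_inv_cancel_right]

theorem v_inverts : ∀ y ∈ S.pair hP, S.t * u * y * (S.t * u)⁻¹ = y⁻¹ := by
  obtain ⟨huA, -, hue⟩ := S.u_facts hu hgu hgv hginv hg hk₁ hk₂ hg₁ hg₂ hP hn₁ hn₂
  refine S.pair_inverts _ hP (fun x => ?_) fun x => ?_
  · rw [show S.t * u * S.e x * (S.t * u)⁻¹ = S.t * (u * S.e x * u⁻¹) * S.t⁻¹ by group, hue,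
      (S.e_t _).symm.eq, mul_inv_cancel_right]
  · have hfix : Commute (S.rt g x) u := hgu ▸ cconj g (S.e_t x)
    rw [show S.t * u * S.rt g x * (S.t * u)⁻¹ = S.t * (u * S.rt g x * u⁻¹) * S.t⁻¹ by group,
      hfix.symm.eq, mul_inv_cancel_right, hginv]

include p in
/-- The centraliser of the pair meets the centraliser of `t u` in the torus. -/
theorem cent_pair_v {y : G} (hy : y ∈ centralizer (S.pair hP : Set G)) (hyv : Commute y (S.t * u)) :
    y ∈ S.A := by
  obtain ⟨huA, huu, -⟩ := S.u_facts hu hgu hgv hginv hg hk₁ hk₂ hg₁ hg₂ hP hn₁ hn₂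
  have htu : Commute S.t u := (S.A_t huA).symm
  have hCEodd := S.cent_pair_odd (p := p) hP hginv
  set v := S.t * u with hvdef
  have hvA : v ∈ S.A := mul_mem (S.mem_A.2 ⟨Commute.refl _, S.tw_comm⟩) huA
  set CE := centralizer (S.pair hP : Set G) with hCE
  have hCEA : ∀ a ∈ S.A, ∀ y ∈ CE, a * y * a⁻¹ ∈ CE := fun a ha y hy => S.cent_pair_A_conj hg hP ha hy
  have hCX : ∀ y ∈ CE, y ∈ S.CX := fun y hy => S.cent_pair_CX hP hy
  have hk₁n : S.Moves (k₁ * S.n) v u := by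
    have h := hk₁.mul S S.moves_n
    rw [hk₁.1, hk₁.prod] at h
    rwa [show v * S.t = u by rw [hvdef, mul_assoc, ← htu.eq, ← mul_assoc, S.tt, one_mul]] at h
  set Y := CE ⊓ centralizer ({v} : Set G)
  rcases S.torus_or_root hg₁ (Y := Y) (hCEodd.of_dvd_nat (card_dvd_of_le inf_le_left))
    (fun z hz => hk₁.1.symm ▸ mem_centralizer_singleton_iff.1 hz.2)
    (fun a ha z hz => ⟨hCEA a ha z hz.1, mem_centralizer_singleton_iff.2
      (((S.A_comm ha hvA).mul_left (mem_centralizer_singleton_iff.1 hz.2 : Commute z v)).mul_left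
        (S.A_comm ha hvA).inv_left).eq⟩) with h | h | h
  · exact h ⟨hy, mem_centralizer_singleton_iff.2 hyv.eq⟩
  · exact absurd (fun x z => (S.mem_CX.1 (hCX _ (h z).1) x).symm) hn₁
  · exact absurd ((show S.P (k₁ * S.n) from fun x z => (S.mem_CX.1 (hCX _ (h z).1) x).symm).congr S hk₁n hk₂) hn₂

include p in
/-- The normaliser of the pair is its part at `t u` times the centraliser of the pair. -/
theorem norm_pair_le : normalizer (S.pair hP : Set G) ≤
    (normalizer (S.pair hP : Set G) ⊓ centralizer ({S.t * u} : Set G)) ⊔ centralizer (S.pair hP : Set G) := by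
  obtain ⟨huA, huu, -⟩ := S.u_facts hu hgu hgv hginv hg hk₁ hk₂ hg₁ hg₂ hP hn₁ hn₂
  have htu : Commute S.t u := (S.A_t huA).symm
  have hCEodd := S.cent_pair_odd (p := p) hP hginv
  have hvE := S.v_inverts hu hgu hgv hginv hg hk₁ hk₂ hg₁ hg₂ hP hn₁ hn₂
  set v := S.t * u with hvdef
  set N := normalizer (S.pair hP : Set G) with hN
  have hvN : v ∈ N := S.A_normalizes_pair hg hP (mul_mem (S.mem_A.2 ⟨Commute.refl _, S.tw_comm⟩) huA)
  have hmemCE : ∀ {y}, y ∈ centralizer (S.pair hP : Set G) ↔ ∀ z ∈ S.pair hP, Commute y z :=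
    fun {y} => S.mem_cent_pair hP
  intro n hn
  have hv2 : orderOf v = 2 := by
    refine orderOf_eq_prime ?_ ?_
    · rw [pow_two, hvdef, show S.t * u * (S.t * u) = S.t * (u * S.t) * u by group, ← htu.eq, ← mul_assoc, S.tt,
        one_mul, huu]
    · intro e
      rcases hu with h | h
      · exact S.tw1 (by rwa [hvdef, h] at e)
      · exact S.w1 (by rwa [hvdef, h, ← mul_assoc, S.tt, one_mul] at e)
  obtain ⟨r, hr, c, hc, rfl⟩ := Aschbacher.exists_mul_fixed hv2 hCEodd (x := n) (hmemCE.2 fun z hz => by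
    have hz' : n⁻¹ * z * n ∈ S.pair hP := (mem_normalizer_iff''.1 hn z).1 hz
    show _ = _
    refine mul_inv_eq_iff_eq_mul.1 ?_
    have hzv : v⁻¹ * (n⁻¹ * z * n) * v = (n⁻¹ * z * n)⁻¹ := by
      have h1 := hvE _ (inv_mem hz')
      rw [inv_inv] at h1
      calc v⁻¹ * (n⁻¹ * z * n) * v = v⁻¹ * (v * (n⁻¹ * z * n)⁻¹ * v⁻¹) * v := by rw [h1]
        _ = _ := by group
    calc v * n * v⁻¹ * n⁻¹ * z * (v * n * v⁻¹ * n⁻¹)⁻¹
        = v * n * (v⁻¹ * (n⁻¹ * z * n) * v) * n⁻¹ * v⁻¹ := by group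
      _ = v * z⁻¹ * v⁻¹ := by rw [hzv]; group
      _ = z := by rw [hvE _ (inv_mem hz), inv_inv])
  refine mul_mem (mem_sup_right hr) (mem_sup_left ⟨?_, mem_centralizer_singleton_iff.2 hc.eq⟩)
  have hrN : r ∈ N := centralizer_le_normalizer _ hr
  simpa using mul_mem (inv_mem hrN) hn

theorem single (hdvd : Fintype.card F ^ 2 * p ∣ Nat.card G) : False := by
  classical
  obtain ⟨huA, huu, hue⟩ := S.u_facts hu hgu hgv hginv hg hk₁ hk₂ hg₁ hg₂ hP hn₁ hn₂
  have htu : Commute S.t u := (S.A_t huA).symm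
  set v := S.t * u with hvdef
  have hvA : v ∈ S.A := mul_mem (S.mem_A.2 ⟨Commute.refl _, S.tw_comm⟩) huA
  have hfix : ∀ x, Commute (S.rt g x) u := fun x => hgu ▸ cconj g (S.e_t x)
  set E := S.pair hP with hE
  have hcardE : Nat.card E = Fintype.card F ^ 2 := S.card_pair hP hginv
  have hAE : S.A ≤ normalizer (E : Set G) := S.A_normalizes_pair hg hP
  set CE := centralizer (E : Set G) with hCE
  have hmemCE : ∀ {y}, y ∈ CE ↔ ∀ z ∈ E, Commute y z := fun {y} => by
    rw [hCE, mem_centralizer_iff]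
    exact ⟨fun h z hz => (h z hz).symm, fun h z hz => (h z hz).symm.eq⟩
  obtain ⟨W, hWo, hW, hWd⟩ := S.exists_W
  have hCX : ∀ y ∈ CE, y ∈ S.CX := fun y hy => S.mem_CX.2 fun x => hmemCE.1 hy _ (S.pair_e hP x)
  have hCEodd : Odd (Nat.card CE) := S.cent_pair_odd (p := p) hP hginv
  -- the part of `CE` at `v` is a torus
  have hCEA : ∀ a ∈ S.A, ∀ y ∈ CE, a * y * a⁻¹ ∈ CE := fun a ha y hy => hmemCE.2 fun z hz => by
    have h := cconj a (hmemCE.1 hy (a⁻¹ * z * a) ((mem_normalizer_iff''.1 (hAE ha) z).1 hz))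
    rwa [show a * (a⁻¹ * z * a) * a⁻¹ = z by group] at h
  have hk₁n : S.Moves (k₁ * S.n) v u := by
    have h := hk₁.mul S S.moves_n
    rw [hk₁.1, hk₁.prod] at h
    rwa [show v * S.t = u by rw [hvdef, mul_assoc, ← htu.eq, ← mul_assoc, S.tt, one_mul]] at h
  have hCEv : ∀ y ∈ CE, Commute y v → y ∈ S.A := fun y hy hyv =>
    S.cent_pair_v (p := p) hu hgu hgv hginv hg hk₁ hk₂ hg₁ hg₂ hP hn₁ hn₂ hy hyv
  -- the Sylow subgroup of `CE`
  have hCEp : ¬ Fintype.card F ^ 2 * p ∣ Nat.card CE := by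
    intro hd
    haveI hKK : IsKleinFour ↥(S.U) := JankoWard.fourSub_klein S.t1 S.w1 S.w_ne.symm
    haveI : IsMulCommutative ↥(S.U) := IsKleinFour.isMulCommutative
    have hUA : S.U ≤ S.A := by
      intro y hy
      rcases hy with e | e | e | e <;> rw [e]
      · exact one_mem _
      · exact S.mem_A.2 ⟨Commute.refl _, S.tw_comm⟩
      · exact S.mem_A.2 ⟨S.tw_comm.symm, Commute.refl _⟩
      · exact mul_mem (S.mem_A.2 ⟨Commute.refl _, S.tw_comm⟩) (S.mem_A.2 ⟨S.tw_comm.symm, Commute.refl _⟩)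
    have hcop : ∀ Q : Subgroup G, Odd (Nat.card Q) → (Nat.card S.U).Coprime (Nat.card Q) := fun Q hQ => by
      rw [IsKleinFour.card_four, show (4 : ℕ) = 2 ^ 2 by norm_num]; exact (Nat.coprime_two_left.2 hQ).pow_left 2
    obtain ⟨Q, hQ, hUQ⟩ := Grp.exists_invariant_sylow S.U CE
      (fun a ha => mem_normalizer_fintype fun y hy => hCEA a (hUA ha) y hy) (hcop _ hCEodd)
      (Or.inl (Group.isSolvable_of_comm mul_comm')) p
    have hQE : Q ≤ E := by
      rw [← Grp.generated_by_centralizers S.U Q IsKleinFour.not_isCyclic hUQ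
        (hcop _ (hCEodd.of_dvd_nat (card_dvd_of_le hQ.1)))]
      refine iSup₂_le fun z hz y hy => ?_
      have hyz : Commute y z := mem_centralizer_singleton_iff.1 hy.2
      have hyCE : y ∈ CE := hQ.1 hy.1
      obtain ⟨j, hj⟩ := hQ.2.1 ⟨y, hy.1⟩
      have hj' : y ^ p ^ j = 1 := congrArg Subtype.val hj
      have hX : Commute y S.t → y ∈ E := fun hyt => by
        obtain ⟨a, c, rfl⟩ := S.cent_e hyt one_ne_zero (S.mem_CX.1 (hCX y hyCE) 1)
        obtain ⟨c', hc'⟩ := S.borel_pelem (p := p) (S.dg_mem a a) hj'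
        rw [← hc']; exact S.pair_e hP c'
      have hR : Commute y u → y ∈ E := fun hyu => by
        have hu' : g * S.t * g⁻¹ = S.t ∨ g * S.t * g⁻¹ = S.w ∨ g * S.t * g⁻¹ = S.t * S.w := Or.inr (hgu ▸ hu)
        obtain ⟨ho, hc, hn⟩ := S.W_part hWo hW hWd (g := g) hu'
        obtain ⟨x, rfl⟩ := S.pelem_root hg ho hc hn (p := p) (j := j)
          (fun x => ⟨S.rt_mem_W hWo hW hWd hP x, mem_centralizer_singleton_iff.2 (hgu.symm ▸ hfix x).eq⟩)
          (y := y) ⟨(hW y).2 ⟨hCX y hyCE, ((S.p_odd (p := p)).pow (n := j)).of_dvd_nat (orderOf_dvd_of_pow_eq_one hj')⟩,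
            mem_centralizer_singleton_iff.2 (hgu.symm ▸ hyu).eq⟩ hj'
        exact S.pair_rt hP x
      have hV : Commute y v → y ∈ E := fun hyv => hX (S.A_t (hCEv y hyCE hyv))
      rcases hz.1 with e | e | e | e <;> rw [e] at hyz
      · exact absurd e hz.2
      · exact hX hyz
      · rcases hu with h | h
        · exact hR (h ▸ hyz)
        · refine hV ?_
          rwa [hvdef, h, ← mul_assoc, S.tt, one_mul]
      · rcases hu with h | h
        · refine hV ?_
          rwa [hvdef, h]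
        · exact hR (h ▸ hyz)
    have h1 := Subgroup.card_dvd_of_le hQE
    rw [hcardE, hQ.card] at h1
    obtain ⟨m, -, hm⟩ := FiniteField.card F p
    rw [hm, ← pow_mul, ← pow_succ, (Fact.out : p.Prime).pow_dvd_iff_le_factorization Nat.card_pos.ne'] at hd
    rw [hm, ← pow_mul, Nat.pow_dvd_pow_iff_le_right (Fact.out : p.Prime).one_lt] at h1
    omega
  -- the normaliser
  set N := normalizer (E : Set G) with hN
  have hNp : Fintype.card F ^ 2 * p ∣ Nat.card N := by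
    obtain ⟨P, hEP⟩ := (S.pair_pgroup (p := p) hP).exists_le_sylow
    obtain ⟨m, -, hm⟩ := FiniteField.card F p
    have hne : E < (P : Subgroup G) := by
      refine lt_of_le_of_ne hEP fun e => ?_
      rw [hm, ← pow_mul, ← pow_succ, (Fact.out : p.Prime).pow_dvd_iff_le_factorization Nat.card_pos.ne'] at hdvd
      have h1 := P.card_eq_multiplicity
      rw [← e, hcardE, hm, ← pow_mul] at h1
      have h2 := Nat.pow_right_injective (Fact.out : p.Prime).two_le h1
      omega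
    haveI : Group.IsNilpotent ↥(P : Subgroup G) := P.isPGroup'.isNilpotent
    have hlt : E.subgroupOf (P : Subgroup G) < ⊤ := lt_top_iff_ne_top.2 fun e =>
      not_le_of_gt hne (subgroupOf_eq_top.1 e)
    obtain ⟨⟨y, hyP⟩, hyN, hyE⟩ := SetLike.exists_of_lt (Group.normalizerCondition_of_isNilpotent _ hlt)
    have hyN' : y ∈ N := mem_normalizer_fintype fun z hz => (mem_normalizer_iff.1 hyN ⟨z, hEP hz⟩).1 hz
    have hlt2 : E < N ⊓ (P : Subgroup G) := lt_of_le_not_ge (le_inf le_normalizer hEP) fun hle => hyE (hle ⟨hyN', hyP⟩)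
    obtain ⟨k, hk⟩ := (P.isPGroup'.to_le (inf_le_right : N ⊓ (P : Subgroup G) ≤ P)).exists_card_eq
    have h3 : Nat.card E < Nat.card ↥(N ⊓ (P : Subgroup G)) :=
      lt_of_le_of_ne (Nat.le_of_dvd Nat.card_pos (card_dvd_of_le hlt2.le))
        fun e => hlt2.ne (Subgroup.eq_of_le_of_card_ge hlt2.le e.ge)
    rw [hcardE, hk, hm, ← pow_mul, Nat.pow_lt_pow_iff_right (Fact.out : p.Prime).one_lt] at h3
    rw [hm, ← pow_mul, ← pow_succ]
    exact (pow_dvd_pow p h3).trans (hk ▸ card_dvd_of_le inf_le_left)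
  set K := N ⊓ centralizer ({v} : Set G) with hK
  have hNCE : N ≤ normalizer (CE : Set G) := fun n hn => mem_normalizer_fintype fun y hy => hmemCE.2 fun z hz => by
    have h := cconj n (hmemCE.1 hy (n⁻¹ * z * n) ((mem_normalizer_iff''.1 hn z).1 hz))
    rwa [show n * (n⁻¹ * z * n) * n⁻¹ = z by group] at h
  have hvN : v ∈ N := hAE hvA
  have hsup : N ≤ K ⊔ CE := S.norm_pair_le (p := p) hu hgu hgv hginv hg hk₁ hk₂ hg₁ hg₂ hP hn₁ hn₂
  have hpK : p ∣ Nat.card K := by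
    by_contra hno
    have h1 := (hNp.trans (card_dvd_of_le hsup)).trans
      (Dvd.intro _ (Grp.card_sup_mul_card_inf ((inf_le_left : K ≤ N).trans hNCE)))
    obtain ⟨m, -, hm⟩ := FiniteField.card F p
    refine hCEp (Nat.Coprime.dvd_of_dvd_mul_left ?_ h1)
    rw [hm, ← pow_mul, ← pow_succ]
    exact ((Fact.out : p.Prime).coprime_iff_not_dvd.2 hno).pow_left _
  -- a root group in `K`
  have hAK : ∀ a ∈ S.A, a ∈ K := fun a ha => ⟨hAE ha, mem_centralizer_singleton_iff.2 (S.A_comm ha hvA).eq⟩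
  set H := K.comap ((MulAut.conj k₁).toMonoidHom.comp S.μ) with hH
  have hHm : ∀ {m}, m ∈ H ↔ k₁ * S.μ m * k₁⁻¹ ∈ K := Iff.rfl
  have hHT : HasTorus H := fun a b => hHm.2 (hAK _ (hg₁.conj S (S.dg_mem a b)))
  have hroot : ∃ z ≠ 0, S.rt k₁ z ∈ K ∨ S.rt (k₁ * S.n) z ∈ K := by
    obtain ⟨⟨y, hy⟩, ho⟩ := exists_prime_orderOf_dvd_card' p hpK
    rw [Subgroup.orderOf_mk] at ho
    have hyv : Commute (k₁⁻¹ * y * k₁) S.t := by
      have h := cconj k₁⁻¹ (mem_centralizer_singleton_iff.1 hy.2 : Commute y v)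
      rwa [inv_inv, ← hk₁.1, show k₁⁻¹ * (k₁ * S.t * k₁⁻¹) * k₁ = S.t by group] at h
    obtain ⟨m, hm⟩ := S.onto _ hyv
    have hye : y = k₁ * S.μ m * k₁⁻¹ := by rw [hm]; group
    have hmH : m ∈ H := hHm.2 (hye ▸ hy)
    have hpow : S.μ m ^ p ^ 1 = 1 := by
      rw [pow_one, hm, show k₁⁻¹ * y * k₁ = k₁⁻¹ * y * k₁⁻¹⁻¹ by group, conj_pow, ← ho, pow_orderOf_eq_one, mul_one,
        mul_inv_cancel]
    have hy1 : y ≠ 1 := fun e => by rw [e, orderOf_one] at ho; exact (Fact.out : p.Prime).one_lt.ne ho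
    have hup : (m : Matrix (Fin 2) (Fin 2) F) 1 0 = 0 → ∃ z ≠ 0, S.rt k₁ z ∈ K ∨ S.rt (k₁ * S.n) z ∈ K := fun h10 => by
      obtain ⟨a, b, x, rfl⟩ := upper_of h10
      rw [map_mul] at hpow hye
      obtain ⟨z, hz⟩ := S.borel_pelem (p := p) (S.dg_mem a b) (x := x) hpow
      have e : y = S.rt k₁ z := by rw [hye, rt, hz]; rfl
      exact ⟨z, fun h => hy1 (by rw [e, h, S.rt_zero]), Or.inl (e ▸ hy)⟩
    have hlow : (m : Matrix (Fin 2) (Fin 2) F) 0 1 = 0 → ∃ z ≠ 0, S.rt k₁ z ∈ K ∨ S.rt (k₁ * S.n) z ∈ K := fun h01 => by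
      have h10 : ((sw * m * sw⁻¹ : GL (Fin 2) F) : Matrix (Fin 2) (Fin 2) F) 1 0 = 0 := by
        have h2 : (sw⁻¹ : GL (Fin 2) F) = sw * dg (-1) (-1) := inv_eq_of_mul_eq_one_right (by
          rw [← mul_assoc, sw_sq, dg_mul]; simp [dg_one])
        rw [h2]
        simp [mul00, mul01, mul10, mul11, sw_val, h01]
      obtain ⟨a, b, x, he⟩ := upper_of h10
      have he' := congrArg S.μ he
      rw [map_mul, map_mul, map_inv, map_mul] at he'
      change S.n * S.μ m * S.n⁻¹ = S.μ (dg a b) * S.e x at he'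
      obtain ⟨z, hz⟩ := S.borel_pelem (p := p) (j := 1) (S.dg_mem a b) (x := x) (by
        rw [← he', conj_pow, hpow, mul_one, mul_inv_cancel])
      rw [← he'] at hz
      have e : y = S.rt (k₁ * S.n) z := by
        rw [hye, S.rt_mul, rt]
        congr 2
        calc S.μ m = S.n⁻¹ * (S.n * S.μ m * S.n⁻¹) * S.n := by group
          _ = S.n⁻¹ * S.e z * S.n := by rw [hz]
          _ = S.n * ((S.n * S.n)⁻¹ * S.e z * (S.n * S.n)) * S.n⁻¹ := by group
          _ = _ := by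
            rw [S.n_sq, show S.t⁻¹ * S.e z * S.t = S.e z by rw [mul_assoc, (S.e_t z).eq, inv_mul_cancel_left]]
      exact ⟨z, fun h => hy1 (by rw [e, h, S.rt_zero]), Or.inr (e ▸ hy)⟩
    rcases torus_cases hHT with h | h | h | h
    · exact hup (h m hmH)
    · exact hlow (h m hmH)
    · rcases h m hmH with ⟨ha, hd⟩ | ⟨-, hc⟩
      swap
      · exact hup hc
      exfalso
      have key : ∀ j : ℕ, ((m ^ (2 * j + 1) : GL (Fin 2) F) : Matrix (Fin 2) (Fin 2) F) 0 0 = 0 := by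
        intro j
        induction j with
        | zero => simpa using ha
        | succ j ih =>
          rw [show 2 * (j + 1) + 1 = (2 * j + 1) + 2 by ring, pow_add, pow_two, mul00, mul00, mul10, ih, ha, hd]
          simp
      obtain ⟨j, hj⟩ := S.p_odd (p := p)
      rw [pow_one, ← map_pow, hj] at hpow
      obtain ⟨a, hm', -⟩ := S.ker_scalar hpow
      have h1 := key j
      rw [hm'] at h1
      simp at h1
    · have hd : p ∣ Nat.card H := by
        refine hpK.trans ?_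
        have hrange : H.map ((MulAut.conj k₁).toMonoidHom.comp S.μ) = K := by
          refine le_antisymm (map_comap_le _ _) fun z hz => ?_
          have hzv : Commute (k₁⁻¹ * z * k₁) S.t := by
            have h := cconj k₁⁻¹ (mem_centralizer_singleton_iff.1 hz.2 : Commute z v)
            rwa [inv_inv, ← hk₁.1, show k₁⁻¹ * (k₁ * S.t * k₁⁻¹) * k₁ = S.t by group] at h
          obtain ⟨m', hm'⟩ := S.onto _ hzv
          have e : k₁ * S.μ m' * k₁⁻¹ = z := by rw [hm']; group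
          exact ⟨m', hHm.2 (e.symm ▸ hz), e⟩
        have := H.card_map_dvd ((MulAut.conj k₁).toMonoidHom.comp S.μ)
        rwa [hrange] at this
      rw [card_transitive h] at hd
      obtain ⟨s, hs⟩ := exists_prime_orderOf_dvd_card' p
        (((Fact.out : p.Prime).dvd_mul.1 hd).resolve_left (S.coprime_sq_sub (p := p)))
      have hs1 : ((s : H) : GL (Fin 2) F) ^ p ^ 1 = 1 := by
        rw [pow_one, ← hs]
        exact_mod_cast pow_orderOf_eq_one s
      have e := eq_up_of_pow (p := p) s.2.2 hs1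
      refine ⟨(((s : H) : GL (Fin 2) F) : Matrix (Fin 2) (Fin 2) F) 0 1, fun hz => ?_, Or.inl ?_⟩
      rotate_left
      · show k₁ * S.μ (up _) * k₁⁻¹ ∈ K
        rw [← e]
        exact (s : H).2
      · rw [hz, up_zero] at e
        have : s = 1 := Subtype.ext (Subtype.ext e)
        rw [this, orderOf_one] at hs
        exact (Fact.out : p.Prime).one_lt.ne hs
  -- a whole root group in `K` fixes a non-trivial element of `E`
  have hAKn : ∀ a ∈ S.A, ∀ y ∈ K, a * y * a⁻¹ ∈ K := fun a ha y hy => mul_mem (mul_mem (hAK a ha) hy) (inv_mem (hAK a ha))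
  have hend : ∀ k, S.Good k → ¬ S.P k → (∀ x, S.t * S.rt k x * S.t⁻¹ = S.rt k (-x)) →
      ¬ S.P (g⁻¹ * k) → ∀ z ≠ 0, S.rt k z ∈ K → False := by
    intro k hk hnk hkt hother z hz hzK
    have hall := S.root_le hk hAKn hz hzK
    set T := S.X.map (MulAut.conj k).toMonoidHom with hT
    have hTK : T ≤ K := by
      rintro _ ⟨_, ⟨x, rfl⟩, rfl⟩
      exact hall x
    have hTE : T ≤ normalizer (E : Set G) := hTK.trans inf_le_left
    let φ : ↥T →* MulAut ↥E := E.normalizerMonoidHom.comp (Subgroup.inclusion hTE)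
    letI : MulAction ↥T ↥E := MulAction.compHom ↥E φ
    have hTp : IsPGroup p T := (S.X_pgroup (p := p)).map _
    have hpE : p ∣ Nat.card E := by
      rw [hcardE]
      obtain ⟨m, -, hm⟩ := FiniteField.card F p
      exact hm ▸ dvd_pow (dvd_pow_self p m.ne_zero) two_ne_zero
    obtain ⟨⟨e', he'⟩, hef, hne⟩ := hTp.exists_fixed_point_of_prime_dvd_card_of_fixed_point (↥E) hpE
      (a := 1) (fun τ => map_one (φ τ))
    have hcomm : ∀ x, Commute (S.rt k x) e' := fun x => by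
      have h : φ ⟨_, ⟨_, S.e_mem x, rfl⟩⟩ ⟨e', he'⟩ = ⟨e', he'⟩ := hef ⟨_, ⟨_, S.e_mem x, rfl⟩⟩
      exact mul_inv_eq_iff_eq_mul.1 (congrArg Subtype.val h)
    obtain ⟨a, b, rfl⟩ := (S.mem_pair hP).1 he'
    by_cases ha : a = 0
    · subst ha
      have hb : b ≠ 0 := fun hb => hne (Subtype.ext (by simp [hb, S.e_zero, S.rt_zero]))
      simp only [S.e_zero, one_mul] at hcomm
      have h1 : ∀ x, Commute (S.e b) (S.rt (g⁻¹ * k) x) := fun x => by
        have h := cconj g⁻¹ (hcomm x).symm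
        rw [inv_inv, rt, show g⁻¹ * (g * S.e b * g⁻¹) * g = S.e b by group] at h
        rw [S.rt_mul, inv_inv]
        exact h
      -- `g⁻¹ k` moves as one of the two `k`'s
      have hgood : S.Good (g⁻¹ * k) := fun c hc => by
        rw [show (g⁻¹ * k)⁻¹ * c * (g⁻¹ * k) = k⁻¹ * (g * c * g⁻¹) * k by group]
        exact hk _ (hg.conj S hc)
      have hPgk : S.P (g⁻¹ * k) := S.P_of_comm hgood hb h1
      exact hother hPgk
    · refine hnk (S.P_of_comm hk (x := a + a) (fun h => ha ?_) fun y => ?_)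
      · have h2 : (2 : F) * a = 0 := by linear_combination h
        exact (mul_eq_zero.1 h2).resolve_left S.two_ne
      · have h1 := cconj S.t (hcomm (-y))
        rw [hkt, neg_neg, show S.t * (S.e a * S.rt g b) * S.t⁻¹ = (S.t * S.e a * S.t⁻¹) * (S.t * S.rt g b * S.t⁻¹) by group,
          (S.e_t a).symm.eq, mul_inv_cancel_right, hginv] at h1
        have h2 := (hcomm y).mul_right h1
        rw [show S.e a * S.rt g b * (S.e a * S.rt g (-b)) = S.e a * (S.rt g b * S.e a) * S.rt g (-b) by group,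
          ← (hP a b).eq, ← mul_assoc, ← S.e_add, mul_assoc, ← S.rt_add, add_neg_cancel, S.rt_zero, mul_one] at h2
        exact h2.symm
  have hgi : g⁻¹ * S.t * g = u := by
    have h1 : g * u * g⁻¹ = S.t := by
      calc g * u * g⁻¹ = g * (S.t * (S.t * u)) * g⁻¹ := by rw [← mul_assoc S.t, S.tt, one_mul]
        _ = g * S.t * g⁻¹ * (g * (S.t * u) * g⁻¹) := by group
        _ = u * (S.t * u) := by rw [hgu, hgv]
        _ = S.t := by rw [← mul_assoc, ← htu.eq, mul_assoc, huu, mul_one]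
    rw [← h1]; group
  have hgiv : g⁻¹ * v * g = v := by
    calc g⁻¹ * v * g = g⁻¹ * (g * v * g⁻¹) * g := by rw [hgv]
      _ = v := by group
  have hgk : ∀ k v', S.Moves k v v' → S.Moves (g⁻¹ * k) v (g⁻¹ * v' * g) := fun k v' hkm => by
    have h := (Sys.Moves.mul S (show S.Moves g⁻¹ (g⁻¹ * S.t * g) (g⁻¹ * S.w * g) from ⟨by group, by group⟩) hkm)
    rwa [inv_inv, hgiv] at h
  have hgu' : g⁻¹ * u * g = S.t := by rw [← hgu]; group
  have hk₁' : S.Moves (g⁻¹ * k₁) v u := hgi ▸ hgk _ _ hk₁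
  have hk₂' : S.Moves (g⁻¹ * k₂) v S.t := hgu' ▸ hgk _ _ hk₂
  have ht₁ : ∀ x, S.t * S.rt k₁ x * S.t⁻¹ = S.rt k₁ (-x) := hk₁.inverts S
  have ht₂ : ∀ x, S.t * S.rt k₂ x * S.t⁻¹ = S.rt k₂ (-x) := fun x => by
    have h := hk₂.inverts' S x
    rwa [show v * u = S.t by rw [hvdef, mul_assoc, huu, mul_one]] at h
  obtain ⟨z, hz, hzK | hzK⟩ := hroot
  · exact hend k₁ hg₁ hn₁ ht₁ (fun h => hn₂ (h.congr S hk₁' hk₂)) z hz hzK
  · obtain ⟨c, hc0, hc⟩ := S.exists_rescale hk₂ hk₁n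
    rw [hc] at hzK
    exact hend k₂ hg₂ hn₂ ht₂ (fun h => hn₁ (h.congr S hk₂' hk₁)) _ (mul_ne_zero hc0 hz) hzK

end Kill

end

end Sys

end Cfsg.Agent.Invol.BrauerL3.Lin
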