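import Cfsg.Agent.Lib.Invol.BrauerL3.LinearGL

/-!
# Brauer's theorem: centralisers `GL(2, F)/Z`

`Sys`: a map of `GL(2, F)` onto the centraliser of an involution `t` with scalar kernel of odd order, and an element
interchanging `t` and `w`, the image of `diag(1, -1)`.  The torus `A`, the root group `X` and its conjugates.
-/

set_option autoImplicit false
set_option linter.unusedSectionVars false

namespace Cfsg.Agent.Invol.BrauerL3.Lin

open Subgroup

universe u v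

variable {G : Type u} [Group G] {F : Type v} [Field F]

/-- The hypotheses. -/
structure Sys (G : Type u) [Group G] (F : Type v) [Field F] [Fintype F] where
  /-- the map onto the centraliser -/
  μ : GL (Fin 2) F →* G
  onto : ∀ x : G, Commute x (μ (dg (-1) (-1))) → ∃ g, μ g = x
  ker_center : μ.ker ≤ center (GL (Fin 2) F)
  ker_odd : Odd (Nat.card μ.ker)
  hq : Odd (Fintype.card F)
  swap : ∃ h, h * μ (dg (-1) (-1)) * h⁻¹ = μ (dg 1 (-1)) ∧ h * μ (dg 1 (-1)) * h⁻¹ = μ (dg (-1) (-1))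

variable [Fintype F]

namespace Sys

variable (S : Sys G F)

noncomputable section

/-- The central involution. -/
def t : G := S.μ (dg (-1) (-1))

/-- The other involution. -/
def w : G := S.μ (dg 1 (-1))

/-- The diagonal torus. -/
def A : Subgroup G := (S.μ.comp dgHom).range

/-- The root elements. -/
def e (x : F) : G := S.μ (up x)

/-- The monomial element. -/
def n : G := S.μ sw

theorem e_add (x y : F) : S.e (x + y) = S.e x * S.e y := by rw [e, e, e, up_add, map_mul]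

theorem e_zero : S.e 0 = 1 := by rw [e, up_zero, map_one]

theorem e_neg (x : F) : S.e (-x) = (S.e x)⁻¹ :=
  eq_inv_of_mul_eq_one_left (by rw [← S.e_add, neg_add_cancel, S.e_zero])

theorem e_comm (x y : F) : Commute (S.e x) (S.e y) := by
  show _ * _ = _ * _
  rw [← S.e_add, ← S.e_add, add_comm]

/-- The root group. -/
def X : Subgroup G where
  carrier := Set.range S.e
  one_mem' := ⟨0, S.e_zero⟩
  mul_mem' := by rintro _ _ ⟨x, rfl⟩ ⟨y, rfl⟩; exact ⟨x + y, S.e_add x y⟩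
  inv_mem' := by rintro _ ⟨x, rfl⟩; exact ⟨-x, S.e_neg x⟩

theorem mem_X {y : G} : y ∈ S.X ↔ ∃ x, S.e x = y := Iff.rfl

theorem e_mem (x : F) : S.e x ∈ S.X := ⟨x, rfl⟩

include S in
theorem two_ne : (2 : F) ≠ 0 := by
  intro h
  have h1 : ringChar F = 2 := by
    have hd := (ringChar.spec F 2).1 (by exact_mod_cast h)
    exact ((Nat.dvd_prime Nat.prime_two).1 hd).resolve_left (CharP.char_ne_one F _)
  exact Nat.not_even_iff_odd.2 S.hq (Nat.even_iff.2 (FiniteField.even_card_of_char_two h1))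

include S in
theorem neg_one_ne : (-1 : Fˣ) ≠ 1 := fun h => S.two_ne (by
  have := congrArg Units.val h
  simp only [Units.val_neg, Units.val_one] at this
  linear_combination -this)

theorem ker_scalar {z : GL (Fin 2) F} (hz : S.μ z = 1) : ∃ a, z = dg a a ∧ (a * a = 1 → a = 1) := by
  obtain ⟨a, rfl⟩ := center_dg (S.ker_center hz)
  refine ⟨a, rfl, fun h => ?_⟩
  have h1 : (dg a a : GL (Fin 2) F) ^ 2 = 1 := by rw [pow_two, dg_mul, h, dg_one]
  have h2 : orderOf (dg a a) ∣ Nat.card S.μ.ker := orderOf_dvd_natCard S.μ.ker hz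
  have h3 : orderOf (dg a a) = 1 := Nat.eq_one_of_dvd_coprimes (Nat.coprime_two_right.2 S.ker_odd) h2
    (orderOf_dvd_of_pow_eq_one h1)
  rw [orderOf_eq_one_iff, ← dg_one] at h3
  have := congrArg (fun g : GL (Fin 2) F => (g : Matrix (Fin 2) (Fin 2) F) 0 0) h3
  simp at this
  exact this

theorem eq_scalar {g h : GL (Fin 2) F} (e : S.μ g = S.μ h) : ∃ a, g = dg a a * h ∧ (a * a = 1 → a = 1) := by
  obtain ⟨a, ha, ha'⟩ := S.ker_scalar (z := g * h⁻¹) (by rw [map_mul, map_inv, e, mul_inv_cancel])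
  exact ⟨a, by rw [← ha, inv_mul_cancel_right], ha'⟩

theorem tt : S.t * S.t = 1 := by
  rw [t, ← map_mul, dg_mul]
  simp [dg_one]

theorem ww : S.w * S.w = 1 := by
  rw [w, ← map_mul, dg_mul]
  simp [dg_one]

theorem tw_eq : S.t * S.w = S.μ (dg (-1) 1) := by
  rw [t, w, ← map_mul, dg_mul]
  simp

theorem dg_ne_one {a b : Fˣ} (ha : a * a = 1) (hb : b * b = 1) (h : a ≠ 1 ∨ b ≠ 1) : S.μ (dg a b) ≠ 1 := by
  intro h1
  obtain ⟨c, hc, hc'⟩ := S.ker_scalar h1
  obtain ⟨h2, h3⟩ := Prod.ext_iff.1 (@dgHom_injective F _ (a, b) (c, c) hc)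
  simp only at h2 h3
  subst h2 h3
  exact h.elim (fun e => e (hc' ha)) (fun e => e (hc' ha))

theorem t1 : S.t ≠ 1 := S.dg_ne_one (by simp) (by simp) (Or.inl S.neg_one_ne)

theorem w1 : S.w ≠ 1 := S.dg_ne_one (by simp) (by simp) (Or.inr S.neg_one_ne)

theorem tw1 : S.t * S.w ≠ 1 := S.tw_eq ▸ S.dg_ne_one (by simp) (by simp) (Or.inl S.neg_one_ne)

theorem w_ne : S.w ≠ S.t := fun h => S.tw1 (by rw [h, S.tt])

theorem t_two : orderOf S.t = 2 := orderOf_eq_prime (by rw [pow_two, S.tt]) S.t1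

theorem w_two : orderOf S.w = 2 := orderOf_eq_prime (by rw [pow_two, S.ww]) S.w1

theorem commute_μ_t (g : GL (Fin 2) F) : Commute (S.μ g) S.t :=
  Commute.map (mem_center_iff.1 (dg_center (F := F) (-1)) g : Commute g (dg (-1) (-1))) S.μ

theorem tw_comm : Commute S.t S.w := (S.commute_μ_t _).symm

theorem e_t (x : F) : Commute (S.e x) S.t := S.commute_μ_t _

theorem n_t : Commute S.n S.t := S.commute_μ_t _

theorem t_inv : S.t⁻¹ = S.t := inv_eq_of_mul_eq_one_right S.tt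

theorem w_inv : S.w⁻¹ = S.w := inv_eq_of_mul_eq_one_right S.ww

theorem w_e (x : F) : S.w * S.e x * S.w⁻¹ = S.e (-x) := by
  rw [w, e, e, ← map_inv, ← map_mul, ← map_mul, dg_up]
  simp

theorem n_sq : S.n * S.n = S.t := by rw [n, t, ← map_mul, sw_sq]

theorem n_w : S.n * S.w * S.n⁻¹ = S.t * S.w := by
  rw [S.tw_eq, n, w, ← map_inv, ← map_mul, ← map_mul, sw_dg]

theorem n_e (x : F) : S.n * S.e x * S.n⁻¹ = S.μ (lo (-x)) := by
  rw [n, e, ← map_inv, ← map_mul, ← map_mul, sw_up]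

theorem n_eq_mono : S.n = S.e 1 * S.μ (lo (-1)) * S.e 1 := by
  rw [n, e, ← map_mul, ← map_mul, sw]

theorem dg_mem (a b : Fˣ) : S.μ (dg a b) ∈ S.A := ⟨(a, b), rfl⟩

theorem mem_A {x : G} : x ∈ S.A ↔ Commute x S.t ∧ Commute x S.w := by
  constructor
  · rintro ⟨⟨a, b⟩, rfl⟩
    refine ⟨S.commute_μ_t _, ?_⟩
    show S.μ (dg a b) * S.μ (dg 1 (-1)) = S.μ (dg 1 (-1)) * S.μ (dg a b)
    rw [← map_mul, ← map_mul, dg_mul, dg_mul, mul_comm a, mul_comm b]
  · rintro ⟨h1, h2⟩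
    obtain ⟨g, rfl⟩ := S.onto x h1
    obtain ⟨z, hz, hz'⟩ := S.eq_scalar (g := g * dg 1 (-1)) (h := dg 1 (-1) * g)
      (by rw [map_mul, map_mul]; exact h2.eq)
    obtain ⟨a, b, rfl⟩ := diag_of_comm S.two_ne hz' (by rw [hz, mul_assoc])
    exact S.dg_mem a b

theorem A_comm {x y : G} (hx : x ∈ S.A) (hy : y ∈ S.A) : Commute x y := by
  obtain ⟨p, rfl⟩ := hx
  obtain ⟨r, rfl⟩ := hy
  exact (Commute.all p r).map (S.μ.comp dgHom)

theorem exists_scale (c : F) (hc : c ≠ 0) : ∃ a ∈ S.A, ∀ x, a * S.e x * a⁻¹ = S.e (c * x) :=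
  ⟨_, S.dg_mem (Units.mk0 c hc) 1, fun x => by
    rw [e, e, ← map_inv, ← map_mul, ← map_mul, dg_up]; simp⟩

theorem A_scale {a : G} (ha : a ∈ S.A) : ∃ c : F, c ≠ 0 ∧ ∀ x, a * S.e x * a⁻¹ = S.e (c * x) := by
  obtain ⟨⟨p, r⟩, rfl⟩ := ha
  exact ⟨(p : F) / r, div_ne_zero p.ne_zero r.ne_zero, fun x => by
    show S.μ (dg p r) * S.μ (up x) * (S.μ (dg p r))⁻¹ = _
    rw [e, ← map_inv, ← map_mul, ← map_mul, dg_up]⟩

theorem A_conj_X {a y : G} (ha : a ∈ S.A) (hy : y ∈ S.X) : a * y * a⁻¹ ∈ S.X := by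
  obtain ⟨x, rfl⟩ := hy
  obtain ⟨c, -, hc⟩ := S.A_scale ha
  rw [hc]; exact S.e_mem _

theorem e_inj : Function.Injective S.e := fun x y h => by
  have h1 : S.μ (up (x - y)) = 1 := by
    show S.e (x - y) = 1
    rw [sub_eq_add_neg, S.e_add, S.e_neg, h, mul_inv_cancel]
  obtain ⟨a, ha, -⟩ := S.ker_scalar h1
  have := congrArg (fun g : GL (Fin 2) F => (g : Matrix (Fin 2) (Fin 2) F) 0 1) ha
  simp at this
  exact sub_eq_zero.1 this

theorem e_eq_one {x : F} : S.e x = 1 ↔ x = 0 :=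
  ⟨fun h => S.e_inj (h.trans S.e_zero.symm), fun h => h ▸ S.e_zero⟩

/-- A root element of the lower group in the Borel subgroup of the upper one is trivial. -/
theorem lo_eq {x y : F} {a : G} (ha : a ∈ S.A) (h : S.μ (lo x) = a * S.e y) : x = 0 := by
  obtain ⟨⟨p, r⟩, rfl⟩ := ha
  obtain ⟨c, hc, -⟩ := S.eq_scalar (g := lo x) (h := dg p r * up y)
    (h.trans (map_mul S.μ (dg p r) (up y)).symm)
  have := congrArg (fun g : GL (Fin 2) F => (g : Matrix (Fin 2) (Fin 2) F) 1 0) hc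
  simpa [mul10, mul11] using this

theorem A_inter_X {y : G} (ha : y ∈ S.A) (hy : y ∈ S.X) : y = 1 := by
  obtain ⟨x, rfl⟩ := hy
  have h1 : S.e x = S.e (-x) := by
    rw [← S.w_e]
    exact (mul_inv_eq_of_eq_mul ((S.mem_A.1 ha).2.eq.symm)).symm
  have h2 := S.e_inj h1
  rw [S.e_eq_one]
  have : (2 : F) * x = 0 := by linear_combination h2
  exact (mul_eq_zero.1 this).resolve_left S.two_ne

/-- The centraliser of a root element in the centraliser of `t`. -/
theorem cent_e {y : G} (hy : Commute y S.t) {x : F} (hx : x ≠ 0) (h : Commute y (S.e x)) :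
    ∃ (a : Fˣ) (z : F), y = S.μ (dg a a) * S.e z := by
  obtain ⟨g, rfl⟩ := S.onto y hy
  obtain ⟨c, hc, hc'⟩ := S.eq_scalar (g := g * up x) (h := up x * g)
    (by rw [map_mul, map_mul]; exact h.eq)
  obtain ⟨-, h10, h00⟩ := upper_of_conj hc' hx (hc.trans (mul_assoc _ _ _).symm)
  obtain ⟨a, b, z, rfl⟩ := upper_of h10
  refine ⟨a, z, ?_⟩
  simp [mul00, mul11, mul01] at h00
  obtain rfl : a = b := Units.ext (mul_right_cancel₀ hx (by linear_combination h00))
  rw [e, map_mul]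

/-- The normaliser of the root group in the centraliser of `t`. -/
theorem norm_e {y : G} (hy : Commute y S.t) {x : F} (hx : x ≠ 0) (h : y * S.e x * y⁻¹ ∈ S.X) :
    ∃ a ∈ S.A, ∃ z, y = a * S.e z := by
  obtain ⟨g, rfl⟩ := S.onto y hy
  obtain ⟨x', hx'⟩ := h
  obtain ⟨c, hc, hc'⟩ := S.eq_scalar (g := g * up x) (h := up x' * g)
    (by rw [map_mul, map_mul]; exact (mul_inv_eq_iff_eq_mul.1 hx'.symm))
  obtain ⟨-, h10, -⟩ := upper_of_conj hc' hx (hc.trans (mul_assoc _ _ _).symm)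
  obtain ⟨a, b, z, rfl⟩ := upper_of h10
  exact ⟨_, S.dg_mem a b, z, by rw [e, map_mul]⟩

theorem cent_comm {y y' : G} (hy : Commute y S.t) (hy' : Commute y' S.t) {x : F} (hx : x ≠ 0)
    (h : Commute y (S.e x)) (h' : Commute y' (S.e x)) : Commute y y' := by
  obtain ⟨a, z, rfl⟩ := S.cent_e hy hx h
  obtain ⟨a', z', rfl⟩ := S.cent_e hy' hx h'
  have hc : ∀ (b : Fˣ) (g : GL (Fin 2) F), Commute (S.μ (dg b b)) (S.μ g) := fun b g =>
    Commute.map (Commute.symm (mem_center_iff.1 (dg_center b) g : Commute g (dg b b))) S.μ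
  exact ((hc a _).mul_right (hc a _)).mul_left ((hc a' _).symm.mul_right (S.e_comm z z'))

theorem cent_invol {y : G} (hy : Commute y S.t) {x : F} (hx : x ≠ 0) (h : Commute y (S.e x))
    (h2 : y * y = 1) : y = 1 ∨ y = S.t := by
  obtain ⟨a, z, rfl⟩ := S.cent_e hy hx h
  rw [e, ← map_mul, ← map_mul] at h2
  obtain ⟨b, hb, hb'⟩ := S.ker_scalar h2
  have h00 := congrArg (fun g : GL (Fin 2) F => (g : Matrix (Fin 2) (Fin 2) F) 0 0) hb
  have h01 := congrArg (fun g : GL (Fin 2) F => (g : Matrix (Fin 2) (Fin 2) F) 0 1) hb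
  simp [mul00, mul01, mul10, mul11] at h00 h01
  have hz : z = 0 := by
    have : (2 : F) * ((a : F) * a * z) = 0 := by linear_combination h01
    rcases mul_eq_zero.1 this with h | h
    · exact absurd h S.two_ne
    · exact (mul_eq_zero.1 h).resolve_left (mul_ne_zero a.ne_zero a.ne_zero)
  subst hz
  -- `a` is a square root of a kernel scalar, hence one up to sign
  rw [e, up_zero, map_one, mul_one]
  have hodd := S.ker_odd.of_dvd_nat (orderOf_dvd_natCard S.μ.ker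
    (show dg b b ∈ S.μ.ker by rw [MonoidHom.mem_ker]; rw [hb] at h2; exact h2))
  obtain ⟨k, hk⟩ := hodd
  set c : Fˣ := b ^ (k + 1) with hc
  have hbk : b ^ (2 * k + 1) = 1 := by
    have h3 : dgHom (b, b) ^ (2 * k + 1) = dgHom (1 : Fˣ × Fˣ) := by
      rw [map_one, ← hk]; exact pow_orderOf_eq_one _
    rw [← map_pow] at h3
    exact congrArg Prod.fst (dgHom_injective h3)
  have hc2 : c * c = b := by
    rw [hc, ← pow_add, show k + 1 + (k + 1) = 2 * k + 1 + 1 by ring, pow_succ, hbk, one_mul]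
  have hcker : S.μ (dg c c) = 1 := by
    rw [show dg c c = dgHom ((b, b) ^ (k + 1)) from rfl, map_pow, map_pow,
      show S.μ (dgHom (b, b)) = 1 by rw [hb] at h2; exact h2, one_pow]
  have haa : a * a = b := Units.ext (by simpa using h00)
  have hsq : (a * c⁻¹) * (a * c⁻¹) = 1 := by
    rw [mul_mul_mul_comm, haa, ← mul_inv, hc2, mul_inv_cancel]
  have hμ : S.μ (dg a a) = S.μ (dg (a * c⁻¹) (a * c⁻¹)) := by
    rw [← dg_mul, map_mul, ← dg_inv, map_inv, hcker, inv_one, mul_one]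
  have hor : (a * c⁻¹ : Fˣ) = 1 ∨ (a * c⁻¹ : Fˣ) = -1 := by
    have h4 : ((a * c⁻¹ : Fˣ) : F) * (a * c⁻¹ : Fˣ) = 1 := congrArg Units.val hsq
    rcases mul_self_eq_one_iff.1 h4 with h5 | h5
    · exact Or.inl (Units.ext h5)
    · exact Or.inr (Units.ext (by simpa using h5))
  rw [hμ]
  rcases hor with h5 | h5
  · left; rw [h5, dg_one, map_one]
  · right; rw [h5]; rfl

section Prime

variable {p : ℕ} [Fact p.Prime] [CharP F p]

theorem pow_e (x : F) : ∀ k : ℕ, S.e x ^ k = S.e ((k : F) * x)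
  | 0 => by simp [S.e_zero]
  | k + 1 => by rw [pow_succ, pow_e x k, ← S.e_add]; congr 1; push_cast; ring

theorem X_pgroup : IsPGroup p S.X := fun ⟨y, hy⟩ => by
  obtain ⟨x, rfl⟩ := hy
  exact ⟨1, Subtype.ext (by rw [SubmonoidClass.coe_pow, pow_one, S.pow_e, CharP.cast_eq_zero, zero_mul, S.e_zero]; rfl)⟩

/-- An element of `p`-power order of the Borel subgroup lies in the root group. -/
theorem borel_pelem {a : G} (ha : a ∈ S.A) {x : F} {j : ℕ} (h : (a * S.e x) ^ p ^ j = 1) :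
    a * S.e x ∈ S.X := by
  obtain ⟨⟨b, c⟩, rfl⟩ := ha
  change (S.μ (dg b c) * S.μ (up x)) ^ p ^ j = 1 at h
  show S.μ (dg b c) * S.μ (up x) ∈ S.X
  rw [← map_mul] at h ⊢
  set g := dg b c * up x with hg
  rw [← map_pow] at h
  obtain ⟨z, hz, -⟩ := S.ker_scalar h
  have key : ∀ k : ℕ, ((g ^ k : GL (Fin 2) F) : Matrix (Fin 2) (Fin 2) F) 1 0 = 0 ∧
      ((g ^ k : GL (Fin 2) F) : Matrix (Fin 2) (Fin 2) F) 0 0 = (b : F) ^ k ∧
      ((g ^ k : GL (Fin 2) F) : Matrix (Fin 2) (Fin 2) F) 1 1 = (c : F) ^ k := by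
    intro k
    have g10 : (g : Matrix (Fin 2) (Fin 2) F) 1 0 = 0 := by simp [hg, mul10]
    have g00 : (g : Matrix (Fin 2) (Fin 2) F) 0 0 = b := by simp [hg, mul00]
    have g11 : (g : Matrix (Fin 2) (Fin 2) F) 1 1 = c := by simp [hg, mul11]
    clear_value g
    induction k with
    | zero => simp
    | succ k ih =>
      rw [pow_succ]
      refine ⟨?_, ?_, ?_⟩ <;> simp [mul00, mul10, mul11, ih.1, ih.2.1, ih.2.2, g10, g00, g11, pow_succ]
  obtain ⟨-, e0, e1⟩ := key (p ^ j)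
  rw [hz] at e0 e1
  simp at e0 e1
  obtain rfl : b = c := Units.ext (sub_eq_zero.1 (eq_zero_of_pow_eq_zero (n := p ^ j) (by
    rw [sub_pow_char_pow, ← e0, ← e1, sub_self])))
  have hb : S.μ (dg b b) = 1 := by
    obtain ⟨m, hp, hm⟩ := FiniteField.card F p
    have h1 : b ^ (Fintype.card F) ^ j = b := Units.ext (by
      rw [Units.val_pow_eq_pow_val, FiniteField.pow_card_pow])
    rw [hm, ← pow_mul] at h1
    obtain ⟨i, hi⟩ : p ^ j ∣ p ^ ((m : ℕ) * j) := pow_dvd_pow p (Nat.le_mul_of_pos_left j m.pos)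
    rw [hi, pow_mul, show b ^ p ^ j = z from Units.ext (by simpa using e0.symm)] at h1
    rw [← h1, show dg (z ^ i) (z ^ i) = dgHom ((z, z) ^ i) from rfl, map_pow, map_pow,
      show S.μ (dgHom (z, z)) = 1 by rw [hz] at h; exact h, one_pow]
  rw [hg, map_mul, hb, one_mul]
  exact S.e_mem x

end Prime

/-- Odd subgroups of the centraliser of `t` normalised by `A`. -/
theorem triangular [Finite G] (Y : Subgroup G) (hY : Odd (Nat.card Y)) (hYt : ∀ y ∈ Y, Commute y S.t)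
    (hn : ∀ a ∈ S.A, ∀ y ∈ Y, a * y * a⁻¹ ∈ Y) :
    (∀ y ∈ Y, ∃ a ∈ S.A, ∃ x, y = a * S.e x) ∨ (∀ y ∈ Y, ∃ a ∈ S.A, ∃ x, y = a * S.μ (lo x)) := by
  set H := Y.comap S.μ with hH
  have hHodd : Odd (Nat.card H) := by
    let f : H →* Y := (S.μ.comp H.subtype).codRestrict Y fun h => h.2
    rw [f.ker.card_eq_card_quotient_mul_card_subgroup,
      Nat.card_congr (QuotientGroup.quotientKerEquivRange f).toEquiv]
    refine Odd.mul (hY.of_dvd_nat (card_subgroup_dvd_card f.range)) ?_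
    refine S.ker_odd.of_dvd_nat (card_dvd_of_injective
      ((H.subtype.comp f.ker.subtype).codRestrict S.μ.ker fun k => congrArg Subtype.val k.2)
      fun a b h => Subtype.ext (Subtype.ext (congrArg Subtype.val h :)))
  rcases odd_triangular S.hq hHodd (fun a b g hg => by
      rw [hH, mem_comap, map_mul, map_mul, map_inv]
      exact hn _ (S.dg_mem a b) _ hg) with h | h
  · refine Or.inl fun y hy => ?_
    obtain ⟨g, rfl⟩ := S.onto y (hYt y hy)
    obtain ⟨a, b, x, rfl⟩ := upper_of (h g hy)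
    exact ⟨_, S.dg_mem a b, x, by rw [e, map_mul]⟩
  · refine Or.inr fun y hy => ?_
    obtain ⟨g, rfl⟩ := S.onto y (hYt y hy)
    have hh : ((sw * g * sw⁻¹ : GL (Fin 2) F) : Matrix (Fin 2) (Fin 2) F) 1 0 = 0 := by
      have h2 : (sw⁻¹ : GL (Fin 2) F) = dg (-1) (-1) * sw := by
        refine inv_eq_of_mul_eq_one_right ?_
        rw [← mul_assoc, mem_center_iff.1 (dg_center (-1)) sw, mul_assoc, sw_sq, dg_mul]
        simp [dg_one]
      rw [h2]
      simp [mul00, mul01, mul10, mul11, sw_val, h g hy]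
    obtain ⟨a, b, x, e0⟩ := upper_of hh
    refine ⟨_, S.dg_mem b a, -x, ?_⟩
    have e1 : g = dg b a * lo (-x) := by
      rw [← sw_dg a b, ← sw_up x]
      calc g = sw⁻¹ * (sw * g * sw⁻¹) * sw := by group
        _ = sw⁻¹ * (dg a b * up x) * sw := by rw [e0]
        _ = (sw * sw)⁻¹ * ((sw * dg a b * sw⁻¹) * (sw * up x * sw⁻¹)) * (sw * sw) := by group
        _ = _ := by
          rw [sw_sq, mem_center_iff.1 (inv_mem (dg_center (-1))) ((sw * dg a b * sw⁻¹) * (sw * up x * sw⁻¹)) |>.symm,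
            inv_mul_cancel_right]
    rw [e1, map_mul]

end

end Sys

end Cfsg.Agent.Invol.BrauerL3.Lin
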