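import Cfsg.Agent.Lib.Invol.BrauerL3.LocalBase
import Cfsg.Agent.Lib.Invol.Bender.Main
import Cfsg.Agent.Lib.Invol.Bender.Cor.Setup
import Cfsg.Agent.Lib.Invol.Bender.RankOneBridge

/-!
# Brauer's theorem: the centres of the involution centralisers

`not_stronglyEmbedded`, `disjoint`: the centres of `C(a)`, `C(b)` for commuting involutions `a ≠ b` meet trivially;
`centralizer_central`: a non-trivial central element of `C(t)` has its centraliser in `C(t)`.
-/

set_option autoImplicit false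
set_option linter.unusedSectionVars false
set_option linter.style.haveILetI false

open scoped Pointwise

namespace Cfsg.Agent.Invol.BrauerL3

open Subgroup

universe u

variable {G : Type u} [Group G] [Fintype G] {t : G} {p : ℕ} {Q : ℤ}

namespace Frame

variable (F : Frame (Cen t) (tc t) p Q)
include F

open MulAction in
/-- No strongly embedded subgroup contains the centraliser. -/
theorem not_stronglyEmbedded [IsSimpleGroup G] {M : Subgroup G} (hM : Cfsg.IsStronglyEmbedded M) (hC : Cen t ≤ M) :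
    False := by
  classical
  have U := Bender.of_stronglyEmbedded hM
  haveI : (Bender.ker (G ⧸ M) (⊤ : Subgroup G)).Normal := Bender.Cor.normal_ker_top
  have hker : Bender.ker (G ⧸ M) (⊤ : Subgroup G) = ⊥ := by
    rcases (inferInstance : (Bender.ker (G ⧸ M) (⊤ : Subgroup G)).Normal).eq_bot_or_eq_top with h | h
    · exact h
    · refine absurd (eq_top_iff.2 fun g _ => ?_) hM.1
      have h2 := (Bender.mem_ker_top U).1 (h.symm ▸ mem_top g) ((1 : G) : G ⧸ M)
      exact (stabilizer_quotient M).le (mem_stabilizer_iff.2 h2)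
  have hr : Bender.TwoRank (⊤ : Subgroup G) :=
    ⟨t, mem_top _, F.w, mem_top _, F.tG, F.wG, F.w_neG.symm, F.wt.symm⟩
  have hS := Bender.main U hr
  set d : G ⧸ M := ((1 : G) : G ⧸ M) with hd
  have hcen : ∀ x : G ⧸ M, x ∈ Bender.cen (G ⧸ M) (⊤ : Subgroup G) := fun x => Bender.cen_top U x
  obtain ⟨R, hR⟩ := hS d (hcen d)
  have hstab : ∀ g : G, g • d = d ↔ g ∈ M := fun g => by
    rw [hd, Quotient.smul_mk, eq_comm, QuotientGroup.eq, smul_eq_mul, mul_one, inv_one, one_mul]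
  have hRM : ∀ r ∈ R, r ∈ M := fun r hr => (hstab r).1 (hR.le hr).2
  have hRn : ∀ g ∈ M, ∀ r ∈ R, g * r * g⁻¹ ∈ R := fun g hg r hr =>
    hR.conj_mem g ⟨mem_top g, (hstab g).2 hg⟩ r hr
  obtain ⟨e, he⟩ : ∃ e : G ⧸ M, e ≠ d := by
    haveI := U.nontrivial
    exact exists_ne d
  obtain ⟨k, hk⟩ := hR.two_index
  rw [hker, card_bot, one_mul] at hk
  -- every 2-element of `M` lies in `R`
  have htwo : ∀ x ∈ M, (∃ j, x ^ 2 ^ j = 1) → x ∈ R := by
    rintro x hx ⟨j, hj⟩
    have hxe : x • e ≠ d := fun h => he (smul_left_cancel x (h.trans ((hstab x).2 hx).symm))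
    obtain ⟨r, hr, hre⟩ := hR.exists_move e (hcen e) he (x • e) (hcen _) hxe
    set h := r⁻¹ * x with hh
    have hhM : h ∈ M := mul_mem (inv_mem (hRM r hr)) hx
    have hhe : h • e = e := by rw [hh, mul_smul, inv_smul_eq_iff, hre]
    have key : ∀ m : ℕ, ∃ r' ∈ R, x ^ m = r' * h ^ m := by
      intro m
      induction m with
      | zero => exact ⟨1, one_mem _, by simp⟩
      | succ m ih =>
        obtain ⟨r', hr', e'⟩ := ih
        refine ⟨r' * (h ^ m * r * (h ^ m)⁻¹), mul_mem hr' (hRn _ (pow_mem hhM m) r hr), ?_⟩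
        rw [pow_succ, e', pow_succ, show x = r * h by rw [hh, mul_inv_cancel_left]]
        group
    obtain ⟨r', hr', e'⟩ := key (2 ^ j)
    rw [hj, eq_comm, mul_eq_one_iff_inv_eq] at e'
    have h1 : h ^ 2 ^ j ∈ R ⊓ stabilizer G e := mem_inf.2 ⟨by rw [← e']; exact inv_mem hr',
      Subgroup.pow_mem _ (mem_stabilizer_iff.2 hhe) _⟩
    have h2 : h ^ 2 ^ j = 1 := by
      have := hR.inf_le e (hcen e) he h1
      rwa [hker, mem_bot] at this
    have hodd : Odd (orderOf h) := (hR.odd_pair e (hcen e) he).of_dvd_nat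
      (Subgroup.orderOf_dvd_natCard _ ⟨mem_top h, (hstab h).2 hhM, hhe⟩)
    have h3 : h = 1 := JankoWard.eq_one_of_two_odd ⟨j, h2⟩ hodd (pow_orderOf_eq_one h)
    rw [show x = r by rw [← mul_inv_cancel_left r x, ← hh, h3, mul_one]]
    exact hr
  -- the contradiction
  obtain ⟨r, x, hr1, hro, hxr⟩ := F.not_two
  obtain ⟨j, o, ho, hoj⟩ := Nat.exists_eq_two_pow_mul_odd (orderOf_pos x).ne'
  have hxo : x ^ o * r * (x ^ o)⁻¹ = r⁻¹ := by
    obtain ⟨i, rfl⟩ := ho
    induction i with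
    | zero => simpa using hxr
    | succ i _ =>
      clear hoj
      have hstep : ∀ i : ℕ, x ^ (2 * i + 1) * r * (x ^ (2 * i + 1))⁻¹ = r⁻¹ := by
        intro i
        induction i with
        | zero => simpa using hxr
        | succ i ih =>
          rw [show x ^ (2 * (i + 1) + 1) * r * (x ^ (2 * (i + 1) + 1))⁻¹ =
            x * (x * (x ^ (2 * i + 1) * r * (x ^ (2 * i + 1))⁻¹) * x⁻¹) * x⁻¹ by
              rw [show 2 * (i + 1) + 1 = 2 + (2 * i + 1) by ring, pow_add, pow_two]; group,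
            ih, ← conj_inv, hxr, inv_inv, hxr]
      exact hstep (i + 1)
  have hx2 : ((x ^ o : Cen t) : G) ^ 2 ^ j = 1 := by
    rw [← Subgroup.coe_pow, ← pow_mul, mul_comm, ← hoj, pow_orderOf_eq_one, OneMemClass.coe_one]
  have hxR : ((x ^ o : Cen t) : G) ∈ R := htwo _ (hC (x ^ o).2) ⟨j, hx2⟩
  have h4 : (r : G)⁻¹ * (r : G)⁻¹ ∈ R := by
    have h5 := mul_mem hxR (hRn _ (hC r.2) _ (inv_mem hxR))
    have h6 : ((x ^ o : Cen t) : G) * (r : G) * ((x ^ o : Cen t) : G)⁻¹ = (r : G)⁻¹ := congrArg Subtype.val hxo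
    rwa [show ((x ^ o : Cen t) : G) * ((r : G) * ((x ^ o : Cen t) : G)⁻¹ * (r : G)⁻¹) =
      ((x ^ o : Cen t) : G) * (r : G) * ((x ^ o : Cen t) : G)⁻¹ * (r : G)⁻¹ by group, h6] at h5
  have h7 : ((r : G)⁻¹ * (r : G)⁻¹) = 1 := by
    refine JankoWard.eq_one_of_two_odd ⟨k, ?_⟩ hro ?_
    · rw [← hk]
      exact congrArg Subtype.val (pow_card_eq_one' (x := (⟨_, h4⟩ : ↥R)))
    · rw [(Commute.refl (r : G)⁻¹).mul_pow, inv_pow, ← Subgroup.coe_pow, pow_orderOf_eq_one, OneMemClass.coe_one,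
        inv_one, one_mul]
  refine hr1 (Subtype.ext ?_)
  refine JankoWard.eq_one_of_two_odd ⟨1, ?_⟩ hro (by rw [← Subgroup.coe_pow, pow_orderOf_eq_one]; rfl)
  rw [pow_one, pow_two]
  rw [← mul_inv_rev, inv_eq_one] at h7
  exact h7

theorem disjoint_tw [IsSimpleGroup G] {z : G} (hz : CentAt t z) (hz' : CentAt (F.w : G) z) : z = 1 := by
  classical
  haveI : Fact (Nat.Prime 2) := ⟨Nat.prime_two⟩
  by_contra hz1
  set M := centralizer ({z} : Set G) with hMdef
  have hM : ∀ {x}, x ∈ M ↔ Commute x z := fun {x} => mem_centralizer_singleton_iff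
  have hMtop : M ≠ ⊤ := fun h => hz1 (by
    have : z ∈ center G := mem_center_iff.2 fun g => (hM.1 (h ▸ mem_top g)).eq
    rwa [F.center_bot, mem_bot] at this)
  have hC : Cen t ≤ M := fun x hx => hM.2 (hz x (mem_Cen.1 hx))
  have hconj : ∀ {a m : G}, m ∈ M → CentAt a z → CentAt (m * a * m⁻¹) z := fun {a m} hm ha => by
    have h := ha.conj m
    rwa [(hM.1 hm).eq, mul_inv_cancel_right] at h
  obtain ⟨P, hP, htP, hPN⟩ := F.exists_sylow
  have hPM : (P : Subgroup G) ≤ M := hP.trans hC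
  have hsyl : ∀ Q : Sylow 2 G, (Q : Subgroup G) ≤ M → ∃ m ∈ M, m • P = Q := fun Q hQ => by
    obtain ⟨m, hm⟩ := MulAction.exists_smul_eq ↥M (P.subtype hPM) (Q.subtype hQ)
    refine ⟨m, m.2, ?_⟩
    rw [Sylow.smul_subtype hPM] at hm
    exact Sylow.subtype_injective hm
  have hinv : ∀ i ∈ M, orderOf i = 2 → CentAt i z := by
    intro i hi hi2
    obtain ⟨g, hg⟩ := exists_conj_mem_sylow (n := 1) (x := (⟨i, hi⟩ : ↥M))
      (by rw [Subgroup.orderOf_mk, hi2, pow_one]) (P.subtype hPM)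
    have hg' : (g : G) * i * (g : G)⁻¹ ∈ (P : Subgroup G) := by
      have h : g * (⟨i, hi⟩ : ↥M) * g⁻¹ ∈ ((P.subtype hPM : Sylow 2 ↥M) : Subgroup ↥M) := hg
      rw [Sylow.coe_subtype, mem_subgroupOf] at h
      exact h
    have key : CentAt ((g : G) * i * (g : G)⁻¹) z := by
      by_cases he : (g : G) * i * (g : G)⁻¹ = t
      · rw [he]; exact hz
      obtain ⟨c, hc⟩ := isConj_iff.1 (F.one_class ⟨_, hP hg'⟩
        (by rw [← Subgroup.orderOf_coe]; exact (orderOf_conj_eq (g : G) i).trans hi2)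
        fun e => he (congrArg Subtype.val e))
      rw [← show (c : G) * F.w * (c : G)⁻¹ = (g : G) * i * (g : G)⁻¹ from congrArg Subtype.val hc]
      exact hconj (hC c.2) hz'
    have h := hconj (inv_mem g.2) key
    rwa [inv_inv, show (g : G)⁻¹ * ((g : G) * i * (g : G)⁻¹) * g = i by group] at h
  refine F.not_stronglyEmbedded ((isStronglyEmbedded_iff hMtop (even_card_of_mem F.tG (hC (t_mem t)))).2 ?_) hC
  intro i hi hi2 g hg
  -- a Sylow subgroup through `g⁻¹ i g` and its central involution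
  obtain ⟨m, hm⟩ := exists_conj_mem_sylow (n := 1) (x := (⟨_, hg⟩ : ↥M))
    (by rw [Subgroup.orderOf_mk, show g⁻¹ * i * g = g⁻¹ * i * g⁻¹⁻¹ by rw [inv_inv], orderOf_conj_eq, hi2, pow_one])
    (P.subtype hPM)
  have hm' : (m : G) * (g⁻¹ * i * g) * (m : G)⁻¹ ∈ (P : Subgroup G) := by
    have h : m * (⟨g⁻¹ * i * g, hg⟩ : ↥M) * m⁻¹ ∈ ((P.subtype hPM : Sylow 2 ↥M) : Subgroup ↥M) := hm
    rw [Sylow.coe_subtype, mem_subgroupOf] at h
    exact h
  set k := g * (m : G)⁻¹ with hk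
  have hci : Commute i (k * t * k⁻¹) := by
    have h1 := commute_conj k (mem_Cen.1 (hP hm') : Commute ((m : G) * (g⁻¹ * i * g) * (m : G)⁻¹) t)
    rwa [show k * ((m : G) * (g⁻¹ * i * g) * (m : G)⁻¹) * k⁻¹ = i by rw [hk]; group] at h1
  have ht2 : k * t * k⁻¹ ∈ M := hM.2 (hinv i hi hi2 _ hci.symm)
  have hz2 : CentAt (k * t * k⁻¹) z := hinv _ ht2 (by rw [orderOf_conj_eq, F.tG])
  have hle : ((k • P : Sylow 2 G) : Subgroup G) ≤ M := by
    intro x hx
    rw [Sylow.coe_subgroup_smul] at hx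
    obtain ⟨y, hy, rfl⟩ := hx
    exact hM.2 (hz2 _ (commute_conj k (mem_Cen.1 (hP hy))))
  obtain ⟨m₂, hm₂, hm₂P⟩ := hsyl _ hle
  have h3 : (m₂⁻¹ * k) • P = P := by rw [mul_smul, ← hm₂P, inv_smul_smul]
  have h4 : m₂⁻¹ * k ∈ M := hC (mem_Cen.2 (hPN _ h3).eq)
  have h5 : k ∈ M := by
    have := mul_mem hm₂ h4
    rwa [mul_inv_cancel_left] at this
  have := mul_mem h5 m.2
  rwa [hk, inv_mul_cancel_right] at this

/-- The centres of the centralisers of two distinct commuting involutions meet trivially. -/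
theorem disjoint [IsSimpleGroup G] {a b z : G} (ha : orderOf a = 2) (hb : orderOf b = 2) (hab : Commute a b)
    (hne : a ≠ b) (hza : CentAt a z) (hzb : CentAt b z) : z = 1 := by
  obtain ⟨h, h1, h2⟩ := F.pairs ha hb hab hne
  subst h1; subst h2
  have e1 := hza.conj h⁻¹
  have e2 := hzb.conj h⁻¹
  rw [inv_inv, show h⁻¹ * (h * t * h⁻¹) * h = t by group] at e1
  rw [inv_inv, show h⁻¹ * (h * (F.w : G) * h⁻¹) * h = (F.w : G) by group] at e2
  have h3 := F.disjoint_tw e1 e2
  rwa [show h⁻¹ * z * h = h⁻¹ * z * h⁻¹⁻¹ by rw [inv_inv], conj_eq_one_iff] at h3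

/-- Elements centralising a non-trivial central element of `C(t)` and another involution `u` of `C(t)` lie in
`C(t)`. -/
theorem cross [IsSimpleGroup G] {z u x : G} (hz : CentAt t z) (hz1 : z ≠ 1) (hu : orderOf u = 2)
    (hut : Commute u t) (hne : u ≠ t) (hxz : Commute x z) (hxu : Commute x u) : Commute x t := by
  refine (F.cent_comm_at hu (hz u hut).symm (fun h => ?_) hxu hxz hut.symm hz.comm)
  exact hz1 (F.disjoint F.tG hu hut.symm hne.symm hz h)

/-- B2: a non-trivial central element of the centraliser has its centraliser inside it. -/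
theorem centralizer_central [IsSimpleGroup G] {z : G} (hz : CentAt t z) (hz1 : z ≠ 1) :
    centralizer ({z} : Set G) ≤ Cen t := by
  classical
  set M := centralizer ({z} : Set G) with hMdef
  have hM : ∀ {x}, x ∈ M ↔ Commute x z := fun {x} => mem_centralizer_singleton_iff
  have hC : Cen t ≤ M := fun x hx => hM.2 (hz x (mem_Cen.1 hx))
  -- `t` is isolated in `M`
  set tM : ↥M := ⟨t, hC (t_mem t)⟩
  have hiso : Cfsg.IsIsolatedInvolution tM := by
    refine ⟨by rw [Subgroup.orderOf_mk]; exact F.tG, fun m hm => ?_⟩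
    by_contra hne
    have hc : Commute t ((m : G) * t * (m : G)⁻¹) := congrArg Subtype.val hm
    have h2 : orderOf ((m : G) * t * (m : G)⁻¹) = 2 := by rw [orderOf_conj_eq, F.tG]
    have hne' : (m : G) * t * (m : G)⁻¹ ≠ t := fun e => hne (Subtype.ext e)
    have hzm := hz.conj (m : G)
    rw [(hM.1 m.2).eq, mul_inv_cancel_right] at hzm
    exact hz1 (F.disjoint F.tG h2 hc hne'.symm hz hzm)
  obtain ⟨N, hN, hNodd, hc⟩ := ZStar.exists_odd_normal hiso
  set N₀ := N.map M.subtype with hN₀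
  have hN₀M : N₀ ≤ M := map_subtype_le _
  have hN₀odd : Odd (Nat.card N₀) := by rwa [card_map_of_injective M.subtype_injective]
  set K := JankoWard.fourSub t (F.w : G) (mul_self_of_orderOf_two F.tG) (mul_self_of_orderOf_two F.wG) F.wt.symm.eq
  haveI hKK : IsKleinFour ↥K :=
    JankoWard.fourSub_klein (ne_one_of_orderOf_two F.tG) (ne_one_of_orderOf_two F.wG) F.w_neG.symm
  haveI : IsMulCommutative ↥K := IsKleinFour.isMulCommutative
  have hKM : K ≤ M := by
    rintro x (e | e | e | e) <;> rw [e]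
    exacts [one_mem _, hC (t_mem t), hC F.w.2, mul_mem (hC (t_mem t)) (hC F.w.2)]
  have hKN : K ≤ normalizer (N₀ : Set G) := fun x hx => mem_normalizer_fintype fun y hy => by
    obtain ⟨y, hy, rfl⟩ := hy
    exact ⟨_, hN.conj_mem y hy ⟨x, hKM hx⟩, rfl⟩
  have hNC : N₀ ≤ Cen t := by
    rw [← Grp.generated_by_centralizers K N₀ IsKleinFour.not_isCyclic hKN
      (by rw [IsKleinFour.card_four, show (4 : ℕ) = 2 ^ 2 by norm_num]
          exact (Nat.coprime_two_left.2 hN₀odd).pow_left 2)]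
    refine iSup₂_le fun v hv x hx => mem_Cen.2 ?_
    have hxv : Commute x v := mem_centralizer_singleton_iff.1 hx.2
    by_cases hvt : v = t
    · exact hvt ▸ hxv.eq
    refine (F.cross hz hz1 (orderOf_two_iff.2 ⟨JankoWard.four_sq hKK hv.1, hv.2⟩) ?_ hvt
      (hM.1 (hN₀M hx.1)) hxv).eq
    rcases hv.1 with e | e | e | e <;> rw [e]
    exacts [Commute.one_left t, F.wt, (Commute.refl t).mul_left F.wt]
  intro g hg
  refine mem_Cen.2 ?_
  set n := t * g * t⁻¹ * g⁻¹ with hn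
  have hnN : n ∈ N₀ := ⟨_, hc ⟨g, hg⟩, rfl⟩
  have hnt : Commute t n := (mem_Cen.1 (hNC hnN)).symm
  have htt := mul_self_of_orderOf_two F.tG
  have h1 : t * n = g * t * g⁻¹ := by
    rw [hn, inv_of_orderOf_two F.tG, show t * (t * g * t * g⁻¹) = t * t * (g * t * g⁻¹) by group, htt, one_mul]
  have h2 : n * n = 1 := by
    have h3 : (t * n) * (t * n) = 1 := by rw [h1, conj_mul, htt, mul_one, mul_inv_cancel]
    rwa [hnt.symm.mul_mul_mul_comm, htt, one_mul] at h3
  have h4 : n = 1 := JankoWard.eq_one_of_two_odd ⟨1, by rw [pow_one, pow_two]; exact h2⟩ hN₀odd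
    (congrArg Subtype.val (pow_card_eq_one' (x := (⟨n, hnN⟩ : ↥N₀))))
  rw [h4, mul_one] at h1
  exact mul_inv_eq_iff_eq_mul.1 h1.symm

end Frame

end Cfsg.Agent.Invol.BrauerL3
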