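import Cfsg.Agent.Lib.Invol.BrauerL3.LocalCentre

/-!
# Brauer's theorem: centralisers of elliptic elements

`elliptic`: if some central `z` of `C(t)` has `z² ≠ 1`, a non-trivial `l`-element of `C(t)`, `l` an odd prime divisor of
`Q + 1`, has its centraliser in `C(t)`; hence `l` does not divide the index of `C(t)`.
-/

set_option autoImplicit false
set_option linter.unusedSectionVars false
set_option linter.style.haveILetI false

namespace Cfsg.Agent.Invol.BrauerL3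

open Subgroup

universe u

variable {G : Type u} [Group G] [Fintype G] {t : G} {p : ℕ} {Q : ℤ}

namespace Frame

variable (F : Frame (Cen t) (tc t) p Q)
include F

/-- A subgroup of odd order of `C(a)` normalised by `b` and by a central element of `C(b)` not of order two. -/
theorem tri_at [IsSimpleGroup G] {a b z : G} (ha : orderOf a = 2) (hb : orderOf b = 2) (hab : Commute a b)
    (hne : a ≠ b) (hz : CentAt b z) (hz2 : z * z ≠ 1) (Y : Subgroup G) (hodd : Odd (Nat.card Y))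
    (hYa : ∀ y ∈ Y, Commute y a) (hYb : ∀ y ∈ Y, b * y * b⁻¹ ∈ Y) (hYz : ∀ y ∈ Y, z * y * z⁻¹ ∈ Y) :
    (∀ y ∈ Y, Commute y b) ∨ ((∀ y ∈ Y, y ^ (p * (Q - 1).natAbs) = 1) ∧
      ∃ y ∈ Y, y⁻¹ * (b * y * b⁻¹) ≠ 1 ∧
        ∀ i : G, Commute i a → i * i = 1 → Commute i (y⁻¹ * (b * y * b⁻¹)) → i = 1 ∨ i = a) := by
  obtain ⟨h, h1, h2⟩ := F.pairs ha hb hab hne
  have hd : ∀ y : G, h⁻¹ * (h * y * h⁻¹) * h = y := fun y => by group
  have hu : ∀ y : G, h * (h⁻¹ * y * h) * h⁻¹ = y := fun y => by group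
  have hmem : ∀ {y : G}, Commute y a → h⁻¹ * y * h ∈ Cen t := fun {y} hy => by
    have := commute_conj h⁻¹ hy
    rw [inv_inv, ← h1, hd] at this
    exact mem_Cen.2 this.eq
  set f : Cen t →* G := (MulAut.conj h).toMonoidHom.comp (Cen t).subtype with hf
  have hfap : ∀ c : Cen t, f c = h * c * h⁻¹ := fun c => rfl
  have hfi : Function.Injective f := fun x y e => Subtype.ext ((MulAut.conj h).injective e)
  set Y' := Y.comap f with hY'
  have hY'odd : Odd (Nat.card Y') := hodd.of_dvd_nat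
    (card_dvd_of_injective ((f.comp Y'.subtype).codRestrict Y fun x => x.2)
      fun x y e => Subtype.ext (hfi (congrArg Subtype.val e)))
  have hw' : ∀ y ∈ Y', F.w * y * F.w⁻¹ ∈ Y' := fun y hy => by
    rw [hY', mem_comap, map_mul, map_mul, map_inv, show f F.w = b from h2]
    exact hYb _ hy
  have hza : Commute a z := hz a hab
  set z₀ : Cen t := ⟨h⁻¹ * z * h, hmem hza.symm⟩ with hz₀
  have hfz : f z₀ = z := hu z
  have hzw : Commute z₀ F.w := by
    refine hfi ?_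
    rw [map_mul, map_mul, hfz, show f F.w = b from h2]
    exact hz.comm.symm.eq
  have hzc : z₀ * z₀ ∉ center (Cen t) := fun hc => hz2 (F.disjoint ha hb hab hne (by
    have h3 := (centAt_of_center hc).conj h
    rw [h1, show h * ((z₀ * z₀ : Cen t) : G) * h⁻¹ = f (z₀ * z₀) from rfl, map_mul, hfz] at h3
    exact h3) (hz.mul hz))
  have hz' : ∀ y ∈ Y', z₀ * y * z₀⁻¹ ∈ Y' := fun y hy => by
    rw [hY', mem_comap, map_mul, map_mul, map_inv, hfz]
    exact hYz _ hy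
  rcases F.tri Y' hY'odd hw' z₀ hzw hzc hz' with h3 | ⟨h3, y, hy, hy1, hyi⟩
  · refine Or.inl fun y hy => ?_
    have h4 := (h3 ⟨_, hmem (hYa y hy)⟩ (by rw [hY', mem_comap, hfap, hu]; exact hy)).map f
    rwa [hfap, hu, show f F.w = b from h2] at h4
  · refine Or.inr ⟨fun y hy => ?_, f y, hy, fun e => hy1 (hfi ?_), fun i hia hi2 hic => ?_⟩
    · have h4 := congrArg f (h3 ⟨_, hmem (hYa y hy)⟩ (by rw [hY', mem_comap, hfap, hu]; exact hy))
      rwa [map_pow, map_one, hfap, hu] at h4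
    · rw [map_mul, map_mul, map_mul, map_inv, map_inv, show f F.w = b from h2, e, map_one]
    · set i₀ : Cen t := ⟨h⁻¹ * i * h, hmem hia⟩
      have hfi₀ : f i₀ = i := hu i
      have h4 : i₀ * i₀ = 1 := hfi (by rw [map_mul, hfi₀, hi2, map_one])
      have h5 : Commute i₀ (y⁻¹ * (F.w * y * F.w⁻¹)) := hfi (by
        rw [map_mul, map_mul f _ i₀, hfi₀, map_mul, map_mul, map_mul, map_inv, map_inv, show f F.w = b from h2]
        exact hic.eq)
      rcases hyi i₀ h4 h5 with e | e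
      · exact Or.inl (by rw [← hfi₀, e, map_one])
      · exact Or.inr (by rw [← hfi₀, e]; exact h1)

/-- B1, for an element inverted by `w`. -/
theorem elliptic_inverted [IsSimpleGroup G] {z : G} (hz : CentAt t z) (hz2 : z * z ≠ 1) {l i : ℕ} (hl : l.Prime)
    (hl2 : l ≠ 2) (hlQ : (l : ℤ) ∣ Q + 1) {y : Cen t} (ho : orderOf y = l ^ i) (hy1 : y ≠ 1)
    (hinv : F.w * y * F.w⁻¹ = y⁻¹) {x : G} (hx : Commute x (y : G)) : Commute x t := by
  classical
  have hoG : orderOf (y : G) = l ^ i := by rw [Subgroup.orderOf_coe, ho]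
  have hco : (orderOf y).Coprime (Q - 1).natAbs := ho ▸ F.coprime_of_dvd hl hl2 hlQ i
  have hync : y ∉ center (Cen t) := F.noncentral_of_coprime hco hy1
  have hyt : Commute (y : G) t := mem_Cen.1 y.2
  have honly : ∀ v : G, Commute v t → v * v = 1 → Commute v (y : G) → v = 1 ∨ v = t := fun v hvt hv2 hvy => by
    by_cases hv1 : v = 1
    · exact Or.inl hv1
    refine Or.inr (congrArg Subtype.val (F.invol_eq hco hy1 (i := ⟨v, mem_Cen.2 hvt.eq⟩) ?_ (Subtype.ext hvy.eq)))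
    rw [← Subgroup.orderOf_coe]
    exact orderOf_two_iff.2 ⟨hv2, hv1⟩
  have hwy : (F.w : G) * y * (F.w : G)⁻¹ = (y : G)⁻¹ := congrArg Subtype.val hinv
  set X := centralizer ({(y : G)} : Set G) with hXdef
  have hX : ∀ {v}, v ∈ X ↔ Commute v (y : G) := fun {v} => mem_centralizer_singleton_iff
  obtain ⟨W, hWodd, hW, hWdec⟩ := exists_oddPart F.tG X (hX.2 hyt.symm)
    (fun a ha hat b hb hbt => congrArg Subtype.val (F.cent_comm y hync ⟨a, mem_Cen.2 hat.eq⟩ ⟨b, mem_Cen.2 hbt.eq⟩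
      (Subtype.ext (hX.1 ha).eq) (Subtype.ext (hX.1 hb).eq)).eq)
    fun a ha hat ha2 => honly a hat ha2 (hX.1 ha)
  have hconjW : ∀ g : G, (∀ v ∈ X, g * v * g⁻¹ ∈ X) → ∀ v ∈ W, g * v * g⁻¹ ∈ W := fun g hg v hv => by
    refine (hW _).2 ⟨hg v ((hW v).1 hv).1, ?_⟩
    rw [orderOf_conj_eq]
    exact ((hW v).1 hv).2
  have hzy : Commute z (y : G) := (hz y hyt).symm
  have hXt : ∀ v ∈ X, t * v * t⁻¹ ∈ X := fun v hv => mul_mem (mul_mem (hX.2 hyt.symm) hv) (inv_mem (hX.2 hyt.symm))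
  have hXz : ∀ v ∈ X, z * v * z⁻¹ ∈ X := fun v hv => mul_mem (mul_mem (hX.2 hzy) hv) (inv_mem (hX.2 hzy))
  have hXw : ∀ v ∈ X, (F.w : G) * v * (F.w : G)⁻¹ ∈ X := fun v hv => by
    have h1 := (commute_conj (F.w : G) (hX.1 hv))
    rw [hwy] at h1
    exact hX.2 (Commute.inv_right_iff.1 h1)
  set K := JankoWard.fourSub t (F.w : G) (mul_self_of_orderOf_two F.tG) (mul_self_of_orderOf_two F.wG) F.wt.symm.eq
  haveI hKK : IsKleinFour ↥K :=
    JankoWard.fourSub_klein (ne_one_of_orderOf_two F.tG) (ne_one_of_orderOf_two F.wG) F.w_neG.symm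
  haveI : IsMulCommutative ↥K := IsKleinFour.isMulCommutative
  have hKX : ∀ g ∈ K, ∀ v ∈ X, g * v * g⁻¹ ∈ X := by
    rintro g (e | e | e | e) v hv <;> rw [e]
    · simpa using hv
    · exact hXt v hv
    · exact hXw v hv
    · rw [show t * (F.w : G) * v * (t * (F.w : G))⁻¹ = t * ((F.w : G) * v * (F.w : G)⁻¹) * t⁻¹ by group]
      exact hXt _ (hXw v hv)
  have hKW : K ≤ normalizer (W : Set G) := fun g hg => mem_normalizer_fintype fun v hv => hconjW g (hKX g hg) v hv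
  have hWC : W ≤ Cen t := by
    rw [← Grp.generated_by_centralizers K W IsKleinFour.not_isCyclic hKW
      (by rw [IsKleinFour.card_four, show (4 : ℕ) = 2 ^ 2 by norm_num]
          exact (Nat.coprime_two_left.2 hWodd).pow_left 2)]
    refine iSup₂_le fun u hu v hv => mem_Cen.2 ?_
    have hvu : Commute v u := mem_centralizer_singleton_iff.1 hv.2
    by_cases hut' : u = t
    · exact hut' ▸ hvu.eq
    have hu2 : orderOf u = 2 := orderOf_two_iff.2 ⟨JankoWard.four_sq hKK hu.1, hu.2⟩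
    have hut : Commute u t := by
      rcases hu.1 with e | e | e | e <;> rw [e]
      exacts [Commute.one_left t, F.wt, (Commute.refl t).mul_left F.wt]
    have huy : (u : G) * y * u⁻¹ = (y : G)⁻¹ := by
      rcases hu.1 with e | e | e | e
      · exact absurd e hu.2
      · exact absurd e hut'
      · rw [e, hwy]
      · rw [e, show t * (F.w : G) * y * (t * (F.w : G))⁻¹ = t * ((F.w : G) * y * (F.w : G)⁻¹) * t⁻¹ by group, hwy,
          hyt.symm.inv_right.eq, mul_inv_cancel_right]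
    set Y := W ⊓ centralizer ({u} : Set G) with hYdef
    have hY : ∀ {a}, a ∈ Y ↔ a ∈ W ∧ Commute a u := fun {a} => by
      rw [hYdef, mem_inf, mem_centralizer_singleton_iff]; rfl
    have hYodd : Odd (Nat.card Y) := hWodd.of_dvd_nat (card_dvd_of_le inf_le_left)
    rcases F.tri_at hu2 F.tG hut hut' hz hz2 Y hYodd (fun a ha => (hY.1 ha).2)
      (fun a ha => hY.2 ⟨hconjW t hXt a (hY.1 ha).1, by
        have h1 := commute_conj t (hY.1 ha).2
        rwa [hut.symm.eq, mul_inv_cancel_right] at h1⟩)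
      (fun a ha => hY.2 ⟨hconjW z hXz a (hY.1 ha).1, by
        have h1 := commute_conj z (hY.1 ha).2
        rwa [(hz u hut).symm.eq, mul_inv_cancel_right] at h1⟩) with h | ⟨-, y₁, hy₁, he1, hei⟩
    · exact (h v (hY.2 ⟨hv.1, hvu⟩)).eq
    exfalso
    -- a root element, inverted by `t`
    set e := y₁⁻¹ * (t * y₁ * t⁻¹) with hed
    have hey : Commute e (y : G) := hX.1 (mul_mem (inv_mem ((hW y₁).1 (hY.1 hy₁).1).1)
      (hXt y₁ ((hW y₁).1 (hY.1 hy₁).1).1))
    have heu : Commute e u := by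
      refine (hY.1 hy₁).2.inv_left.mul_left ?_
      have h1 := commute_conj t (hY.1 hy₁).2
      rwa [hut.symm.eq, mul_inv_cancel_right] at h1
    have hnc : ¬ CentAt u e := fun h => by
      rcases hei t hut.symm (mul_self_of_orderOf_two F.tG) (h t hut.symm) with h1 | h1
      · exact ne_one_of_orderOf_two F.tG h1
      · exact hut' h1.symm
    set X₂ := centralizer ({e} : Set G) with hX₂def
    have hX₂ : ∀ {v}, v ∈ X₂ ↔ Commute v e := fun {v} => mem_centralizer_singleton_iff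
    obtain ⟨V, hVodd, hV, -⟩ := exists_oddPart hu2 X₂ (hX₂.2 heu.symm)
      (fun a ha hau b hb hbu => F.cent_comm_at hu2 heu hnc hau (hX₂.1 ha) hbu (hX₂.1 hb))
      fun a ha hau ha2 => hei a hau ha2 (hX₂.1 ha)
    obtain ⟨h, h1, -⟩ := F.pairs hu2 F.tG hut hut'
    set z' := h * z * h⁻¹ with hz'
    have hzu : CentAt u z' := h1 ▸ hz.conj h
    have hz'e : Commute z' e := (hzu e heu).symm
    have hz't : Commute z' t := (hzu t hut.symm).symm
    have hz'2 : z' * z' ≠ 1 := fun e' => hz2 (by rwa [hz', conj_mul, conj_eq_one_iff] at e')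
    set Y₂ := V ⊓ Cen t with hY₂def
    have hY₂ : ∀ {a}, a ∈ Y₂ ↔ a ∈ V ∧ Commute a t := fun {a} => by rw [hY₂def, mem_inf, mem_Cen]; rfl
    have hconj₂ : ∀ g : G, Commute g e → Commute g t → ∀ a ∈ Y₂, g * a * g⁻¹ ∈ Y₂ := fun g hge hgt a ha => by
      obtain ⟨haV, hat⟩ := hY₂.1 ha
      refine hY₂.2 ⟨(hV _).2 ⟨hX₂.2 ?_, by rw [orderOf_conj_eq]; exact ((hV a).1 haV).2⟩, ?_⟩
      · exact (hge.mul_left (hX₂.1 ((hV a).1 haV).1)).mul_left hge.inv_left
      · exact (hgt.mul_left hat).mul_left hgt.inv_left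
    have hyodd : Odd (orderOf (y : G)) := hoG ▸ (hl.odd_of_ne_two hl2).pow
    have hyY : (y : G) ∈ Y₂ := hY₂.2 ⟨(hV _).2 ⟨hX₂.2 hey.symm, hyodd⟩, hyt⟩
    rcases F.tri_at F.tG hu2 hut.symm (Ne.symm hut') hzu hz'2 Y₂ (hVodd.of_dvd_nat (card_dvd_of_le inf_le_left))
      (fun a ha => (hY₂.1 ha).2) (hconj₂ u heu.symm hut) (hconj₂ z' hz'e hz't) with h2 | ⟨h2, -⟩
    · have h3 := h2 _ hyY
      rw [h3.symm.eq, mul_inv_cancel_right, eq_inv_iff_mul_eq_one] at huy
      have h4 : (y : G) = 1 := JankoWard.eq_one_of_two_odd ⟨1, by rw [pow_one, pow_two, huy]⟩ hyodd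
        (pow_orderOf_eq_one _)
      exact hy1 (Subtype.ext h4)
    · have h3 := orderOf_dvd_of_pow_eq_one (h2 _ hyY)
      rw [hoG] at h3
      have h4 : (l ^ i).Coprime (p * (Q - 1).natAbs) := Nat.Coprime.mul_right
        (((Nat.coprime_primes hl F.hp).2 (F.p_ne hl hlQ)).pow_left i) (F.coprime_of_dvd hl hl2 hlQ i)
      have h5 := Nat.eq_one_of_dvd_coprimes h4 dvd_rfl h3
      rw [← ho] at h5
      exact hy1 (orderOf_eq_one_iff.1 h5)
  obtain ⟨c, hc, v, hv, rfl⟩ := hWdec x (hX.2 hx)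
  exact (show Commute v t from mem_Cen.1 (hWC hv)).mul_left hc

/-- B1. -/
theorem elliptic [IsSimpleGroup G] (hz : ∃ z, CentAt t z ∧ z * z ≠ 1) {l i : ℕ} (hl : l.Prime)
    (hl2 : l ≠ 2) (hlQ : (l : ℤ) ∣ Q + 1) {y : Cen t} (ho : orderOf y = l ^ i) (hy1 : y ≠ 1) :
    centralizer ({(y : G)} : Set G) ≤ Cen t ∧ ∀ v : Cen t, orderOf v = 2 → v * y = y * v → (v : G) = t := by
  refine ⟨fun x hx => mem_Cen.2 ?_, fun v hv hvy =>
    congrArg Subtype.val (F.invol_eq (ho ▸ F.coprime_of_dvd hl hl2 hlQ i) hy1 hv hvy)⟩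
  obtain ⟨z, hzc, hz2⟩ := hz
  obtain ⟨v, hv2, hvt, hvy⟩ := F.inverter l i y hl hl2 hlQ ho hy1
  obtain ⟨c, hc⟩ := isConj_iff.1 (F.one_class v hv2 hvt)
  have h1 : F.w * (c⁻¹ * y * c) * F.w⁻¹ = (c⁻¹ * y * c)⁻¹ := by
    calc F.w * (c⁻¹ * y * c) * F.w⁻¹ = c⁻¹ * ((c * F.w * c⁻¹) * y * (c * F.w * c⁻¹)⁻¹) * c := by group
      _ = c⁻¹ * y⁻¹ * c := by rw [hc, hvy]
      _ = (c⁻¹ * y * c)⁻¹ := by group
  have h2 := F.elliptic_inverted hzc hz2 hl hl2 hlQ (y := c⁻¹ * y * c)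
    (by rw [show c⁻¹ * y * c = c⁻¹ * y * c⁻¹⁻¹ by rw [inv_inv], orderOf_conj_eq, ho])
    (fun e => hy1 (by rwa [show c⁻¹ * y * c = c⁻¹ * y * c⁻¹⁻¹ by rw [inv_inv], conj_eq_one_iff] at e))
    (x := (c : G)⁻¹ * x * c) h1 (by
      have h := commute_conj (c : G)⁻¹ (show Commute x (y : G) from mem_centralizer_singleton_iff.1 hx)
      rw [inv_inv] at h
      exact h)
  have h3 := commute_conj (c : G) h2
  rw [(show Commute (c : G) t from mem_Cen.1 c.2).eq, mul_inv_cancel_right,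
    show (c : G) * ((c : G)⁻¹ * x * c) * (c : G)⁻¹ = x by group] at h3
  exact h3.eq

/-- An odd prime divisor of `Q + 1` does not divide the index of the centraliser. -/
theorem ell_not_dvd_index [IsSimpleGroup G] (hz : ∃ z, CentAt t z ∧ z * z ≠ 1) {l : ℕ} (hl : l.Prime)
    (hl2 : l ≠ 2) (hlQ : (l : ℤ) ∣ Q + 1) : ¬ l ∣ (Cen t).index := by
  classical
  haveI : Fact l.Prime := ⟨hl⟩
  obtain ⟨y, hy⟩ := F.exists_ell l hl hl2 hlQ
  have hy1 : y ≠ 1 := fun e => hl.ne_one (by rw [← hy, e, orderOf_one])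
  obtain ⟨R, hR⟩ := (IsPGroup.of_card (p := l) (n := 1) (G := ↥(zpowers (y : G)))
    (by rw [Nat.card_zpowers, Subgroup.orderOf_coe, hy, pow_one])).exists_le_sylow
  have hyR : (y : G) ∈ (R : Subgroup G) := hR (mem_zpowers _)
  haveI : Nontrivial ↥(R : Subgroup G) :=
    ⟨⟨⟨y, hyR⟩, 1, fun e => hy1 (Subtype.ext (congrArg Subtype.val e :))⟩⟩
  haveI := R.isPGroup'.center_nontrivial
  obtain ⟨⟨c, hc⟩, hc1⟩ := exists_ne (1 : ↥(center ↥(R : Subgroup G)))
  have hcR : ∀ r ∈ (R : Subgroup G), Commute r (c : G) := fun r hr =>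
    congrArg Subtype.val (mem_center_iff.1 hc ⟨r, hr⟩)
  have hcC : (c : G) ∈ Cen t := (F.elliptic hz hl hl2 hlQ (i := 1) (by rw [hy, pow_one]) hy1).1
    (mem_centralizer_singleton_iff.2 (hcR _ hyR).symm.eq)
  obtain ⟨j, hj⟩ := IsPGroup.iff_orderOf.1 R.isPGroup' c
  have hcj : orderOf (⟨(c : G), hcC⟩ : Cen t) = l ^ j := by rw [Subgroup.orderOf_mk, Subgroup.orderOf_coe, hj]
  have hcn : (⟨(c : G), hcC⟩ : Cen t) ≠ 1 := fun e => hc1 (Subtype.ext (Subtype.ext (congrArg Subtype.val e :)))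
  have hRC : (R : Subgroup G) ≤ Cen t := fun r hr => (F.elliptic hz hl hl2 hlQ hcj hcn).1
    (mem_centralizer_singleton_iff.2 (hcR r hr).eq)
  exact fun h => R.not_dvd_index (h.trans (index_dvd_of_le hRC))

end Frame

end Cfsg.Agent.Invol.BrauerL3
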