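import Cfsg.Agent.Lib.Invol.Bender.Tools
import Cfsg.Agent.Lib.Grp.Solvable

/-!
# Groups of odd order with an involutory automorphism, and the arithmetic of the unitary case
-/

set_option autoImplicit false
set_option linter.unusedSectionVars false
set_option linter.style.haveILetI false

namespace Cfsg.Agent.Invol.BrauerL3

open Subgroup

universe u

theorem eq_one_of_self_inv {G : Type u} [Group G] [Finite G] (hodd : Odd (Nat.card G)) {x : G} (h : x * x = 1) :
    x = 1 := by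
  have h1 : orderOf x ∣ 2 := orderOf_dvd_of_pow_eq_one (by rw [pow_two]; exact h)
  have h2 := Nat.dvd_gcd h1 (orderOf_dvd_natCard x)
  rw [Nat.coprime_two_left.2 hodd] at h2
  exact orderOf_eq_one_iff.1 (Nat.dvd_one.1 h2)

/-- If every nontrivial fixed point of an involutory automorphism of a group of odd order has only fixed points in its
centraliser, the inverted elements form an abelian normal subgroup that complements the fixed points. -/
theorem exists_inverted_kernel {G : Type u} [Group G] [Finite G] (hodd : Odd (Nat.card G)) (α : G →* G)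
    (hα : ∀ x, α (α x) = x) (hA : ∀ a, α a = a → a ≠ 1 → ∀ g, Commute g a → α g = g) :
    ∃ K : Subgroup G, K.Normal ∧ (∀ x, x ∈ K ↔ α x = x⁻¹) ∧ (∀ x ∈ K, ∀ y ∈ K, Commute x y) ∧
      ∀ g, ∃ k ∈ K, ∃ a, α a = a ∧ g = k * a := by
  classical
  by_cases hall : ∀ g, α g = g
  · refine ⟨⊥, inferInstance, fun x => ⟨fun h => ?_, fun h => ?_⟩, fun x hx y _ => ?_,
      fun g => ⟨1, one_mem _, g, hall g, (one_mul g).symm⟩⟩
    · rw [mem_bot.1 h, map_one, inv_one]
    · rw [hall, eq_inv_iff_mul_eq_one] at h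
      exact mem_bot.2 (eq_one_of_self_inv hodd h)
    · rw [mem_bot.1 hx]; exact Commute.one_left y
  haveI : Group.IsSolvable G := by
    haveI := Bender.solvable_of_odd (X := (⊤ : Subgroup G)) (by rw [Subgroup.card_top]; exact hodd)
    exact Group.isSolvable_of_surjective (f := (⊤ : Subgroup G).subtype) fun g => ⟨⟨g, mem_top g⟩, rfl⟩
  set F := Cfsg.fittingSubgroup G with hF
  haveI hFn : F.Normal := Grp.fittingSubgroup_isNormal
  have hFα : ∀ f ∈ F, α f ∈ F := by
    intro f hf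
    have hbij : Function.Bijective α := ⟨fun a b h => by rw [← hα a, h, hα], fun a => ⟨α a, hα a⟩⟩
    set E := MulEquiv.ofBijective α hbij
    haveI : Group.IsNilpotent ↥(F.map E.toMonoidHom) := by
      haveI : Group.IsNilpotent ↥F := Grp.fittingSubgroup_isNilpotent
      exact Group.nilpotent_of_surjective (F.equivMapOfInjective E.toMonoidHom E.injective).toMonoidHom
        (MulEquiv.surjective _)
    exact Grp.le_fittingSubgroup (hFn.map E.toMonoidHom E.surjective) inferInstance (mem_map_of_mem _ hf)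
  -- no fixed point in the Fitting subgroup
  have hfix : ∀ f ∈ F, α f = f → f = 1 := by
    intro a ha hα' 
    by_contra ha1
    haveI : Group.IsNilpotent ↥F := Grp.fittingSubgroup_isNilpotent
    haveI : Nontrivial ↥F := ⟨⟨⟨a, ha⟩, 1, fun e => ha1 (congrArg Subtype.val e)⟩⟩
    haveI : Nontrivial ↥(center ↥F) := (Subgroup.nontrivial_iff_ne_bot _).2 (Group.IsNilpotent.center_ne_bot ↥F)
    obtain ⟨⟨z, hz⟩, hz1⟩ := exists_ne (1 : ↥(center ↥F))
    have hzc : ∀ f ∈ F, Commute f (z : G) := fun f hf => congrArg Subtype.val (mem_center_iff.1 hz ⟨f, hf⟩)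
    have hzfix : α (z : G) = z := hA a hα' ha1 _ (hzc a ha).symm
    have hFfix : ∀ f ∈ F, α f = f := fun f hf =>
      hA z hzfix (fun e => hz1 (Subtype.ext (Subtype.ext e))) f (hzc f hf)
    refine hall fun g => ?_
    have h1 : α g * a * (α g)⁻¹ = g * a * g⁻¹ := by
      rw [← hFfix _ (hFn.conj_mem a ha g), map_mul, map_mul, map_inv, hα']
    have h2 : Commute (g⁻¹ * α g) a := by
      refine mul_inv_eq_iff_eq_mul.1 ?_
      rw [show g⁻¹ * α g * a * (g⁻¹ * α g)⁻¹ = g⁻¹ * (α g * a * (α g)⁻¹) * g by group, h1]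
      group
    have h3 := hA a hα' ha1 _ h2
    rw [map_mul, map_inv, hα] at h3
    have h4 : (g⁻¹ * α g) * (g⁻¹ * α g) = 1 := by
      nth_rewrite 1 [← h3]
      group
    exact (inv_mul_eq_one.1 (eq_one_of_self_inv hodd h4)).symm
  have hinv : ∀ f ∈ F, α f = f⁻¹ := by
    let ψ : ↥F → ↥F := fun x => ⟨(x : G)⁻¹ * α x, mul_mem (inv_mem x.2) (hFα x x.2)⟩
    have hψ : Function.Surjective ψ := by
      refine Finite.injective_iff_surjective.1 fun x y hxy => ?_
      have h1 : (x : G)⁻¹ * α x = (y : G)⁻¹ * α y := congrArg Subtype.val hxy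
      have h2 : α ((y : G) * (x : G)⁻¹) = (y : G) * (x : G)⁻¹ := by
        rw [map_mul, map_inv, show α (y : G) = (y : G) * ((x : G)⁻¹ * α x) by rw [h1, mul_inv_cancel_left]]
        group
      exact (Subtype.ext (mul_inv_eq_one.1 (hfix _ (mul_mem y.2 (inv_mem x.2)) h2))).symm
    intro f hf
    obtain ⟨x, hx⟩ := hψ ⟨f, hf⟩
    rw [← show (x : G)⁻¹ * α x = f from congrArg Subtype.val hx, map_mul, map_inv, hα, mul_inv_rev, inv_inv]
  have hcomm : ∀ x ∈ F, ∀ y ∈ F, Commute x y := by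
    intro x hx y hy
    have h := hinv _ (mul_mem hx hy)
    rw [map_mul, hinv x hx, hinv y hy] at h
    have h' := congrArg (·⁻¹) h
    simp only [mul_inv_rev, inv_inv] at h'
    exact h'.symm
  have hdec : ∀ g, ∃ k ∈ F, ∃ a, α a = a ∧ g = k * a := by
    intro g
    have hc : g⁻¹ * α g ∈ F := by
      refine Grp.centralizer_fittingSubgroup_le (mem_centralizer_iff.2 fun f hf => ?_)
      have h1 := hinv _ (hFn.conj_mem f hf g)
      rw [map_mul, map_mul, map_inv, hinv f hf] at h1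
      have h2 : Commute (g⁻¹ * α g) f⁻¹ := by
        refine mul_inv_eq_iff_eq_mul.1 ?_
        rw [show g⁻¹ * α g * f⁻¹ * (g⁻¹ * α g)⁻¹ = g⁻¹ * (α g * f⁻¹ * (α g)⁻¹) * g by group, h1]
        group
      exact (Commute.inv_right_iff.1 h2).eq.symm
    set c := g⁻¹ * α g
    have hco : (orderOf c).Coprime 2 := (Nat.coprime_two_right).2 (hodd.of_dvd_nat (orderOf_dvd_natCard c))
    obtain ⟨k, hk⟩ := exists_pow_eq_self_of_coprime hco.symm
    set e := c ^ k
    have he : e ∈ F := pow_mem hc k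
    have he2 : e * e = c := by rw [← pow_two, show (c ^ k) ^ 2 = (c ^ 2) ^ k by rw [← pow_mul, mul_comm, pow_mul]]; exact hk
    refine ⟨g * e⁻¹ * g⁻¹, hFn.conj_mem _ (inv_mem he) g, g * e, ?_, by group⟩
    rw [map_mul, hinv e he, show α g = g * c by rw [mul_inv_cancel_left], ← he2]
    group
  refine ⟨F, hFn, fun x => ⟨hinv x, fun hx => ?_⟩, hcomm, hdec⟩
  obtain ⟨k, hk, a, ha, rfl⟩ := hdec x
  rw [map_mul, hinv k hk, ha, mul_inv_rev, eq_comm] at hx
  -- `a⁻¹ k⁻¹ = k⁻¹ a`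
  have h1 : a * a ∈ F := by
    have h2 : a * a = (a * k * a⁻¹) * (k⁻¹)⁻¹⁻¹ * 1 := by
      have h3 : k⁻¹ = a * k⁻¹ * a := by
        calc k⁻¹ = a * (a⁻¹ * k⁻¹) := by group
          _ = a * (k⁻¹ * a) := by rw [hx]
          _ = a * k⁻¹ * a := by group
      calc a * a = (a * k * a⁻¹) * (a * k⁻¹ * a) := by group
        _ = _ := by rw [← h3]; group
    rw [h2, inv_inv, mul_one]
    exact mul_mem (hFn.conj_mem k hk a) (inv_mem hk)
  have h4 : a * a = 1 := hfix _ h1 (by rw [map_mul, ha])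
  rw [eq_one_of_self_inv hodd h4, mul_one]
  exact hk

/-- A power of `p` congruent to one modulo `(q² - 1)/(3, q + 1)`. -/
theorem pow_mod_cases {p n k m : ℕ} (hp : p.Prime) (hp2 : p ≠ 2) (hn : 1 ≤ n)
    (hm : Nat.gcd 3 (p ^ n + 1) * m = (p ^ n) ^ 2 - 1) (hk : k ≤ 2 * n) (h : p ^ k ≡ 1 [MOD m]) :
    k = 0 ∨ k = 2 * n := by
  have h3p : 3 ≤ p := lt_of_le_of_ne hp.two_le (Ne.symm hp2)
  have hq : 3 ≤ p ^ n := h3p.trans (Nat.le_self_pow (by omega) p)
  have hd : Nat.gcd 3 (p ^ n + 1) ≤ 3 := Nat.le_of_dvd (by norm_num) (Nat.gcd_dvd_left _ _)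
  have hsq : (p ^ n) ^ 2 - 1 = (p ^ n + 1) * (p ^ n - 1) := by rw [← one_pow 2, Nat.sq_sub_sq, one_pow]
  have hbig : p ^ n - 1 < m := by
    by_contra hle
    have h1 : Nat.gcd 3 (p ^ n + 1) * m ≤ 3 * (p ^ n - 1) := Nat.mul_le_mul hd (not_lt.1 hle)
    rw [hm, hsq] at h1
    have := Nat.le_of_mul_le_mul_right h1 (by omega)
    omega
  have small : ∀ j, j ≤ n → p ^ j ≡ 1 [MOD m] → j = 0 := by
    intro j hj hmod
    by_contra hj0
    have h1 : 1 < p ^ j := Nat.one_lt_pow hj0 hp.one_lt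
    have h2 := (Nat.modEq_iff_dvd' h1.le).1 hmod.symm
    have h3 := Nat.le_of_dvd (by omega) h2
    have h4 : p ^ j ≤ p ^ n := Nat.pow_le_pow_right hp.pos hj
    omega
  by_cases hkn : k ≤ n
  · exact Or.inl (small k hkn h)
  · refine Or.inr ?_
    have h2 : p ^ (2 * n - k) * p ^ k ≡ 1 [MOD m] := by
      rw [← pow_add, Nat.sub_add_cancel hk, mul_comm 2 n, pow_mul]
      refine ((Nat.modEq_iff_dvd' (Nat.one_le_pow _ _ (by omega))).2 ?_).symm
      exact ⟨Nat.gcd 3 (p ^ n + 1), by rw [← hm, mul_comm]⟩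
    have h5 : p ^ (2 * n - k) ≡ 1 [MOD m] := by
      have h6 := (Nat.ModEq.refl (p ^ (2 * n - k))).mul h
      rw [mul_one] at h6
      exact h6.symm.trans h2
    have := small (2 * n - k) (by omega) h5
    omega

/-- A divisor of `(q + 1)(q² - q + 1)` prime to `(q² - 1)/(3, q + 1)` and congruent to one modulo it. -/
theorem cofactor_cases {q m D : ℕ} (hq : Odd q) (hq3 : 3 ≤ q) (hm : Nat.gcd 3 (q + 1) * m = q ^ 2 - 1)
    (hD : D ∣ (q + 1) * (q ^ 2 - q + 1)) (hco : D.Coprime m) (hmod : D ≡ 1 [MOD m]) :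
    D = 1 ∨ (q = 5 ∧ D = 9) := by
  have hsq : q ^ 2 - 1 = (q + 1) * (q - 1) := by rw [← one_pow 2, Nat.sq_sub_sq, one_pow]
  obtain ⟨N, hN, hNZ⟩ : ∃ N, q ^ 2 - q + 1 = N ∧ (N : ℤ) = (q : ℤ) ^ 2 - q + 1 :=
    ⟨_, rfl, by rw [Nat.cast_add, Nat.cast_sub (Nat.le_self_pow two_ne_zero q)]; push_cast; ring⟩
  rw [hN] at hD
  have hD0 : 0 < D := Nat.pos_of_dvd_of_pos hD (Nat.mul_pos (by omega) (by rw [← hN]; omega))
  by_cases hD1 : D = 1
  · exact Or.inl hD1
  refine Or.inr ?_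
  obtain ⟨j, hj⟩ := (Nat.modEq_iff_dvd' hD0).1 hmod.symm
  have hjD : D = m * j + 1 := by omega
  have hj1 : 1 ≤ j := by
    rcases Nat.eq_zero_or_pos j with rfl | h
    · rw [mul_zero] at hjD; omega
    · exact h
  rcases (Nat.dvd_prime Nat.prime_three).1 (Nat.gcd_dvd_left 3 (q + 1)) with hd | hd <;> rw [hd] at hm
  · exfalso
    rw [one_mul] at hm
    have hco' : D.Coprime (q + 1) := Nat.Coprime.coprime_dvd_right ⟨q - 1, by rw [hm, hsq]⟩ hco
    have h1 := Nat.le_of_dvd (by rw [← hN]; omega) (hco'.dvd_of_dvd_mul_left hD)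
    have h2 : m * 1 ≤ m * j := Nat.mul_le_mul_left _ hj1
    have h3 : 9 ≤ q ^ 2 := (by norm_num : 9 = 3 ^ 2) ▸ Nat.pow_le_pow_left hq3 2
    omega
  · obtain ⟨u, hu⟩ : 3 ∣ q + 1 := hd ▸ Nat.gcd_dvd_right 3 (q + 1)
    have hmu : m = u * (q - 1) := by
      refine Nat.eq_of_mul_eq_mul_left (show 0 < 3 by norm_num) ?_
      rw [hm, hsq, hu]; ring
    have hco' : D.Coprime u := Nat.Coprime.coprime_dvd_right ⟨q - 1, hmu⟩ hco
    have h3N : D ∣ 3 * N := hco'.dvd_of_dvd_mul_left (by rw [← mul_assoc, mul_comm u 3, ← hu]; exact hD)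
    obtain ⟨e, he⟩ := h3N
    -- over the integers
    have hmZ : 3 * (m : ℤ) = (q : ℤ) ^ 2 - 1 := by
      have h1 : 1 ≤ q ^ 2 := Nat.one_le_pow _ _ (by omega)
      have := congrArg (fun x : ℕ => (x : ℤ)) hm
      push_cast [h1] at this
      exact this
    have hkey : (9 - (j : ℤ) * e) * (q : ℤ) ^ 2 = 9 * q - 9 + 3 * e - (j : ℤ) * e := by
      have h1 : 3 * (N : ℤ) = ((m : ℤ) * j + 1) * e := by
        rw [hjD] at he; exact_mod_cast he
      linear_combination -9 * hNZ + 3 * h1 + ((j : ℤ) * e) * hmZ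
    have he1 : 1 ≤ e := by
      rcases Nat.eq_zero_or_pos e with rfl | h
      · rw [mul_zero] at he; omega
      · exact h
    have hq' : (3 : ℤ) ≤ q := by exact_mod_cast hq3
    have hj' : (1 : ℤ) ≤ j := by exact_mod_cast hj1
    have he' : (1 : ℤ) ≤ e := by exact_mod_cast he1
    have hsq9 : (9 : ℤ) ≤ (q : ℤ) ^ 2 :=
      le_trans (by norm_num) (pow_le_pow_left₀ (by norm_num) hq' 2)
    obtain ⟨J, hJdef⟩ : ∃ J : ℤ, J = (j : ℤ) * e := ⟨_, rfl⟩
    rw [← hJdef] at hkey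
    have hJ : J ≤ 8 := by
      by_contra h
      have h1 : (0 : ℤ) ≤ J - 9 := by omega
      have h2 := mul_le_mul_of_nonneg_left hsq9 h1
      have h3 : (J - 9) * (q : ℤ) ^ 2 = -(9 * q - 9 + 3 * e - J) := by rw [← hkey]; ring
      linarith
    have hj8 : (j : ℤ) ≤ 8 := by
      have := le_mul_of_one_le_right (show (0 : ℤ) ≤ j by omega) he'
      linarith
    have he8 : (e : ℤ) ≤ 8 := by
      have := le_mul_of_one_le_left (show (0 : ℤ) ≤ e by omega) hj'
      linarith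
    have hJ1 : 1 ≤ J := by
      have := le_mul_of_one_le_right (show (0 : ℤ) ≤ j by omega) he'
      linarith
    have hqle : q ≤ 10 := by
      by_contra h
      have h1 : (q : ℤ) ^ 2 ≤ 9 * q + 15 := by
        have h4 := mul_le_mul_of_nonneg_right (show (1 : ℤ) ≤ 9 - J by omega) (sq_nonneg (q : ℤ))
        rw [one_mul, hkey] at h4
        linarith
      have h2 : (11 : ℤ) ≤ q := by omega
      have h3 := mul_le_mul_of_nonneg_right h2 (show (0 : ℤ) ≤ q by omega)
      rw [← pow_two] at h3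
      linarith
    have hq5 : q = 5 := by
      obtain ⟨a, ha⟩ := hq
      omega
    subst hq5
    refine ⟨rfl, ?_⟩
    have hm8 : m = 8 := by omega
    have hN21 : N = 21 := by rw [← hN]; norm_num
    rw [hN21] at he
    have hD63 : D ∣ 63 := ⟨e, he⟩
    have hle : D ≤ 63 := Nat.le_of_dvd (by norm_num) hD63
    rw [hm8] at hjD
    have : j ≤ 7 := by omega
    interval_cases j <;> rw [hjD] at hD63 <;> norm_num at hD63 <;> omega

end Cfsg.Agent.Invol.BrauerL3
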