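import Cfsg.Agent.Lib.Invol.BrauerL3.LocalFrame
import Cfsg.Agent.Lib.Invol.BrauerL3.UnitaryKernel

/-!
# A frame from a group of two by two matrices with a central kernel of odd order
-/

set_option autoImplicit false

namespace Cfsg.Agent.Invol.BrauerL3

open Matrix

universe u v w

/-- A group of invertible matrices of degree two with the properties needed for a frame. -/
structure MatModel (H : Type u) [Group H] (L : Type v) [Field L] (p : ℕ) (Q : ℤ) where
  φ : H →* GL (Fin 2) L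
  inj : Function.Injective φ
  two : (2 : L) ≠ 0
  hp : p.Prime
  pL : (p : L) = 0
  p_dvd : (p : ℤ) ∣ Q
  W : H
  S : H
  hW : (φ W : Matrix (Fin 2) (Fin 2) L) = !![1, 0; 0, -1]
  hS : (φ S : Matrix (Fin 2) (Fin 2) L) = !![0, 1; 1, 0]
  diag_pow : ∀ g : H, (φ g : Matrix (Fin 2) (Fin 2) L) 1 0 = 0 →
    (φ g : Matrix (Fin 2) (Fin 2) L) 0 0 ^ (Q - 1).natAbs = 1 ∧
      (φ g : Matrix (Fin 2) (Fin 2) L) 1 1 ^ (Q - 1).natAbs = 1
  invol : ∀ g h : H, g * g = 1 → g ∉ Subgroup.center H → h * h = 1 → h ∉ Subgroup.center H → IsConj g h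
  ell : ∀ l : ℕ, l.Prime → l ≠ 2 → (l : ℤ) ∣ Q + 1 → ∃ g : H, orderOf g = l
  inverter : ∀ (l i : ℕ) (g : H), l.Prime → l ≠ 2 → (l : ℤ) ∣ Q + 1 → orderOf g = l ^ i →
    (φ g : Matrix (Fin 2) (Fin 2) L) 0 1 ≠ 0 → ∃ v : H, v * v = 1 ∧ v ∉ Subgroup.center H ∧ v * g * v⁻¹ = g⁻¹
  not_two : ∃ r x : H, r ≠ 1 ∧ Odd (orderOf r) ∧ x * r * x⁻¹ = r⁻¹

namespace MatModel

variable {H : Type u} [Group H] {L : Type v} [Field L] {p : ℕ} {Q : ℤ} (M : MatModel H L p Q)
include M

/-- The matrix of an element. -/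
def mat (g : H) : Matrix (Fin 2) (Fin 2) L := (M.φ g : GL (Fin 2) L)

theorem mat_mul (g h : H) : M.mat (g * h) = M.mat g * M.mat h := by simp [mat]

theorem mat_one : M.mat (1 : H) = 1 := by simp [mat]

theorem mat_inj {g h : H} (e : M.mat g = M.mat h) : g = h := M.inj (Units.ext e)

theorem mat_W : M.mat M.W = !![1, 0; 0, -1] := M.hW

theorem mat_S : M.mat M.S = !![0, 1; 1, 0] := M.hS

theorem WW : M.W * M.W = 1 := M.mat_inj (by
  rw [mat_mul, mat_one, mat_W]; ext i j; fin_cases i <;> fin_cases j <;> simp)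

theorem SS : M.S * M.S = 1 := M.mat_inj (by
  rw [mat_mul, mat_one, mat_S]; ext i j; fin_cases i <;> fin_cases j <;> simp)

/-- The entries of a product, one by one. -/
theorem ent (g h : H) (i j : Fin 2) : M.mat (g * h) i j = M.mat g i 0 * M.mat h 0 j + M.mat g i 1 * M.mat h 1 j := by
  rw [mat_mul, Matrix.mul_apply, Fin.sum_univ_two]

theorem det_ne (g : H) : M.mat g 0 0 * M.mat g 1 1 - M.mat g 0 1 * M.mat g 1 0 ≠ 0 := by
  rw [← Matrix.det_fin_two]
  exact ((Matrix.isUnit_iff_isUnit_det _).1 (M.φ g).isUnit).ne_zero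

theorem central_of_scalar {g : H} (hb : M.mat g 0 1 = 0) (hc : M.mat g 1 0 = 0) (hd : M.mat g 0 0 = M.mat g 1 1) :
    g ∈ Subgroup.center H := by
  refine Subgroup.mem_center_iff.2 fun h => M.mat_inj (Matrix.ext fun i j => ?_)
  rw [ent, ent]
  fin_cases i <;> fin_cases j <;> simp [hb, hc, hd, mul_comm]

theorem scalar_of_central {g : H} (hg : g ∈ Subgroup.center H) :
    M.mat g 0 1 = 0 ∧ M.mat g 1 0 = 0 ∧ M.mat g 0 0 = M.mat g 1 1 := by
  have h1 := congrArg M.mat (Subgroup.mem_center_iff.1 hg M.W)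
  have h2 := congrArg M.mat (Subgroup.mem_center_iff.1 hg M.S)
  have a := congrFun (congrFun h1 0) 1
  have b := congrFun (congrFun h1 1) 0
  have c := congrFun (congrFun h2 0) 1
  rw [ent, ent] at a b c
  simp only [mat_W, mat_S] at a b c
  simp at a b c
  refine ⟨(mul_eq_zero.1 (?_ : (2 : L) * M.mat g 0 1 = 0)).resolve_left M.two,
    (mul_eq_zero.1 (?_ : (2 : L) * M.mat g 1 0 = 0)).resolve_left M.two, c.symm⟩
  · linear_combination a
  · linear_combination -b

/-- The central involution upstairs. -/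
def tau : H := M.W * M.S * M.W * M.S

theorem mat_tau : M.mat M.tau = !![-1, 0; 0, -1] := by
  simp only [tau, mat_mul, mat_W, mat_S]
  ext i j
  fin_cases i <;> fin_cases j <;> simp

theorem tau_central : M.tau ∈ Subgroup.center H :=
  M.central_of_scalar (by simp [mat_tau]) (by simp [mat_tau]) (by simp [mat_tau])

theorem tau_sq : M.tau * M.tau = 1 := M.mat_inj (by
  rw [mat_mul, mat_one, mat_tau]; ext i j; fin_cases i <;> fin_cases j <;> simp)

theorem tau_ne : M.tau ≠ 1 := fun h => by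
  have h1 := congrFun (congrFun (congrArg M.mat h) 0) 0
  rw [mat_tau, mat_one] at h1
  simp at h1
  exact M.two (by linear_combination -h1)

theorem W_noncentral : M.W ∉ Subgroup.center H := fun h => by
  have h1 := (M.scalar_of_central h).2.2
  rw [mat_W] at h1
  simp at h1
  exact M.two (by linear_combination h1)

theorem eq_one_or_tau {g : H} (hg : g ∈ Subgroup.center H) (h2 : g * g = 1) : g = 1 ∨ g = M.tau := by
  obtain ⟨hb, hc, hd⟩ := M.scalar_of_central hg
  have h3 := congrFun (congrFun (congrArg M.mat h2) 0) 0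
  rw [ent, hb, hc, mat_one] at h3
  simp at h3
  rcases mul_self_eq_one_iff.1 h3 with h | h
  · left
    refine M.mat_inj ?_
    rw [mat_one]
    ext i j
    fin_cases i <;> fin_cases j <;> simp [hb, hc, h, ← hd]
  · right
    refine M.mat_inj ?_
    rw [mat_tau]
    ext i j
    fin_cases i <;> fin_cases j <;> simp [hb, hc, h, ← hd]

/-- A central commutator squares to one. -/
theorem comm_sq {g h : H} (hk : g * h * g⁻¹ * h⁻¹ ∈ Subgroup.center H) :
    g * h * g⁻¹ * h⁻¹ * (g * h * g⁻¹ * h⁻¹) = 1 := by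
  obtain ⟨hb, hc, hd⟩ := M.scalar_of_central hk
  have h1 : Matrix.det (M.mat (g * h * g⁻¹ * h⁻¹)) = 1 := by
    have e : Matrix.GeneralLinearGroup.det (M.φ (g * h * g⁻¹ * h⁻¹)) = 1 := by
      simp only [map_mul, map_inv]
      rw [mul_inv_eq_one, mul_inv_eq_iff_eq_mul, mul_comm]
    have e' := congrArg Units.val e
    rwa [Matrix.GeneralLinearGroup.val_det_apply, Units.val_one] at e'
  rw [Matrix.det_fin_two, hb, hc, ← hd] at h1
  refine M.mat_inj (Matrix.ext fun i j => ?_)
  rw [ent, mat_one]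
  fin_cases i <;> fin_cases j <;> simp [hb, hc, ← hd]
  all_goals linear_combination h1

/-- The conjugate by `S`. -/
theorem mat_SgS (g : H) : M.mat (M.S * g * M.S) =
    !![M.mat g 1 1, M.mat g 1 0; M.mat g 0 1, M.mat g 0 0] := by
  ext i j
  rw [ent, ent, ent]
  fin_cases i <;> fin_cases j <;> simp [mat_S]

theorem mat_WgW (g : H) : M.mat (M.W * g * M.W⁻¹) =
    !![M.mat g 0 0, -M.mat g 0 1; -M.mat g 1 0, M.mat g 1 1] := by
  rw [inv_eq_of_mul_eq_one_right M.WW]
  ext i j
  rw [ent, ent, ent]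
  fin_cases i <;> fin_cases j <;> simp [mat_W]

theorem commute_W_iff {g : H} : Commute g M.W ↔ M.mat g 0 1 = 0 ∧ M.mat g 1 0 = 0 := by
  constructor
  · intro h
    have a := congrFun (congrFun (congrArg M.mat h.eq) 0) 1
    have b := congrFun (congrFun (congrArg M.mat h.eq) 1) 0
    rw [ent, ent] at a b
    simp only [mat_W] at a b
    simp at a b
    exact ⟨(mul_eq_zero.1 (show (2 : L) * M.mat g 0 1 = 0 by linear_combination -a)).resolve_left M.two,
      (mul_eq_zero.1 (show (2 : L) * M.mat g 1 0 = 0 by linear_combination b)).resolve_left M.two⟩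
  · rintro ⟨hb, hc⟩
    refine M.mat_inj (Matrix.ext fun i j => ?_)
    rw [ent, ent]
    fin_cases i <;> fin_cases j <;> simp [mat_W, hb, hc]

/-- Matrices commuting with a non-scalar one commute. -/
theorem cent_comm {g x x' : H} (hg : g ∉ Subgroup.center H) (h : Commute x g) (h' : Commute x' g) :
    Commute x x' := by
  have e : ∀ y : H, Commute y g →
      M.mat g 0 1 * M.mat y 1 0 = M.mat g 1 0 * M.mat y 0 1 ∧
      M.mat g 0 1 * (M.mat y 1 1 - M.mat y 0 0) = (M.mat g 1 1 - M.mat g 0 0) * M.mat y 0 1 ∧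
      M.mat g 1 0 * (M.mat y 1 1 - M.mat y 0 0) = (M.mat g 1 1 - M.mat g 0 0) * M.mat y 1 0 := by
    intro y hy
    have a := congrFun (congrFun (congrArg M.mat hy.eq) 0) 0
    have b := congrFun (congrFun (congrArg M.mat hy.eq) 0) 1
    have c := congrFun (congrFun (congrArg M.mat hy.eq) 1) 0
    rw [ent, ent] at a b c
    exact ⟨by linear_combination -a, by linear_combination -b, by linear_combination c⟩
  obtain ⟨a1, a2, a3⟩ := e x h
  obtain ⟨b1, b2, b3⟩ := e x' h'
  have key : M.mat x 0 1 * M.mat x' 1 0 = M.mat x' 0 1 * M.mat x 1 0 ∧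
      M.mat x 0 1 * (M.mat x' 1 1 - M.mat x' 0 0) = M.mat x' 0 1 * (M.mat x 1 1 - M.mat x 0 0) ∧
      M.mat x 1 0 * (M.mat x' 1 1 - M.mat x' 0 0) = M.mat x' 1 0 * (M.mat x 1 1 - M.mat x 0 0) := by
    by_cases hb : M.mat g 0 1 = 0
    · by_cases hc : M.mat g 1 0 = 0
      · have hd : M.mat g 1 1 - M.mat g 0 0 ≠ 0 := fun hd =>
          hg (M.central_of_scalar hb hc (sub_eq_zero.1 hd).symm)
        have x1 : M.mat x 0 1 = 0 :=
          (mul_eq_zero.1 (by rw [← a2, hb, zero_mul])).resolve_left hd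
        have x2 : M.mat x 1 0 = 0 :=
          (mul_eq_zero.1 (by rw [← a3, hc, zero_mul])).resolve_left hd
        have y1 : M.mat x' 0 1 = 0 :=
          (mul_eq_zero.1 (by rw [← b2, hb, zero_mul])).resolve_left hd
        have y2 : M.mat x' 1 0 = 0 :=
          (mul_eq_zero.1 (by rw [← b3, hc, zero_mul])).resolve_left hd
        simp [x1, x2, y1, y2]
      · refine ⟨mul_left_cancel₀ hc ?_, mul_left_cancel₀ hc ?_, mul_left_cancel₀ hc ?_⟩
        · linear_combination M.mat x 1 0 * b1 - M.mat x' 1 0 * a1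
        · linear_combination M.mat x 0 1 * b3 - M.mat x' 0 1 * a3 - (M.mat g 1 1 - M.mat g 0 0) *
            (mul_left_cancel₀ hc (by linear_combination M.mat x' 1 0 * a1 - M.mat x 1 0 * b1) :
              M.mat x' 0 1 * M.mat x 1 0 = M.mat x 0 1 * M.mat x' 1 0)
        · linear_combination M.mat x 1 0 * b3 - M.mat x' 1 0 * a3
    · refine ⟨mul_left_cancel₀ hb ?_, mul_left_cancel₀ hb ?_, mul_left_cancel₀ hb ?_⟩
      · linear_combination M.mat x 0 1 * b1 - M.mat x' 0 1 * a1
      · linear_combination M.mat x 0 1 * b2 - M.mat x' 0 1 * a2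
      · linear_combination M.mat x 1 0 * b2 - M.mat x' 1 0 * a2 + (M.mat g 1 1 - M.mat g 0 0) *
          (mul_left_cancel₀ hb (by linear_combination M.mat x' 0 1 * a1 - M.mat x 0 1 * b1) :
            M.mat x' 0 1 * M.mat x 1 0 = M.mat x 0 1 * M.mat x' 1 0)
  obtain ⟨k1, k2, k3⟩ := key
  refine M.mat_inj (Matrix.ext fun i j => ?_)
  rw [ent, ent]
  fin_cases i <;> fin_cases j <;> simp
  · linear_combination k1
  · linear_combination k2
  · linear_combination -k3
  · linear_combination -k1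

/-- Upper triangular powers. -/
theorem pow_upper {g : H} (hc : M.mat g 1 0 = 0) : ∀ k : ℕ,
    M.mat (g ^ k) 1 0 = 0 ∧ M.mat (g ^ k) 0 0 = M.mat g 0 0 ^ k ∧ M.mat (g ^ k) 1 1 = M.mat g 1 1 ^ k
  | 0 => by simp [mat_one]
  | k + 1 => by
    obtain ⟨h1, h2, h3⟩ := pow_upper hc k
    rw [pow_succ g k]
    simp only [ent]
    exact ⟨by simp [h1, hc], by simp [h2, hc, pow_succ], by simp [h1, h3, pow_succ]⟩

theorem pow_unipotent {g : H} (ha : M.mat g 0 0 = 1) (hc : M.mat g 1 0 = 0) (hd : M.mat g 1 1 = 1) : ∀ k : ℕ,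
    M.mat (g ^ k) 0 1 = (k : L) * M.mat g 0 1
  | 0 => by simp [mat_one]
  | k + 1 => by
    obtain ⟨-, h2, -⟩ := M.pow_upper hc k
    rw [pow_succ g k, ent, pow_unipotent ha hc hd k, h2, ha, hd]
    push_cast
    rw [one_pow]
    ring

theorem diag_exp {g : H} (hb : M.mat g 0 1 = 0) (hc : M.mat g 1 0 = 0) : g ^ (Q - 1).natAbs = 1 := by
  have h1 : M.mat g 0 0 ^ (Q - 1).natAbs = 1 := (M.diag_pow g hc).1
  have h2 : M.mat g 1 1 ^ (Q - 1).natAbs = 1 := (M.diag_pow g hc).2
  obtain ⟨k1, k2, k3⟩ := M.pow_upper hc (Q - 1).natAbs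
  have k4 : ∀ k : ℕ, M.mat (g ^ k) 0 1 = 0 := by
    intro k
    induction k with
    | zero => simp [mat_one]
    | succ n ih => rw [pow_succ, ent, ih, hb]; simp
  refine M.mat_inj ?_
  rw [mat_one]
  ext i j
  fin_cases i <;> fin_cases j <;> simp [k1, k2, k3, k4, h1, h2]

theorem tri_exp {g : H} (h : M.mat g 1 0 = 0 ∨ M.mat g 0 1 = 0) : g ^ (p * (Q - 1).natAbs) = 1 := by
  have key : ∀ g : H, M.mat g 1 0 = 0 → g ^ (p * (Q - 1).natAbs) = 1 := by
    intro g hc
    obtain ⟨h1, h2⟩ := M.diag_pow g hc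
    obtain ⟨k1, k2, k3⟩ := M.pow_upper hc (Q - 1).natAbs
    have u1 : M.mat (g ^ (Q - 1).natAbs) 0 0 = 1 := k2.trans h1
    have u2 : M.mat (g ^ (Q - 1).natAbs) 1 1 = 1 := k3.trans h2
    rw [mul_comm, pow_mul]
    obtain ⟨l1, l2, l3⟩ := M.pow_upper k1 p
    have l4 := M.pow_unipotent u1 k1 u2 p
    rw [M.pL, zero_mul] at l4
    rw [u1, one_pow] at l2
    rw [u2, one_pow] at l3
    refine M.mat_inj ?_
    rw [mat_one]
    ext i j
    fin_cases i <;> fin_cases j <;> simp [l1, l2, l3, l4]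
  rcases h with h | h
  · exact key g h
  · have h1 := key (M.S * g * M.S) (by rw [mat_SgS]; simpa using h)
    rw [show M.S * g * M.S = M.S * g * M.S⁻¹ by rw [inv_eq_of_mul_eq_one_right M.SS], conj_pow,
      conj_eq_one_iff] at h1
    exact h1

variable [Finite H] {C : Type w} [Group C] (π : H →* C) (hπ : Function.Surjective π)
  (hc : π.ker ≤ Subgroup.center H) (ho : Odd (Nat.card π.ker))

include M hc ho in
theorem lift_comm {g h : H} (e : Commute (π g) (π h)) : Commute g h := by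
  have hk : g * h * g⁻¹ * h⁻¹ ∈ π.ker := by
    rw [MonoidHom.mem_ker, map_mul, map_mul, map_mul, map_inv, map_inv, e.eq, mul_inv_cancel_right,
      mul_inv_cancel]
  have h2 := M.comm_sq (hc hk)
  have h3 : g * h * g⁻¹ * h⁻¹ = 1 :=
    congrArg Subtype.val (eq_one_of_self_inv ho (x := (⟨_, hk⟩ : π.ker)) (Subtype.ext h2))
  rw [mul_inv_eq_one, mul_inv_eq_iff_eq_mul] at h3
  exact h3

include M hπ hc ho in
theorem center_iff {g : H} : π g ∈ Subgroup.center C ↔ g ∈ Subgroup.center H := by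
  constructor
  · exact fun h => Subgroup.mem_center_iff.2 fun x =>
      M.lift_comm π hc ho (Subgroup.mem_center_iff.1 h (π x))
  · intro h
    refine Subgroup.mem_center_iff.2 fun x => ?_
    obtain ⟨y, rfl⟩ := hπ x
    rw [← map_mul, ← map_mul, Subgroup.mem_center_iff.1 h y]

include M hπ hc ho in
theorem odd_comm {x y : C} (hk : x * y * x⁻¹ * y⁻¹ ∈ Subgroup.center C) (hodd : Odd (orderOf (x * y * x⁻¹ * y⁻¹))) :
    Commute x y := by
  obtain ⟨g, rfl⟩ := hπ x
  obtain ⟨h, rfl⟩ := hπ y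
  have e : π g * π h * (π g)⁻¹ * (π h)⁻¹ = π (g * h * g⁻¹ * h⁻¹) := by simp only [map_mul, map_inv]
  rw [e] at hk hodd
  have h2 := congrArg π (M.comm_sq ((M.center_iff π hπ hc ho).1 hk))
  rw [map_mul, map_one] at h2
  have h3 : π (g * h * g⁻¹ * h⁻¹) = 1 := by
    have h4 : orderOf (π (g * h * g⁻¹ * h⁻¹)) ∣ 2 := orderOf_dvd_of_pow_eq_one (by rw [sq, h2])
    rcases (Nat.dvd_prime Nat.prime_two).1 h4 with h5 | h5
    · exact orderOf_eq_one_iff.1 h5
    · rw [h5] at hodd; exact absurd hodd (by decide)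
  rw [← e, mul_inv_eq_one, mul_inv_eq_iff_eq_mul] at h3
  exact h3

include hπ ho in
omit M [Finite H] in
theorem exists_lift_sq {i : C} (hi : i * i = 1) : ∃ g : H, g * g = 1 ∧ π g = i := by
  obtain ⟨g, rfl⟩ := hπ i
  have h2 : g * g ∈ π.ker := by rw [MonoidHom.mem_ker, map_mul, hi]
  refine ⟨g ^ Nat.card π.ker, ?_, ?_⟩
  · rw [← pow_add, ← two_mul, pow_mul, sq]
    exact congrArg Subtype.val (pow_card_eq_one' (G := π.ker) (x := ⟨g * g, h2⟩))
  · obtain ⟨k, hk⟩ := ho
    rw [hk, pow_succ, pow_mul, map_mul, map_pow, sq, MonoidHom.mem_ker.1 h2, one_pow, one_mul]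

include ho in
omit M in
theorem orderOf_map_two {g : H} (h2 : g * g = 1) (h1 : g ≠ 1) : orderOf (π g) = 2 := by
  refine orderOf_eq_prime (by rw [sq, ← map_mul, h2, map_one]) fun h => h1 ?_
  exact congrArg Subtype.val (eq_one_of_self_inv ho (x := (⟨g, MonoidHom.mem_ker.2 h⟩ : π.ker)) (Subtype.ext h2))

include M hπ hc ho in
theorem map_tau {t : C} (ht : orderOf t = 2) (htc : t ∈ Subgroup.center C) : π M.tau = t := by
  obtain ⟨g, hg, rfl⟩ := exists_lift_sq π hπ ho (i := t) (by rw [← sq, ← ht, pow_orderOf_eq_one])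
  rcases M.eq_one_or_tau ((M.center_iff π hπ hc ho).1 htc) hg with rfl | rfl
  · rw [map_one, orderOf_one] at ht; omega
  · rfl

include M hπ hc ho in
/-- The frame. -/
theorem frame [Finite C] {t : C} (ht : orderOf t = 2) (htc : t ∈ Subgroup.center C) :
    Nonempty (Frame C t p Q) := by
  have hτ := M.map_tau π hπ hc ho ht htc
  have lc : ∀ {g h : H}, Commute (π g) (π h) → Commute g h := fun {g h} e => M.lift_comm π hc ho e
  have hWne : M.W ≠ 1 := fun h => M.W_noncentral (h ▸ one_mem _)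
  have hw2 : orderOf (π M.W) = 2 := orderOf_map_two π ho M.WW hWne
  have hwc : π M.W ∉ Subgroup.center C := fun h => M.W_noncentral ((M.center_iff π hπ hc ho).1 h)
  have hcc : ∀ y : C, y ∉ Subgroup.center C → ∀ x x' : C, Commute x y → Commute x' y → Commute x x' := by
    intro y hy x x' hx hx'
    obtain ⟨g, rfl⟩ := hπ y
    obtain ⟨a, rfl⟩ := hπ x
    obtain ⟨b, rfl⟩ := hπ x'
    exact (M.cent_comm (fun h => hy ((M.center_iff π hπ hc ho).2 h)) (lc hx) (lc hx')).map π
  refine ⟨⟨π M.W, π M.S, M.hp, M.p_dvd, htc, ht, hw2, by rw [← map_mul, M.SS, map_one],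
    fun h => hwc (h ▸ htc), ?_, ?_, hcc, ?_, ?_, ?_, ?_, ?_⟩⟩
  · rw [← hτ, ← map_inv, ← map_mul, ← map_mul, ← map_mul]
    refine congrArg π (M.mat_inj ?_)
    rw [inv_eq_of_mul_eq_one_right M.SS, mat_SgS, mat_mul, mat_tau, mat_W]
    ext i j; fin_cases i <;> fin_cases j <;> simp
  · intro i hi hne
    obtain ⟨g, hg, rfl⟩ := exists_lift_sq π hπ ho (i := i) (by rw [← sq, ← hi, pow_orderOf_eq_one])
    have hgc : g ∉ Subgroup.center H := fun h => by
      rcases M.eq_one_or_tau h hg with rfl | rfl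
      · rw [map_one, orderOf_one] at hi; omega
      · exact hne hτ
    exact π.map_isConj (M.invol M.W g M.WW M.W_noncentral hg hgc)
  · intro a ha
    obtain ⟨g, rfl⟩ := hπ a
    obtain ⟨hb, hc'⟩ := M.commute_W_iff.1 (lc ha)
    rw [← map_pow, M.diag_exp hb hc', map_one]
  · intro l hl hl2 hlQ
    obtain ⟨g, hg⟩ := M.ell l hl hl2 hlQ
    refine ⟨π g, haveI := Fact.mk hl; orderOf_eq_prime (by rw [← map_pow, ← hg, pow_orderOf_eq_one, map_one])
      fun h => ?_⟩
    obtain ⟨hb, hc', -⟩ := M.scalar_of_central (hc (MonoidHom.mem_ker.2 h))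
    have h1 := orderOf_dvd_of_pow_eq_one (M.diag_exp hb hc')
    rw [hg] at h1
    have h2 : (l : ℤ) ∣ 2 := by
      have h3 := dvd_sub hlQ (Int.natCast_dvd.2 h1)
      rwa [show Q + 1 - (Q - 1) = 2 by ring] at h3
    exact hl2 ((Nat.prime_dvd_prime_iff_eq hl Nat.prime_two).1 (by exact_mod_cast h2))
  · obtain ⟨r, x, hr, hro, hx⟩ := M.not_two
    refine ⟨π r, π x, fun h => hr ?_, hro.of_dvd_nat (orderOf_map_dvd π r), by
      rw [← map_mul, ← map_inv, ← map_mul, hx, map_inv]⟩
    have hrc := Subgroup.mem_center_iff.1 (hc (MonoidHom.mem_ker.2 h)) x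
    rw [hrc, mul_inv_cancel_right, eq_inv_iff_mul_eq_one] at hx
    have h4 : orderOf r ∣ 2 := orderOf_dvd_of_pow_eq_one (by rw [sq, hx])
    rcases (Nat.dvd_prime Nat.prime_two).1 h4 with h5 | h5
    · exact orderOf_eq_one_iff.1 h5
    · rw [h5] at hro; exact absurd hro (by decide)
  · intro l i y hl hl2 hlQ hy hy1
    obtain ⟨g0, rfl⟩ := hπ y
    set m := (Q - 1).natAbs with hm
    have hlm : l.Coprime m := hl.coprime_iff_not_dvd.2 fun h => hl2 (by
      have h3 := dvd_sub hlQ (Int.natCast_dvd.2 h)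
      rw [show Q + 1 - (Q - 1) = 2 by ring] at h3
      exact (Nat.prime_dvd_prime_iff_eq hl Nat.prime_two).1 (by exact_mod_cast h3))
    have hlp : l.Coprime p := (Nat.coprime_primes hl M.hp).2 fun h => by
      subst h
      have h3 := dvd_sub hlQ M.p_dvd
      rw [show Q + 1 - Q = 1 by ring] at h3
      exact hl.one_lt.ne' (Nat.dvd_one.1 (by exact_mod_cast h3))
    obtain ⟨n, hn⟩ : ∃ n : ℕ, (π g0 ^ m) ^ n = π g0 :=
      exists_pow_eq_self_of_coprime (by rw [hy]; exact (hlm.pow_left i).symm)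
    have hk : g0 ^ l ^ i ∈ π.ker := by rw [MonoidHom.mem_ker, map_pow, ← hy, pow_orderOf_eq_one]
    obtain ⟨hb0, hc0, -⟩ := M.scalar_of_central (hc hk)
    set g := (g0 ^ m) ^ n with hg
    have hπg : π g = π g0 := by rw [hg, map_pow, map_pow, hn]
    have hgo : orderOf g = l ^ i := by
      refine Nat.dvd_antisymm (orderOf_dvd_of_pow_eq_one ?_) (hy ▸ hπg ▸ orderOf_map_dvd π g)
      rw [hg, ← pow_mul, ← pow_mul, show m * (n * l ^ i) = l ^ i * (m * n) by ring, pow_mul, pow_mul,
        M.diag_exp hb0 hc0, one_pow]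
    have hb : M.mat g 0 1 ≠ 0 := fun h => hy1 (by
      have h1 := orderOf_dvd_of_pow_eq_one (M.tri_exp (Or.inr h))
      rw [hgo] at h1
      have h2 := Nat.eq_one_of_dvd_coprimes ((hlp.mul_right hlm).pow_left i) dvd_rfl h1
      rw [← hy] at h2
      exact orderOf_eq_one_iff.1 h2)
    obtain ⟨v, hv, hvc, hvg⟩ := M.inverter l i g hl hl2 hlQ hgo hb
    refine ⟨π v, orderOf_map_two π ho hv fun h => hvc (h ▸ one_mem _),
      fun h => hvc ((M.center_iff π hπ hc ho).1 (h ▸ htc)), ?_⟩
    rw [← hπg, ← map_inv, ← map_mul, ← map_mul, hvg, map_inv]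
  · intro Y hY hwY z hzw hz2 hzY
    by_cases hall : ∀ y ∈ Y, Commute y (π M.W)
    · exact Or.inl hall
    refine Or.inr ?_
    push Not at hall
    obtain ⟨y0, hy0, hy0w⟩ := hall
    have hoddY : ∀ x ∈ Y, Odd (orderOf x) := fun x hx =>
      hY.of_dvd_nat (Subgroup.orderOf_mk x hx ▸ orderOf_dvd_natCard _)
    have oc : ∀ {x y : C}, x * y * x⁻¹ * y⁻¹ ∈ Subgroup.center C → x * y * x⁻¹ * y⁻¹ ∈ Y → Commute x y :=
      fun hk hk' => M.odd_comm π hπ hc ho hk (hoddY _ hk')
    set w := π M.W with hw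
    have hww : w * w = 1 := by rw [hw, ← map_mul, M.WW, map_one]
    have hwi : w⁻¹ = w := inv_eq_of_mul_eq_one_right hww
    -- an inverted element
    set k := y0⁻¹ * (w * y0 * w⁻¹) with hk
    have hkY : k ∈ Y := mul_mem (inv_mem hy0) (hwY y0 hy0)
    have hkinv : w * k * w⁻¹ = k⁻¹ := by
      rw [hk, hwi, _root_.mul_inv_rev, inv_inv]
      simp only [_root_.mul_inv_rev, hwi, mul_assoc]
      rw [hww, mul_one]
    have hkc : k ∉ Subgroup.center C := fun h => hy0w (by
      have e : k = y0⁻¹ * w * y0⁻¹⁻¹ * w⁻¹ := by rw [hk, inv_inv]; simp only [mul_assoc]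
      exact (Commute.inv_left_iff.1 (oc (e ▸ h) (e ▸ hkY))))
    -- the quotient by the centre
    let N : Subgroup Y := (Subgroup.center C).subgroupOf Y
    let α0 : Y →* Y :=
      { toFun := fun y => ⟨w * y * w⁻¹, hwY y y.2⟩
        map_one' := Subtype.ext (by simp)
        map_mul' := fun a b => Subtype.ext (by
          show w * (a * b : C) * w⁻¹ = w * a * w⁻¹ * (w * b * w⁻¹)
          group) }
    have hN : N ≤ N.comap α0 := fun y hy => by
      show w * (y : C) * w⁻¹ ∈ Subgroup.center C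
      exact (inferInstance : (Subgroup.center C).Normal).conj_mem _ hy w
    let α : Y ⧸ N →* Y ⧸ N := QuotientGroup.map N N α0 hN
    have hαmk : ∀ y : Y, α (y : Y ⧸ N) = ((α0 y : Y) : Y ⧸ N) := fun y => rfl
    have cm : ∀ a b : Y, Commute (a : Y ⧸ N) (b : Y ⧸ N) → Commute (a : C) (b : C) := by
      intro a b h
      have h1 : (a * b)⁻¹ * (b * a) ∈ N := QuotientGroup.eq.1 (by rw [QuotientGroup.mk_mul, QuotientGroup.mk_mul, h.eq])
      have h2 : ((a * b)⁻¹ * (b * a) : Y).1 = (b : C)⁻¹ * (a : C)⁻¹ * (b : C)⁻¹⁻¹ * (a : C)⁻¹⁻¹ := by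
        simp [mul_assoc]
      exact (Commute.inv_inv_iff.1 (oc (h2 ▸ Subgroup.mem_subgroupOf.1 h1) (h2 ▸ ((a * b)⁻¹ * (b * a)).2))).symm
    have hfix : ∀ a : Y, α (a : Y ⧸ N) = a → Commute w (a : C) := by
      intro a h
      rw [hαmk] at h
      have h1 : (α0 a)⁻¹ * a ∈ N := QuotientGroup.eq.1 h
      have h2 : ((α0 a)⁻¹ * a : Y).1 = w * (a : C)⁻¹ * w⁻¹ * (a : C)⁻¹⁻¹ := by
        simp [α0, mul_assoc]
      exact Commute.inv_right_iff.1 (oc (h2 ▸ Subgroup.mem_subgroupOf.1 h1) (h2 ▸ ((α0 a)⁻¹ * a).2))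
    obtain ⟨Kb, hKn, hKiff, hKab, -⟩ := exists_inverted_kernel (G := Y ⧸ N)
      (hY.of_dvd_nat N.card_quotient_dvd_card) α
      (by
        intro x
        induction x using QuotientGroup.induction_on with
        | _ y =>
          rw [hαmk, hαmk]
          refine congrArg _ (Subtype.ext ?_)
          show w * (w * (y : C) * w⁻¹) * w⁻¹ = y
          rw [hwi]
          simp only [mul_assoc]
          rw [hww, mul_one, ← mul_assoc, hww, one_mul])
      (by
        intro a
        induction a using QuotientGroup.induction_on with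
        | _ a =>
          intro ha ha1 g
          induction g using QuotientGroup.induction_on with
          | _ g =>
            intro hga
            have hac : (a : C) ∉ Subgroup.center C := fun h =>
              ha1 ((QuotientGroup.eq_one_iff a).2 (Subgroup.mem_subgroupOf.2 h))
            have h1 := hcc _ hac _ _ (cm g a hga) (hfix a ha)
            rw [hαmk]
            refine congrArg _ (Subtype.ext ?_)
            show w * (g : C) * w⁻¹ = g
            rw [← h1.eq, mul_inv_cancel_right])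
    -- conjugates of `k` by `Y` and by `z` commute with it
    have hKk : ∀ x : Y, w * (x : C) * w⁻¹ = (x : C)⁻¹ → (x : Y ⧸ N) ∈ Kb := fun x hx => by
      rw [hKiff, hαmk, ← QuotientGroup.mk_inv]
      exact congrArg _ (Subtype.ext hx)
    have hconjY : ∀ y ∈ Y, Commute (y * k * y⁻¹) k := by
      intro y hy
      refine cm ⟨_, mul_mem (mul_mem hy hkY) (inv_mem hy)⟩ ⟨k, hkY⟩ (hKab _ ?_ _ (hKk ⟨k, hkY⟩ hkinv))
      exact hKn.conj_mem _ (hKk ⟨k, hkY⟩ hkinv) ((⟨y, hy⟩ : Y) : Y ⧸ N)
    have hconjz : Commute (z * k * z⁻¹) k := by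
      refine cm ⟨_, hzY k hkY⟩ ⟨k, hkY⟩ (hKab _ (hKk ⟨_, hzY k hkY⟩ ?_) _ (hKk ⟨k, hkY⟩ hkinv))
      show w * (z * k * z⁻¹) * w⁻¹ = (z * k * z⁻¹)⁻¹
      calc w * (z * k * z⁻¹) * w⁻¹ = (w * z) * k * (w * z)⁻¹ := by group
        _ = z * (w * k * w⁻¹) * z⁻¹ := by rw [← hzw.eq]; group
        _ = (z * k * z⁻¹)⁻¹ := by rw [hkinv]; group
    -- upstairs
    obtain ⟨g, hgk⟩ := hπ k
    obtain ⟨Z, rfl⟩ := hπ z
    obtain ⟨hZb, hZc⟩ := M.commute_W_iff.1 (lc hzw)
    have hs : M.W * g * M.W⁻¹ * g ∈ π.ker := by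
      rw [MonoidHom.mem_ker, map_mul, map_mul, map_mul, map_inv, hgk, ← hw, hkinv, inv_mul_cancel]
    obtain ⟨s1, s2, -⟩ := M.scalar_of_central (hc hs)
    rw [ent, mat_WgW] at s1 s2
    simp at s1 s2
    set a := M.mat g 0 0 with ha
    set b := M.mat g 0 1 with hb
    set c := M.mat g 1 0 with hc'
    set d := M.mat g 1 1 with hd
    have hbc : b ≠ 0 ∨ c ≠ 0 := by
      by_contra h
      push Not at h
      have h1 : Commute k w := hgk ▸ (M.commute_W_iff.2 h).map π
      rw [h1.symm.eq, mul_inv_cancel_right, eq_inv_iff_mul_eq_one] at hkinv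
      exact hkc (by
        rw [show k = 1 from congrArg Subtype.val (eq_one_of_self_inv hY (x := (⟨k, hkY⟩ : Y)) (Subtype.ext hkinv))]
        exact one_mem _)
    have had : a = d := by
      rcases hbc with h | h
      · exact mul_left_cancel₀ h (by linear_combination s1)
      · exact mul_left_cancel₀ h (by linear_combination -s2)
    have hd0 : a ≠ 0 ∨ b * c ≠ 0 := by
      by_contra h
      push Not at h
      exact M.det_ne g (by rw [← ha, ← hb, ← hc', ← hd, ← had, h.1, h.2]; ring)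
    have hbc0 : b * c = 0 := by
      have hx : M.mat Z 0 0 * M.mat Z 1 1 ≠ 0 := by
        have := M.det_ne Z
        rwa [hZb, zero_mul, sub_zero] at this
      have hx2 : M.mat Z 0 0 ^ 2 - M.mat Z 1 1 ^ 2 ≠ 0 := fun h => hz2 (by
        rw [← map_mul]
        refine (M.center_iff π hπ hc ho).2 (M.central_of_scalar ?_ ?_ ?_) <;> rw [ent] <;> try rw [ent]
        · simp [hZb]
        · simp [hZc]
        · simp [hZb, hZc]; linear_combination h)
      obtain ⟨g', hg'⟩ : ∃ g', g' = Z * g * Z⁻¹ := ⟨_, rfl⟩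
      have e : g' * Z = Z * g := by rw [hg', inv_mul_cancel_right]
      have e01 := congrFun (congrFun (congrArg M.mat e) 0) 1
      have e10 := congrFun (congrFun (congrArg M.mat e) 1) 0
      rw [ent, ent] at e01 e10
      have hcomm : Commute g' g := lc (by rw [hg', map_mul, map_mul, map_inv, hgk]; exact hconjz)
      have e00 := congrFun (congrFun (congrArg M.mat hcomm.eq) 0) 0
      rw [ent, ent] at e00
      simp [hZb, hZc, ← hb, ← hc'] at e01 e10
      rw [← hb, ← hc', ← ha] at e00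
      refine (mul_eq_zero.1 (?_ : (M.mat Z 0 0 ^ 2 - M.mat Z 1 1 ^ 2) * (b * c) = 0)).resolve_left hx2
      linear_combination (M.mat Z 0 0 * M.mat Z 1 1) * e00 - c * M.mat Z 0 0 * e01 + b * M.mat Z 1 1 * e10
    -- every lift of an element of `Y` is triangular, the same way as `g`
    have htri : ∀ h : H, π h ∈ Y → (c = 0 → M.mat h 1 0 = 0) ∧ (b = 0 → M.mat h 0 1 = 0) := by
      intro h hh
      obtain ⟨g', hg'⟩ : ∃ g', g' = h * g * h⁻¹ := ⟨_, rfl⟩
      have hcomm : Commute g' g := lc (by rw [hg', map_mul, map_mul, map_inv, hgk]; exact hconjY _ hh)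
      have f : ∀ i j, M.mat (g' * g) i j = M.mat (g * g') i j := fun i j => by rw [hcomm.eq]
      have e : g' * h = h * g := by rw [hg', inv_mul_cancel_right]
      have e2 : ∀ i j, M.mat (g' * h) i j = M.mat (h * g) i j := fun i j => by rw [e]
      refine ⟨fun h0 => ?_, fun h0 => ?_⟩
      · have hb0 : b ≠ 0 := hbc.resolve_right (not_not.2 h0)
        have f1 := f 0 0
        have f2 := f 0 1
        have e10 := e2 1 0
        have e11 := e2 1 1
        simp only [ent, ← ha, ← hb, ← hc', ← hd, h0, ← had] at f1 f2 e10 e11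
        have z0 : M.mat g' 1 0 = 0 :=
          (mul_eq_zero.1 (show b * M.mat g' 1 0 = 0 by linear_combination -f1)).resolve_left hb0
        have z1 : M.mat g' 0 0 = M.mat g' 1 1 := mul_left_cancel₀ hb0 (by linear_combination f2)
        rw [z0] at e10 e11
        by_contra hr
        have z2 : M.mat g' 1 1 = a := mul_right_cancel₀ hr (by linear_combination e10)
        rw [z2] at e11
        exact mul_ne_zero hr hb0 (by linear_combination -e11)
      · have hc0 : c ≠ 0 := hbc.resolve_left (not_not.2 h0)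
        have f1 := f 0 0
        have f2 := f 1 0
        have e01 := e2 0 1
        have e00 := e2 0 0
        simp only [ent, ← ha, ← hb, ← hc', ← hd, h0, ← had] at f1 f2 e01 e00
        have z0 : M.mat g' 0 1 = 0 :=
          (mul_eq_zero.1 (show c * M.mat g' 0 1 = 0 by linear_combination f1)).resolve_left hc0
        have z1 : M.mat g' 0 0 = M.mat g' 1 1 := mul_left_cancel₀ hc0 (by linear_combination -f2)
        rw [z0] at e00 e01
        by_contra hr
        have z2 : M.mat g' 0 0 = a := mul_right_cancel₀ hr (by linear_combination e01)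
        rw [z2] at e00
        exact mul_ne_zero hr hc0 (by linear_combination -e00)
    refine ⟨fun y hy => ?_, k, hkY, ?_, ?_⟩
    · obtain ⟨h, rfl⟩ := hπ y
      rw [← map_pow, M.tri_exp ((mul_eq_zero.1 hbc0).symm.imp (htri h hy).1 (htri h hy).2), map_one]
    · rw [hkinv, ← _root_.mul_inv_rev, Ne, inv_eq_one]
      intro hkk
      exact hkc (by
        rw [show k = 1 from congrArg Subtype.val (eq_one_of_self_inv hY (x := (⟨k, hkY⟩ : Y)) (Subtype.ext hkk))]
        exact one_mem _)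
    · intro i hi hie
      rw [hkinv, ← _root_.mul_inv_rev, Commute.inv_right_iff, ← hgk, ← map_mul] at hie
      obtain ⟨v, hv, rfl⟩ := exists_lift_sq π hπ ho hi
      have hcm : ∀ i j, M.mat (v * (g * g)) i j = M.mat (g * g * v) i j := fun i j => by rw [(lc hie).eq]
      have hvv : ∀ i j, M.mat (v * v) i j = (1 : Matrix (Fin 2) (Fin 2) L) i j := fun i j => by rw [hv, mat_one]
      have hvc : v ∈ Subgroup.center H := by
        have f1 := hcm 0 0
        have f2 := hcm 0 1
        have f3 := hcm 1 0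
        have v1 := hvv 0 1
        have v2 := hvv 1 0
        have v3 := hvv 0 0
        simp only [ent, ← ha, ← hb, ← hc', ← hd, ← had] at f1 f2 f3 v1 v2 v3
        simp at v1 v2 v3
        rcases mul_eq_zero.1 hbc0 with h0 | h0
        · have hc0 : c ≠ 0 := hbc.resolve_left (not_not.2 h0)
          have ha0 : a ≠ 0 := hd0.resolve_right (not_not.2 hbc0)
          have h2ac : (2 : L) * a * c ≠ 0 := mul_ne_zero (mul_ne_zero M.two ha0) hc0
          rw [h0] at f1 f3
          have z0 : M.mat v 0 1 = 0 :=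
            (mul_eq_zero.1 (show (2 * a * c) * M.mat v 0 1 = 0 by linear_combination f1)).resolve_left h2ac
          have z1 : M.mat v 0 0 = M.mat v 1 1 := mul_left_cancel₀ h2ac (by linear_combination -f3)
          rw [z0] at v3
          rw [← z1] at v2
          have hx0 : M.mat v 0 0 ≠ 0 := fun h => by rw [h] at v3; simp at v3
          exact M.central_of_scalar z0
            ((mul_eq_zero.1 (show (2 * M.mat v 0 0) * M.mat v 1 0 = 0 by linear_combination v2)).resolve_left
              (mul_ne_zero M.two hx0)) z1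
        · have hb0 : b ≠ 0 := hbc.resolve_right (not_not.2 h0)
          have ha0 : a ≠ 0 := hd0.resolve_right (not_not.2 hbc0)
          have h2ab : (2 : L) * a * b ≠ 0 := mul_ne_zero (mul_ne_zero M.two ha0) hb0
          rw [h0] at f1 f2
          have z0 : M.mat v 1 0 = 0 :=
            (mul_eq_zero.1 (show (2 * a * b) * M.mat v 1 0 = 0 by linear_combination -f1)).resolve_left h2ab
          have z1 : M.mat v 0 0 = M.mat v 1 1 := mul_left_cancel₀ h2ab (by linear_combination f2)
          rw [z0] at v3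
          rw [← z1] at v1
          have hx0 : M.mat v 0 0 ≠ 0 := fun h => by rw [h] at v3; simp at v3
          exact M.central_of_scalar
            ((mul_eq_zero.1 (show (2 * M.mat v 0 0) * M.mat v 0 1 = 0 by linear_combination v1)).resolve_left
              (mul_ne_zero M.two hx0)) z0 z1
      rcases M.eq_one_or_tau hvc hv with rfl | rfl
      · exact Or.inl (map_one π)
      · exact Or.inr hτ

end MatModel

end Cfsg.Agent.Invol.BrauerL3
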