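import Cfsg.Agent.Lib.Invol.BrauerL3.Setup

/-!
# The centraliser of type `GL(2, q)`, `GU(2, q)`: the cases

Outside the exceptional case (`|Q - 1| = 2 k`, `5 ∣ k ∣ 15`) the kernel has order `(3, |Q - 1|)`, the centralisers
needed for the identifications lie in `C(t)`, and the index of `C(t)` is one of the known values.
-/

set_option autoImplicit false
set_option linter.unusedSectionVars false

open scoped Classical

namespace Cfsg.Agent.Invol.BrauerL3

open Cfsg Subgroup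

universe u v w

variable {G : Type u} [Group G] [Fintype G] {t : G} {p : ℕ} {Q : ℤ}

/-- The centralisers used by the identifications lie in `C(t)`. -/
def CentOK (t : G) (Q : ℤ) : Prop :=
  ∀ y : Cen t, (orderOf y).Prime → Odd (orderOf y) → ((orderOf y : ℤ) ∣ Q + 1 ∨ y ∈ center (Cen t)) →
    centralizer ({(y : G)} : Set G) ≤ Cen t

/-- The possible indices. -/
def IndexCases (t : G) (Q : ℤ) : Prop :=
  ((Cen t).index : ℤ) = Q ^ 2 * (Q ^ 2 + Q + 1) ∨
    (Q % 4 = 3 ∧ ((Cen t).index : ℤ) = (Q ^ 2 + Q - 1) * (Q ^ 2 + 2 * Q)) ∨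
    (Q = -5 ∧ (Cen t).index = 357) ∨ (Q = -9 ∧ (Cen t).index = 5025)

namespace TSetup

variable {F : Frame (Cen t) (tc t) p Q} {S : Type v} [CommGroup S] (D : TSetup F S) [IsSimpleGroup G]

theorem centOK_of_z (D : TSetup F S) (hz : ∃ z, CentAt t z ∧ z * z ≠ 1) : CentOK t Q := by
  intro y hy ho h
  have hy1 : y ≠ 1 := fun e => hy.ne_one (by rw [e, orderOf_one])
  rcases h with h | h
  · exact (F.elliptic hz hy (fun e => Nat.not_odd_iff_even.2 even_two (e ▸ ho)) h (i := 1) (pow_one _).symm hy1).1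
  · exact F.centralizer_center h hy1

/-- Without a central element of order at least three. -/
theorem centOK_small (hk : D.kk ∣ 3) (hm : (Q - 1).natAbs ∣ 2 * D.kk) (hQ : Odd Q) (hbig : 2 < Q.natAbs) :
    CentOK t Q ∧ ∀ l : ℕ, l.Prime → l ≠ 2 → ¬ (l : ℤ) ∣ Q + 1 := by
  have hm2 : 2 ∣ (Q - 1).natAbs := by obtain ⟨i, hi⟩ := hQ; rw [hi]; omega
  have hk' := (Nat.dvd_prime Nat.prime_three).1 hk
  have hmle := Nat.le_of_dvd (by have := D.kk_odd.pos; omega) hm
  have hpos := D.m_pos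
  have hno : ∀ l : ℕ, l.Prime → l ≠ 2 → ¬ (l : ℤ) ∣ Q + 1 := by
    intro l hl hl2 hd
    have h6 : (Q - 1).natAbs ≤ 6 := by omega
    have h45 : (Q - 1).natAbs ≠ 4 := fun e => by
      rw [e] at hm
      rcases hk' with h | h <;> rw [h] at hm <;> norm_num at hm
    have h8 : (Q + 1).natAbs = 4 ∨ (Q + 1).natAbs = 8 := by omega
    have hd' := Int.natCast_dvd.1 hd
    rcases h8 with h | h <;> rw [h] at hd'
    · exact hl2 ((Nat.prime_dvd_prime_iff_eq hl Nat.prime_two).1 (hl.dvd_of_dvd_pow (n := 2) hd'))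
    · exact hl2 ((Nat.prime_dvd_prime_iff_eq hl Nat.prime_two).1 (hl.dvd_of_dvd_pow (n := 3) hd'))
  refine ⟨fun y hy ho h => ?_, hno⟩
  have hr2 : orderOf y ≠ 2 := fun e => Nat.not_odd_iff_even.2 even_two (e ▸ ho)
  rcases h with h | h
  · exact absurd h (hno _ hy hr2)
  · refine absurd ((Nat.prime_dvd_prime_iff_eq hy Nat.prime_two).1 ?_) hr2
    exact Nat.dvd_of_mul_dvd_mul_right D.kk_odd.pos ((D.center_prime h rfl).trans hm)

end TSetup

section Tables

variable {H : Type w} [Group H] [Fintype H] {K : Type v} [CommGroup K] (T : Tbl H K Q) (π : H →* Cen t)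

include T

/-- The cases. -/
theorem main_cases [IsSimpleGroup G] (F : Frame (Cen t) (tc t) p Q) (ht : orderOf t = 2)
    (hH : (Nat.card H : ℤ) = Q * (Q ^ 2 - 1) * (Q - 1)) (hπ : Function.Surjective π) (hc : π.ker ≤ center H)
    (ho : Odd (Nat.card π.ker)) {p₀ n : ℕ} (hp : p₀.Prime) (hn : 0 < n)
    (hQ : Q = (p₀ : ℤ) ^ n ∨ Q = -(p₀ : ℤ) ^ n) (h3 : Q ≠ -3) :
    (Nat.card π.ker = Nat.gcd 3 (Q - 1).natAbs ∧ CentOK t Q ∧ IndexCases t Q) ∨
      ∃ D : TSetup F (scal K Q), D.kk = Nat.card π.ker ∧ (Q - 1).natAbs = 2 * D.kk ∧ (D.kk = 5 ∨ D.kk = 15) ∧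
        ∃ W : Tw D, W.r = 5 ∧ W.fx.IsFive := by
  obtain ⟨D, hk, hτ⟩ := exists_tsetup T π F hH hπ hc ho
  have hna : ¬ IsMulCommutative G := fun h => F.not_comm h
  have hodd := T.odd
  have hbig := T.big
  obtain ⟨i, hi⟩ := hodd
  by_cases h4 : Q % 4 = 3
  · obtain ⟨Kt⟩ := exists_kit_sd T π hπ hc ho h4 ht hτ
    rcases D.kk_cases T.odd Kt with h | ⟨h1, h2, h5⟩
    swap
    · exact Or.inr ⟨D, hk, h1, h2, h5⟩
    left
    obtain ⟨Fn, -⟩ := T.sdFuns_vanish π h4 hπ hc ho (tc t) (by rw [← Subgroup.orderOf_coe]; exact ht) (tc_central t)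
    refine ⟨?_, ?_⟩
    · rw [← hk]
      by_cases hm3 : 3 ∣ (Q - 1).natAbs
      · rw [Nat.gcd_eq_left hm3]
        exact Nat.dvd_antisymm h (D.three_dvd hm3 (by omega))
      · rw [Nat.Coprime.gcd_eq_one ((Nat.prime_three.coprime_iff_not_dvd).2 hm3)]
        rcases (Nat.dvd_prime Nat.prime_three).1 h with h' | h'
        · exact h'
        · exact absurd (h' ▸ D.kk_dvd) hm3
    obtain ⟨hcent, hE⟩ : CentOK t Q ∧
        ∀ l : ℕ, l.Prime → l ≠ 2 → (l : ℤ) ∣ Q + 1 → ¬ l ∣ (Cen t).index := by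
      by_cases hd : (Q - 1).natAbs ∣ 2 * D.kk
      · obtain ⟨h1, h2⟩ := D.centOK_small h hd T.odd T.big
        exact ⟨h1, fun l hl hl2 hlQ => absurd hlQ (h2 l hl hl2)⟩
      · exact ⟨D.centOK_of_z (D.exists_z hd), fun l hl hl2 hlQ => F.ell_not_dvd_index (D.exists_z hd) hl hl2 hlQ⟩
    refine ⟨hcent, ?_⟩
    rcases sd_index hna ht F.one_classG hp hn hQ h4 Fn F.index_odd hE with e | e | e | e
    · exact Or.inl e
    · exact Or.inr (Or.inl ⟨h4, e⟩)
    · exact Or.inr (Or.inr (Or.inl e))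
    · exact Or.inr (Or.inr (Or.inr e))
  · have h1 : Q % 4 = 1 := by omega
    obtain ⟨l, hl, hlQ⟩ := Nat.exists_prime_and_dvd (n := ((Q + 1) / 2).natAbs) (by omega)
    have hlQ' : (l : ℤ) ∣ Q + 1 := by
      have h2 : (l : ℤ) ∣ (Q + 1) / 2 := Int.natCast_dvd.2 hlQ
      rw [show Q + 1 = 2 * ((Q + 1) / 2) by omega]
      exact h2.mul_left 2
    have hl2 : l ≠ 2 := fun e => by subst e; omega
    obtain ⟨Kt⟩ := exists_kit_wr T π hπ hc ho h1 ht hl hl2 hlQ' hτ
    rcases D.kk_cases T.odd Kt with h | ⟨h1', h2, h5⟩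
    swap
    · exact Or.inr ⟨D, hk, h1', h2, h5⟩
    left
    have hz := D.exists_z_wr h1
    refine ⟨?_, D.centOK_of_z hz, ?_⟩
    · rw [← hk]
      by_cases hm3 : 3 ∣ (Q - 1).natAbs
      · rw [Nat.gcd_eq_left hm3]
        exact Nat.dvd_antisymm h (D.three_dvd hm3 (by omega))
      · rw [Nat.Coprime.gcd_eq_one ((Nat.prime_three.coprime_iff_not_dvd).2 hm3)]
        rcases (Nat.dvd_prime Nat.prime_three).1 h with h' | h'
        · exact h'
        · exact absurd (h' ▸ D.kk_dvd) hm3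
    obtain ⟨Fn, -⟩ := T.wrFuns_vanish π h1 hl hl2 hlQ' hπ hc ho (tc t) (by rw [← Subgroup.orderOf_coe]; exact ht)
      (tc_central t)
    exact Or.inl (wr_index hna ht F.one_classG hp hn hQ hl hl2 Fn (F.hY hz hl hl2 hlQ'))

end Tables

end Cfsg.Agent.Invol.BrauerL3
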