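import Cfsg.Agent.Lib.Invol.BrauerL3.TwistThree
import Cfsg.Agent.Lib.Invol.BrauerL3.Order

/-!
# The data of a centraliser given by a table: torus, cycling element, functions
-/

set_option autoImplicit false
set_option linter.unusedSectionVars false

open scoped Classical

namespace Cfsg.Agent.Invol.BrauerL3

open Cfsg Subgroup

universe u v w

variable {G : Type u} [Group G] [Fintype G] {t : G} {p : ℕ} {Q : ℤ}

/-- An element permuting `t, w, t w` cyclically, of `3`-power order. -/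
theorem exists_cycle [IsSimpleGroup G] (F : Frame (Cen t) (tc t) p Q) :
    ∃ g : G, g * t * g⁻¹ = (F.w : G) ∧ g * (F.w : G) * g⁻¹ = t * (F.w : G) ∧ ∃ i : ℕ, g ^ 3 ^ i = 1 := by
  have htw : orderOf (t * (F.w : G)) = 2 := by
    rw [← show (F.s : G) * F.w * (F.s : G)⁻¹ = t * (F.w : G) from congrArg Subtype.val F.sws, orderOf_conj_eq, F.wG]
  have hne : (F.w : G) ≠ t * (F.w : G) := fun h => ne_one_of_orderOf_two F.tG (mul_eq_right.1 h.symm)
  have hcw : Commute (F.w : G) (t * (F.w : G)) := F.wt.mul_right (Commute.refl _)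
  obtain ⟨h, ht, hw⟩ := F.pairs F.wG htw hcw hne
  have htw' : h * (t * (F.w : G)) * h⁻¹ = t := by
    rw [← conj_mul, ht, hw, ← mul_assoc, F.wt.eq, mul_assoc, sq_of_two F.wG, mul_one]
  have h3t : Commute (h ^ 3) t := mul_inv_eq_iff_eq_mul.1 (by
    rw [show h ^ 3 * t * (h ^ 3)⁻¹ = h * (h * (h * t * h⁻¹) * h⁻¹) * h⁻¹ by rw [pow_succ, pow_two]; group, ht, hw,
      htw'])
  have h3w : Commute (h ^ 3) (F.w : G) := mul_inv_eq_iff_eq_mul.1 (by
    rw [show h ^ 3 * (F.w : G) * (h ^ 3)⁻¹ = h * (h * (h * (F.w : G) * h⁻¹) * h⁻¹) * h⁻¹ by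
      rw [pow_succ, pow_two]; group, hw, htw', ht])
  set n := orderOf h
  have hn : n ≠ 0 := (orderOf_pos h).ne'
  obtain ⟨M, i, hM, hd⟩ : ∃ M i : ℕ, M % 3 = 1 ∧ n ∣ M * 3 ^ i := by
    have hu : ¬ 3 ∣ ordCompl[3] n := Nat.not_dvd_ordCompl Nat.prime_three hn
    have hself := Nat.ordProj_mul_ordCompl_eq_self n 3
    rcases (show ordCompl[3] n % 3 = 1 ∨ ordCompl[3] n % 3 = 2 by omega) with h1 | h1
    · exact ⟨ordCompl[3] n, n.factorization 3, h1, dvd_of_eq (by rw [mul_comm, hself])⟩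
    · refine ⟨2 * ordCompl[3] n, n.factorization 3, by omega, ?_⟩
      rw [mul_assoc]
      exact dvd_mul_of_dvd_right (dvd_of_eq (by rw [mul_comm, hself])) 2
  refine ⟨h ^ M, ?_, ?_, i, by rw [← pow_mul]; exact orderOf_dvd_iff_pow_eq_one.1 hd⟩
  all_goals rw [show h ^ M = h * (h ^ 3) ^ (M / 3) by rw [← pow_mul, ← pow_succ']; congr 1; omega]
  · rw [show h * (h ^ 3) ^ (M / 3) * t * (h * (h ^ 3) ^ (M / 3))⁻¹ =
      h * ((h ^ 3) ^ (M / 3) * t * ((h ^ 3) ^ (M / 3))⁻¹) * h⁻¹ by group, (h3t.pow_left _).eq, mul_inv_cancel_right, ht]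
  · rw [show h * (h ^ 3) ^ (M / 3) * (F.w : G) * (h * (h ^ 3) ^ (M / 3))⁻¹ =
      h * ((h ^ 3) ^ (M / 3) * (F.w : G) * ((h ^ 3) ^ (M / 3))⁻¹) * h⁻¹ by group, (h3w.pow_left _).eq,
      mul_inv_cancel_right, hw]

namespace TSetup

variable {F : Frame (Cen t) (tc t) p Q} {S : Type v} [CommGroup S] (D : TSetup F S)

/-- A central element with nontrivial square, unless `m ∣ 2 k`. -/
theorem exists_z (h : ¬ (Q - 1).natAbs ∣ 2 * D.kk) : ∃ z : G, CentAt t z ∧ z * z ≠ 1 := by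
  obtain ⟨σ, hσ⟩ := D.exists_gen
  refine ⟨D.φ (σ, σ), D.centAt_φ σ, fun e => h ?_⟩
  rw [← map_mul, Prod.mk_mul_mk, D.φ_diag_iff, ← pow_two, ← pow_mul, ← orderOf_dvd_iff_pow_eq_one, hσ] at e
  exact e

/-- For `Q ≡ 1 mod 4` there is always such an element. -/
theorem exists_z_wr (D : TSetup F S) (h : Q % 4 = 1) : ∃ z : G, CentAt t z ∧ z * z ≠ 1 := by
  refine D.exists_z fun hd => ?_
  obtain ⟨c, hc⟩ := D.kk_odd
  have h4 : 4 ∣ 2 * D.kk := (show 4 ∣ (Q - 1).natAbs by omega).trans hd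
  omega

/-- The order of `C(t)` times that of the kernel. -/
theorem card_cen : (Nat.card (Cen t) : ℤ) * (D.kk : ℤ) = Q * (Q ^ 2 - 1) * (Q - 1) := D.T.cardC

/-- The centre has order `m / k`: an element of odd prime order there forces `2 r k ∣ m`. -/
theorem center_prime {y : Cen t} (hy : y ∈ center (Cen t)) {r : ℕ} (hr : orderOf y = r) :
    r * D.kk ∣ (Q - 1).natAbs := by
  haveI := D.T.cyc
  haveI := D.finS
  obtain ⟨a, ha⟩ := (D.T.central_iff y).1 hy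
  have hy' : orderOf y = orderOf (a ^ D.kk) := by
    refine Nat.dvd_antisymm (orderOf_dvd_of_pow_eq_one ?_) (orderOf_dvd_of_pow_eq_one ?_)
    · rw [← ha, ← map_pow, Prod.pow_mk, D.tau_diag_iff, ← pow_mul, mul_comm, pow_mul, pow_orderOf_eq_one]
    · rw [← pow_mul, mul_comm, pow_mul, ← D.tau_diag_iff, ← Prod.pow_mk, map_pow, ha,
        pow_orderOf_eq_one]
  have hdvd : orderOf (a ^ D.kk) ∣ (Q - 1).natAbs / D.kk := by
    refine orderOf_dvd_of_pow_eq_one ?_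
    rw [← pow_mul, Nat.mul_div_cancel' D.kk_dvd, ← D.T.cardS, pow_card_eq_one']
  rw [← hr, hy']
  obtain ⟨c, hc⟩ := D.kk_dvd
  have hk : 0 < D.kk := D.kk_odd.pos
  rw [hc, Nat.mul_div_cancel_left _ hk] at hdvd
  rw [hc, mul_comm]
  exact mul_dvd_mul_left _ hdvd

end TSetup

section Tables

variable {H : Type w} [Group H] [Fintype H] {K : Type v} [CommGroup K] (T : Tbl H K Q) (π : H →* Cen t)

include T

/-- The torus and the cycling element. -/
theorem exists_tsetup [IsSimpleGroup G] (F : Frame (Cen t) (tc t) p Q)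
    (hH : (Nat.card H : ℤ) = Q * (Q ^ 2 - 1) * (Q - 1)) (hπ : Function.Surjective π) (hc : π.ker ≤ center H)
    (ho : Odd (Nat.card π.ker)) :
    ∃ D : TSetup F (scal K Q), D.kk = Nat.card π.ker ∧
      ∀ z, ∃ c, c * π (T.D z) * c⁻¹ = D.T.τ z := by
  obtain ⟨τ, hτ⟩ := T.exists_torus π hH hπ hc ho F.t2 F.t_central F.w2 F.w_ne F.sws
  obtain ⟨g, gt, gw, g3⟩ := exists_cycle F
  refine ⟨⟨τ, g, gt, gw, g3⟩, ?_, hτ⟩
  have h1 : Nat.card (Cen t) * Nat.card π.ker = Nat.card H := by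
    rw [← Subgroup.card_top (G := Cen t), ← MonoidHom.range_eq_top.2 hπ, ← Subgroup.index_ker,
      Subgroup.index_mul_card]
  have h2 : (Nat.card (Cen t) : ℤ) * (Nat.card π.ker : ℤ) = Nat.card (Cen t) * (Nat.card τ.τ.ker : ℤ) := by
    rw [τ.cardC, ← hH]; exact_mod_cast h1
  have h3 := mul_left_cancel₀ (Int.natCast_ne_zero.2 Nat.card_pos.ne') h2
  exact (Int.ofNat.inj h3).symm

variable (hπ : Function.Surjective π) (hc : π.ker ≤ center H) (ho : Odd (Nat.card π.ker))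

include hπ hc ho

theorem exists_kit_sd (h4 : Q % 4 = 3) (ht : orderOf t = 2) {F : Frame (Cen t) (tc t) p Q}
    {D : TSetup F (scal K Q)} (hτ : ∀ z, ∃ c, c * π (T.D z) * c⁻¹ = D.T.τ z) : Nonempty (Kit t Q D.T.τ) := by
  obtain ⟨Fn, hvan⟩ := T.sdFuns_vanish π h4 hπ hc ho (tc t) (by rw [← Subgroup.orderOf_coe]; exact ht) (tc_central t)
  refine ⟨{
    k := 5, X := rootSet (tc t), hX := rootSet_ti ht, gram := gramSd, tr := fun _ => 1, val := valSd Q,
    pr := pairSd Q, funs := Fn, iA := 0, i0 := 1, iT := ![2, 3, 4],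
    five := ⟨rfl, rfl, fun _ => rfl, rfl, rfl, by decide, rfl, by decide, by decide, by decide⟩,
    hv0 := rfl, hv1 := rfl, hp0 := rfl, hp1 := rfl, van := fun j z hz c => ?_ }⟩
  obtain ⟨c', hc'⟩ := hτ z
  rw [Char.IsGenChar.classFun (Fn.gen _) (D.T.τ z) c, ← hc', Char.IsGenChar.classFun (Fn.gen _) (π (T.D z)) c']
  exact hvan j z.1 z.2 hz

theorem exists_kit_wr [IsSimpleGroup G] (h4 : Q % 4 = 1) (ht : orderOf t = 2) {l : ℕ} (hl : l.Prime) (hl2 : l ≠ 2)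
    (hlQ : (l : ℤ) ∣ Q + 1) {F : Frame (Cen t) (tc t) p Q}
    {D : TSetup F (scal K Q)} (hτ : ∀ z, ∃ c, c * π (T.D z) * c⁻¹ = D.T.τ z) : Nonempty (Kit t Q D.T.τ) := by
  obtain ⟨Fn, hvan⟩ := T.wrFuns_vanish π h4 hl hl2 hlQ hπ hc ho (tc t) (by rw [← Subgroup.orderOf_coe]; exact ht)
    (tc_central t)
  refine ⟨{
    k := 8, X := rootSetWr (tc t) l, hX := rootSetWr_ti ht hl hl2 (F.hY (D.exists_z_wr h4) hl hl2 hlQ),
    gram := gramWr, tr := ![1, 1, 1, 1, 1, 1, 1, 0], val := valWr Q,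
    pr := pairWr Q, funs := Fn.toFuns, iA := 0, i0 := 1, iT := ![2, 3, 4],
    five := ⟨rfl, rfl, by decide, rfl, rfl, by decide, rfl, by decide, by decide, by decide⟩,
    hv0 := rfl, hv1 := rfl, hp0 := rfl, hp1 := rfl, van := fun j z hz c => ?_ }⟩
  obtain ⟨c', hc'⟩ := hτ z
  rw [Char.IsGenChar.classFun (Fn.gen _) (D.T.τ z) c, ← hc', Char.IsGenChar.classFun (Fn.gen _) (π (T.D z)) c']
  exact hvan j z.1 z.2 hz

end Tables

end Cfsg.Agent.Invol.BrauerL3
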