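import Cfsg.Agent.Lib.Invol.BrauerL3.AlgWr
import Mathlib.Tactic.LinearCombination

/-!
# `Q = -3`: the value of the common character is three

`W = (a-A)² + 16a(A-3)` satisfies `g₀ W = 48 a(a+1)` and `g₀ (a-A)² = 96 a k`, with `g₀` the odd index, `k` the
difference of the degrees of the two conjugates, and `1 ≤ A ≤ 6`.
-/

set_option autoImplicit false

namespace Cfsg.Agent.Invol.BrauerL3.SmallThree

/-- The test for one pair. -/
def good (A a : ℤ) : Bool :=
  let W := (a - A) * (a - A) + 16 * a * (A - 3)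
  let n := 48 * a * (a + 1)
  let g := n / W
  let m := g * ((a - A) * (a - A))
  let k := m / (96 * a)
  a == 0 || a == 1 || a == -1 || W == 0 || n % W != 0 || decide (g ≤ 0) || g % 2 == 0 || m % (96 * a) != 0 ||
    (k + a + 1) % 2 != 0 || k == 0 || k == 1 || k == -1

theorem good_all : (([1, 2, 4, 5, 6] : List ℤ).all fun A =>
    (List.range 3601).all fun i => good A ((i : ℤ) - 1800)) = true := by
  decide +kernel

theorem not_good {A a g k : ℤ} (hA : 1 ≤ A ∧ A ≤ 6) (ha : a ≠ 0 ∧ a ≠ 1 ∧ a ≠ -1)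
    (hg : 0 < g) (hodd : g % 2 = 1) (h1 : g * ((a - A) * (a - A) + 16 * a * (A - 3)) = 48 * a * (a + 1))
    (h2 : g * ((a - A) * (a - A)) = 96 * a * k) (hpar : (k + a + 1) % 2 = 0) (hk : k ≠ 0 ∧ k ≠ 1 ∧ k ≠ -1) :
    A = 3 := by
  by_contra h3
  set W := (a - A) * (a - A) + 16 * a * (A - 3) with hW
  have hW0 : W ≠ 0 := fun e => by
    rw [e, mul_zero] at h1
    rcases mul_eq_zero.1 h1.symm with h | h
    · exact ha.1 (by omega)
    · exact ha.2.2 (by omega)
  -- the range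
  have hb : -1800 ≤ a ∧ a ≤ 1800 := by
    by_contra hlarge
    obtain ⟨N, hN, hN'⟩ : ∃ N : ℤ, N = |a| ∧ 1801 ≤ N := ⟨|a|, rfl, by
      rcases le_or_gt 0 a with h | h
      · rw [abs_of_nonneg h]; omega
      · rw [abs_of_neg h]; omega⟩
    have hm : 1 ≤ |g - 48| := Int.one_le_abs (by omega)
    have hNa : a * a = N * N := by rw [hN, abs_mul_abs_self]
    have e : |g - 48| * |W| = 48 * |a * (49 - 14 * A) - A * A| := by
      rw [← abs_mul, show (g - 48) * W = 48 * (a * (49 - 14 * A) - A * A) by rw [sub_mul, h1, hW]; ring, abs_mul]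
      norm_num
    have hup : |a * (49 - 14 * A) - A * A| ≤ 35 * N + 36 := by
      refine (abs_sub _ _).trans (add_le_add ?_ ?_)
      · rw [abs_mul, ← hN, mul_comm 35 N]
        exact mul_le_mul_of_nonneg_left (abs_le.2 ⟨by omega, by omega⟩) (by omega)
      · rw [abs_mul, abs_of_nonneg (show (0 : ℤ) ≤ A by omega)]
        exact (mul_le_mul hA.2 hA.2 (by omega) (by norm_num)).trans (by norm_num)
    have hlo : N * N - 36 * N ≤ W := by
      have h5 : -(36 * N) ≤ a * (14 * A - 48) := by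
        refine (neg_le_neg ?_).trans (neg_abs_le _)
        rw [abs_mul, ← hN, mul_comm 36 N]
        exact mul_le_mul_of_nonneg_left (abs_le.2 ⟨by omega, by omega⟩) (by omega)
      have h6 : W = N * N + a * (14 * A - 48) + A * A := by rw [hW, ← hNa]; ring
      nlinarith [mul_self_nonneg A]
    have hWpos : W ≤ |g - 48| * |W| := (le_abs_self W).trans (le_mul_of_one_le_left (abs_nonneg W) hm)
    nlinarith
  have hall := good_all
  rw [List.all_eq_true] at hall
  have hmem : A ∈ ([1, 2, 4, 5, 6] : List ℤ) := by simp; omega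
  have h := hall A hmem
  rw [List.all_eq_true] at h
  have hga := h (a + 1800).toNat (List.mem_range.2 (by omega))
  rw [show ((a + 1800).toNat : ℤ) - 1800 = a by omega] at hga
  have e1 : 48 * a * (a + 1) / W = g := by rw [← h1, Int.mul_ediv_cancel _ hW0]
  have e2 : g * ((a - A) * (a - A)) / (96 * a) = k := by
    rw [h2, mul_comm (96 * a) k, Int.mul_ediv_cancel _ (by omega)]
  have e3 : 48 * a * (a + 1) % W = 0 := Int.emod_eq_zero_of_dvd ⟨g, by rw [← h1]; ring⟩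
  have e4 : g * ((a - A) * (a - A)) % (96 * a) = 0 := Int.emod_eq_zero_of_dvd ⟨k, h2⟩
  simp only [good, ← hW, e1, e2, e3, e4, Bool.or_eq_true, beq_iff_eq, bne_iff_ne, decide_eq_true_eq] at hga
  omega

/-- The degree `a`, value `A`, and the data of the other two vectors give `A = 3`. -/
theorem value_eq_three {a A x y X Y : ℤ} {R : ℚ} {g : ℕ} (hg : Odd g) (hR : R * (g : ℚ) = 36)
    (hA : 1 ≤ A ∧ A ≤ 6) (ha : a ≠ 0 ∧ a ≠ 1 ∧ a ≠ -1) (hx : x ≠ 0) (hy : y ≠ 0)
    (hk : x - y ≠ 0 ∧ x - y ≠ 1 ∧ x - y ≠ -1) (sd : a + x + y = -1) (sv : A + X + Y = -1)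
    (qT : 1 + (A : ℚ) ^ 2 / a + (7 - (A : ℚ)) ^ 2 / (-1 - (a : ℚ)) = R * (4 / 3))
    (qM : 1 + (A : ℚ) ^ 2 / a + (X : ℚ) ^ 2 / x + (Y : ℚ) ^ 2 / y = 0)
    (qW : -((X : ℚ) ^ 2 / x) + (Y : ℚ) ^ 2 / y + ((X : ℚ) - Y) ^ 2 / ((x : ℚ) - y) = R * (8 / 3)) : A = 3 := by
  have ha0 : (a : ℚ) ≠ 0 := by exact_mod_cast ha.1
  have ha1 : (a : ℚ) ≠ -1 := by exact_mod_cast ha.2.2
  have ha' : -1 - (a : ℚ) ≠ 0 := sub_ne_zero.2 ha1.symm
  have hx0 : (x : ℚ) ≠ 0 := by exact_mod_cast hx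
  have hy0 : (y : ℚ) ≠ 0 := by exact_mod_cast hy
  have hk0 : (x : ℚ) - y ≠ 0 := by
    have h : ((x - y : ℤ) : ℚ) ≠ 0 := by exact_mod_cast hk.1
    push_cast at h
    exact h
  have hsd : (a : ℚ) + x + y = -1 := by exact_mod_cast sd
  have hsv : (A : ℚ) + X + Y = -1 := by exact_mod_cast sv
  have hM := three_terms ha0 ha1 hx0 hy0 hsd hsv qM
  have hT : ((a : ℚ) - A) * (a - A) + 16 * a * (A - 3) = R * (4 / 3) * (a * (a + 1)) := by
    rw [← qT]; field_simp; ring
  have hW : ((X : ℚ) * y - x * Y) ^ 2 = R * (8 / 3) * (x * y * (x - y)) := by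
    rw [← qW]; field_simp; ring
  have hU : ((a : ℚ) - A) * (a - A) = R * (8 / 3) * a * (x - y) := by
    refine mul_left_cancel₀ (mul_ne_zero hx0 hy0) ?_
    linear_combination -hM + (a : ℚ) * hW
  refine not_good (a := a) (g := (g : ℤ)) (k := x - y) hA ha (by exact_mod_cast hg.pos)
    (by obtain ⟨j, rfl⟩ := hg; push_cast; omega) ?_ ?_ (by omega) hk
  · have h : ((g : ℚ)) * (((a : ℚ) - A) * (a - A) + 16 * a * (A - 3)) = 48 * a * (a + 1) := by
      linear_combination (g : ℚ) * hT + (4 / 3 : ℚ) * a * (a + 1) * hR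
    exact_mod_cast h
  · have h : ((g : ℚ)) * (((a : ℚ) - A) * (a - A)) = 96 * a * ((x : ℚ) - y) := by
      linear_combination (g : ℚ) * hU + (8 / 3 : ℚ) * a * ((x : ℚ) - y) * hR
    exact_mod_cast h

end Cfsg.Agent.Invol.BrauerL3.SmallThree
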