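import Cfsg.Agent.Lib.Invol.BrauerL3.SmallThreeShape
import Cfsg.Agent.Lib.Invol.BrauerL3.TableFuns

/-!
# `Q = -3`: the seven functions on the root set
-/

set_option autoImplicit false
set_option linter.style.haveILetI false

set_option maxHeartbeats 1000000

open scoped ComplexConjugate Classical

namespace Cfsg.Agent.Invol.BrauerL3

open Cfsg Finset
open Cfsg.Agent.Block.SL2Char (cv)

universe u v w

namespace SmallThree

/-- The atoms that are used. -/
def skip : Fin 12 → Fin 13 := ![0, 1, 2, 3, 4, 6, 7, 8, 9, 10, 11, 12]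

/-- The coefficients. -/
def M12 : Fin 7 → Fin 12 → ℤ := fun i j => matWr (idx i) (skip j)

/-- Degrees. -/
def d12 : Fin 12 → ℤ := fun j => degWr (-3) (skip j)

/-- Values at the central involution. -/
def t12 : Fin 12 → ℤ := fun j => tWr (-3) (skip j)

/-- Values at the other involutions. -/
def u12 (s : ℤ) : Fin 12 → ℤ := fun j => uWr s (skip j)

theorem gram12 : ∀ i l, ∑ j, M12 i j * M12 l j = gramT i l := by decide

theorem tr12 : ∀ i, M12 i 0 = trT i := by decide

theorem val12 : ∀ i, ∑ j, M12 i j * t12 j = valT i := by decide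

theorem pr12 (s : ℤ) (hs : s = 1 ∨ s = -1) (i : Fin 7) :
    ∑ j, (M12 i j : ℚ) * (((t12 j : ℚ) + ((-3 : ℤ) * (-3 + 1) : ℤ) * u12 s j) ^ 2 / d12 j) =
      pairT i * (((-3 : ℤ) * (-3 + 1) : ℤ) : ℚ) ^ 2 := by
  rcases hs with rfl | rfl <;> fin_cases i <;>
    simp [Fin.sum_univ_succ, M12, t12, u12, d12, skip, idx, matWr, tWr, uWr, degWr, pairT] <;> norm_num

end SmallThree

open SmallThree

namespace Tbl

variable {H : Type u} [Group H] [Fintype H] {K : Type v} [CommGroup K] (T : Tbl H K (-3))
  {C : Type w} [Group C] [Fintype C] (π : H →* C)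

include T in
/-- The seven functions. -/
theorem threeFuns (hπ : Function.Surjective π) (hc : π.ker ≤ Subgroup.center H) (ho : Odd (Nat.card π.ker)) (t : C)
    (ht : orderOf t = 2) (htc : t ∈ Subgroup.center C) :
    ∃ F : Funs C (rootSet t) t ((((-3 : ℤ) * (-3 + 1) : ℤ) : ℚ) ^ 2 / Nat.card C) gramT trT valT pairT,
      ∀ x, conj (F.f 4 x) = F.f 5 x := by
  haveI := T.cyc
  haveI := T.finiteK
  obtain ⟨e, hne, hee, heu, heo⟩ := T.exists_e
  obtain rfl := T.central_invol π hπ hc ho hne heu ht htc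
  obtain ⟨lam, mu, hmu2, hl2, hmuo, hle, g, hg⟩ := exists_mu (Q := -3) (by norm_num) T.ne_one T.card
  haveI := Fintype.ofFinite (scal K (-3 : ℤ))
  obtain ⟨θ, hto, hte, htr, htr', htn, htn'⟩ := exists_theta_two T.odd T.ne_one T.ne_neg_one T.card
  have hlo : ∀ a : scal K (-3 : ℤ), Odd (orderOf a) → lam a = 1 := fun a ha => by rw [← hmu2, hmuo a ha, mul_one]
  have hle' : lam e = 1 := hle e hne hee
  have hgz : (mu g : ℂ) * mu g = -1 := by rw [← Units.val_mul, hmu2, hg]; simp
  have hg1 : g ≠ 1 := fun h => by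
    have := congrArg Units.val (hg.symm.trans ((congrArg lam h).trans (map_one lam)))
    simp only [Units.val_neg, Units.val_one] at this
    norm_num at this
  have h1l : (1 : scal K (-3 : ℤ) →* ℂˣ) ≠ lam := fun h => by
    have := congrArg Units.val (DFunLike.congr_fun h g)
    rw [hg] at this
    simp only [MonoidHom.one_apply, Units.val_one, Units.val_neg] at this
    norm_num at this
  have hml : mu ≠ mu * lam := fun h => h1l (mul_left_cancel ((mul_one mu).trans h))
  have hneK : (e : K) ≠ 1 := fun h => hne (Subtype.ext h)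
  have heeK : (e : K) * e = 1 := congrArg Subtype.val hee
  let vH : Fin 12 → H → ℂ := ![fun _ => 1, T.St, fun x => (lam.comp T.dt x : ℂ),
    fun x => (lam.comp T.dt x : ℂ) * T.St x, T.PS 1 lam, T.DS θ, T.DS θ⁻¹,
    fun x => (mu.comp T.dt x : ℂ), fun x => (mu.comp T.dt x : ℂ) * T.St x,
    fun x => ((mu * lam).comp T.dt x : ℂ), fun x => ((mu * lam).comp T.dt x : ℂ) * T.St x,
    T.PS mu (mu * lam)]
  have hirrH : ∀ j, SgnIrr H (vH j) := fun j => by
    fin_cases j
    · exact Or.inl Cfsg.Agent.Char.isIrr_one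
    · exact T.St_irr
    · exact SgnIrr.linear _
    · exact T.St_irr.mul_linear _
    · exact T.PS_irr _ _ h1l
    · exact T.DS_irr _ htr
    · exact T.DS_irr _ htr'
    · exact SgnIrr.linear _
    · exact T.St_irr.mul_linear _
    · exact SgnIrr.linear _
    · exact T.St_irr.mul_linear _
    · exact T.PS_irr _ _ hml
  have hoddv : ∀ (a : scal K (-3 : ℤ)), Odd (orderOf a) → ∀ j, vH j (T.D (a, a)) = vH j 1 := fun a ha j => by
    have hK : Odd (orderOf (a : K)) := by rwa [Subgroup.orderOf_coe]
    fin_cases j <;>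
      simp [vH, cv, T.St_sc, T.St_one, T.PS_sc _ _ a h1l, T.PS_one h1l,
        T.DS_sc _ a htr, T.DS_one htr, T.DS_sc _ a htr', T.DS_one htr', T.PS_sc _ _ a hml, T.PS_one hml,
        T.dt_D, hlo a ha, hmuo a ha, hto _ hK]
  choose ψ hψ hψπ using fun j => T.descend π hπ hc ho (hirrH j) (fun a ha => hoddv a ha j)
  have hd : ∀ j, ψ j 1 = d12 j := fun j => by
    rw [← map_one π, hψπ]
    fin_cases j <;>
      simp [vH, d12, skip, degWr, T.St_one, T.PS_one h1l, T.PS_one hml, T.DS_one htr, T.DS_one htr'] <;> norm_num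
  obtain ⟨s, hs, hse⟩ : ∃ s : ℤ, (s = 1 ∨ s = -1) ∧ (mu e : ℂ) = s := by
    rcases units_sq_eq_one (by rw [hmu2, hle'] : mu e * mu e = 1) with h | h
    · exact ⟨1, Or.inl rfl, by simp [h]⟩
    · exact ⟨-1, Or.inr rfl, by simp [h]⟩
  have hmee : mu e * mu e = 1 := by rw [hmu2, hle']
  have hmeeC : (mu e : ℂ) * mu e = 1 := by rw [← Units.val_mul, hmee, Units.val_one]
  have hconj : ∀ a, conj (mu a : ℂ) = (mu a : ℂ) * lam a := fun a => by
    have h : (mu a : ℂ) * ((mu a : ℂ) * lam a) = 1 := by
      rw [← mul_assoc, ← Units.val_mul, hmu2, ← Units.val_mul, hl2, Units.val_one]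
    refine mul_left_cancel₀ (Units.ne_zero (mu a)) ?_
    rw [h]
    exact Cfsg.Agent.Block.SL2Char.mul_conj_cv mu a
  suffices h : ∃ F : Funs C (rootSet (π (T.D (e, e)))) (π (T.D (e, e)))
      ((((-3 : ℤ) * (-3 + 1) : ℤ) : ℚ) ^ 2 / Nat.card C) gramT trT valT pairT,
      ∀ i x, F.f i x = ∑ j, (M12 i j : ℂ) * ψ j x by
    obtain ⟨F, hF⟩ := h
    refine ⟨F, fun x => ?_⟩
    obtain ⟨y, rfl⟩ := hπ x
    simp only [hF, hψπ, map_sum, map_mul, map_intCast]
    simp [Fin.sum_univ_succ, M12, skip, idx, matWr, vH, T.conj_St y, hconj (T.dt y)]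
  refine funs_of_atoms ψ d12 t12 (u12 s) M12 _ _ (π (T.D (1, e))) ((-3 : ℤ) * (-3 + 1)) _ rfl gramT trT valT pairT
    hψ ?_ ?_ hd ?_ ?_ (fun φ hφ => T.sum_invols π hπ hc ho hne hee heu hφ) gram12 tr12 val12 (pr12 s hs) ?_
  · have hv : ∀ {i j}, ψ i = ψ j → ∀ x, vH i x = vH j x := fun {i j} h x => by rw [← hψπ, ← hψπ, h]
    have hb := T.big
    refine orth_of_ne ψ d12 hψ hd (fun i j h => ?_) fun i j h he hij => ?_
    · fin_cases i <;> fin_cases j <;> simp [d12, skip, degWr] at h ⊢
    have hq : (1 : ℂ) - (-3 : ℤ) ≠ 0 := sub_ne_zero.2 (by exact_mod_cast T.ne_one.symm)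
    have hq' : ((-3 : ℤ) : ℂ) + 1 ≠ 0 := by
      rw [← sub_neg_eq_add, sub_ne_zero]; exact_mod_cast T.ne_neg_one
    have e2 : ∀ {i j}, ψ i = ψ j → vH i (T.D (g, 1)) = vH j (T.D (g, 1)) := fun h => hv h _
    have two : (2 : ℂ) ≠ 0 := two_ne_zero
    have n02 : ¬ ψ 0 = ψ 2 := fun h => by
      have := e2 h
      simp [vH, T.dt_D, hg] at this
      exact two (by linear_combination this)
    have n08 : ¬ ψ 0 = ψ 7 := fun h => by
      have := e2 h
      simp [vH, T.dt_D] at this
      exact two (by linear_combination hgz + (1 + (mu g : ℂ)) * this)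
    have n010 : ¬ ψ 0 = ψ 9 := fun h => by
      have := e2 h
      simp [vH, T.dt_D, hg] at this
      exact two (by linear_combination hgz + (1 - (mu g : ℂ)) * this)
    have n28 : ¬ ψ 2 = ψ 7 := fun h => by
      have := e2 h
      simp [vH, T.dt_D, hg] at this
      exact two (by linear_combination hgz - (1 - (mu g : ℂ)) * this)
    have n210 : ¬ ψ 2 = ψ 9 := fun h => by
      have := e2 h
      simp [vH, T.dt_D, hg] at this
      exact two (by linear_combination hgz + (1 + (mu g : ℂ)) * this)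
    have n810 : ¬ ψ 7 = ψ 9 := fun h => by
      have := e2 h
      simp [vH, T.dt_D, hg] at this
      exact two (by linear_combination -(mu g : ℂ) * this + 2 * hgz)
    have hS1 := T.St_D g 1 hg1
    have n13 : ¬ ψ 1 = ψ 3 := fun h => n02 (funext fun x => by
      exfalso
      have := e2 h
      simp [vH, T.dt_D, hg, hS1] at this
      exact two (by linear_combination this))
    have n19 : ¬ ψ 1 = ψ 8 := fun h => by
      have := e2 h
      simp [vH, T.dt_D, hS1] at this
      exact two (by linear_combination hgz + (1 + (mu g : ℂ)) * this)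
    have n111 : ¬ ψ 1 = ψ 10 := fun h => by
      have := e2 h
      simp [vH, T.dt_D, hg, hS1] at this
      exact two (by linear_combination hgz + (1 - (mu g : ℂ)) * this)
    have n39 : ¬ ψ 3 = ψ 8 := fun h => by
      have := e2 h
      simp [vH, T.dt_D, hg, hS1] at this
      exact two (by linear_combination hgz - (1 - (mu g : ℂ)) * this)
    have n311 : ¬ ψ 3 = ψ 10 := fun h => by
      have := e2 h
      simp [vH, T.dt_D, hg, hS1] at this
      exact two (by linear_combination hgz + (1 + (mu g : ℂ)) * this)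
    have n911 : ¬ ψ 8 = ψ 10 := fun h => by
      have := e2 h
      simp [vH, T.dt_D, hg, hS1] at this
      exact two (by linear_combination -(mu g : ℂ) * this + 2 * hgz)
    have n412 : ¬ ψ 4 = ψ 11 := fun h => by
      have := hv h (T.D (g, g))
      simp [vH, cv, T.PS_sc _ _ g h1l, T.PS_sc _ _ g hml, hg] at this
      exact mul_ne_zero hq' two (by linear_combination -this + (((-3 : ℤ) : ℂ) + 1) * hgz)
    have n67 : ¬ ψ 5 = ψ 6 := fun h => by
      rcases T.DS_inj htr htr' (funext fun x => by simpa [vH] using hv h x) with h' | h'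
      · obtain ⟨l, hl⟩ := htn; exact hl (h' l)
      · obtain ⟨l, hl⟩ := htn'; exact hl (h' l)
    fin_cases i <;> fin_cases j <;> simp [d12, skip, degWr] at h he <;>
      first
        | omega
        | exact n02 hij
        | exact n08 hij
        | exact n010 hij
        | exact n28 hij
        | exact n210 hij
        | exact n810 hij
        | exact n13 hij
        | exact n19 hij
        | exact n111 hij
        | exact n39 hij
        | exact n311 hij
        | exact n911 hij
        | exact n412 hij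
        | exact n67 hij
  · funext x
    obtain ⟨y, rfl⟩ := hπ x
    rw [hψπ]
    rfl
  · intro j
    rw [hψπ]
    fin_cases j <;>
      simp [vH, cv, t12, skip, tWr, T.St_sc, T.dt_D, hee, T.PS_sc _ _ e h1l, T.PS_sc _ _ e hml, hle', T.DS_sc _ e htr, T.DS_sc _ e htr', hte _ hneK heeK, hmeeC] <;> norm_num
  · intro j
    rw [hψπ]
    fin_cases j <;>
      simp [vH, cv, u12, skip, uWr, T.dt_D, hle', hse, T.St_D 1 e (Ne.symm hne), T.PS_D _ _ 1 e h1l (Ne.symm hne),
        T.PS_D _ _ 1 e hml (Ne.symm hne), T.DS_D _ 1 e htr (Ne.symm hne),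
        T.DS_D _ 1 e htr' (Ne.symm hne)] <;> ring
  · intro i x hx
    refine T.supp_of_reps π hπ (F := fun x => ∑ j, (M12 i j : ℂ) * ψ j x) ?_
      (fun x hx c => mem_rootSet_conj htc hx c) ?_ ?_ ?_ x hx
    · exact fun y c => sum_congr rfl fun j _ => by rw [(hψ j).classFun]
    · intro a hF
      by_cases ha : Odd (orderOf a)
      · refine absurd ?_ hF
        have hK : Odd (orderOf (a : K)) := by rwa [Subgroup.orderOf_coe]
        simp only [hψπ]
        fin_cases i <;>
          simp [Fin.sum_univ_succ, M12, skip, idx, matWr, vH, cv, T.St_U, T.dt_U, hlo a ha, hmuo a ha, T.PS_U _ _ a h1l,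
            T.PS_U _ _ a hml, T.DS_U _ a htr, T.DS_U _ a htr', hto _ hK]
      · obtain ⟨k, hk⟩ := T.exists_pow_U heo hee ha
        exact mem_rootSet_of_pow π hk
    · rintro ⟨a, b⟩ hF
      by_cases hab : a = b
      · subst hab
        by_cases ha : Odd (orderOf a)
        · refine absurd ?_ hF
          simp only [hψπ, fun j => hoddv a ha j]
          fin_cases i <;>
            simp [Fin.sum_univ_succ, M12, skip, idx, matWr, vH, T.St_one, T.PS_one h1l, T.PS_one hml, T.DS_one htr,
              T.DS_one htr'] <;> ring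
        · obtain ⟨k, hk⟩ := T.exists_pow_sc heo ha
          exact mem_rootSet_of_pow π hk
      by_cases hl : lam a ≠ 1 ∧ lam b ≠ 1
      · obtain ⟨k, hk⟩ := T.exists_pow_D heu hl2 hl.1 hl.2
        exact mem_rootSet_of_pow π hk
      · refine absurd ?_ hF
        simp only [hψπ]
        rcases not_and_or.1 hl with hl | hl <;> rw [not_not] at hl <;> fin_cases i <;>
          simp [Fin.sum_univ_succ, M12, skip, idx, matWr, vH, cv, T.dt_D, hl, T.St_D a b hab, T.PS_D _ _ a b h1l hab,
            T.PS_D _ _ a b hml hab, T.DS_D _ a b htr hab, T.DS_D _ a b htr' hab] <;> ring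
    · intro l hl hF
      by_cases hlo' : Odd (orderOf l)
      · refine absurd ?_ hF
        simp only [hψπ]
        fin_cases i <;>
          simp [Fin.sum_univ_succ, M12, skip, idx, matWr, vH, cv, T.St_E l hl, hlo _ (T.dt_E_odd hlo'),
            hmuo _ (T.dt_E_odd hlo'), T.PS_E _ _ l h1l hl, T.PS_E _ _ l hml hl,
            T.DS_E _ l htr hl, T.DS_E _ l htr' hl, map_zpow, hto _ hlo'] <;> ring
      · obtain ⟨k, hk⟩ := T.exists_pow_E heo hlo'
        exact mem_rootSet_of_pow π hk

end Tbl

end Cfsg.Agent.Invol.BrauerL3
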