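import Cfsg.Agent.Lib.Invol.BrauerL3.SmallThreeArith

/-!
# `Q = -3`: the seven vectors

The root set carries seven of the eight functions.  Their images are `1+a+b+c`, `1+b+i`, `1+a+e`, `1+a+e'`,
`1+a+x+y`, its conjugate, and `-x+y'+j`; the bound on the column of the involution then gives `a` the value `3`,
which is what the missing function gives in the general case.
-/

set_option autoImplicit false

open scoped Classical

namespace Cfsg.Agent.Invol.BrauerL3.SmallThree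

universe u

/-- The indices of the seven functions among the eight. -/
def idx : Fin 7 → Fin 8 := ![0, 1, 3, 4, 5, 6, 7]

/-- The inner products. -/
def gramT : Fin 7 → Fin 7 → ℤ := fun i j => gramWr (idx i) (idx j)

/-- The multiplicities of the trivial character. -/
def trT : Fin 7 → ℤ := ![1, 1, 1, 1, 1, 1, 0]

/-- The values at the involution. -/
def valT : Fin 7 → ℤ := ![0, 0, 8, 8, 0, 0, 0]

/-- The averages over pairs of involutions. -/
def pairT : Fin 7 → ℚ := ![0, 8 / 3, 4 / 3, 4 / 3, 0, 0, 8 / 3]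

variable {ι : Type u} [Fintype ι]

/-- The vectors. -/
abbrev VecsT (ι : Type u) [Fintype ι] := Vecs ι gramT trT valT pairT

/-- The shape of the first four vectors. -/
structure Shape4 (V : VecsT ι) where
  /-- the common term of the first, third and fourth -/
  a : ι × ℤ
  /-- the common term of the first and second -/
  b : ι × ℤ
  /-- the rest of the first -/
  c : ι × ℤ
  /-- the rest of the second -/
  i : ι × ℤ
  /-- the rest of the third -/
  e : ι × ℤ
  /-- the rest of the fourth -/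
  f : ι × ℤ
  ha : IsSigned a
  hb : IsSigned b
  hc : IsSigned c
  hi : IsSigned i
  he : IsSigned e
  hf : IsSigned f
  ao : a.1 ≠ V.o
  bo : b.1 ≠ V.o
  co : c.1 ≠ V.o
  io : i.1 ≠ V.o
  eo : e.1 ≠ V.o
  fo : f.1 ≠ V.o
  ab : a.1 ≠ b.1
  ac : a.1 ≠ c.1
  bc : b.1 ≠ c.1
  ai : a.1 ≠ i.1
  bi : b.1 ≠ i.1
  ci : c.1 ≠ i.1
  ae : a.1 ≠ e.1
  be : b.1 ≠ e.1
  ce : c.1 ≠ e.1
  ie : i.1 ≠ e.1
  af : a.1 ≠ f.1
  bf : b.1 ≠ f.1
  cf : c.1 ≠ f.1
  if' : i.1 ≠ f.1
  ef : e.1 ≠ f.1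
  wA : V.w 0 = sv a + sv b + sv c
  w0 : V.w 1 = sv b + sv i
  wE : V.w 2 = sv a + sv e
  wF : V.w 3 = sv a + sv f

theorem inner_vals (V : VecsT ι) (i j : Fin 7) :
    ∑ χ, V.w i χ * V.w j χ = gramT i j - trT i * trT j := V.inner_w i j

theorem exists_shape (V : VecsT ι) : Nonempty (Shape4 V) := by
  set A := V.w 0 with hA
  have nA : ∑ χ, A χ * A χ = 3 := by rw [hA, V.inner_w]; rfl
  obtain ⟨b, i, hb, hi, hbi, e1, hAb, hAi⟩ := split_two (v := A) (O := V.w 1) nA.le
    (by rw [V.inner_w]; rfl) (by rw [hA, V.inner_w]; rfl)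
  obtain ⟨p, q, hp, hq, hpq, e2, hAp, hAq⟩ := split_two (v := A) (O := V.w 2) nA.le
    (by rw [V.inner_w]; rfl) (by rw [hA, V.inner_w]; rfl)
  obtain ⟨p', q', hp', hq', hpq', e3, hAp', hAq'⟩ := split_two (v := A) (O := V.w 3) nA.le
    (by rw [V.inner_w]; rfl) (by rw [hA, V.inner_w]; rfl)
  have hAo : A V.o = 0 := V.w_o 0
  have inA : ∀ {z : ι × ℤ}, IsSigned z → A z.1 = z.2 → z.1 ≠ V.o := fun hz h e =>
    hz.ne_zero (by rw [← h, e, hAo])
  have hbo := inA hb hAb
  have hio : i.1 ≠ V.o := V.ne_o (i := 1) (by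
    rw [e1, Pi.add_apply, sv_of_ne hbi.symm, sv_self, zero_add]; exact hi.ne_zero)
  have hqo : q.1 ≠ V.o := V.ne_o (i := 2) (by
    rw [e2, Pi.add_apply, sv_of_ne hpq.symm, sv_self, zero_add]; exact hq.ne_zero)
  have hqo' : q'.1 ≠ V.o := V.ne_o (i := 3) (by
    rw [e3, Pi.add_apply, sv_of_ne hpq'.symm, sv_self, zero_add]; exact hq'.ne_zero)
  have sep : ∀ {p q : ι × ℤ} (j : Fin 7), IsSigned p → IsSigned q → p.1 ≠ q.1 → V.w j = sv p + sv q →
      A p.1 = p.2 → A q.1 = 0 → gramT 1 j - trT 1 * trT j = 0 → trT j = 1 →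
      p.1 ≠ b.1 ∧ p.1 ≠ i.1 ∧ q.1 ≠ b.1 ∧ q.1 ≠ i.1 := by
    intro p q j hp hq hpq e hAp hAq hg htr
    have h1 : p.1 ≠ i.1 := fun h => hp.ne_zero (by rw [← hAp, h, hAi])
    have h2 : q.1 ≠ b.1 := fun h => hb.ne_zero (by rw [← hAb, ← h, hAq])
    have h := V.inner_w 1 j
    rw [hg, e, sum_mul_two, e1] at h
    simp only [Pi.add_apply, sv_of_ne h1, sv_of_ne h2] at h
    by_cases h3 : p.1 = b.1
    · exfalso
      have s1 : p.2 = b.2 := by rw [← hAp, h3, hAb]
      rw [h3, sv_self, s1, add_zero, hb.sq] at h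
      have h4 : q.1 = i.1 := by
        by_contra h4
        rw [sv_of_ne h4] at h
        omega
      rw [h4, sv_self] at h
      obtain ⟨d1, -, -⟩ := V.sum_two hp hq e
      obtain ⟨d0, -, -⟩ := V.sum_two hb hi e1
      have s2 : q.2 = -i.2 := by rcases hi with r | r <;> rcases hq with r' | r' <;> rw [r, r'] at h ⊢ <;> omega
      simp only [Vecs.dg, h3, s1, h4, s2, htr, neg_mul] at d1
      simp only [Vecs.dg, show trT 1 = 1 from rfl] at d0
      exact (V.dg_ne hi hio).1 (by simp only [Vecs.dg]; omega)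
    · refine ⟨h3, h1, h2, fun h4 => ?_⟩
      rw [sv_of_ne h3, h4, sv_self] at h
      rcases hi with r | r <;> rcases hq with r' | r' <;> rw [r, r'] at h <;> omega
  obtain ⟨pb, pi, qb, qi⟩ := sep 2 hp hq hpq e2 hAp hAq rfl rfl
  obtain ⟨pb', pi', qb', qi'⟩ := sep 3 hp' hq' hpq' e3 hAp' hAq' rfl rfl
  have hpq'' : p.1 ≠ q'.1 := fun h => hp.ne_zero (by rw [← hAp, h, hAq'])
  have hqp : q.1 ≠ p'.1 := fun h => hp'.ne_zero (by rw [← hAp', ← h, hAq])
  have h23 := V.inner_w 3 2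
  rw [show gramT 3 2 - trT 3 * trT 2 = 1 from rfl, e2, sum_mul_two, e3] at h23
  simp only [Pi.add_apply, sv_of_ne hpq'', sv_of_ne hqp] at h23
  by_cases hpp : p.1 = p'.1
  · -- the common term is `p`
    have hpe : p = p' := Prod.ext hpp (by rw [← hAp, hpp, hAp'])
    subst hpe
    have hqq : q.1 ≠ q'.1 := fun h => by
      rw [sv_self, h, sv_self, add_zero, hp.sq] at h23
      rcases hq with r | r <;> rcases hq' with r' | r' <;> rw [r, r'] at h23 <;> omega
    obtain ⟨y, z, hy, hz, hyz, hpy, hpz, eA⟩ := norm_three nA hp hAp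
    obtain ⟨c, hc, hbc, hpc, eA⟩ : ∃ c : ι × ℤ, IsSigned c ∧ b.1 ≠ c.1 ∧ p.1 ≠ c.1 ∧ A = sv p + sv b + sv c := by
      have h := hAb
      rw [eA, Pi.add_apply, Pi.add_apply, sv_of_ne pb.symm, zero_add] at h
      by_cases hyb : y.1 = b.1
      · rw [← hyb, sv_self, sv_of_ne hyz, add_zero] at h
        obtain rfl : y = b := Prod.ext hyb h
        exact ⟨z, hz, hyz, hpz, eA⟩
      · rw [sv_of_ne (Ne.symm hyb), zero_add] at h
        by_cases hzb : z.1 = b.1
        · rw [← hzb, sv_self] at h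
          obtain rfl : z = b := Prod.ext hzb h
          exact ⟨y, hy, hyz.symm, hpy, eA.trans (add_right_comm _ _ _)⟩
        · rw [sv_of_ne (Ne.symm hzb)] at h
          exact absurd h.symm hb.ne_zero
    have hAc : A c.1 = c.2 := by
      rw [eA, Pi.add_apply, Pi.add_apply, sv_self, sv_of_ne hpc.symm, sv_of_ne hbc.symm]; ring
    exact ⟨{ a := p, b := b, c := c, i := i, e := q, f := q', ha := hp, hb := hb, hc := hc, hi := hi, he := hq,
             hf := hq', ao := inA hp hAp, bo := hbo, co := inA hc hAc, io := hio, eo := hqo, fo := hqo',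
             ab := pb, ac := hpc, bc := hbc, ai := pi, bi := hbi,
             ci := fun h => hc.ne_zero (by rw [← hAc, h, hAi]), ae := hpq, be := qb.symm,
             ce := fun h => hc.ne_zero (by rw [← hAc, h, hAq]), ie := qi.symm, af := hpq'', bf := qb'.symm,
             cf := fun h => hc.ne_zero (by rw [← hAc, h, hAq']), if' := qi'.symm, ef := hqq,
             wA := eA, w0 := e1, wE := e2, wF := e3 }⟩
  · -- otherwise the two other terms are equal, and the average for the second vector would vanish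
    exfalso
    rw [sv_of_ne hpp] at h23
    have hqq : q.1 = q'.1 := by
      by_contra h
      rw [sv_of_ne h] at h23
      omega
    rw [hqq, sv_self] at h23
    have hqe : q = q' := Prod.ext hqq (by
      rcases hq with r | r <;> rcases hq' with r' | r' <;> rw [r, r'] at h23 ⊢ <;> omega)
    subst hqe
    obtain ⟨y, z, hy, hz, hyz, hby, hbz, eA⟩ := norm_three nA hb hAb
    have mem : ∀ {r : ι × ℤ}, IsSigned r → r.1 ≠ b.1 → A r.1 = r.2 → r = y ∨ r = z := by
      intro r hr hrb h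
      have h0 := h
      rw [eA, Pi.add_apply, Pi.add_apply, sv_of_ne hrb, zero_add] at h0
      by_cases hry : r.1 = y.1
      · rw [hry, sv_self, sv_of_ne hyz, add_zero] at h0
        exact Or.inl (Prod.ext hry h0.symm)
      · rw [sv_of_ne hry, zero_add] at h0
        by_cases hrz : r.1 = z.1
        · rw [hrz, sv_self] at h0
          exact Or.inr (Prod.ext hrz h0.symm)
        · rw [sv_of_ne hrz] at h0
          exact absurd h0.symm hr.ne_zero
    have eA' : A = sv b + sv p + sv p' := by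
      rcases mem hp pb hAp with rfl | rfl <;> rcases mem hp' pb' hAp' with rfl | rfl
      · exact absurd rfl hpp
      · exact eA
      · exact eA.trans (add_right_comm _ _ _)
      · exact absurd rfl hpp
    obtain ⟨dA, vA, qA⟩ := V.sum_three hb hp hp' eA'
    obtain ⟨d0, v0, q0⟩ := V.sum_two hb hi e1
    obtain ⟨d2, v2, -⟩ := V.sum_two hp hq e2
    obtain ⟨d3, v3, -⟩ := V.sum_two hp' hq e3
    simp only [show trT 0 = 1 from rfl, show trT 1 = 1 from rfl, show trT 2 = 1 from rfl, show trT 3 = 1 from rfl,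
      show valT 0 = 0 from rfl, show valT 1 = 0 from rfl, show valT 2 = 8 from rfl, show valT 3 = 8 from rfl,
      show pairT 0 = 0 from rfl, show pairT 1 = 8 / 3 from rfl, Int.cast_one, mul_zero]
      at dA vA qA d0 v0 q0 d2 v2 d3 v3
    have n1 := (V.dg_ne hp (inA hp hAp)).1
    have n2 := (V.dg_ne hb hbo).1
    have n3 := (V.dg_ne hi hio).1
    rw [show V.dg p' = V.dg p by omega, show V.vl p' = V.vl p by omega,
      show V.dg b = -1 - 2 * V.dg p by omega, show V.vl b = -1 - 2 * V.vl p by omega] at qA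
    rw [show V.dg b = -1 - 2 * V.dg p by omega, show V.vl b = -1 - 2 * V.vl p by omega,
      show V.dg i = 2 * V.dg p by omega, show V.vl i = 2 * V.vl p by omega] at q0
    push_cast at qA q0
    have f1 : (V.dg p : ℚ) ≠ 0 := by exact_mod_cast n1
    have f2 : -1 - 2 * (V.dg p : ℚ) ≠ 0 := by
      have h : (-1 - 2 * V.dg p : ℤ) ≠ 0 := by omega
      exact_mod_cast h
    have h5 : ((V.dg p : ℚ) - V.vl p) ^ 2 = 0 := by
      field_simp at qA
      linear_combination (-1 / 2 : ℚ) * qA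
    rw [← sub_eq_zero.1 (pow_eq_zero_iff two_ne_zero |>.1 h5)] at q0
    refine V.R_ne ?_
    field_simp at q0
    linear_combination (-1 / 8 : ℚ) * q0

omit [Fintype ι] in
theorem eq_of_prod {x : ι × ℤ} {z : ℤ} (hx : IsSigned x) (h : x.2 * z = 1) : z = x.2 := by
  rcases hx with r | r <;> rw [r] at h ⊢ <;> omega

theorem supp_three {v : ι → ℤ} {p q r : ι} (hn : ∑ χ, v χ * v χ ≤ 3) (h1 : p ≠ q) (h2 : p ≠ r) (h4 : q ≠ r)
    (hp : v p ≠ 0) (hq : v q ≠ 0) (hr : v r ≠ 0) {χ : ι} (hχ : v χ ≠ 0) : χ = p ∨ χ = q ∨ χ = r := by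
  by_contra h
  push Not at h
  exact four_supp hn h1 h2 h.1.symm h4 h.2.1.symm h.2.2.symm hp hq hr hχ

namespace Shape4

variable {V : VecsT ι} (S : Shape4 V)
include S

theorem inner_A (j : Fin 7) : S.a.2 * V.w j S.a.1 + S.b.2 * V.w j S.b.1 + S.c.2 * V.w j S.c.1 =
    gramT j 0 - trT j * trT 0 := by
  rw [← V.inner_w, S.wA, sum_mul_three]

theorem inner_0 (j : Fin 7) : S.b.2 * V.w j S.b.1 + S.i.2 * V.w j S.i.1 = gramT j 1 - trT j * trT 1 := by
  rw [← V.inner_w, S.w0, sum_mul_two]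

theorem inner_E (j : Fin 7) : S.a.2 * V.w j S.a.1 + S.e.2 * V.w j S.e.1 = gramT j 2 - trT j * trT 2 := by
  rw [← V.inner_w, S.wE, sum_mul_two]

theorem inner_F (j : Fin 7) : S.a.2 * V.w j S.a.1 + S.f.2 * V.w j S.f.1 = gramT j 3 - trT j * trT 3 := by
  rw [← V.inner_w, S.wF, sum_mul_two]

/-- The two possibilities for the fifth and sixth vectors. -/
theorem mu_cases (j : Fin 7) (hj : j = 4 ∨ j = 5) :
    (V.w j S.a.1 = S.a.2 ∧ V.w j S.b.1 = 0 ∧ V.w j S.c.1 = 0 ∧ V.w j S.i.1 = 0 ∧ V.w j S.e.1 = 0 ∧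
        V.w j S.f.1 = 0) ∨
      (V.w j S.c.1 = S.c.2 ∧ V.w j S.e.1 = S.e.2 ∧ V.w j S.f.1 = S.f.2 ∧
        ∀ χ, V.w j χ ≠ 0 → χ = S.c.1 ∨ χ = S.e.1 ∨ χ = S.f.1) := by
  have n3 : ∑ χ, V.w j χ * V.w j χ ≤ 3 := by rcases hj with rfl | rfl <;> rw [V.inner_w] <;> decide
  have eA := S.inner_A j
  have e0 := S.inner_0 j
  have eE := S.inner_E j
  have eF := S.inner_F j
  have g : gramT j 0 - trT j * trT 0 = 1 ∧ gramT j 1 - trT j * trT 1 = 0 ∧ gramT j 2 - trT j * trT 2 = 1 ∧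
      gramT j 3 - trT j * trT 3 = 1 := by rcases hj with rfl | rfl <;> decide
  rw [g.1] at eA
  rw [g.2.1] at e0
  rw [g.2.2.1] at eE
  rw [g.2.2.2] at eF
  rcases small_of_norm n3 S.a.1 with p | p | p
  all_goals by_cases hza : S.a.2 * V.w j S.a.1 = 1
  all_goals first
    | (left
       have va := eq_of_prod S.ha hza
       have ve : V.w j S.e.1 = 0 := mul_zero_of_small S.he.ne_zero (by omega)
       have vf : V.w j S.f.1 = 0 := mul_zero_of_small S.hf.ne_zero (by omega)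
       have hb : V.w j S.b.1 = 0 := by
         by_contra hb
         have hc : V.w j S.c.1 ≠ 0 := fun h => by
           rw [h, mul_zero, add_zero] at eA
           exact hb (mul_zero_of_small S.hb.ne_zero (by omega))
         have hi : V.w j S.i.1 ≠ 0 := fun h => by
           rw [h, mul_zero, add_zero] at e0
           exact hb (mul_zero_of_small S.hb.ne_zero (by omega))
         exact four_supp n3 S.ab S.ac S.ai S.bc S.bi S.ci (va ▸ S.ha.ne_zero) hb hc hi
       rw [hb, mul_zero] at eA e0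
       exact ⟨va, hb, mul_zero_of_small S.hc.ne_zero (by omega), mul_zero_of_small S.hi.ne_zero (by omega), ve, vf⟩)
    | (right
       have za : S.a.2 * V.w j S.a.1 = 0 := by
         rcases S.ha with r | r <;> rcases small_of_norm n3 S.e.1 with s | s | s <;> rcases S.he with r' | r' <;>
           rw [p, r] at hza eE ⊢ <;> rw [s, r'] at eE <;> omega
       rw [za, zero_add] at eA eE eF
       have ve := eq_of_prod S.he eE
       have vf := eq_of_prod S.hf eF
       have ne : V.w j S.e.1 ≠ 0 := ve ▸ S.he.ne_zero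
       have nf : V.w j S.f.1 ≠ 0 := vf ▸ S.hf.ne_zero
       have hb : V.w j S.b.1 = 0 := by
         by_contra hb
         have hi : V.w j S.i.1 ≠ 0 := fun h => by
           rw [h, mul_zero, add_zero] at e0
           exact hb (mul_zero_of_small S.hb.ne_zero (by omega))
         exact four_supp n3 S.ef S.be.symm S.ie.symm S.bf.symm S.if'.symm S.bi ne nf hb hi
       rw [hb, mul_zero, zero_add] at eA
       have vc := eq_of_prod S.hc eA
       exact ⟨vc, ve, vf, fun χ hχ => supp_three n3 S.ce S.cf S.ef (vc ▸ S.hc.ne_zero) ne nf hχ⟩)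

/-- Both are of the first kind. -/
theorem mu_shape (j : Fin 7) (hj : j = 4 ∨ j = 5) :
    ∃ x y : ι × ℤ, IsSigned x ∧ IsSigned y ∧ x.1 ≠ y.1 ∧ S.a.1 ≠ x.1 ∧ S.a.1 ≠ y.1 ∧
      V.w j = sv S.a + sv x + sv y ∧ V.w j S.b.1 = 0 ∧ V.w j S.c.1 = 0 ∧ V.w j S.i.1 = 0 ∧
        V.w j S.e.1 = 0 ∧ V.w j S.f.1 = 0 := by
  have key : ∀ j m : Fin 7, j = 4 ∨ j = 5 → m = 4 ∨ m = 5 → j ≠ m → V.w j S.a.1 = S.a.2 ∧ V.w j S.b.1 = 0 ∧
      V.w j S.c.1 = 0 ∧ V.w j S.i.1 = 0 ∧ V.w j S.e.1 = 0 ∧ V.w j S.f.1 = 0 := by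
    intro j m hj hm hjm
    refine (S.mu_cases j hj).resolve_right fun ⟨jc, je, jf, js⟩ => ?_
    have h1 : ∑ χ, V.w j χ * V.w m χ = 1 := by
      rw [V.inner_w]
      rcases hj with rfl | rfl <;> rcases hm with rfl | rfl <;> first | exact absurd rfl hjm | decide
    rcases S.mu_cases m hm with ⟨-, -, mc, -, me, mf⟩ | ⟨mc, me, mf, ms⟩
    · rw [Finset.sum_eq_zero] at h1
      · exact zero_ne_one h1
      · intro χ _
        by_cases h : V.w j χ = 0
        · rw [h, zero_mul]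
        · rcases js χ h with rfl | rfl | rfl <;> simp [mc, me, mf]
    · have e : V.w m = V.w j := funext fun χ => by
        by_cases h : V.w j χ = 0
        · by_cases h' : V.w m χ = 0
          · rw [h, h']
          · rcases ms χ h' with rfl | rfl | rfl <;> simp [jc, je, jf, mc, me, mf]
        · rcases js χ h with rfl | rfl | rfl <;> simp [jc, je, jf, mc, me, mf]
      rw [e, V.inner_w] at h1
      rcases hj with rfl | rfl <;> revert h1 <;> decide
  obtain ⟨va, vb, vc, vi, ve, vf⟩ : V.w j S.a.1 = S.a.2 ∧ V.w j S.b.1 = 0 ∧ V.w j S.c.1 = 0 ∧ V.w j S.i.1 = 0 ∧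
      V.w j S.e.1 = 0 ∧ V.w j S.f.1 = 0 := by
    rcases hj with rfl | rfl
    · exact key 4 5 (Or.inl rfl) (Or.inr rfl) (by decide)
    · exact key 5 4 (Or.inr rfl) (Or.inl rfl) (by decide)
  have n3 : ∑ χ, V.w j χ * V.w j χ = 3 := by rcases hj with rfl | rfl <;> rw [V.inner_w] <;> decide
  obtain ⟨x, y, hx, hy, hxy, hax, hay, e⟩ := norm_three n3 S.ha va
  exact ⟨x, y, hx, hy, hxy, hax, hay, e, vb, vc, vi, ve, vf⟩

/-- The last vector vanishes at the common term. -/
theorem w_zero : V.w 6 S.a.1 = 0 := by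
  have n3 : ∑ χ, V.w 6 χ * V.w 6 χ ≤ 3 := by rw [V.inner_w]; decide
  have eA := S.inner_A 6
  have eE := S.inner_E 6
  have eF := S.inner_F 6
  rw [show gramT 6 0 - trT 6 * trT 0 = 0 from rfl] at eA
  rw [show gramT 6 2 - trT 6 * trT 2 = 0 from rfl] at eE
  rw [show gramT 6 3 - trT 6 * trT 3 = 0 from rfl] at eF
  by_contra ha
  have he : V.w 6 S.e.1 ≠ 0 := fun h => by
    rw [h, mul_zero, add_zero] at eE; exact ha (mul_zero_of_small S.ha.ne_zero eE)
  have hf : V.w 6 S.f.1 ≠ 0 := fun h => by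
    rw [h, mul_zero, add_zero] at eF; exact ha (mul_zero_of_small S.ha.ne_zero eF)
  by_cases hb : V.w 6 S.b.1 = 0
  · have hc : V.w 6 S.c.1 ≠ 0 := fun h => by
      rw [hb, h, mul_zero, mul_zero, add_zero, add_zero] at eA; exact ha (mul_zero_of_small S.ha.ne_zero eA)
    exact four_supp n3 S.ae S.af S.ac S.ef S.ce.symm S.cf.symm ha he hf hc
  · exact four_supp n3 S.ae S.af S.ab S.ef S.be.symm S.bf.symm ha he hf hb

end Shape4

theorem value_bound {A B C E X Y : ℤ} (hC : A + B + C = -1) (hE : A + E = 7) (hXY : A + X + Y = -1)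
    (h : A * A + B * B + C * C + E * E + E * E + X * X + Y * Y ≤ 95) : 1 ≤ A ∧ A ≤ 6 := by
  obtain rfl : C = -1 - A - B := by omega
  obtain rfl : E = 7 - A := by omega
  obtain rfl : Y = -1 - A - X := by omega
  have h2 : 2 * A * A ≤ 13 * A - 2 := by
    linarith [mul_self_nonneg (2 * B + 1 + A), mul_self_nonneg (2 * X + 1 + A)]
  constructor
  · by_contra hlt
    push Not at hlt
    nlinarith
  · by_contra hlt
    push Not at hlt
    nlinarith

/-- The equations of the general case hold. -/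
theorem wr_eqs_three (V : VecsT ι) (π : ι ≃ ι) (hπ : ∀ χ, V.v 5 χ = V.v 4 (π χ))
    (hπd : ∀ χ, V.deg (π χ) = V.deg χ) (hπv : ∀ χ, V.val (π χ) = V.val χ)
    (hsum : ∀ s : Finset ι, V.o ∉ s → ∑ χ ∈ s, V.val χ * V.val χ ≤ 95)
    {g : ℕ} (hg : Odd g) (hR : V.R * (g : ℚ) = 36) : Nonempty (WrEqs (-3) V.R) := by
  obtain ⟨S⟩ := exists_shape V
  obtain ⟨x, y, hx, hy, hxy, hax, hay, e4, b4, c4, i4, e4e, f4⟩ := S.mu_shape 4 (Or.inl rfl)
  obtain ⟨x', y', hx', hy', hxy', hax', hay', e5, -, -, -, -, -⟩ := S.mu_shape 5 (Or.inr rfl)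
  have hwa := S.w_zero
  have n3 : ∑ χ, V.w 6 χ * V.w 6 χ = 3 := by rw [V.inner_w]; rfl
  have h4 := V.inner_w 6 4
  have h5 := V.inner_w 6 5
  rw [e4, sum_mul_three, hwa, mul_zero, zero_add] at h4
  rw [e5, sum_mul_three, hwa, mul_zero, zero_add] at h5
  rw [show gramT 6 4 - trT 6 * trT 4 = -1 from rfl] at h4
  rw [show gramT 6 5 - trT 6 * trT 5 = 1 from rfl] at h5
  -- choose the names
  obtain ⟨x, y, hx, hy, hxy, hax, hay, e4, wx⟩ : ∃ x y : ι × ℤ, IsSigned x ∧ IsSigned y ∧ x.1 ≠ y.1 ∧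
      S.a.1 ≠ x.1 ∧ S.a.1 ≠ y.1 ∧ V.w 4 = sv S.a + sv x + sv y ∧ V.w 6 x.1 = -x.2 := by
    rcases small_of_norm n3.le x.1 with p | p | p <;> rcases small_of_norm n3.le y.1 with r | r | r <;>
      rcases hx with hx' | hx' <;> rcases hy with hy' | hy' <;> rw [p, r, hx', hy'] at h4 <;>
      first
        | omega
        | exact ⟨x, y, by unfold IsSigned; omega, by unfold IsSigned; omega, hxy, hax, hay, e4, by omega⟩
        | exact ⟨y, x, by unfold IsSigned; omega, by unfold IsSigned; omega, hxy.symm, hay, hax,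
            e4.trans (add_right_comm _ _ _), by omega⟩
  obtain ⟨x', y', hx', hy', hxy', hax', hay', e5, wy⟩ : ∃ x' y' : ι × ℤ, IsSigned x' ∧ IsSigned y' ∧
      x'.1 ≠ y'.1 ∧ S.a.1 ≠ x'.1 ∧ S.a.1 ≠ y'.1 ∧ V.w 5 = sv S.a + sv x' + sv y' ∧ V.w 6 y'.1 = y'.2 := by
    rcases small_of_norm n3.le x'.1 with p | p | p <;> rcases small_of_norm n3.le y'.1 with r | r | r <;>
      rcases hx' with q | q <;> rcases hy' with q' | q' <;> rw [p, r, q, q'] at h5 <;>
      first
        | omega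
        | exact ⟨x', y', by unfold IsSigned; omega, by unfold IsSigned; omega, hxy', hax', hay', e5, by omega⟩
        | exact ⟨y', x', by unfold IsSigned; omega, by unfold IsSigned; omega, hxy'.symm, hay', hax',
            e5.trans (add_right_comm _ _ _), by omega⟩
  have h2 := fun {z : ι × ℤ} (h : IsSigned z) (ho : z.1 ≠ V.o) => V.dg_ne h ho
  have val4 : ∀ {z : ι × ℤ}, z = S.a ∨ z = x ∨ z = y → V.w 4 z.1 = z.2 := by
    intro z hz
    rw [e4]
    rcases hz with rfl | rfl | rfl <;> simp [sv, hax, hay, hxy, hax.symm, hay.symm, hxy.symm]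
  have ho4 : ∀ {z : ι × ℤ}, IsSigned z → z = S.a ∨ z = x ∨ z = y → z.1 ≠ V.o := fun hs h =>
    V.ne_o (i := 4) (by rw [val4 h]; exact hs.ne_zero)
  have hπo : π V.o = V.o := V.linear _ (by rw [hπd, V.deg_o])
  have hw45 : ∀ χ, V.w 5 χ = V.w 4 (π χ) := by
    intro χ
    by_cases h : χ = V.o
    · subst h; rw [hπo, V.w_o, V.w_o]
    · have h' : π χ ≠ V.o := fun e => h (π.injective (e.trans hπo.symm))
      simp only [Vecs.w, if_neg h, if_neg h', hπ]
  -- every term of the conjugate has the data of a term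
  have hpair : ∀ {z : ι × ℤ}, IsSigned z → V.w 5 z.1 = z.2 → ∃ w : ι × ℤ, (w = S.a ∨ w = x ∨ w = y) ∧
      π z.1 = w.1 ∧ V.dg z = V.dg w ∧ V.vl z = V.vl w := by
    intro z hz hz5
    rw [hw45] at hz5
    have hne : V.w 4 (π z.1) ≠ 0 := hz5 ▸ hz.ne_zero
    rcases (show π z.1 = S.a.1 ∨ π z.1 = x.1 ∨ π z.1 = y.1 by
      by_contra h
      push Not at h
      exact hne (by rw [e4]; simp [sv, h.1, h.2.1, h.2.2])) with h | h | h
    on_goal 1 => refine ⟨S.a, Or.inl rfl, h, ?_⟩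
    on_goal 2 => refine ⟨x, Or.inr (Or.inl rfl), h, ?_⟩
    on_goal 3 => refine ⟨y, Or.inr (Or.inr rfl), h, ?_⟩
    all_goals
      rw [h, val4 (by simp)] at hz5
      simp only [Vecs.dg, Vecs.vl, ← hπd z.1, ← hπv z.1, h, hz5, and_self]
  have v5 : V.w 5 y'.1 = y'.2 ∧ V.w 5 S.a.1 = S.a.2 := by
    rw [e5]
    constructor <;> simp [sv, hay', hax', hxy'.symm, hay'.symm]
  have hPy : (V.dg y' = V.dg x ∧ V.vl y' = V.vl x) ∨ (V.dg y' = V.dg y ∧ V.vl y' = V.vl y) := by
    obtain ⟨w, hw, hpw, hd, hv⟩ := hpair hy' v5.1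
    obtain ⟨w', hw', hpw', hd', hv'⟩ := hpair S.ha v5.2
    rcases hw with rfl | rfl | rfl
    · rcases hw' with rfl | rfl | rfl
      · exact absurd (π.injective (hpw'.trans hpw.symm)) hay'
      · exact Or.inl ⟨hd.trans hd', hv.trans hv'⟩
      · exact Or.inr ⟨hd.trans hd', hv.trans hv'⟩
    · exact Or.inl ⟨hd, hv⟩
    · exact Or.inr ⟨hd, hv⟩
  obtain ⟨dA, vA, qA⟩ := V.sum_three S.ha S.hb S.hc S.wA
  obtain ⟨d0, v0, q0⟩ := V.sum_two S.hb S.hi S.w0
  obtain ⟨dE, vE, qE⟩ := V.sum_two S.ha S.he S.wE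
  obtain ⟨dF, vF, -⟩ := V.sum_two S.ha S.hf S.wF
  obtain ⟨dM, vM, qM⟩ := V.sum_three S.ha hx hy e4
  simp only [show trT 0 = 1 from rfl, show trT 1 = 1 from rfl, show trT 2 = 1 from rfl, show trT 3 = 1 from rfl,
    show trT 4 = 1 from rfl, show valT 0 = 0 from rfl, show valT 1 = 0 from rfl, show valT 2 = 8 from rfl,
    show valT 3 = 8 from rfl, show valT 4 = 0 from rfl, show pairT 0 = 0 from rfl, show pairT 1 = 8 / 3 from rfl,
    show pairT 2 = 4 / 3 from rfl, show pairT 4 = 0 from rfl, Int.cast_one, mul_zero]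
    at dA vA qA d0 v0 q0 dE vE qE dF vF dM vM qM
  -- the third term of the last vector
  have hxy1 : x.1 ≠ y'.1 := by
    intro h
    rw [h, wy] at wx
    have : V.dg y' = -V.dg x := by simp only [Vecs.dg, h, wx, neg_mul]
    rcases hPy with ⟨h', -⟩ | ⟨h', -⟩
    · exact (h2 hx (ho4 hx (by simp))).1 (by omega)
    · exact (h2 S.ha S.ao).2.2 (by omega)
  obtain ⟨p, q, hp, hq, hpq, hxp, hxq, e6⟩ := norm_three n3 (x := (x.1, -x.2))
    (by rcases hx with h | h <;> simp [IsSigned, h]) wx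
  obtain ⟨j, hj, hyj, e6⟩ : ∃ j : ι × ℤ, IsSigned j ∧ y'.1 ≠ j.1 ∧ V.w 6 = sv (x.1, -x.2) + sv y' + sv j := by
    have h := wy
    rw [e6, Pi.add_apply, Pi.add_apply, sv_of_ne (x := (x.1, -x.2)) hxy1.symm, zero_add] at h
    by_cases hp' : p.1 = y'.1
    · refine ⟨q, hq, hp' ▸ hpq, ?_⟩
      rw [← hp', sv_self, sv_of_ne hpq, add_zero] at h
      rw [e6, show p = y' from Prod.ext hp' h]
    · by_cases hq' : q.1 = y'.1
      · refine ⟨p, hp, fun e => hp' e.symm, ?_⟩
        rw [← hq', sv_self, sv_of_ne hpq.symm, zero_add] at h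
        rw [e6, show q = y' from Prod.ext hq' h, add_right_comm]
      · rw [sv_of_ne (Ne.symm hp'), sv_of_ne (Ne.symm hq')] at h
        exact absurd (h.symm.trans (add_zero 0)) hy'.ne_zero
  have hjo : j.1 ≠ V.o := by
    intro h
    have h0 := V.w_o 6
    rw [e6, ← h] at h0
    have hxo := ho4 hx (Or.inr (Or.inl rfl))
    rw [← h] at hxo
    simp [sv, hxo.symm, hyj.symm] at h0
    exact hj.ne_zero h0
  obtain ⟨dW, vW, qW⟩ := V.sum_three (x := (x.1, -x.2)) (by rcases hx with h | h <;> simp [IsSigned, h]) hy' hj e6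
  have en : V.dg (x.1, -x.2) = -V.dg x ∧ V.vl (x.1, -x.2) = -V.vl x := by simp [Vecs.dg, Vecs.vl]
  simp only [show trT 6 = 0 from rfl, show valT 6 = 0 from rfl, show pairT 6 = 8 / 3 from rfl, en.1, en.2,
    Int.cast_zero, zero_add, neg_zero, Int.cast_neg, neg_sq, sub_zero] at dW vW qW
  rcases hPy with ⟨hd, hv⟩ | ⟨hd, hv⟩
  · exact absurd (show V.dg j = 0 by omega) (h2 hj hjo).1
  have hj' : V.dg j = V.dg x - V.dg y := by omega
  have hJ : V.vl j = V.vl x - V.vl y := by omega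
  rw [show V.dg S.c = -1 - V.dg S.a - V.dg S.b by omega,
    show V.vl S.c = -1 - V.vl S.a - V.vl S.b by omega] at qA
  rw [show V.dg S.i = -1 - V.dg S.b by omega, show V.vl S.i = -1 - V.vl S.b by omega] at q0
  rw [show V.dg S.e = -1 - V.dg S.a by omega, show V.vl S.e = 7 - V.vl S.a by omega] at qE
  rw [hd, hv, hj', hJ] at qW
  push_cast at qA q0 qE qW
  have qW' : -((V.vl x : ℚ) ^ 2 / V.dg x) + (V.vl y : ℚ) ^ 2 / V.dg y +
      ((V.vl x : ℚ) - V.vl y) ^ 2 / ((V.dg x : ℚ) - V.dg y) = V.R * (8 / 3) := by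
    rw [div_neg] at qW; linear_combination qW
  have hxo := ho4 hx (Or.inr (Or.inl rfl))
  have hyo := ho4 hy (Or.inr (Or.inr rfl))
  -- the column of the involution
  have hxs : ∀ {z : ι × ℤ}, z = x ∨ z = y → ∀ {w : ι}, V.w 4 w = 0 → z.1 ≠ w := fun hz w hw h => by
    rcases hz with rfl | rfl
    · exact hx.ne_zero (by rw [← val4 (Or.inr (Or.inl rfl)), h, hw])
    · exact hy.ne_zero (by rw [← val4 (Or.inr (Or.inr rfl)), h, hw])
  have hA : 1 ≤ V.vl S.a ∧ V.vl S.a ≤ 6 := by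
    have hs := hsum {S.a.1, S.b.1, S.c.1, S.e.1, S.f.1, x.1, y.1} (by
      simp [Ne.symm S.ao, Ne.symm S.bo, Ne.symm S.co, Ne.symm S.eo, Ne.symm S.fo, Ne.symm hxo, Ne.symm hyo])
    rw [Finset.sum_insert (by simp [S.ab, S.ac, S.ae, S.af, hax, hay]),
      Finset.sum_insert (by simp [S.bc, S.be, S.bf, (hxs (Or.inl rfl) b4).symm, (hxs (Or.inr rfl) b4).symm]),
      Finset.sum_insert (by simp [S.ce, S.cf, (hxs (Or.inl rfl) c4).symm, (hxs (Or.inr rfl) c4).symm]),
      Finset.sum_insert (by simp [S.ef, (hxs (Or.inl rfl) e4e).symm, (hxs (Or.inr rfl) e4e).symm]),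
      Finset.sum_insert (by simp [(hxs (Or.inl rfl) f4).symm, (hxs (Or.inr rfl) f4).symm]),
      Finset.sum_insert (by simp [hxy]), Finset.sum_singleton] at hs
    have sq : ∀ {z : ι × ℤ}, IsSigned z → V.val z.1 * V.val z.1 = V.vl z * V.vl z := fun {z} hz => by
      rcases hz with r | r <;> simp [Vecs.vl, r]
    rw [sq S.ha, sq S.hb, sq S.hc, sq S.he, sq S.hf, sq hx, sq hy,
      show V.vl S.f = V.vl S.e by omega] at hs
    exact value_bound (B := V.vl S.b) (C := V.vl S.c) (E := V.vl S.e) (X := V.vl x) (Y := V.vl y) (by omega)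
      (by omega) (by omega) (by linarith)
  have hA3 : V.vl S.a = 3 := value_eq_three (X := V.vl x) (Y := V.vl y) hg hR hA (h2 S.ha S.ao) (h2 hx hxo).1
    (h2 hy hyo).1 (by have := h2 hj hjo; rwa [hj'] at this) (by omega) (by omega) qE qM qW'
  exact ⟨{ a := V.dg S.a, b := V.dg S.b, x := V.dg x, y := V.dg y, A := V.vl S.a, B := V.vl S.b,
           X := V.vl x, Y := V.vl y, a0 := (h2 S.ha S.ao).1, a1 := (h2 S.ha S.ao).2.2,
           b0 := (h2 S.hb S.bo).1, b1 := (h2 S.hb S.bo).2.2, ab := fun e => (h2 S.hc S.co).1 (by omega),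
           x0 := (h2 hx hxo).1, y0 := (h2 hy hyo).1,
           xy := by have := (h2 hj hjo).1; omega,
           sum_d := by omega, sum_v := by omega, eqA := qA,
           eq0 := by rw [q0]; norm_num,
           eqT := by
             rw [hA3] at qE ⊢
             norm_num at qE ⊢
             linear_combination qE,
           eqF := by
             norm_num
             linear_combination qE,
           eqM := qM,
           eqW := by rw [qW']; norm_num }⟩

end Cfsg.Agent.Invol.BrauerL3.SmallThree
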