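import Cfsg.Agent.Lib.Invol.BrauerL3.TwistInd

/-!
# The two equations from a twisted element

With the five functions of `C(t)` and the function `Ind (1 - η)` of a twist: the latter is `1 - a + f`, hence
`(a + Q)² / (a (a + 1))` and `(a + Q)² / (a (a - 1))` are both known.
-/

set_option autoImplicit false
set_option linter.unusedSectionVars false

open scoped ComplexConjugate Classical

namespace Cfsg.Agent.Invol.BrauerL3

open Cfsg Cfsg.Agent.Char Cfsg.Agent.Block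

universe u

variable {G : Type u} [Group G] [Fintype G]

/-- A vector of norm two with inner product `-1` with three vectors `a + eⱼ` is `-a + f`. -/
theorem twist_shape {ι : Type u} [Fintype ι] {p : ι → ℤ} (hp : ∑ χ, p χ * p χ = 2) {a : ι × ℤ} (ha : IsSigned a)
    {e : Fin 3 → ι × ℤ} (he : ∀ j, IsSigned (e j)) (hee : ∀ j l, j ≠ l → (e j).1 ≠ (e l).1)
    (h : ∀ j, a.2 * p a.1 + (e j).2 * p (e j).1 = -1) :
    ∃ f : ι × ℤ, IsSigned f ∧ f.1 ≠ a.1 ∧ p = sv (a.1, -a.2) + sv f := by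
  obtain ⟨x, y, hx, hy, hxy, rfl⟩ := norm_two hp
  have hpa : (sv x + sv y) a.1 = -a.2 := by
    by_contra hne
    have hz : ∀ j, (e j).1 = x.1 ∨ (e j).1 = y.1 := by
      intro j
      by_contra hj
      push Not at hj
      have hj' := h j
      rw [show (sv x + sv y) (e j).1 = 0 by rw [Pi.add_apply, sv_of_ne hj.1, sv_of_ne hj.2, add_zero],
        mul_zero, add_zero] at hj'
      refine hne ?_
      rcases ha with p | p <;> rw [p] at hj' ⊢ <;> omega
    rcases hz 0 with h0 | h0 <;> rcases hz 1 with h1 | h1 <;> rcases hz 2 with h2 | h2 <;>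
      first
        | exact hee 0 1 (by decide) (h0.trans h1.symm)
        | exact hee 0 2 (by decide) (h0.trans h2.symm)
        | exact hee 1 2 (by decide) (h1.trans h2.symm)
  by_cases hax : a.1 = x.1
  · refine ⟨y, hy, by rw [hax]; exact hxy.symm, ?_⟩
    rw [Pi.add_apply, hax, sv_self, sv_of_ne hxy, add_zero] at hpa
    rw [show (a.1, -a.2) = x from Prod.ext hax hpa.symm]
  · by_cases hay : a.1 = y.1
    · refine ⟨x, hx, by rw [hay]; exact hxy, ?_⟩
      rw [Pi.add_apply, hay, sv_self, sv_of_ne hxy.symm, zero_add] at hpa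
      rw [show (a.1, -a.2) = y from Prod.ext hay hpa.symm, add_comm]
    · exfalso
      rw [Pi.add_apply, sv_of_ne hax, sv_of_ne hay, add_zero] at hpa
      exact ha.ne_zero (neg_eq_zero.1 hpa.symm)

/-- The equations. -/
theorem Twist.eqs [IsSimpleGroup G] (T : Twist G) (hna : ¬ IsMulCommutative G) {t : G} (ht : orderOf t = 2)
    (h1 : ∀ i : G, orderOf i = 2 → IsConj t i) {X : Set (Cen t)} (hX : TI t X) {k : ℕ}
    {gram : Fin k → Fin k → ℤ} {tr val : Fin k → ℤ} {pr : Fin k → ℚ} {N : ℚ} (hN : N ≠ 0)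
    (F : Funs (Cen t) X ⟨t, t_mem t⟩ N gram tr val pr) {iA i0 : Fin k} {iT : Fin 3 → Fin k}
    (H : Vecs.Five (gram := gram) (tr := tr) iA i0 iT) {Q : ℤ} (hQ : Q ≠ 1)
    (hv0 : val (iT 0) = 0) (hv1 : val (iT 1) = 2 * (1 - Q))
    (hp0 : pr (iT 0) = ((Q : ℚ) - 1) / Q) (hp1 : pr (iT 1) = ((Q : ℚ) - 1) / Q)
    (hvan : ∀ j, ∀ (x : Cen t) (l : T.L) (g : G), T.η l ≠ 1 → (x : G) = g * l * g⁻¹ → F.f (iT j) x = 0) :
    ∃ a : ℤ, a ≠ 0 ∧ a ≠ 1 ∧ a ≠ -1 ∧ |Q| ≤ |a| ∧
      ((a : ℚ) + Q) ^ 2 / ((a : ℚ) * (a + 1)) =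
        (Nat.card (Cen t) : ℚ) ^ 2 / (Nat.card G : ℚ) * N * (((Q : ℚ) - 1) / Q) ∧
      ((a : ℚ) + Q) ^ 2 / ((a : ℚ) * (a - 1)) =
        (Nat.card (Cen t) : ℚ) ^ 2 / (Nat.card G : ℚ) * ((T.outer.card : ℚ) ^ 2 / (Nat.card T.L : ℚ)) := by
  obtain ⟨V, hR, hdv, hv⟩ := exists_vecs hna ht h1 hX hN F
  obtain ⟨S⟩ := V.exists_shape H
  obtain ⟨dT, vT, qT⟩ := V.sum_two S.ha (S.he 0) (S.wT 0)
  obtain ⟨dF, vF, qF⟩ := V.sum_two S.ha (S.he 1) (S.wT 1)
  rw [H.trT] at dT vT qT dF vF qF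
  rw [hv0] at vT
  rw [hv1] at vF
  rw [hp0] at qT
  rw [hp1] at qF
  push_cast at qT qF
  have hda := V.dg_ne S.ha S.ao
  set a := V.dg S.a with ha
  set A := V.vl S.a with hA
  have e0 : V.dg (S.e 0) = -1 - a := by omega
  have e1 : V.dg (S.e 1) = -1 - a := by omega
  have E0 : V.vl (S.e 0) = -1 - A := by omega
  have E1 : V.vl (S.e 1) = 2 * (1 - Q) - 1 - A := by omega
  rw [e0, E0] at qT
  rw [e1, E1] at qF
  push_cast at qT qF
  have ha0 : (a : ℚ) ≠ 0 := by exact_mod_cast hda.1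
  have ha1 : (a : ℚ) ≠ -1 := by exact_mod_cast hda.2.2
  have ha' : (-1 - (a : ℚ)) ≠ 0 := fun e => ha1 (by linarith)
  -- `A = -Q`
  have hAQ : A = -Q := by
    have h := qT.trans qF.symm
    have h2 : (-1 - (A : ℚ)) ^ 2 = (2 * (1 - (Q : ℚ)) - 1 - A) ^ 2 := by
      have h' := congrArg (fun z : ℚ => (z - 1 - (A : ℚ) ^ 2 / a) * (-1 - (a : ℚ))) h
      simpa [add_sub_assoc, div_mul_cancel₀ _ ha'] using h'
    have h3 : (1 - (Q : ℚ)) * (Q + A) = 0 := by linear_combination (1 / 4 : ℚ) * h2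
    rcases mul_eq_zero.1 h3 with h4 | h4
    · exact absurd (by exact_mod_cast (show ((Q : ℤ) : ℚ) = ((1 : ℤ) : ℚ) by push_cast; linarith)) hQ
    · exact_mod_cast (show ((A : ℤ) : ℚ) = ((-Q : ℤ) : ℚ) by push_cast; linarith)
  rw [two_terms_of ha0 ha1, hR] at qT
  -- the vector of `Ind (1 - η)`
  have hTgen := T.psi_gen
  choose p hp using fun χ : IrrCharacter G =>
    IsGenChar.classInner_int hTgen (IsGenChar.of_isCharacter (irr_isChar χ))
  have hexp : T.Psi = ∑ χ : IrrCharacter G, (p χ : ℂ) • (χ : G → ℂ) := by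
    have h := classFunction_expansion (show IsClassFunction G T.Psi from indFun_classFun T.L T.phi)
    simp only [hp] at h
    exact h
  have hexpz : ∀ z : G, T.Psi z = ∑ χ : IrrCharacter G, (p χ : ℂ) * (χ : G → ℂ) z := fun z => by
    rw [hexp]; simp
  have hpo : p V.o = 1 := by
    have hone : ((V.o : IrrCharacter G) : G → ℂ) = fun _ => 1 := by
      have hd := (hdv V.o).1
      rw [V.deg_o, Int.cast_one] at hd
      have := OrdP.eq_trivial_of_deg hna (χ := V.o) (by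
        have h2 := (charDeg_spec' V.o).symm.trans hd.symm
        exact_mod_cast h2)
      rw [this]; rfl
    have h := T.psi_one
    rw [← hone, hp] at h
    exact_mod_cast h
  have hnorm : ∑ χ, p χ * p χ = 3 := by
    have h := T.psi_norm
    nth_rewrite 2 [hexp] at h
    rw [classInner_sum_right] at h
    simp only [classInner_smul_right, hp, map_intCast] at h
    exact_mod_cast (show ((∑ χ, p χ * p χ : ℤ) : ℂ) = ((3 : ℤ) : ℂ) by push_cast; exact h)
  have hdeg : ∑ χ, p χ * V.deg χ = 0 := by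
    have h := hexpz 1
    rw [T.psi_deg] at h
    exact_mod_cast (show ((∑ χ, p χ * V.deg χ : ℤ) : ℂ) = ((0 : ℤ) : ℂ) by
      push_cast; rw [h]; exact Finset.sum_congr rfl fun χ _ => by rw [(hdv χ).1])
  have hev : (evalE V.deg V.val p : ℚ) =
      (Nat.card (Cen t) : ℚ) ^ 2 / (Nat.card G : ℚ) * ((T.outer.card : ℚ) ^ 2 / (Nat.card T.L : ℚ)) := by
    have h := T.equation ht h1
    have h' : ((evalE V.deg V.val p : ℚ) : ℂ) =
        (((Nat.card (Cen t) : ℚ) ^ 2 / (Nat.card G : ℚ) * ((T.outer.card : ℚ) ^ 2 / (Nat.card T.L : ℚ)) : ℚ) : ℂ) := by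
      simp only [evalE]
      push_cast
      rw [← h]
      exact Finset.sum_congr rfl fun χ _ => by rw [(hdv χ).1, (hdv χ).2, ← hp]
    exact_mod_cast h'
  -- orthogonality
  set p' : IrrCharacter G → ℤ := fun χ => if χ = V.o then 0 else p χ with hp'
  have hpeq : p = sv (V.o, 1) + p' := by
    funext χ
    simp only [hp', Pi.add_apply, sv]
    split_ifs with h
    · rw [h, hpo, add_zero]
    · rw [zero_add]
  have hp2 : ∑ χ, p' χ * p' χ = 2 := by
    have e : ∀ χ, p χ * p χ = sv (V.o, 1) χ * 1 + p' χ * p' χ := fun χ => by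
      simp only [hp', sv]
      split_ifs with h
      · rw [h, hpo]; rfl
      · ring
    rw [Finset.sum_congr rfl fun χ _ => e χ, Finset.sum_add_distrib, sum_sv_mul] at hnorm
    linarith
  have horth : ∀ j, S.a.2 * p' S.a.1 + (S.e j).2 * p' (S.e j).1 = -1 := by
    intro j
    have hf := T.psi_inner (t := t) (F.f (iT j)) (hvan j)
    rw [hexp, classInner_sum_right] at hf
    simp only [classInner_smul_right, map_intCast, ← hv] at hf
    have h0 : ∑ χ, p χ * V.v (iT j) χ = 0 := by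
      exact_mod_cast (show ((∑ χ, p χ * V.v (iT j) χ : ℤ) : ℂ) = ((0 : ℤ) : ℂ) by push_cast; exact hf)
    have e : ∀ χ, p χ * V.v (iT j) χ = sv (V.o, 1) χ * V.v (iT j) χ + V.w (iT j) χ * p' χ := fun χ => by
      simp only [hp', Vecs.w, sv]
      split_ifs with h
      · rw [h, hpo]; ring
      · ring
    rw [Finset.sum_congr rfl fun χ _ => e χ, Finset.sum_add_distrib, sum_sv_mul, V.v_o, H.trT, S.wT j] at h0
    simp only [Pi.add_apply, add_mul, Finset.sum_add_distrib, sum_sv_mul] at h0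
    linarith
  obtain ⟨f, hf, hfa, hpf⟩ := twist_shape hp2 S.ha S.he S.ee horth
  have hna' : IsSigned (S.a.1, -S.a.2) := by
    rcases S.ha with h | h <;> simp [IsSigned, h]
  have hdgn : ((S.a.1, -S.a.2) : IrrCharacter G × ℤ).2 * V.deg S.a.1 = -a := by simp [ha, Vecs.dg]
  have hvln : ((S.a.1, -S.a.2) : IrrCharacter G × ℤ).2 * V.val S.a.1 = -A := by simp [hA, Vecs.vl]
  rw [hpeq, hpf] at hdeg hev
  simp only [Pi.add_apply, add_mul, Finset.sum_add_distrib, sum_sv_mul, V.deg_o] at hdeg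
  have hval : ∑ χ, p χ * V.val χ = 0 := by
    have h := hexpz t
    rw [T.psi_invol ht] at h
    exact_mod_cast (show ((∑ χ, p χ * V.val χ : ℤ) : ℂ) = ((0 : ℤ) : ℂ) by
      push_cast; rw [h]; exact Finset.sum_congr rfl fun χ _ => by rw [(hdv χ).2])
  rw [hpeq, hpf] at hval
  simp only [Pi.add_apply, add_mul, Finset.sum_add_distrib, sum_sv_mul, V.val_o] at hval
  have hfd : f.2 * V.deg f.1 = a - 1 := by
    simp only [ha, Vecs.dg] at *; linarith
  have hfv : f.2 * V.val f.1 = A - 1 := by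
    simp only [hA, Vecs.vl] at *; linarith
  rw [evalE_add, evalE_add, evalE_sv _ _ (Or.inl rfl), evalE_sv _ _ hna', evalE_sv _ _ hf, hdgn, hvln, hfd, hfv,
    V.deg_o, V.val_o] at hev
  have ha2 : a ≠ 1 := hda.2.1
  have ha2' : (a : ℚ) - 1 ≠ 0 := sub_ne_zero.2 (by exact_mod_cast ha2)
  have ha3 : (a : ℚ) + 1 ≠ 0 := fun e => ha1 (by linarith)
  refine ⟨a, hda.1, ha2, hda.2.2, ?_, ?_, ?_⟩
  · have hle : |V.val S.a.1| ≤ V.deg S.a.1 := by
      have h := OrdP.norm_value_le S.a.1 t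
      rw [← (hdv S.a.1).2, Complex.norm_intCast] at h
      have hd : ((V.deg S.a.1 : ℤ) : ℂ) = (charDegree (S.a.1 : G → ℂ) : ℂ) := by rw [(hdv S.a.1).1, charDeg_spec']
      have hd' : V.deg S.a.1 = (charDegree (S.a.1 : G → ℂ) : ℤ) := by exact_mod_cast hd
      rw [hd']
      exact_mod_cast h
    have h1' : |A| = |V.val S.a.1| := by
      rcases S.ha with h | h <;> simp [hA, Vecs.vl, h]
    have h2' : |a| = |V.deg S.a.1| := by
      rcases S.ha with h | h <;> simp [ha, Vecs.dg, h]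
    rw [← abs_neg Q, ← hAQ, h1', h2']
    exact hle.trans (le_abs_self _)
  · rw [hAQ] at qT
    push_cast at qT
    rw [← qT]
    ring
  · rw [hAQ] at hev
    push_cast at hev
    rw [← hev]
    field_simp
    ring
where
  two_terms_of {a A : ℚ} (h0 : a ≠ 0) (h1 : a ≠ -1) :
      1 + A ^ 2 / a + (-1 - A) ^ 2 / (-1 - a) = (A - a) ^ 2 / (a * (a + 1)) := by
    have h1' : -1 - a ≠ 0 := sub_ne_zero.2 h1.symm
    have h2 : a + 1 ≠ 0 := fun e => h1 (by linarith)
    field_simp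
    ring

end Cfsg.Agent.Invol.BrauerL3
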