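import Cfsg.Agent.Lib.Invol.BrauerL3.TwistGroup

/-!
# A fixed element of odd prime power order of the torus

`a₀ ∈ A` is fixed by `g`, of order `r ^ j`, with `j = 2` if `r = 3`.  The `r`-elements of the centre of `C(t)` have
exponent dividing `3`, those of `A` are inverted by `s` up to cubes, and their powers contain `a₁ = a₀ ^ (r ^ (j-1))`.
-/

set_option autoImplicit false
set_option linter.unusedSectionVars false

namespace Cfsg.Agent.Invol.BrauerL3

open Subgroup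

universe u v

variable {G : Type u} [Group G] [Fintype G] {t : G} {p : ℕ} {Q : ℤ}

namespace TSetup

variable {F : Frame (Cen t) (tc t) p Q} {S : Type v} [CommGroup S] (D : TSetup F S)

/-- Conjugation by `g`. -/
def cg : G →* G := (MulAut.conj D.g).toMonoidHom

theorem cg_apply (x : G) : D.cg x = D.g * x * D.g⁻¹ := rfl

theorem cg_mem {x : G} (hx : x ∈ D.A) : D.cg x ∈ D.A := D.conj_g hx

theorem cg3 {x : G} (hx : x ∈ D.A) : D.cg (D.cg (D.cg x)) = x := D.g3_fix hx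

theorem orderOf_cg (x : G) : orderOf (D.cg x) = orderOf x := MulEquiv.orderOf_eq (MulAut.conj D.g) x

theorem cg_inj {x y : G} (h : D.cg x = D.cg y) : x = y := (MulAut.conj D.g).injective h

/-- Conjugation by `s`. -/
def ci : G →* G := (MulAut.conj D.ii).toMonoidHom

theorem ci_apply (x : G) : D.ci x = D.ii * x * D.ii⁻¹ := rfl

theorem ci_mem {x : G} (hx : x ∈ D.A) : D.ci x ∈ D.A := D.conj_ii hx

theorem orderOf_ci (x : G) : orderOf (D.ci x) = orderOf x := MulEquiv.orderOf_eq (MulAut.conj D.ii) x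

theorem ci_ci (x : G) : D.ci (D.ci x) = x := by
  rw [D.ci_apply, D.ci_apply, D.ii_inv, show D.ii * (D.ii * x * D.ii) * D.ii = D.ii * D.ii * x * (D.ii * D.ii) by group,
    D.ii_mul, one_mul, mul_one]

theorem ci_cg {x : G} (hx : x ∈ D.A) : D.ci (D.cg x) = D.cg (D.cg (D.ci x)) := by
  have h := D.ii_conj_g hx
  calc D.ci (D.cg x) = D.g⁻¹ * (D.ci x) * D.g := h
    _ = D.g⁻¹ * D.cg (D.cg (D.cg (D.ci x))) * D.g := by rw [D.cg3 (D.ci_mem hx)]
    _ = D.cg (D.cg (D.ci x)) := by simp only [D.cg_apply]; group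

theorem centAt_ci {v : G} (hv : CentAt t v) : D.ci v = v :=
  mul_inv_eq_iff_eq_mul.2 (hv D.ii (mem_Cen.1 F.s.2)).eq

/-- The norm `x · gxg⁻¹ · g²xg⁻²`. -/
def Nm (x : G) : G := x * D.cg x * D.cg (D.cg x)

theorem Nm_mem {x : G} (hx : x ∈ D.A) : D.Nm x ∈ D.A :=
  mul_mem (mul_mem hx (D.cg_mem hx)) (D.cg_mem (D.cg_mem hx))

theorem Nm_mul {x y : G} (hx : x ∈ D.A) (hy : y ∈ D.A) : D.Nm (x * y) = D.Nm x * D.Nm y := by
  have h1 := D.cg_mem hx
  have h2 := D.cg_mem hy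
  rw [Nm, map_mul, map_mul, Nm, Nm, (D.comm hy h1).mul_mul_mul_comm,
    (D.comm (mul_mem hy h2) (D.cg_mem h1)).mul_mul_mul_comm]

theorem Nm_inv {x : G} (hx : x ∈ D.A) : D.Nm x⁻¹ = (D.Nm x)⁻¹ := by
  refine eq_inv_of_mul_eq_one_left ?_
  rw [← D.Nm_mul (inv_mem hx) hx, inv_mul_cancel, Nm, map_one, map_one, one_mul, one_mul]

theorem cg_Nm {x : G} (hx : x ∈ D.A) : D.cg (D.Nm x) = D.Nm x := by
  rw [Nm, map_mul, map_mul, D.cg3 hx, mul_assoc x, (D.comm hx (mul_mem (D.cg_mem hx) (D.cg_mem (D.cg_mem hx)))).eq]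

theorem Nm_fixed {x : G} (h : D.cg x = x) : D.Nm x = x ^ 3 := by
  rw [Nm, h, h, pow_succ, pow_two]

theorem ci_Nm {x : G} (hx : x ∈ D.A) : D.ci (D.Nm x) = D.Nm (D.ci x) := by
  have h1 := D.ci_mem hx
  rw [Nm, map_mul, map_mul, D.ci_cg hx, D.ci_cg (D.cg_mem hx), D.ci_cg hx, D.cg3 (D.cg_mem h1), mul_assoc,
    (D.comm (D.cg_mem (D.cg_mem h1)) (D.cg_mem h1)).eq, ← mul_assoc, Nm]

variable [IsSimpleGroup G]

theorem fixed_inverted {x : G} (hx : x ∈ D.A) (ho : Odd (orderOf x)) (h : D.cg x = x) : D.ci x = x⁻¹ :=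
  D.ii_inverts hx ho h

end TSetup

/-- The twisted element. -/
structure Tw {F : Frame (Cen t) (tc t) p Q} {S : Type v} [CommGroup S] (D : TSetup F S) where
  /-- the prime -/
  r : ℕ
  /-- the exponent -/
  j : ℕ
  /-- the element -/
  a : G
  hr : r.Prime
  hr2 : r ≠ 2
  hj : 1 ≤ j
  h3 : r = 3 → j = 2
  mem : a ∈ D.A
  fix : D.g * a * D.g⁻¹ = a
  ord : orderOf a = r ^ j

namespace Tw

variable {F : Frame (Cen t) (tc t) p Q} {S : Type v} [CommGroup S] {D : TSetup F S} (T : Tw D)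

theorem rodd : Odd T.r := T.hr.odd_of_ne_two T.hr2

/-- The element of order `r`. -/
def a₁ : G := T.a ^ T.r ^ (T.j - 1)

theorem ord₁ : orderOf T.a₁ = T.r := by
  rw [a₁, orderOf_pow, T.ord, Nat.gcd_eq_right (pow_dvd_pow _ (by omega)),
    Nat.pow_div (by omega) T.hr.pos, show T.j - (T.j - 1) = 1 by have := T.hj; omega, pow_one]

theorem mem₁ : T.a₁ ∈ D.A := pow_mem T.mem _

theorem fix₁ : D.cg T.a₁ = T.a₁ := by rw [a₁, map_pow]; exact congrArg (fun z => z ^ _) T.fix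

theorem ne₁ : T.a₁ ≠ 1 := fun h => T.hr.ne_one (by rw [← T.ord₁, h, orderOf_one])

theorem odd_of_pow {x : G} {i : ℕ} (h : x ^ T.r ^ i = 1) : Odd (orderOf x) := odd_of_pow_eq_one T.rodd h

variable [IsSimpleGroup G]

theorem inv₀ : D.ci T.a = T.a⁻¹ :=
  D.fixed_inverted T.mem (by rw [T.ord]; exact T.rodd.pow) T.fix

theorem inv₁ : D.ci T.a₁ = T.a₁⁻¹ := by rw [a₁, map_pow, T.inv₀, inv_pow]

/-- Inverted elements of the torus of order dividing that of `a` are fixed by `g`. -/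
theorem fixed_of_inverted {x : G} (hx : x ∈ D.A) (hi : D.ci x = x⁻¹) (hd : orderOf x ∣ T.r ^ T.j) :
    D.cg x = x := by
  obtain ⟨k, hk⟩ := Subgroup.mem_zpowers_iff.1 (D.mem_zpowers_of_inverted hx T.mem hi T.inv₀ (T.ord ▸ hd))
  rw [← hk, map_zpow]
  exact congrArg (fun z => z ^ k) T.fix

/-- An inverted element of order `r` generates `a₁`. -/
theorem a₁_mem {x : G} (hx : x ∈ D.A) (hi : D.ci x = x⁻¹) (ho : orderOf x = T.r) : T.a₁ ∈ zpowers x :=
  D.mem_zpowers_of_inverted T.mem₁ hx T.inv₁ hi (dvd_of_eq (T.ord₁.trans ho.symm))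

theorem cube_of_central {v : G} (hv : CentAt t v) (hd : orderOf v ∣ T.r ^ T.j) : v ^ 3 = 1 := by
  have hvA := D.centAt_mem_A hv
  have h1A := D.cg_mem hvA
  have h2A := D.cg_mem h1A
  set v1 := D.cg v with hv1
  set v2 := D.cg v1 with hv2
  have ho : Odd (orderOf v) := (T.rodd.pow).of_dvd_nat hd
  have hci1 : D.ci v1 = v2 := by rw [hv1, D.ci_cg hvA, D.centAt_ci hv]
  have hci2 : D.ci v2 = v1 := by rw [← hci1, D.ci_ci]
  set d := v1 * v2⁻¹ with hd'
  have hdA : d ∈ D.A := mul_mem h1A (inv_mem h2A)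
  have hdi : D.ci d = d⁻¹ := by rw [hd', map_mul, map_inv, hci1, hci2, mul_inv_rev, inv_inv]
  have hdo : orderOf d ∣ T.r ^ T.j := by
    refine orderOf_dvd_of_pow_eq_one ?_
    rw [hd', (D.comm h1A (inv_mem h2A)).mul_pow, inv_pow, ← map_pow, hv2, ← map_pow, hv1, ← map_pow,
      orderOf_dvd_iff_pow_eq_one.1 hd, map_one, map_one, inv_one, mul_one]
  have hfix := T.fixed_of_inverted hdA hdi hdo
  have hN : v * v1 * v2 = 1 := D.norm_eq_one hv ho
  rw [hd', map_mul, map_inv, ← hv2, hv2, hv1, D.cg3 hvA, ← hv1, ← hv2] at hfix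
  -- `v2 v⁻¹ = v1 v2⁻¹`
  have e : v2 * v2 = v1 * v := by
    calc v2 * v2 = v2 * v⁻¹ * (v * v2) := by group
      _ = v1 * v2⁻¹ * (v * v2) := by rw [hfix]
      _ = v1 * v := by rw [(D.comm hvA h2A).eq]; group
  have h3 : v2 ^ 3 = 1 := by
    rw [pow_succ, pow_two, e, (D.comm h1A hvA).eq, hN]
  rw [hv2, hv1, ← map_pow, ← map_pow] at h3
  exact D.cg_inj (D.cg_inj (by rw [h3, map_one, map_one]))

omit [IsSimpleGroup G] in
theorem centAt_pow {v : G} (hv : CentAt t v) (n : ℕ) : CentAt t (v ^ n) := fun y hy => (hv y hy).pow_right n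

/-- For `r ≠ 3` the centre has no `r`-elements. -/
theorem central_eq_one (h : T.r ≠ 3) {v : G} (hv : CentAt t v) {i : ℕ} (hd : v ^ T.r ^ i = 1) : v = 1 := by
  induction i with
  | zero => rwa [pow_zero, pow_one] at hd
  | succ i ih =>
    refine ih ?_
    rw [pow_succ, pow_mul] at hd
    exact eq_one_of_coprime ((Nat.coprime_primes T.hr Nat.prime_three).2 h) hd
      (T.cube_of_central (centAt_pow hv _) ((orderOf_dvd_of_pow_eq_one hd).trans
        (dvd_pow_self _ (by have := T.hj; omega))))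

/-- For `r = 3` the `3`-elements of the centre have exponent three. -/
theorem central_cube (h : T.r = 3) {v : G} (hv : CentAt t v) {i : ℕ} (hd : v ^ T.r ^ i = 1) : v ^ 3 = 1 := by
  induction i with
  | zero => rw [pow_zero, pow_one] at hd; rw [hd, one_pow]
  | succ i ih =>
    obtain _ | i := i
    · rwa [pow_one, h] at hd
    refine ih ?_
    rw [pow_succ, pow_succ, mul_assoc, pow_mul, ← pow_two] at hd
    have h2 := T.cube_of_central (centAt_pow hv (T.r ^ i))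
      (by rw [T.h3 h]; exact orderOf_dvd_of_pow_eq_one hd)
    rwa [← pow_mul, ← h, ← pow_succ] at h2

/-- The `r`-elements of the torus are inverted for `r ≠ 3`. -/
theorem inverted (h : T.r ≠ 3) {x : G} (hx : x ∈ D.A) {i : ℕ} (hd : x ^ T.r ^ i = 1) : D.ci x = x⁻¹ := by
  refine eq_inv_of_mul_eq_one_right (T.central_eq_one h (D.centAt_mul_ii hx) (i := i) ?_)
  rw [(D.comm hx (D.ci_mem hx)).mul_pow, ← map_pow, hd, map_one, mul_one]

/-- The cubes of the `3`-elements of the torus are inverted for `r = 3`. -/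
theorem cube_inverted (h : T.r = 3) {x : G} (hx : x ∈ D.A) {i : ℕ} (hd : x ^ T.r ^ i = 1) :
    D.ci (x ^ 3) = (x ^ 3)⁻¹ := by
  refine eq_inv_of_mul_eq_one_right ?_
  rw [map_pow, ← (D.comm hx (D.ci_mem hx)).mul_pow, D.ci_apply]
  refine T.central_cube h (D.centAt_mul_ii hx) (i := i) ?_
  rw [← D.ci_apply, (D.comm hx (D.ci_mem hx)).mul_pow, ← map_pow, hd, map_one, mul_one]

/-- An inverted `r`-element `≠ 1` generates `a₁`. -/
theorem a₁_mem_of_inverted {x : G} (hx : x ∈ D.A) (hi : D.ci x = x⁻¹) {i : ℕ} (hd : x ^ T.r ^ i = 1)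
    (hne : x ≠ 1) : T.a₁ ∈ zpowers x := by
  obtain ⟨k, -, hk⟩ := (Nat.dvd_prime_pow T.hr).1 (orderOf_dvd_of_pow_eq_one hd)
  obtain _ | k := k
  · exact absurd (orderOf_eq_one_iff.1 (by rw [hk, pow_zero])) hne
  have ho : orderOf (x ^ T.r ^ k) = T.r := by
    rw [orderOf_pow, hk, Nat.gcd_eq_right (pow_dvd_pow _ (Nat.le_succ _)), Nat.pow_div (Nat.le_succ _) T.hr.pos,
      show k.succ - k = 1 by omega, pow_one]
  have h1 := T.a₁_mem (pow_mem hx _) (by rw [map_pow, hi, inv_pow]) ho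
  exact Subgroup.zpowers_le.2 (pow_mem (mem_zpowers x) _) h1

/-- An element of the torus with nontrivial norm of its `r`-part generates `a₁`. -/
theorem a₁_mem_of_Nm {x : G} (hx : x ∈ D.A) {i : ℕ} (hd : x ^ T.r ^ i = 1) (hne : D.Nm x ≠ 1) :
    T.a₁ ∈ zpowers x := by
  by_cases h : T.r = 3
  · by_cases h3 : x ^ 3 = 1
    · refine absurd ?_ hne
      -- `x⁻¹ = u d` with `u` central and `d` fixed
      have hcx := D.ci_mem hx
      set u := x * D.ci x with hu
      set d := x * (D.ci x)⁻¹ with hd'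
      have hu3 : u ^ 3 = 1 := by rw [hu, (D.comm hx hcx).mul_pow, h3, ← map_pow, h3, map_one, mul_one]
      have hd3 : d ^ 3 = 1 := by
        rw [hd', (D.comm hx (inv_mem hcx)).mul_pow, h3, inv_pow, ← map_pow, h3, map_one, inv_one, mul_one]
      have hdA : d ∈ D.A := mul_mem hx (inv_mem hcx)
      have hdf : D.cg d = d := T.fixed_of_inverted hdA
        (by rw [hd', map_mul, map_inv, D.ci_ci, mul_inv_rev, inv_inv]) (by
          rw [T.h3 h, h]; exact (orderOf_dvd_of_pow_eq_one hd3).trans (dvd_pow_self 3 two_ne_zero))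
      have hcu : CentAt t u := D.centAt_mul_ii hx
      have e : x⁻¹ = u * d := by
        rw [hu, hd', (D.comm hx hcx).eq, mul_assoc, ← mul_assoc x, ← pow_two, ← mul_assoc,
          (D.comm hcx (pow_mem hx 2)).eq, mul_inv_cancel_right]
        exact inv_eq_of_mul_eq_one_right (by rw [← pow_succ', h3])
      have hN : D.Nm x⁻¹ = 1 := by
        rw [e, D.Nm_mul (D.centAt_mem_A hcu) hdA, D.Nm_fixed hdf, hd3, mul_one]
        exact D.norm_eq_one hcu ((show Odd 3 by decide).of_dvd_nat (orderOf_dvd_of_pow_eq_one hu3))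
      rwa [D.Nm_inv hx, inv_eq_one] at hN
    · exact Subgroup.zpowers_le.2 (pow_mem (mem_zpowers x) 3)
        (T.a₁_mem_of_inverted (pow_mem hx 3) (T.cube_inverted h hx hd) (i := i)
          (by rw [← pow_mul, mul_comm, pow_mul, hd, one_pow]) h3)
  · refine T.a₁_mem_of_inverted hx (T.inverted h hx hd) hd fun e => hne ?_
    rw [e, TSetup.Nm, map_one, map_one, one_mul, one_mul]

/-- A fixed `r`-element `≠ 1` generates `a₁`. -/
theorem a₁_mem_of_fixed {x : G} (hx : x ∈ D.A) (hf : D.cg x = x) {i : ℕ} (hd : x ^ T.r ^ i = 1) (hne : x ≠ 1) :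
    T.a₁ ∈ zpowers x :=
  T.a₁_mem_of_inverted hx (D.fixed_inverted hx (T.odd_of_pow hd) hf) hd hne

end Tw

end Cfsg.Agent.Invol.BrauerL3
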