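import Cfsg.Agent.Lib.Invol.BrauerL3.Ind

/-!
# Induction from a subgroup with a distinguished linear character

`L` centralises an element `a₁` of odd prime order, `L ∪ sL` contains the normaliser of `⟨a₁⟩` for an involution `s`
inverting the character `η` of `L`, and `η(x) ≠ 1` forces `a₁ ∈ ⟨x⟩`.  Then `Ind (1 - η)` has norm three, and its
equation involves only the number of involutions in `sL`.
-/

set_option autoImplicit false
set_option linter.unusedSectionVars false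
set_option linter.style.haveILetI false

open scoped ComplexConjugate Classical

namespace Cfsg.Agent.Invol.BrauerL3

open Cfsg Cfsg.Agent.Char Cfsg.Agent.Block

universe u

variable {G : Type u} [Group G] [Fintype G]

/-- The data. -/
structure Twist (G : Type u) [Group G] where
  /-- the subgroup -/
  L : Subgroup G
  /-- the involution -/
  s : G
  /-- the element of prime order -/
  a₁ : G
  /-- a central element seen by the character -/
  a₀ : G
  /-- the character -/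
  η : L →* ℂˣ
  s2 : s * s = 1
  sL : s ∉ L
  conjL : ∀ l ∈ L, s * l * s⁻¹ ∈ L
  norm : ∀ g : G, g * a₁ * g⁻¹ ∈ Subgroup.zpowers a₁ → g ∈ L ∨ s * g ∈ L
  a₁_odd : Odd (orderOf a₁)
  a₁_ne : a₁ ≠ 1
  inv : ∀ (l : G) (h : l ∈ L), η ⟨s * l * s⁻¹, conjL l h⟩ = (η ⟨l, h⟩)⁻¹
  supp : ∀ l : L, η l ≠ 1 → a₁ ∈ Subgroup.zpowers (l : G)
  odd : ∀ l : L, η l * η l = 1 → η l = 1
  mem₀ : a₀ ∈ L
  comm₀ : ∀ l ∈ L, l * a₀ = a₀ * l
  s_a₀ : s * a₀ * s⁻¹ = a₀⁻¹
  η₀ : η ⟨a₀, mem₀⟩ ≠ 1

namespace Twist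

variable (T : Twist G)

/-- `1 - η`. -/
noncomputable def phi (l : T.L) : ℂ := 1 - (T.η l : ℂ)

/-- The induced function. -/
noncomputable def Psi : G → ℂ := indFun T.L T.phi

/-- The involutions in `sL`. -/
noncomputable def outer : Finset G := Finset.univ.filter fun i => orderOf i = 2 ∧ T.s * i ∈ T.L

theorem phi_ne {l : T.L} : T.phi l ≠ 0 ↔ T.η l ≠ 1 := by
  rw [phi, sub_ne_zero, ne_eq, ne_eq, eq_comm, Units.val_eq_one]

theorem phi_class : IsClassFunction T.L T.phi := fun g h => by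
  simp only [phi, map_mul, map_inv]
  rw [mul_right_comm, mul_inv_cancel, one_mul]

theorem phi_gen : IsGeneralizedCharacter T.L T.phi :=
  IsGenChar.sub (IsGenChar.of_isCharacter (irr_isChar (trivialIrr T.L)))
    (IsGenChar.of_isCharacter (irr_isChar (⟨fun l => (T.η l : ℂ), isIrr_linear T.η⟩ : IrrCharacter T.L)))

theorem psi_gen : IsGeneralizedCharacter G T.Psi := IsGenChar.ind _ T.phi_gen

/-- An element of `L` with nontrivial value is moved inside `L` only by elements of `L ∪ sL`. -/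
theorem mem_of_conj {x y : T.L} (hx : T.η x ≠ 1) (hy : T.η y ≠ 1) {g : G}
    (h : g * (x : G) * g⁻¹ = y ∨ g * (x : G) * g⁻¹ = (y : G)⁻¹) : g ∈ T.L ∨ T.s * g ∈ T.L := by
  refine T.norm g ?_
  have h1 : g * T.a₁ * g⁻¹ ∈ Subgroup.zpowers (g * (x : G) * g⁻¹) := by
    obtain ⟨k, hk⟩ := Subgroup.mem_zpowers_iff.1 (T.supp x hx)
    exact Subgroup.mem_zpowers_iff.2 ⟨k, by rw [conj_zpow, hk]⟩
  have h1' : g * T.a₁ * g⁻¹ ∈ Subgroup.zpowers (y : G) := by
    rcases h with h | h <;> rw [h] at h1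
    · exact h1
    · rwa [Subgroup.zpowers_inv] at h1
  exact mem_zpowers_of_orderOf_eq (T.supp y hy) h1' (by rw [← MulAut.conj_apply, MulEquiv.orderOf_eq])
where
  mem_zpowers_of_orderOf_eq {a b y : G} (ha : a ∈ Subgroup.zpowers y) (hb : b ∈ Subgroup.zpowers y)
      (ho : orderOf b = orderOf a) : b ∈ Subgroup.zpowers a := by
    have h1 : (⟨b, hb⟩ : Subgroup.zpowers y) ∈ Subgroup.zpowers (⟨a, ha⟩ : Subgroup.zpowers y) := by
      set a' : Subgroup.zpowers y := ⟨a, ha⟩
      set b' : Subgroup.zpowers y := ⟨b, hb⟩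
      have hob : orderOf b' = orderOf a' := by
        rw [← Subgroup.orderOf_coe, ← Subgroup.orderOf_coe]; exact ho
      by_contra hnot
      have hle := IsCyclic.card_pow_eq_one_le (α := Subgroup.zpowers y) (orderOf_pos a')
      have hsub : insert b' ((Finset.univ : Finset (Subgroup.zpowers a')).image Subtype.val) ⊆
          Finset.univ.filter fun z => z ^ orderOf a' = 1 := by
        intro z hz
        refine Finset.mem_filter.2 ⟨Finset.mem_univ _, ?_⟩
        rcases Finset.mem_insert.1 hz with rfl | hz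
        · rw [← hob, pow_orderOf_eq_one]
        · obtain ⟨w, -, rfl⟩ := Finset.mem_image.1 hz
          exact orderOf_dvd_iff_pow_eq_one.1 (orderOf_dvd_of_mem_zpowers w.2)
      have h2 := (Finset.card_le_card hsub).trans hle
      rw [Finset.card_insert_of_notMem (fun h => hnot (by
          obtain ⟨w, -, hw⟩ := Finset.mem_image.1 h; exact hw ▸ w.2)),
        Finset.card_image_of_injective _ Subtype.val_injective, Finset.card_univ, Fintype.card_zpowers] at h2
      omega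
    obtain ⟨k, hk⟩ := Subgroup.mem_zpowers_iff.1 h1
    exact Subgroup.mem_zpowers_iff.2 ⟨k, by simpa using congrArg Subtype.val hk⟩

theorem psi_at {x : T.L} (hx : T.η x ≠ 1) : T.Psi (x : G) = 2 - (T.η x : ℂ) - (((T.η x)⁻¹ : ℂˣ) : ℂ) := by
  have hval : ∀ g : G, extendByZero T.L T.phi (g⁻¹ * (x : G) * g) =
      (if g ∈ T.L then T.phi x else 0) + (if T.s * g ∈ T.L then 1 - (((T.η x)⁻¹ : ℂˣ) : ℂ) else 0) := by
    intro g
    have hns : g ∈ T.L → T.s * g ∉ T.L := fun hg hsg => T.sL ((Subgroup.mul_mem_cancel_right _ hg).1 hsg)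
    by_cases hg : g ∈ T.L
    · rw [if_pos hg, if_neg (hns hg), add_zero,
        extendByZero_of_mem _ (mul_mem (mul_mem (inv_mem hg) x.2) hg)]
      have h := T.phi_class x (⟨g, hg⟩⁻¹)
      rwa [inv_inv] at h
    · rw [if_neg hg, zero_add]
      by_cases hsg : T.s * g ∈ T.L
      · rw [if_pos hsg]
        set m : T.L := ⟨T.s * g, hsg⟩
        set x' : T.L := ⟨T.s * x * T.s⁻¹, T.conjL _ x.2⟩
        have e : g⁻¹ * (x : G) * g = ((m⁻¹ * x' * m : T.L) : G) := by
          simp only [Subgroup.coe_mul, Subgroup.coe_inv, m, x']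
          group
        rw [e, extendByZero_of_mem _ (m⁻¹ * x' * m).2]
        have h := T.phi_class x' m⁻¹
        rw [inv_inv] at h
        rw [Subtype.coe_eta, h, phi, show T.η x' = (T.η x)⁻¹ from T.inv _ x.2]
      · rw [if_neg hsg]
        by_cases hm : g⁻¹ * (x : G) * g ∈ T.L
        · rw [extendByZero_of_mem _ hm]
          by_contra hne
          rcases T.mem_of_conj (T.phi_ne.1 hne) hx (g := g) (Or.inl (by simp only; group)) with h | h
          · exact hg h
          · exact hsg h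
        · exact extendByZero_not_mem _ hm
  simp only [Psi, indFun, hval, Finset.sum_add_distrib, ← Finset.sum_filter, Finset.sum_const, nsmul_eq_mul]
  have c1 : (Finset.univ.filter fun g => g ∈ T.L).card = Nat.card T.L := by
    rw [← Fintype.card_subtype, Nat.card_eq_fintype_card]
  have c2 : (Finset.univ.filter fun g => T.s * g ∈ T.L).card = Nat.card T.L := by
    rw [← Fintype.card_subtype, ← Nat.card_eq_fintype_card]
    exact Nat.card_congr ((Equiv.mulLeft T.s).subtypeEquiv fun g => Iff.rfl)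
  rw [c1, c2, phi, ← mul_add, ← mul_assoc, inv_mul_cancel₀ (Nat.cast_ne_zero.2 Nat.card_pos.ne'), one_mul]
  ring

theorem sum_eta_eq_zero {f : T.L →* ℂˣ} (hf : f ⟨T.a₀, T.mem₀⟩ ≠ 1) : ∑ l : T.L, (f l : ℂ) = 0 := by
  have h : (f ⟨T.a₀, T.mem₀⟩ : ℂ) * ∑ l : T.L, (f l : ℂ) = ∑ l : T.L, (f l : ℂ) := by
    rw [Finset.mul_sum]
    exact Fintype.sum_equiv (Equiv.mulLeft ⟨T.a₀, T.mem₀⟩) _ _ fun l => by simp
  have h' : ((f ⟨T.a₀, T.mem₀⟩ : ℂ) - 1) * ∑ l : T.L, (f l : ℂ) = 0 := by rw [sub_mul, h, one_mul, sub_self]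
  exact (mul_eq_zero.1 h').resolve_left (sub_ne_zero.2 fun e => hf (Units.val_eq_one.1 e))

theorem psi_norm : classInner T.Psi T.Psi = 3 := by
  have hL : (Nat.card T.L : ℂ) ≠ 0 := Nat.cast_ne_zero.2 Nat.card_pos.ne'
  rw [Psi, classInner_indFun _ _ (indFun_classFun _ _)]
  simp only [classInner]
  have e : ∀ x : T.L, T.phi x * conj (indFun T.L T.phi (x : G)) =
      3 - 3 * (T.η x : ℂ) - (((T.η x)⁻¹ : ℂˣ) : ℂ) + ((T.η * T.η) x : ℂ) := by
    intro x
    by_cases hx : T.η x = 1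
    · rw [phi, hx]; simp; norm_num [hx]
    · have h := T.psi_at hx
      rw [Psi] at h
      rw [h, phi, map_sub, map_sub, map_ofNat, Units.val_inv_eq_inv_val, map_inv₀]
      have hc : conj (T.η x : ℂ) = (T.η x : ℂ)⁻¹ := by
        refine (Complex.inv_eq_conj ?_).symm
        refine Complex.norm_eq_one_of_pow_eq_one (n := orderOf x) ?_ (orderOf_pos x).ne'
        rw [← Units.val_pow_eq_pow_val, ← map_pow, pow_orderOf_eq_one, map_one, Units.val_one]
      rw [hc, inv_inv, MonoidHom.mul_apply, Units.val_mul]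
      have h0 : (T.η x : ℂ) ≠ 0 := Units.ne_zero _
      field_simp
      ring
  rw [Finset.sum_congr rfl fun x _ => e x, Finset.sum_add_distrib, Finset.sum_sub_distrib, Finset.sum_sub_distrib,
    ← Finset.mul_sum, T.sum_eta_eq_zero T.η₀,
    show ∑ x : T.L, (((T.η x)⁻¹ : ℂˣ) : ℂ) = 0 from T.sum_eta_eq_zero (f := T.η⁻¹) (by simpa using T.η₀),
    T.sum_eta_eq_zero (f := T.η * T.η) (fun h => T.η₀ (T.odd _ h)),
    Finset.sum_const, Finset.card_univ, nsmul_eq_mul, ← Nat.card_eq_fintype_card]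
  field_simp
  ring

theorem psi_one : classInner T.Psi (fun _ => 1) = 1 := by
  rw [Psi, classInner_indFun _ _ (fun _ _ => rfl)]
  simp only [classInner, map_one, mul_one, phi, Finset.sum_sub_distrib, T.sum_eta_eq_zero T.η₀, sub_zero,
    Finset.sum_const, Finset.card_univ, nsmul_eq_mul, ← Nat.card_eq_fintype_card]
  exact inv_mul_cancel₀ (Nat.cast_ne_zero.2 Nat.card_pos.ne')

theorem psi_deg : T.Psi 1 = 0 := by
  simp only [Psi, indFun, mul_one, inv_mul_cancel]
  rw [Finset.sum_eq_zero, mul_zero]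
  intro x _
  rw [extendByZero_of_mem _ (one_mem _)]
  simp [phi, show (⟨1, one_mem _⟩ : T.L) = 1 from rfl]

theorem psi_invol {t : G} (ht : orderOf t = 2) : T.Psi t = 0 := by
  simp only [Psi, indFun]
  rw [Finset.sum_eq_zero, mul_zero]
  intro g _
  by_cases hm : g⁻¹ * t * g ∈ T.L
  · rw [extendByZero_of_mem _ hm]
    by_contra hne
    have h1 := orderOf_dvd_of_mem_zpowers (T.supp _ (T.phi_ne.1 hne))
    have e : orderOf (g⁻¹ * t * g) = 2 := by
      rw [show g⁻¹ * t * g = g⁻¹ * t * g⁻¹⁻¹ by rw [inv_inv], ← MulAut.conj_apply, MulEquiv.orderOf_eq, ht]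
    simp only at h1
    rw [e, Nat.dvd_prime Nat.prime_two] at h1
    rcases h1 with h1 | h1
    · exact T.a₁_ne (orderOf_eq_one_iff.1 h1)
    · exact Nat.not_even_iff_odd.2 T.a₁_odd (by rw [h1]; exact even_two)
  · exact extendByZero_not_mem _ hm

/-- Orthogonality to a function induced from `C(t)` vanishing on the conjugates of the support. -/
theorem psi_inner {t : G} (φ : Cen t → ℂ)
    (h : ∀ (x : Cen t) (l : T.L) (g : G), T.η l ≠ 1 → (x : G) = g * l * g⁻¹ → φ x = 0) :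
    classInner (indFun (Cen t) φ) T.Psi = 0 := by
  rw [classInner_indFun (Cen t) φ (show IsClassFunction G T.Psi from indFun_classFun T.L T.phi)]
  simp only [classInner]
  rw [Finset.sum_eq_zero, mul_zero]
  intro x _
  by_cases hx : φ x = 0
  · rw [hx, zero_mul]
  · have h0 : T.Psi (x : G) = 0 := by
      simp only [Psi, indFun]
      rw [Finset.sum_eq_zero, mul_zero]
      intro g _
      by_cases hm : g⁻¹ * (x : G) * g ∈ T.L
      · rw [extendByZero_of_mem _ hm]
        by_contra hne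
        exact hx (h x ⟨_, hm⟩ g (T.phi_ne.1 hne) (by group))
      · exact extendByZero_not_mem _ hm
    rw [h0, map_zero, mul_zero]

theorem outer_mem {i j : G} (hi : orderOf i = 2) (hj : orderOf j = 2) (h : i * j ∈ T.L)
    (hne : T.η ⟨i * j, h⟩ ≠ 1) : i ∈ T.outer ∧ j ∈ T.outer := by
  have hii := mul_self_of_two hi
  have hinv : i * (i * j) * i⁻¹ = (i * j)⁻¹ := by
    rw [← mul_assoc, hii, one_mul, mul_inv_rev, inv_eq_of_mul_eq_one_right (mul_self_of_two hj)]
  have hiL : T.s * i ∈ T.L := by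
    rcases T.mem_of_conj hne hne (g := i) (Or.inr hinv) with hiL | hiL
    · exfalso
      refine hne (T.odd _ ?_)
      have e : (⟨i, hiL⟩ : T.L) * ⟨i * j, h⟩ * (⟨i, hiL⟩ : T.L)⁻¹ = (⟨i * j, h⟩ : T.L)⁻¹ := Subtype.ext hinv
      have e' := congrArg T.η e
      rw [map_mul, map_mul, map_inv, map_inv, mul_right_comm, mul_inv_cancel, one_mul] at e'
      exact mul_eq_one_iff_eq_inv.2 e'
    · exact hiL
  refine ⟨Finset.mem_filter.2 ⟨Finset.mem_univ _, hi, hiL⟩, Finset.mem_filter.2 ⟨Finset.mem_univ _, hj, ?_⟩⟩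
  -- `s j = (s i s⁻¹) … `: both are outside
  have e : T.s * j = T.s * i * (i * j) := by rw [mul_assoc, ← mul_assoc i i, hii, one_mul]
  rw [e]
  exact mul_mem hiL h

theorem outer_translate {i : G} (hi : i ∈ T.outer) : i * T.a₀ ∈ T.outer := by
  obtain ⟨-, hi2, hiL⟩ := Finset.mem_filter.1 hi
  have hsL : T.s * i * T.a₀ ∈ T.L := mul_mem hiL T.mem₀
  rw [mul_assoc] at hsL
  refine Finset.mem_filter.2 ⟨Finset.mem_univ _, orderOf_eq_prime ?_ ?_, hsL⟩
  · -- `i a₀ i⁻¹ = a₀⁻¹`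
    have hs' : T.s⁻¹ = T.s := inv_eq_of_mul_eq_one_right T.s2
    have e : i * T.a₀ * i⁻¹ = T.a₀⁻¹ := by
      calc i * T.a₀ * i⁻¹ = T.s⁻¹ * ((T.s * i) * T.a₀ * (T.s * i)⁻¹) * T.s := by group
        _ = T.s⁻¹ * T.a₀ * T.s := by rw [T.comm₀ _ hiL, mul_inv_cancel_right]
        _ = T.s * T.a₀ * T.s⁻¹ := by rw [hs']
        _ = T.a₀⁻¹ := T.s_a₀
    calc (i * T.a₀) ^ 2 = (i * T.a₀ * i⁻¹) * (i * i) * T.a₀ := by rw [pow_two]; group
      _ = 1 := by rw [e, mul_self_of_two hi2, mul_one, inv_mul_cancel]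
  · intro h
    refine T.sL ?_
    rw [← mul_assoc, mul_assoc, h, mul_one] at hsL
    exact hsL

theorem sum_outer {i : G} (hi : i ∈ T.outer) : ∑ j ∈ T.outer, extendByZero T.L T.phi (i * j) =
    (T.outer.card : ℂ) := by
  obtain ⟨-, hi2, hiL⟩ := Finset.mem_filter.1 hi
  -- the value of `η` on `s j`
  set F : G → ℂ := fun z => if h : z ∈ T.L then (T.η ⟨z, h⟩ : ℂ) else 0 with hF
  have hval : ∀ j ∈ T.outer, extendByZero T.L T.phi (i * j) =
      1 - ((T.η ⟨T.s * i, hiL⟩ : ℂ))⁻¹ * F (T.s * j) := by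
    intro j hj
    obtain ⟨-, -, hjL⟩ := Finset.mem_filter.1 hj
    have e : i * j = (((⟨T.s * i, hiL⟩ : T.L)⁻¹ * ⟨T.s * j, hjL⟩ : T.L) : G) := by
      simp only [Subgroup.coe_mul, Subgroup.coe_inv, mul_inv_rev, inv_eq_of_mul_eq_one_right (mul_self_of_two hi2),
        inv_eq_of_mul_eq_one_right T.s2]
      rw [mul_assoc, ← mul_assoc T.s, T.s2, one_mul]
    rw [e, extendByZero_of_mem _ (Subtype.prop _)]
    simp only [hF, dif_pos hjL, phi, Subtype.coe_eta, map_mul, map_inv, Units.val_mul, Units.val_inv_eq_inv_val]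
  rw [Finset.sum_congr rfl hval, Finset.sum_sub_distrib, ← Finset.mul_sum]
  have h0 : ∑ j ∈ T.outer, F (T.s * j) = 0 := by
    have h : ∑ j ∈ T.outer, F (T.s * j) = (T.η ⟨T.a₀, T.mem₀⟩ : ℂ) * ∑ j ∈ T.outer, F (T.s * j) := by
      have hb : ∑ j ∈ T.outer, F (T.s * (j * T.a₀)) = ∑ j ∈ T.outer, F (T.s * j) := by
        have hinj : ∀ x ∈ T.outer, ∀ y ∈ T.outer, x * T.a₀ = y * T.a₀ → x = y := fun x _ y _ h => mul_right_cancel h
        have himg : T.outer.image (fun j => j * T.a₀) = T.outer :=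
          Finset.eq_of_subset_of_card_le (Finset.image_subset_iff.2 fun j hj => T.outer_translate hj)
            (Finset.card_image_of_injOn hinj).ge
        conv_rhs => rw [← himg, Finset.sum_image hinj]
      rw [Finset.mul_sum]
      conv_lhs => rw [← hb]
      refine Finset.sum_congr rfl fun j hj => ?_
      obtain ⟨-, -, hjL⟩ := Finset.mem_filter.1 hj
      have hm : T.s * (j * T.a₀) ∈ T.L := by rw [← mul_assoc]; exact mul_mem hjL T.mem₀
      simp only [hF, dif_pos hjL, dif_pos hm]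
      rw [mul_comm, ← Units.val_mul, ← map_mul]
      congr 2
      exact Subtype.ext (mul_assoc _ _ _).symm
    have h' : ((T.η ⟨T.a₀, T.mem₀⟩ : ℂ) - 1) * ∑ j ∈ T.outer, F (T.s * j) = 0 := by rw [sub_mul, one_mul, ← h, sub_self]
    exact (mul_eq_zero.1 h').resolve_left (sub_ne_zero.2 fun e => T.η₀ (Units.val_eq_one.1 e))
  rw [h0, mul_zero, sub_zero, Finset.sum_const, nsmul_eq_mul, mul_one]

/-- The pairs of involutions. -/
theorem sum_pairs : ∑ i ∈ invol G, ∑ j ∈ invol G, extendByZero T.L T.phi (i * j) = (T.outer.card : ℂ) ^ 2 := by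
  have key : ∀ i j, i ∈ invol G → j ∈ invol G → extendByZero T.L T.phi (i * j) ≠ 0 → i ∈ T.outer ∧ j ∈ T.outer := by
    intro i j hi hj hne
    have hm : i * j ∈ T.L := by
      by_contra h
      exact hne (extendByZero_not_mem _ h)
    rw [extendByZero_of_mem _ hm] at hne
    exact T.outer_mem (Finset.mem_filter.1 hi).2 (Finset.mem_filter.1 hj).2 hm (T.phi_ne.1 hne)
  have hsub : T.outer ⊆ invol G := fun i hi =>
    Finset.mem_filter.2 ⟨Finset.mem_univ _, (Finset.mem_filter.1 hi).2.1⟩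
  rw [← Finset.sum_subset hsub fun i hi hni => Finset.sum_eq_zero fun j hj => by
      by_contra hne; exact hni (key i j hi hj hne).1]
  have e : ∀ i ∈ T.outer, ∑ j ∈ invol G, extendByZero T.L T.phi (i * j) =
      ∑ j ∈ T.outer, extendByZero T.L T.phi (i * j) := fun i hi =>
    (Finset.sum_subset hsub fun j hj hnj => by
      by_contra hne; exact hnj (key i j (hsub hi) hj hne).2).symm
  rw [Finset.sum_congr rfl e, Finset.sum_congr rfl fun i hi => T.sum_outer hi, Finset.sum_const, nsmul_eq_mul,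
    pow_two]

/-- The equation. -/
theorem equation {t : G} (ht : orderOf t = 2) (h1 : ∀ i : G, orderOf i = 2 → IsConj t i) :
    ∑ χ : IrrCharacter G, classInner T.Psi (χ : G → ℂ) * (χ : G → ℂ) t ^ 2 / (χ : G → ℂ) 1 =
      (Nat.card (Cen t) : ℂ) ^ 2 / (Nat.card G : ℂ) * ((T.outer.card : ℂ) ^ 2 / (Nat.card T.L : ℂ)) := by
  set c := (Nat.card (Cen t) : ℂ) with hc
  have h := sum_classFun_mul_conj (indFun_classFun T.L T.phi) t t
  simp only [mul_assoc, ← pow_two] at h ⊢
  rw [Psi, ← h]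
  have e1 : ∀ g : G, indFun T.L T.phi (t * (g * (t * g⁻¹))) = (Nat.card T.L : ℂ)⁻¹ *
      ∑ x : G, extendByZero T.L T.phi ((x⁻¹ * t * x⁻¹⁻¹) * ((x⁻¹ * g) * t * (x⁻¹ * g)⁻¹)) := fun g => by
    rw [indFun]
    congr 1
    exact Finset.sum_congr rfl fun x _ => by group
  simp only [e1]
  rw [← Finset.mul_sum, Finset.sum_comm]
  have e2 : ∀ x : G, ∑ g : G, extendByZero T.L T.phi ((x⁻¹ * t * x⁻¹⁻¹) * ((x⁻¹ * g) * t * (x⁻¹ * g)⁻¹)) =
      c * ∑ j ∈ invol G, extendByZero T.L T.phi ((x⁻¹ * t * x⁻¹⁻¹) * j) := fun x => by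
    rw [← sum_conj_class ht h1 fun j => extendByZero T.L T.phi ((x⁻¹ * t * x⁻¹⁻¹) * j)]
    exact Fintype.sum_equiv (Equiv.mulLeft x⁻¹) _ _ fun g => rfl
  simp only [e2, ← Finset.mul_sum]
  have e3 : ∑ x : G, ∑ j ∈ invol G, extendByZero T.L T.phi ((x⁻¹ * t * x⁻¹⁻¹) * j) =
      ∑ x : G, ∑ j ∈ invol G, extendByZero T.L T.phi ((x * t * x⁻¹) * j) :=
    Fintype.sum_equiv (Equiv.inv G) _ _ fun x => rfl
  rw [e3, sum_conj_class ht h1 (fun i => ∑ j ∈ invol G, extendByZero T.L T.phi (i * j)), T.sum_pairs, ← hc]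
  field_simp

end Twist

end Cfsg.Agent.Invol.BrauerL3
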