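import Cfsg.Agent.Lib.Invol.BrauerL3.TwistL
import Cfsg.Agent.Lib.Invol.BrauerL3.TwistInd

/-!
# The character of the centraliser of a twisted element

Homomorphisms of `A` invariant under `g` extend to `A ∪ gA ∪ g²A`.  The transfer into the `r`-part of `A`, followed
by a character, gives the data of a `Twist`, except for `SL₂(4) × Z` with `r ^ j = 5`.
-/

set_option autoImplicit false
set_option linter.unusedSectionVars false

namespace Cfsg.Agent.Invol.BrauerL3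

open Subgroup

universe u v w

variable {G : Type u} [Group G] [Fintype G] {t : G} {p : ℕ} {Q : ℤ}

namespace TSetup

variable {F : Frame (Cen t) (tc t) p Q} {S : Type v} [CommGroup S] (D : TSetup F S)

/-- The torus as a commutative group. -/
@[reducible] def commA : CommGroup D.A :=
  { (inferInstance : Group D.A) with mul_comm := fun a b => Subtype.ext (D.comm a.2 b.2).eq }

/-- An exponent mapping `A` onto its `r`-part. -/
theorem exists_rExp (r : ℕ) (hr : r.Prime) :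
    ∃ M : ℕ, Nat.Coprime r M ∧ ∀ x ∈ D.A, ∃ i, (x ^ M) ^ r ^ i = 1 := by
  refine ⟨ordCompl[r] (Nat.card D.A), Nat.coprime_ordCompl hr Nat.card_pos.ne', fun x hx =>
    ⟨(Nat.card D.A).factorization r, ?_⟩⟩
  rw [← pow_mul, mul_comm, Nat.ordProj_mul_ordCompl_eq_self]
  exact orderOf_dvd_iff_pow_eq_one.1 (Subgroup.orderOf_dvd_natCard D.A hx)

end TSetup

namespace Fx

variable {F : Frame (Cen t) (tc t) p Q} {S : Type v} [CommGroup S] {D : TSetup F S} (T : Fx D)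

variable [IsSimpleGroup G]

/-- Homomorphisms of `A` invariant under `g` extend to `L`. -/
theorem exists_ext (hC : T.IsCyc) {Γ : Type w} [CommGroup Γ] (ψ : D.A →* Γ) (γ : Γ)
    (hψ : ∀ x : D.A, ψ ⟨D.g * x * D.g⁻¹, D.conj_g x.2⟩ = ψ x)
    (hg : ∀ n : ℕ, ∀ h : D.g ^ n ∈ D.A, ψ ⟨D.g ^ n, h⟩ = γ ^ n) :
    ∃ η : T.L →* Γ, (∀ x : D.A, η ⟨x, T.A_le x.2⟩ = ψ x) ∧ η ⟨D.g, T.g_mem⟩ = γ := by
  have hshift : ∀ (j : ℕ) (x : D.A), ∃ x' : D.A, D.g ^ j * (x' : G) = x * D.g ^ j ∧ ψ x' = ψ x := by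
    intro j
    induction j with
    | zero => exact fun x => ⟨x, by simp, rfl⟩
    | succ j ih =>
      intro x
      obtain ⟨y, hy, hy'⟩ := ih x
      refine ⟨⟨D.g⁻¹ * y * D.g, D.conj_g_inv y.2⟩, ?_, ?_⟩
      · rw [pow_succ, show D.g ^ j * D.g * (D.g⁻¹ * (y : G) * D.g) = D.g ^ j * y * D.g by group, hy, mul_assoc]
      · rw [← hy', ← hψ ⟨D.g⁻¹ * y * D.g, D.conj_g_inv y.2⟩]
        exact congrArg ψ (Subtype.ext (by simp only; group))
  have huniq : ∀ (i j : ℕ) (x y : D.A), D.g ^ i * (x : G) = D.g ^ j * y → γ ^ i * ψ x = γ ^ j * ψ y := by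
    have key : ∀ (i k : ℕ) (x y : D.A), D.g ^ i * (x : G) = D.g ^ (i + k) * y →
        γ ^ i * ψ x = γ ^ (i + k) * ψ y := by
      intro i k x y h
      rw [pow_add, mul_assoc] at h
      have h1 : (x : G) = D.g ^ k * y := mul_left_cancel h
      have hk : D.g ^ k ∈ D.A := by
        rw [show D.g ^ k = (x : G) * (y : G)⁻¹ by rw [h1, mul_inv_cancel_right]]
        exact mul_mem x.2 (inv_mem y.2)
      rw [show x = ⟨D.g ^ k, hk⟩ * y from Subtype.ext h1, map_mul, hg, pow_add, mul_assoc]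
    intro i j x y h
    rcases le_total i j with hle | hle
    · obtain ⟨k, rfl⟩ := Nat.exists_eq_add_of_le hle
      exact key i k x y h
    · obtain ⟨k, rfl⟩ := Nat.exists_eq_add_of_le hle
      exact (key j k y x h.symm).symm
  have hex : ∀ l : T.L, ∃ z : ℕ × D.A, (l : G) = D.g ^ z.1 * (z.2 : G) := fun l => by
    obtain ⟨i, x, hx, e⟩ := hC l l.2
    exact ⟨(i, ⟨x, hx⟩), e⟩
  choose c hc using hex
  have hval : ∀ (l : T.L) (i : ℕ) (x : D.A), (l : G) = D.g ^ i * x → γ ^ (c l).1 * ψ (c l).2 = γ ^ i * ψ x :=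
    fun l i x h => huniq _ _ _ _ ((hc l).symm.trans h)
  refine ⟨MonoidHom.mk' (fun l => γ ^ (c l).1 * ψ (c l).2) (fun l m => ?_), fun x => ?_, ?_⟩
  · obtain ⟨x', h1, h2⟩ := hshift (c m).1 (c l).2
    rw [hval (l * m) ((c l).1 + (c m).1) (x' * (c m).2) (by
      rw [Subgroup.coe_mul, Subgroup.coe_mul, hc l, hc m, mul_assoc, ← mul_assoc ((c l).2 : G), ← h1, pow_add]
      simp only [mul_assoc]), map_mul, h2, pow_add]
    exact mul_mul_mul_comm _ _ _ _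
  · refine (hval _ 0 x (by rw [pow_zero, one_mul])).trans ?_
    rw [pow_zero, one_mul]
  · refine (hval _ 1 1 (by simp)).trans ?_
    rw [pow_one, map_one, mul_one]

end Fx

namespace Tw

variable {F : Frame (Cen t) (tc t) p Q} {S : Type v} [CommGroup S] {D : TSetup F S} (T : Tw D)

variable [IsSimpleGroup G]

/-- The values of the homomorphism are fixed `r`-elements. -/
structure Good (f : T.fx.L →* D.A) : Prop where
  fixed : ∀ l, D.cg (f l : G) = f l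
  rpow : ∀ l, ∃ i, (f l : G) ^ T.r ^ i = 1
  inv : ∀ (l : G) (h : l ∈ T.fx.L),
    (f ⟨D.ii * l * D.ii⁻¹, T.fx.conj_L h⟩ : G) = (f ⟨l, h⟩ : G)⁻¹
  supp : ∀ l, f l ≠ 1 → T.a₁ ∈ zpowers (l : G)
  at₀ : f ⟨T.a, T.fx.A_le T.mem⟩ ≠ 1
  central : ∀ l ∈ T.fx.L, l * T.a = T.a * l

theorem pow_mul_ne_one {c M : ℕ} (hM : Nat.Coprime T.r M) (hc : ¬ T.r ^ T.j ∣ c) : (T.a ^ c) ^ M ≠ 1 := by
  rw [← pow_mul]
  intro h
  refine hc ((Nat.Coprime.pow_left T.j hM).dvd_of_dvd_mul_right ?_)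
  rw [← T.ord]
  exact orderOf_dvd_of_pow_eq_one h

set_option maxHeartbeats 800000 in
/-- The transfer into the `r`-part of `A`. -/
theorem exists_hom_cyc (hC : T.fx.IsCyc) : ∃ f : T.fx.L →* D.A, T.Good f := by
  letI := D.commA
  obtain ⟨M, hM, hMr⟩ := D.exists_rExp T.r T.hr
  let ψ : D.A →* D.A := MonoidHom.mk' (fun x => ⟨D.Nm x ^ M, pow_mem (D.Nm_mem x.2) M⟩) fun x y =>
    Subtype.ext (by
      show D.Nm ((x : G) * y) ^ M = D.Nm x ^ M * D.Nm y ^ M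
      rw [D.Nm_mul x.2 y.2, (D.comm (D.Nm_mem x.2) (D.Nm_mem y.2)).mul_pow])
  have hψv : ∀ x : D.A, (ψ x : G) = D.Nm x ^ M := fun x => rfl
  set γ : D.A := ⟨(D.g ^ 3) ^ M, pow_mem D.g_cube M⟩ with hγ
  have hNg : ∀ n : ℕ, D.g ^ n ∈ D.A → D.Nm (D.g ^ n) = (D.g ^ 3) ^ n := fun n _ => by
    rw [D.Nm_fixed (by rw [D.cg_apply, (Commute.self_pow D.g n).eq, mul_inv_cancel_right]), pow_right_comm]
  obtain ⟨f, hfA, hfg⟩ := T.fx.exists_ext hC ψ γ (fun x => Subtype.ext (by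
      rw [hψv, hψv]
      show D.Nm (D.cg x) ^ M = _
      rw [show D.Nm (D.cg (x : G)) = D.cg (D.Nm x) by simp only [TSetup.Nm, map_mul], D.cg_Nm x.2]))
    (fun n h => Subtype.ext (by
      rw [hψv, SubgroupClass.coe_pow, hNg n h]
      show ((D.g ^ 3) ^ n) ^ M = ((D.g ^ 3) ^ M) ^ n
      rw [pow_right_comm]))
  have hfAG : ∀ (x : G) (hx : x ∈ D.A), (f ⟨x, T.fx.A_le hx⟩ : G) = D.Nm x ^ M := fun x hx =>
    congrArg Subtype.val (hfA ⟨x, hx⟩)
  have hfgG : (f ⟨D.g, T.fx.g_mem⟩ : G) = (D.g ^ 3) ^ M := congrArg Subtype.val hfg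
  have hgen : ∀ l : T.fx.L, ∃ (i : ℕ) (x : G) (hx : x ∈ D.A),
      l = ⟨D.g, T.fx.g_mem⟩ ^ i * ⟨x, T.fx.A_le hx⟩ := fun l => by
    obtain ⟨i, x, hx, e⟩ := hC l l.2
    exact ⟨i, x, hx, Subtype.ext (by rw [e, Subgroup.coe_mul, SubgroupClass.coe_pow])⟩
  have hfixg : D.cg D.g = D.g := by rw [D.cg_apply, mul_inv_cancel_right]
  have hfixed : ∀ l, D.cg (f l : G) = f l := fun l => by
    obtain ⟨i, x, hx, rfl⟩ := hgen l
    rw [map_mul, map_pow, Subgroup.coe_mul, SubgroupClass.coe_pow, hfgG, hfAG x hx, map_mul, map_pow, map_pow,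
      map_pow, hfixg, map_pow D.cg (D.Nm x), D.cg_Nm hx]
  have hrpow : ∀ l, ∃ i, (f l : G) ^ T.r ^ i = 1 := fun l => by
    obtain ⟨i, x, hx, rfl⟩ := hgen l
    refine ⟨(Nat.card D.A).factorization T.r, ?_⟩
    obtain ⟨k, hk⟩ := hMr _ (mul_mem (pow_mem D.g_cube i) (D.Nm_mem hx))
    rw [map_mul, map_pow, Subgroup.coe_mul, SubgroupClass.coe_pow, hfgG, hfAG x hx, pow_right_comm,
      ← (D.comm (pow_mem D.g_cube i) (D.Nm_mem hx)).mul_pow]
    obtain ⟨k', -, hk'⟩ := (Nat.dvd_prime_pow T.hr).1 (orderOf_dvd_of_pow_eq_one hk)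
    have hd := Subgroup.orderOf_dvd_natCard D.A (pow_mem (mul_mem (pow_mem D.g_cube i) (D.Nm_mem hx)) M)
    rw [hk'] at hd
    refine orderOf_dvd_iff_pow_eq_one.1 ?_
    rw [hk']
    exact pow_dvd_pow _ ((T.hr.pow_dvd_iff_le_factorization Nat.card_pos.ne').1 hd)
  have hinvf : ∀ l, D.ci (f l : G) = (f l : G)⁻¹ := fun l => by
    obtain ⟨i, hi⟩ := hrpow l
    exact D.fixed_inverted (f l).2 (T.odd_of_pow hi) (hfixed l)
  -- the element `s g s⁻¹ g`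
  set c := D.ii * D.g * D.ii⁻¹ * D.g with hc
  have hcA : c ∈ D.A := D.ii_g
  have hc1 : (f ⟨c, T.fx.A_le hcA⟩ : G) = 1 := by
    have e : D.ci c = D.cg c := by
      rw [D.ci_apply, D.cg_apply, hc, D.ii_inv,
        show D.ii * (D.ii * D.g * D.ii * D.g) * D.ii = D.ii * D.ii * D.g * D.ii * D.g * D.ii by group, D.ii_mul]
      group
    have h2 : D.ci (f ⟨c, T.fx.A_le hcA⟩ : G) = f ⟨c, T.fx.A_le hcA⟩ := by
      rw [hfAG c hcA, map_pow, D.ci_Nm hcA, e,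
        show D.Nm (D.cg c) = D.cg (D.Nm c) by simp only [TSetup.Nm, map_mul], D.cg_Nm hcA]
    obtain ⟨i, hi⟩ := hrpow ⟨c, T.fx.A_le hcA⟩
    exact eq_one_of_odd_sq (T.odd_of_pow hi) (mul_eq_one_iff_eq_inv.2 (h2.symm.trans (hinvf _)))
  have hsupp1 : ∀ (l : G) (hl : l ∈ T.fx.L), D.g⁻¹ * l ∈ D.A → (f ⟨l, hl⟩ : G) ≠ 1 → T.a₁ ∈ zpowers l := by
    intro l hl hx hne
    set x := D.g⁻¹ * l with hxdef
    have hlx : l = D.g * x := by rw [hxdef, mul_inv_cancel_left]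
    have e1 : (f ⟨l, hl⟩ : G) = (l ^ 3) ^ M := by
      have e : (⟨l, hl⟩ : T.fx.L) = ⟨D.g, T.fx.g_mem⟩ * ⟨x, T.fx.A_le hx⟩ := Subtype.ext hlx
      rw [e, map_mul, Subgroup.coe_mul, hfgG, hfAG x hx, ← (D.comm D.g_cube (D.Nm_mem hx)).mul_pow]
      congr 1
      have h1 : D.g⁻¹ * D.g⁻¹ * x * D.g * D.g = D.cg x := by
        conv_lhs => rw [← D.cg3 hx]
        simp only [D.cg_apply]; group
      have h2 : D.g⁻¹ * x * D.g = D.cg (D.cg x) := by
        conv_lhs => rw [← D.cg3 hx]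
        simp only [D.cg_apply]; group
      calc D.g ^ 3 * D.Nm x = D.g ^ 3 * (D.cg x * D.cg (D.cg x) * x) := by
            rw [TSetup.Nm, mul_assoc x, (D.comm hx (mul_mem (D.cg_mem hx) (D.cg_mem (D.cg_mem hx)))).eq]
        _ = l ^ 3 := by rw [← h2, ← h1, hlx, pow_succ, pow_two, pow_succ, pow_two]; group
    obtain ⟨i, hi⟩ := hrpow ⟨l, hl⟩
    have h3 := T.a₁_mem_of_fixed (f ⟨l, hl⟩).2 (hfixed _) hi hne
    rw [e1, ← pow_mul] at h3
    exact Subgroup.zpowers_le.2 (pow_mem (mem_zpowers l) _) h3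
  refine ⟨f, hfixed, hrpow, fun l hl => ?_, fun l hne => ?_, ?_, ?_⟩
  · obtain ⟨i, x, hx, e⟩ := hgen ⟨l, hl⟩
    have e' : (⟨D.ii * l * D.ii⁻¹, T.fx.conj_L hl⟩ : T.fx.L) =
        (⟨c, T.fx.A_le hcA⟩ * ⟨D.g, T.fx.g_mem⟩⁻¹) ^ i * ⟨D.ci x, T.fx.A_le (D.ci_mem hx)⟩ := by
      refine Subtype.ext ?_
      simp only [Subgroup.coe_mul, SubgroupClass.coe_pow, Subgroup.coe_inv]
      rw [show l = D.g ^ i * x from congrArg Subtype.val e, hc, mul_inv_cancel_right, conj_pow, D.ci_apply]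
      group
    rw [e', e, map_mul, map_pow, map_mul, map_inv, map_mul, map_pow]
    simp only [Subgroup.coe_mul, SubgroupClass.coe_pow, Subgroup.coe_inv]
    have hN : ∀ y (hy : y ∈ D.A), (f ⟨D.ci y, T.fx.A_le (D.ci_mem hy)⟩ : G) = (f ⟨y, T.fx.A_le hy⟩ : G)⁻¹ :=
      fun y hy => by
        rw [hfAG _ (D.ci_mem hy), ← D.ci_Nm hy, ← map_pow, ← hfAG y hy]
        exact hinvf _
    rw [hc1, one_mul, hN x hx, inv_pow, ← mul_inv_rev]
    exact inv_inj.2 (D.comm (f ⟨x, T.fx.A_le hx⟩).2 (pow_mem (f ⟨D.g, T.fx.g_mem⟩).2 i)).eq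
  · have hne' : (f l : G) ≠ 1 := fun h => hne (Subtype.ext h)
    obtain ⟨i, x, hx, e⟩ := hC l l.2
    have hq : D.g ^ (3 * (i / 3)) * x ∈ D.A := mul_mem (by rw [pow_mul]; exact pow_mem D.g_cube _) hx
    have hl : (l : G) = D.g ^ (i % 3) * (D.g ^ (3 * (i / 3)) * x) := by
      rw [← mul_assoc, ← pow_add, Nat.mod_add_div]; exact e
    rcases (show i % 3 = 0 ∨ i % 3 = 1 ∨ i % 3 = 2 by omega) with h | h | h <;> rw [h] at hl
    · rw [pow_zero, one_mul] at hl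
      have hlA : (l : G) ∈ D.A := hl ▸ hq
      have hf0 := hfAG l hlA
      have hN : D.Nm ((l : G) ^ M) ≠ 1 := fun h => by
        refine hne' ?_
        rw [show l = ⟨(l : G), T.fx.A_le hlA⟩ from rfl, hf0]
        have hp : ∀ k : ℕ, D.Nm ((l : G) ^ k) = D.Nm l ^ k := fun k => by
          induction k with
          | zero => simp [TSetup.Nm]
          | succ k ih => rw [pow_succ, D.Nm_mul (pow_mem hlA k) hlA, ih, pow_succ]
        rw [← hp, h]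
      obtain ⟨k, hk⟩ := hMr _ hlA
      exact Subgroup.zpowers_le.2 (pow_mem (mem_zpowers _) M) (T.a₁_mem_of_Nm (pow_mem hlA M) hk hN)
    · rw [pow_one] at hl
      exact hsupp1 l l.2 (by rw [hl, inv_mul_cancel_left]; exact hq) hne'
    · rw [← Subgroup.zpowers_inv]
      refine hsupp1 (l : G)⁻¹ (inv_mem l.2) ?_ ?_
      · rw [hl, show D.g⁻¹ * (D.g ^ 2 * (D.g ^ (3 * (i / 3)) * x))⁻¹ =
          D.g⁻¹ * (D.g ^ (3 * (i / 3)) * x)⁻¹ * D.g * (D.g ^ 3)⁻¹ by rw [pow_succ D.g 2]; group]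
        exact mul_mem (D.conj_g_inv (inv_mem hq)) (inv_mem D.g_cube)
      · intro h
        refine hne' (inv_eq_one.1 ?_)
        rw [← h, show (⟨(l : G)⁻¹, inv_mem l.2⟩ : T.fx.L) = l⁻¹ from rfl, map_inv, Subgroup.coe_inv]
  · intro h
    have h' : (f ⟨T.a, T.fx.A_le T.mem⟩ : G) = 1 := congrArg Subtype.val h
    rw [hfAG _ T.mem, D.Nm_fixed T.fix] at h'
    refine T.pow_mul_ne_one hM (fun hd => ?_) h'
    rcases (Nat.dvd_prime Nat.prime_three).1 hd with h1 | h1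
    · exact T.hr.ne_one ((Nat.pow_eq_one.1 h1).resolve_right (by have := T.hj; omega))
    · have hr3 : T.r = 3 := (Nat.prime_dvd_prime_iff_eq T.hr Nat.prime_three).1
        (h1 ▸ dvd_pow_self T.r (by have := T.hj; omega))
      rw [hr3, T.h3 hr3] at h1
      omega
  · intro l hl
    obtain ⟨i, x, hx, rfl⟩ := hC l hl
    have h1 : Commute (D.g ^ i) T.a := (show Commute D.g T.a from mul_inv_eq_iff_eq_mul.1 T.fix).pow_left i
    exact (h1.mul_left (D.comm hx T.mem)).eq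

/-- The power map into the `r`-part of the centre. -/
theorem exists_hom_five (hC : T.fx.IsFive) (h5 : ¬ (T.r = 5 ∧ T.j = 1)) : ∃ f : T.fx.L →* D.A, T.Good f := by
  letI := D.commA
  obtain ⟨M, hM, hMr⟩ := D.exists_rExp T.r T.hr
  have hA : ∀ l : T.fx.L, ((l : G) ^ 60) ^ M ∈ D.A := fun l => pow_mem
    (T.fx.mem_A_of_commute (pow_mem l.2 _) (hC.pow_central _ l.2 _ T.fx.tL)) M
  let f : T.fx.L →* D.A := MonoidHom.mk' (fun l => ⟨((l : G) ^ 60) ^ M, hA l⟩) fun l m => Subtype.ext (by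
    show (((l : G) * m) ^ 60) ^ M = ((l : G) ^ 60) ^ M * ((m : G) ^ 60) ^ M
    rw [hC.pow_mul _ l.2 _ m.2, (hC.pow_central _ l.2 _ (pow_mem m.2 60)).mul_pow])
  have hfv : ∀ l : T.fx.L, (f l : G) = ((l : G) ^ 60) ^ M := fun l => rfl
  have hfix : ∀ l, D.cg (f l : G) = f l := fun l => by
    rw [hfv, D.cg_apply, ((hC.pow_central _ l.2 _ T.fx.g_mem).pow_left M).symm.eq, mul_inv_cancel_right]
  have hr : ∀ l, ∃ i, (f l : G) ^ T.r ^ i = 1 := fun l => by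
    rw [hfv]
    exact hMr _ (T.fx.mem_A_of_commute (pow_mem l.2 _) (hC.pow_central _ l.2 _ T.fx.tL))
  refine ⟨f, hfix, hr, fun l hl => ?_, fun l hne => ?_, ?_, ?_⟩
  · rw [hfv, conj_pow, conj_pow]
    obtain ⟨i, hi⟩ := hr ⟨l, hl⟩
    exact D.fixed_inverted (f ⟨l, hl⟩).2 (T.odd_of_pow hi) (hfix ⟨l, hl⟩)
  · obtain ⟨i, hi⟩ := hr l
    have h3 := T.a₁_mem_of_fixed (f l).2 (hfix l) hi (fun h => hne (Subtype.ext h))
    rw [hfv, ← pow_mul] at h3
    exact Subgroup.zpowers_le.2 (pow_mem (mem_zpowers _) _) h3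
  · intro h
    refine T.pow_mul_ne_one hM (c := 60) (fun hd => ?_) (congrArg Subtype.val h)
    have hle : T.r ≤ 60 := Nat.le_of_dvd (by norm_num) ((dvd_pow_self _ (by have := T.hj; omega)).trans hd)
    have hr' : T.r ∣ 2 ^ 2 * 3 * 5 := ((dvd_pow_self T.r (by have := T.hj; omega)).trans hd)
    rcases (T.hr.dvd_mul).1 hr' with h1 | h1
    · rcases (T.hr.dvd_mul).1 h1 with h2 | h2
      · exact T.hr2 ((Nat.prime_dvd_prime_iff_eq T.hr Nat.prime_two).1 (T.hr.dvd_of_dvd_pow h2))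
      · have hr3 := (Nat.prime_dvd_prime_iff_eq T.hr Nat.prime_three).1 h2
        rw [hr3, T.h3 hr3] at hd
        omega
    · have hr5 := (Nat.prime_dvd_prime_iff_eq T.hr (by norm_num)).1 h1
      have h2 : 5 ^ 2 ∣ 60 := (pow_dvd_pow 5 (show 2 ≤ T.j by have := T.hj; omega)).trans (hr5 ▸ hd)
      norm_num at h2
  · intro l hl
    exact ((hC.odd_central T.a T.mem (by rw [T.ord]; exact T.rodd.pow) l hl).symm).eq

/-- The character. -/
theorem exists_eta {f : T.fx.L →* D.A} (hf : T.Good f) : ∃ η : T.fx.L →* ℂˣ,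
    (∀ (l : G) (h : l ∈ T.fx.L), η ⟨D.ii * l * D.ii⁻¹, T.fx.conj_L h⟩ = (η ⟨l, h⟩)⁻¹) ∧
      (∀ l, η l ≠ 1 → T.a₁ ∈ zpowers (l : G)) ∧ (∀ l, η l * η l = 1 → η l = 1) ∧
        η ⟨T.a, T.fx.A_le T.mem⟩ ≠ 1 := by
  letI := D.commA
  obtain ⟨χ, hχ⟩ := CommGroup.exists_apply_ne_one_of_hasEnoughRootsOfUnity D.A ℂ hf.at₀
  refine ⟨χ.comp f, fun l h => ?_, fun l hl => hf.supp l fun h => hl (by rw [MonoidHom.comp_apply, h, map_one]),
    fun l hl => ?_, hχ⟩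
  · rw [MonoidHom.comp_apply, MonoidHom.comp_apply, show f ⟨D.ii * l * D.ii⁻¹, T.fx.conj_L h⟩ = (f ⟨l, h⟩)⁻¹ from
      Subtype.ext (by rw [hf.inv l h, Subgroup.coe_inv]), map_inv]
  · obtain ⟨i, hi⟩ := hf.rpow l
    obtain ⟨n, hn⟩ := (T.rodd.pow : Odd (T.r ^ i))
    have h1 : (χ.comp f) l ^ T.r ^ i = 1 := by
      rw [MonoidHom.comp_apply, ← map_pow, show (f l) ^ T.r ^ i = 1 from Subtype.ext (by simpa using hi), map_one]
    rwa [hn, pow_succ, pow_mul, pow_two, hl, one_pow, one_mul] at h1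

end Tw

end Cfsg.Agent.Invol.BrauerL3
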