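import Cfsg.Agent.Lib.Invol.BrauerL3.Torus
import Cfsg.Agent.Lib.Invol.BrauerL3.LocalExport

/-!
# The centraliser of the four group

`A = C(t) ∩ C(w)` with the element `g` cycling `t, w, t w` and the involution `s` exchanging `w, t w`.  An element of odd
order fixed by both is trivial; for a central element `v` of odd order of `C(t)`, `v · gvg⁻¹ · g²vg⁻² = 1`.
-/

set_option autoImplicit false
set_option linter.unusedSectionVars false

namespace Cfsg.Agent.Invol.BrauerL3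

open Subgroup

universe u v

variable {G : Type u} [Group G] [Fintype G] {t : G} {p : ℕ} {Q : ℤ}

/-- The data: the torus and an element cycling the four group. -/
structure TSetup (F : Frame (Cen t) (tc t) p Q) (S : Type v) [CommGroup S] where
  /-- the torus -/
  T : Torus (Cen t) (tc t) F.w F.s Q S
  /-- the cycling element -/
  g : G
  gt : g * t * g⁻¹ = (F.w : G)
  gw : g * (F.w : G) * g⁻¹ = t * (F.w : G)
  g3 : ∃ i : ℕ, g ^ 3 ^ i = 1

/-- A commuting pair of elements of coprime order. -/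
theorem eq_one_of_coprime {x : G} {m n : ℕ} (h : m.Coprime n) (hm : x ^ m = 1) (hn : x ^ n = 1) : x = 1 :=
  orderOf_eq_one_iff.1 (Nat.eq_one_of_dvd_coprimes h (orderOf_dvd_of_pow_eq_one hm) (orderOf_dvd_of_pow_eq_one hn))

theorem eq_one_of_odd_sq {x : G} (ho : Odd (orderOf x)) (h : x * x = 1) : x = 1 := by
  refine eq_one_of_coprime (m := orderOf x) (n := 2) (Nat.coprime_two_right.2 ho) (pow_orderOf_eq_one x) ?_
  rw [pow_two, h]

theorem odd_of_pow_eq_one {x : G} {r i : ℕ} (hr : Odd r) (h : x ^ r ^ i = 1) : Odd (orderOf x) :=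
  (hr.pow).of_dvd_nat (orderOf_dvd_of_pow_eq_one h)

namespace TSetup

variable {F : Frame (Cen t) (tc t) p Q} {S : Type v} [CommGroup S] (D : TSetup F S)

/-- The torus map into `G`. -/
def φ : S × S →* G := (Cen t).subtype.comp D.T.τ

/-- The torus. -/
def A : Subgroup G := D.φ.range

/-- The involution exchanging `w` and `t w`. -/
def ii (_ : TSetup F S) : G := (F.s : G)

theorem finS (D : TSetup F S) : Finite S := D.T.fin

theorem mem_A {x : G} : x ∈ D.A ↔ Commute x t ∧ Commute x (F.w : G) := by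
  constructor
  · rintro ⟨q, rfl⟩
    refine ⟨mem_Cen.1 (D.T.τ q).2, ?_⟩
    exact congrArg Subtype.val ((D.T.mem_iff _).2 ⟨q, rfl⟩ : Commute (D.T.τ q) F.w).eq
  · rintro ⟨h1, h2⟩
    obtain ⟨q, hq⟩ := (D.T.mem_iff ⟨x, mem_Cen.2 h1.eq⟩).1 (Subtype.ext h2.eq)
    exact ⟨q, congrArg Subtype.val hq⟩

theorem comm {x y : G} (hx : x ∈ D.A) (hy : y ∈ D.A) : Commute x y := by
  obtain ⟨a, rfl⟩ := hx
  obtain ⟨b, rfl⟩ := hy
  exact (Commute.all a b).map D.φ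

theorem t_mem_A : t ∈ D.A := D.mem_A.2 ⟨Commute.refl t, F.wt.symm⟩

theorem w_mem_A : (F.w : G) ∈ D.A := D.mem_A.2 ⟨F.wt, Commute.refl _⟩

theorem tt (D : TSetup F S) : t * t = 1 := mul_self_of_two F.tG

theorem ii_t : D.ii * t * D.ii⁻¹ = t := mul_inv_eq_iff_eq_mul.2 (mem_Cen.1 F.s.2)

theorem ii_w : D.ii * (F.w : G) * D.ii⁻¹ = t * (F.w : G) := congrArg Subtype.val F.sws

theorem ii_mul : D.ii * D.ii = 1 := congrArg Subtype.val F.s2

theorem ii_inv : D.ii⁻¹ = D.ii := inv_eq_of_mul_eq_one_right D.ii_mul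

theorem g_tw : D.g * (t * (F.w : G)) * D.g⁻¹ = t := by
  rw [← conj_mul, D.gt, D.gw, ← mul_assoc, F.wt.eq, mul_assoc, mul_self_of_two F.wG, mul_one]

theorem conj_g {x : G} (hx : x ∈ D.A) : D.g * x * D.g⁻¹ ∈ D.A := by
  obtain ⟨h1, h2⟩ := D.mem_A.1 hx
  refine D.mem_A.2 ⟨?_, ?_⟩
  · have := commute_conj D.g (h1.mul_right h2)
    rwa [D.g_tw] at this
  · have := commute_conj D.g h1
    rwa [D.gt] at this

theorem conj_g_inv {x : G} (hx : x ∈ D.A) : D.g⁻¹ * x * D.g ∈ D.A := by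
  obtain ⟨h1, h2⟩ := D.mem_A.1 hx
  refine D.mem_A.2 ⟨?_, ?_⟩
  · have := commute_conj D.g⁻¹ h2
    rwa [inv_inv, show D.g⁻¹ * (F.w : G) * D.g = t by rw [← D.gt]; group] at this
  · have := commute_conj D.g⁻¹ (h1.mul_right h2)
    rwa [inv_inv, show D.g⁻¹ * (t * (F.w : G)) * D.g = (F.w : G) by rw [← D.gw]; group] at this

theorem conj_ii {x : G} (hx : x ∈ D.A) : D.ii * x * D.ii⁻¹ ∈ D.A := by
  obtain ⟨h1, h2⟩ := D.mem_A.1 hx
  refine D.mem_A.2 ⟨?_, ?_⟩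
  · have := commute_conj D.ii h1
    rwa [D.ii_t] at this
  · have h3 := commute_conj D.ii (h1.mul_right h2)
    rwa [← conj_mul, D.ii_t, D.ii_w, ← mul_assoc, D.tt, one_mul] at h3

theorem ii_tw : D.ii * (t * (F.w : G)) * D.ii⁻¹ = (F.w : G) := by
  rw [← conj_mul, D.ii_t, D.ii_w, ← mul_assoc, D.tt, one_mul]

theorem g_cube : D.g ^ 3 ∈ D.A := by
  have e : ∀ x, D.g ^ 3 * x * (D.g ^ 3)⁻¹ = D.g * (D.g * (D.g * x * D.g⁻¹) * D.g⁻¹) * D.g⁻¹ := fun x => by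
    rw [pow_succ, pow_two]; group
  refine D.mem_A.2 ⟨mul_inv_eq_iff_eq_mul.1 ?_, mul_inv_eq_iff_eq_mul.1 ?_⟩
  · rw [e, D.gt, D.gw, D.g_tw]
  · rw [e, D.gw, D.g_tw, D.gt]

theorem ii_g : D.ii * D.g * D.ii⁻¹ * D.g ∈ D.A := by
  have e : ∀ x, D.ii * D.g * D.ii⁻¹ * D.g * x * (D.ii * D.g * D.ii⁻¹ * D.g)⁻¹ =
      D.ii * (D.g * (D.ii * (D.g * x * D.g⁻¹) * D.ii⁻¹) * D.g⁻¹) * D.ii⁻¹ := fun x => by
    rw [show D.ii * (D.g * x * D.g⁻¹) * D.ii⁻¹ = D.ii⁻¹ * (D.g * x * D.g⁻¹) * D.ii by rw [D.ii_inv]]; group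
  refine D.mem_A.2 ⟨mul_inv_eq_iff_eq_mul.1 ?_, mul_inv_eq_iff_eq_mul.1 ?_⟩
  · rw [e, D.gt, D.ii_w, D.g_tw, D.ii_t]
  · rw [e, D.gw, D.ii_tw, D.gw, D.ii_tw]

/-- Conjugation by `g³` is trivial on the torus. -/
theorem g3_fix {x : G} (hx : x ∈ D.A) : D.g * (D.g * (D.g * x * D.g⁻¹) * D.g⁻¹) * D.g⁻¹ = x := by
  rw [show D.g * (D.g * (D.g * x * D.g⁻¹) * D.g⁻¹) * D.g⁻¹ = D.g ^ 3 * x * (D.g ^ 3)⁻¹ by rw [pow_succ, pow_two]; group,
    (D.comm D.g_cube hx).eq, mul_inv_cancel_right]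

/-- `s` inverts the action of `g` on the torus. -/
theorem ii_conj_g {x : G} (hx : x ∈ D.A) :
    D.ii * (D.g * x * D.g⁻¹) * D.ii⁻¹ = D.g⁻¹ * (D.ii * x * D.ii⁻¹) * D.g := by
  set c := D.ii * D.g * D.ii⁻¹ * D.g with hc
  calc D.ii * (D.g * x * D.g⁻¹) * D.ii⁻¹
      = c * (D.g⁻¹ * (D.ii * x * D.ii⁻¹) * D.g) * c⁻¹ := by rw [hc]; group
    _ = _ := by rw [(D.comm D.ii_g (D.conj_g_inv (D.conj_ii hx))).eq, mul_inv_cancel_right]

theorem ii_φ (a b : S) : D.ii * D.φ (a, b) * D.ii⁻¹ = D.φ (b, a) := congrArg Subtype.val (D.T.swap a b)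

theorem centAt_φ (a : S) : CentAt t (D.φ (a, a)) :=
  centAt_of_center ((D.T.central_iff _).2 ⟨a, rfl⟩)

theorem centAt_mem {x : G} (hx : x ∈ Cen t) (h : CentAt t x) : ∃ a, D.φ (a, a) = x := by
  obtain ⟨a, ha⟩ := (D.T.central_iff ⟨x, hx⟩).1 ((centAt_iff (mem_Cen.1 hx)).1 h)
  exact ⟨a, congrArg Subtype.val ha⟩

theorem centAt_mem_A {x : G} (h : CentAt t x) : x ∈ D.A :=
  D.mem_A.2 ⟨h.comm.symm, (h _ F.wt).symm⟩

/-- `x · sxs⁻¹` is central in `C(t)`. -/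
theorem centAt_mul_ii {x : G} (hx : x ∈ D.A) : CentAt t (x * (D.ii * x * D.ii⁻¹)) := by
  obtain ⟨⟨a, b⟩, rfl⟩ := hx
  rw [D.ii_φ, ← map_mul, Prod.mk_mul_mk, mul_comm b a]
  exact D.centAt_φ _

/-- An element of odd order of the torus commuting with `s` is central in `C(t)`. -/
theorem centAt_of_fixed {x : G} (hx : x ∈ D.A) (ho : Odd (orderOf x)) (h : D.ii * x * D.ii⁻¹ = x) : CentAt t x := by
  have h2 := D.centAt_mul_ii hx
  rw [h, ← pow_two] at h2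
  obtain ⟨k, hk⟩ := ho
  have h3 : ∀ n : ℕ, CentAt t ((x ^ 2) ^ n) := fun n => by
    induction n with
    | zero => exact fun y _ => by rw [pow_zero]; exact Commute.one_right y
    | succ n ih => rw [pow_succ]; exact ih.mul h2
  have h4 := h3 (k + 1)
  rwa [← pow_mul, show 2 * (k + 1) = orderOf x + 1 by omega, pow_succ, pow_orderOf_eq_one, one_mul] at h4

variable [IsSimpleGroup G]

theorem eq_one_of_centAt_conj {x : G} (h1 : CentAt t x) (h2 : D.g * x * D.g⁻¹ = x) : x = 1 := by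
  have h3 := h1.conj D.g
  rw [D.gt, h2] at h3
  exact F.disjoint_tw h1 h3

/-- An element of odd order of the torus fixed by `g` is inverted by `s`. -/
theorem ii_inverts {x : G} (hx : x ∈ D.A) (ho : Odd (orderOf x)) (h : D.g * x * D.g⁻¹ = x) :
    D.ii * x * D.ii⁻¹ = x⁻¹ := by
  set y := D.ii * x * D.ii⁻¹ with hy
  have hyA : y ∈ D.A := D.conj_ii hx
  have hyg : D.g * y * D.g⁻¹ = y := by
    have h1 := D.ii_conj_g hx
    rw [h, ← hy] at h1
    calc D.g * y * D.g⁻¹ = D.g * (D.g⁻¹ * y * D.g) * D.g⁻¹ := by rw [← h1]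
      _ = y := by group
  have h1 : x * y = 1 := by
    refine D.eq_one_of_centAt_conj (D.centAt_mul_ii hx) ?_
    rw [← conj_mul, h, hyg]
  exact eq_inv_of_mul_eq_one_right h1

/-- The norm of a central element of odd order is trivial. -/
theorem norm_eq_one {v : G} (hv : CentAt t v) (ho : Odd (orderOf v)) :
    v * (D.g * v * D.g⁻¹) * (D.g * (D.g * v * D.g⁻¹) * D.g⁻¹) = 1 := by
  have hvA := D.centAt_mem_A hv
  set v1 := D.g * v * D.g⁻¹ with hv1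
  set v2 := D.g * v1 * D.g⁻¹ with hv2
  have h1A : v1 ∈ D.A := D.conj_g hvA
  have h2A : v2 ∈ D.A := D.conj_g h1A
  have h12 : D.ii * v1 * D.ii⁻¹ = v2 := by
    rw [hv1, D.ii_conj_g hvA, mul_inv_eq_iff_eq_mul.2 (hv D.ii (mem_Cen.1 F.s.2)).eq]
    calc D.g⁻¹ * v * D.g = D.g⁻¹ * (D.g * (D.g * (D.g * v * D.g⁻¹) * D.g⁻¹) * D.g⁻¹) * D.g := by rw [D.g3_fix hvA]
      _ = v2 := by rw [hv2, hv1]; group
  have h21 : D.ii * v2 * D.ii⁻¹ = v1 := by
    rw [← h12, D.ii_inv]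
    rw [show D.ii * (D.ii * v1 * D.ii) * D.ii = (D.ii * D.ii) * v1 * (D.ii * D.ii) by group, D.ii_mul, one_mul,
      mul_one]
  have hii : D.ii * v * D.ii⁻¹ = v := mul_inv_eq_iff_eq_mul.2 (hv D.ii (mem_Cen.1 F.s.2)).eq
  have hfix : D.g * (v * v1 * v2) * D.g⁻¹ = v * v1 * v2 := by
    rw [← conj_mul, ← conj_mul, ← hv1, ← hv2, show D.g * v2 * D.g⁻¹ = v from D.g3_fix hvA,
      mul_assoc v v1, (D.comm hvA (mul_mem h1A h2A)).eq]
  have ho1 : ∀ w : G, orderOf (D.g * w * D.g⁻¹) = orderOf w := fun w => by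
    rw [← MulAut.conj_apply, MulEquiv.orderOf_eq]
  have hpow : (v * v1 * v2) ^ orderOf v = 1 := by
    rw [((D.comm hvA h2A).mul_left (D.comm h1A h2A)).mul_pow, (D.comm hvA h1A).mul_pow]
    rw [pow_orderOf_eq_one, show v1 ^ orderOf v = 1 by rw [← ho1 v, ← hv1, pow_orderOf_eq_one],
      show v2 ^ orderOf v = 1 by rw [← ho1 v, ← hv1, ← ho1 v1, ← hv2, pow_orderOf_eq_one], one_mul, one_mul]
  refine D.eq_one_of_centAt_conj (D.centAt_of_fixed (mul_mem (mul_mem hvA h1A) h2A)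
    (ho.of_dvd_nat (orderOf_dvd_of_pow_eq_one hpow)) ?_) hfix
  rw [← conj_mul, ← conj_mul, hii, h12, h21, mul_assoc, (D.comm h2A h1A).eq, ← mul_assoc]

omit [IsSimpleGroup G] in
/-- The antidiagonal. -/
def anti : S →* G := D.φ.comp ((MonoidHom.id S).prod (MonoidHom.id S)⁻¹)

omit [IsSimpleGroup G] in
theorem anti_apply (a : S) : D.anti a = D.φ (a, a⁻¹) := rfl

omit [IsSimpleGroup G] in
/-- The elements inverted by `s` form the antidiagonal. -/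
theorem mem_anti {x : G} : x ∈ D.anti.range ↔ x ∈ D.A ∧ D.ii * x * D.ii⁻¹ = x⁻¹ := by
  constructor
  · rintro ⟨a, rfl⟩
    refine ⟨⟨_, rfl⟩, ?_⟩
    rw [D.anti_apply, D.ii_φ, ← map_inv, Prod.inv_mk, inv_inv]
  · rintro ⟨⟨⟨a, b⟩, rfl⟩, h⟩
    rw [D.ii_φ, eq_inv_iff_mul_eq_one, ← map_mul, Prod.mk_mul_mk, mul_comm b a] at h
    have hk : D.T.τ (a * b, a * b) = 1 := Subtype.ext h
    haveI := D.finS
    haveI : Finite (S × S) := inferInstance
    obtain ⟨n, hn⟩ : Odd (orderOf (a * b)) := by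
      have h1 := orderOf_dvd_natCard (⟨(a * b, a * b), hk⟩ : D.T.τ.ker)
      rw [← Subgroup.orderOf_coe] at h1
      rw [show orderOf ((⟨(a * b, a * b), hk⟩ : D.T.τ.ker) : S × S) = orderOf (a * b) by
        rw [Prod.orderOf_mk, Nat.lcm_self]] at h1
      exact D.T.ker_odd.of_dvd_nat h1
    set d := (a * b) ^ (n + 1) with hd
    have hdd : d * d = a * b := by
      rw [hd, ← pow_add, show n + 1 + (n + 1) = orderOf (a * b) + 1 by omega, pow_succ, pow_orderOf_eq_one, one_mul]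
    have hdk : D.φ (d, d) = 1 := by
      have h1 : D.T.τ (d, d) = 1 := by
        rw [show (d, d) = (a * b, a * b) ^ (n + 1) from rfl, map_pow, hk, one_pow]
      exact congrArg Subtype.val h1
    refine ⟨a * d⁻¹, ?_⟩
    have e : (a * d⁻¹, (a * d⁻¹)⁻¹) * (d, d) = (a, b) := by
      rw [Prod.mk_mul_mk, inv_mul_cancel_right, mul_inv_rev, inv_inv, mul_right_comm, hdd, mul_comm a b,
        mul_inv_cancel_right]
    rw [D.anti_apply, ← e, map_mul, hdk, mul_one]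

omit [IsSimpleGroup G] in
theorem mem_zpowers_of_inverted {x y : G} (hx : x ∈ D.A) (hy : y ∈ D.A) (hxi : D.ii * x * D.ii⁻¹ = x⁻¹)
    (hyi : D.ii * y * D.ii⁻¹ = y⁻¹) (hd : orderOf x ∣ orderOf y) : x ∈ Subgroup.zpowers y := by
  haveI := D.T.cyc
  haveI := D.finS
  haveI : IsCyclic ↥D.anti.range := isCyclic_of_surjective _ D.anti.rangeRestrict_surjective
  set X : ↥D.anti.range := ⟨x, D.mem_anti.2 ⟨hx, hxi⟩⟩
  set Y : ↥D.anti.range := ⟨y, D.mem_anti.2 ⟨hy, hyi⟩⟩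
  obtain ⟨c, hc⟩ := IsCyclic.exists_generator (α := ↥D.anti.range)
  obtain ⟨i, hi⟩ := Submonoid.mem_powers_iff _ _ |>.1 (mem_powers_iff_mem_zpowers.2 (hc X))
  obtain ⟨j, hj⟩ := Submonoid.mem_powers_iff _ _ |>.1 (mem_powers_iff_mem_zpowers.2 (hc Y))
  have hd' : orderOf X ∣ orderOf Y := by rw [← Subgroup.orderOf_coe, ← Subgroup.orderOf_coe]; exact hd
  obtain ⟨l, hl⟩ : (c ^ i) ∈ Subgroup.zpowers (c ^ j) := by
    have hg : Nat.gcd (orderOf c) j ∣ i := by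
      rw [← hi, ← hj, orderOf_pow, orderOf_pow] at hd'
      have h1 := Nat.gcd_dvd_left (orderOf c) i
      have h2 := Nat.gcd_dvd_left (orderOf c) j
      refine Dvd.dvd.trans ?_ (Nat.gcd_dvd_right (orderOf c) i)
      obtain ⟨e, he⟩ := hd'
      have hp : 0 < orderOf c / (orderOf c).gcd i :=
        Nat.div_pos (Nat.le_of_dvd (orderOf_pos c) h1) (Nat.pos_of_dvd_of_pos h1 (orderOf_pos c))
      refine ⟨e, Nat.eq_of_mul_eq_mul_right hp ?_⟩
      calc (orderOf c).gcd i * (orderOf c / (orderOf c).gcd i) = orderOf c := Nat.mul_div_cancel' h1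
        _ = (orderOf c).gcd j * (orderOf c / (orderOf c).gcd j) := (Nat.mul_div_cancel' h2).symm
        _ = _ := by rw [he]; ring
    obtain ⟨e, he⟩ := hg
    refine ⟨(Nat.gcdB (orderOf c) j) * e, ?_⟩
    show (c ^ j) ^ _ = c ^ i
    have h1 := Nat.gcd_eq_gcd_ab (orderOf c) j
    rw [← zpow_natCast, ← zpow_mul, ← zpow_natCast c i, zpow_eq_zpow_iff_modEq]
    rw [Int.modEq_iff_dvd]
    exact ⟨Nat.gcdA (orderOf c) j * e, by rw [he]; push_cast; rw [h1]; ring⟩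
  refine Subgroup.mem_zpowers_iff.2 ⟨l, ?_⟩
  rw [hi, hj] at hl
  exact congrArg Subtype.val hl

end TSetup

end Cfsg.Agent.Invol.BrauerL3
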