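import Cfsg.Agent.Lib.Invol.BrauerL3.TwistMain

/-!
# The order of the kernel of the torus map

With `k` that order and `m = |Q - 1|`: `τ (a, a) = 1` iff `a ^ k = 1`; if `r ^ i ∣ k`, some fixed element of `A` has
order `r ^ i`; hence `k ∣ 3` unless `m = 2 k` and `5 ∣ k ∣ 15`.
-/

set_option autoImplicit false
set_option linter.unusedSectionVars false

open scoped Classical

namespace Cfsg.Agent.Invol.BrauerL3

open Cfsg Subgroup

universe u v

variable {G : Type u} [Group G] [Fintype G] {t : G} {p : ℕ} {Q : ℤ}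

namespace TSetup

variable {F : Frame (Cen t) (tc t) p Q} {S : Type v} [CommGroup S] (D : TSetup F S)

/-- The order of the kernel. -/
noncomputable def kk : ℕ := Nat.card D.T.τ.ker

theorem kk_odd : Odd D.kk := D.T.ker_odd

theorem tau_diag_iff {a : S} : D.T.τ (a, a) = 1 ↔ a ^ D.kk = 1 := by
  haveI := D.T.cyc
  haveI := D.finS
  haveI := Fintype.ofFinite S
  haveI := Fintype.ofFinite D.T.τ.ker
  have hsub : (Finset.univ : Finset D.T.τ.ker).image (fun z : D.T.τ.ker => (z : S × S).1) ⊆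
      Finset.univ.filter fun b : S => b ^ D.kk = 1 := by
    intro b hb
    obtain ⟨z, -, rfl⟩ := Finset.mem_image.1 hb
    refine Finset.mem_filter.2 ⟨Finset.mem_univ _, ?_⟩
    rw [← Prod.pow_fst, show (z : S × S) ^ D.kk = 1 from orderOf_dvd_iff_pow_eq_one.1
      (Subgroup.orderOf_dvd_natCard D.T.τ.ker z.2), Prod.fst_one]
  have hcard : ((Finset.univ : Finset D.T.τ.ker).image fun z : D.T.τ.ker => (z : S × S).1).card = D.kk := by
    rw [Finset.card_image_of_injective _ fun x y h => Subtype.ext (Prod.ext h ?_), Finset.card_univ,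
      ← Nat.card_eq_fintype_card, kk]
    rw [← D.T.ker_diag _ x.2, ← D.T.ker_diag _ y.2]
    exact h
  have heq := Finset.eq_of_subset_of_card_le hsub
    (by rw [hcard]; exact IsCyclic.card_pow_eq_one_le Nat.card_pos)
  constructor
  · intro h
    have h1 := congrArg Prod.fst (orderOf_dvd_iff_pow_eq_one.1
      (Subgroup.orderOf_dvd_natCard D.T.τ.ker (MonoidHom.mem_ker.2 h)))
    simpa [kk] using h1
  · intro h
    have hm : a ∈ Finset.univ.filter fun b : S => b ^ D.kk = 1 := Finset.mem_filter.2 ⟨Finset.mem_univ _, h⟩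
    rw [← heq] at hm
    obtain ⟨z, -, hz⟩ := Finset.mem_image.1 hm
    rw [show (a, a) = (z : S × S) from Prod.ext hz.symm ((hz.symm.trans (D.T.ker_diag _ z.2)))]
    exact z.2

theorem φ_diag_iff {a : S} : D.φ (a, a) = 1 ↔ a ^ D.kk = 1 := by
  rw [← D.tau_diag_iff]
  exact ⟨fun h => Subtype.ext h, fun h => congrArg Subtype.val h⟩

theorem kk_dvd : D.kk ∣ (Q - 1).natAbs := by
  haveI := D.finS
  have h : D.kk ∣ Nat.card S := by
    have h1 : Nat.card (D.T.τ.ker.map (MonoidHom.fst S S)) = D.kk := by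
      refine (Nat.card_congr (Equiv.ofBijective (fun z : D.T.τ.ker => (⟨(z : S × S).1, ⟨z, z.2, rfl⟩⟩ :
        D.T.τ.ker.map (MonoidHom.fst S S))) ⟨fun x y h => ?_, fun b => ?_⟩)).symm
      · have h' : (x : S × S).1 = (y : S × S).1 := congrArg Subtype.val h
        exact Subtype.ext (Prod.ext h' (by rw [← D.T.ker_diag _ x.2, ← D.T.ker_diag _ y.2]; exact h'))
      · obtain ⟨z, hz, e⟩ := b.2
        exact ⟨⟨z, hz⟩, Subtype.ext e⟩
    rw [← h1]
    exact Subgroup.card_subgroup_dvd_card _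
  rwa [D.T.cardS] at h

theorem m_pos (D : TSetup F S) : 0 < (Q - 1).natAbs := by
  haveI := D.finS
  rw [← D.T.cardS]
  exact Nat.card_pos

theorem exists_gen (D : TSetup F S) : ∃ σ : S, orderOf σ = (Q - 1).natAbs := by
  haveI := D.T.cyc
  haveI := D.finS
  obtain ⟨σ, hσ⟩ := IsCyclic.exists_generator (α := S)
  exact ⟨σ, by rw [orderOf_eq_card_of_forall_mem_zpowers hσ, D.T.cardS]⟩

theorem orderOf_anti (a : S) : orderOf (D.anti a) = orderOf a := by
  refine orderOf_injective D.anti ((injective_iff_map_eq_one _).2 fun b hb => ?_) a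
  have hk : D.T.τ (b, b⁻¹) = 1 := Subtype.ext hb
  have h2 : b = b⁻¹ := D.T.ker_diag _ hk
  rw [← h2] at hk
  have h4 := D.tau_diag_iff.1 hk
  have h5 : b * b = 1 := mul_eq_one_iff_eq_inv.2 h2
  obtain ⟨n, hn⟩ := D.kk_odd
  rwa [hn, pow_succ, pow_mul, pow_two, h5, one_pow, one_mul] at h4

variable [IsSimpleGroup G]

/-- A power of the order of the kernel gives a fixed element of the same order. -/
theorem exists_fixed {d : ℕ} (hd : d ∣ D.kk) :
    ∃ x ∈ D.A, D.g * x * D.g⁻¹ = x ∧ orderOf x = d := by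
  haveI := D.finS
  obtain ⟨σ, hσ⟩ := D.exists_gen
  obtain ⟨e, he⟩ := hd.trans D.kk_dvd
  have he0 : 0 < e := Nat.pos_of_ne_zero fun h => D.m_pos.ne' (by rw [he, h, mul_zero])
  have hd0 : 0 < d := Nat.pos_of_ne_zero fun h => D.m_pos.ne' (by rw [he, h, zero_mul])
  have hA0 : D.anti σ ∈ D.A := ⟨(σ, σ⁻¹), rfl⟩
  set y := D.anti σ ^ e with hy
  have hyA : y ∈ D.A := pow_mem hA0 e
  have hyo : orderOf y = d := by
    rw [hy, orderOf_pow, D.orderOf_anti, hσ, he, Nat.gcd_eq_right (dvd_mul_left _ _), Nat.mul_div_cancel _ he0]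
  have hanti : D.ci (D.anti σ) = (D.anti σ)⁻¹ := (D.mem_anti.1 ⟨σ, rfl⟩).2
  set z := D.cg (D.anti σ) * (D.cg (D.cg (D.anti σ)))⁻¹ with hz
  have hA1 : D.cg (D.anti σ) ∈ D.A := D.cg_mem hA0
  have hA2 : D.cg (D.cg (D.anti σ)) ∈ D.A := D.cg_mem hA1
  have hzA : z ∈ D.A := mul_mem hA1 (inv_mem hA2)
  have hzci : D.ci z = z := by
    rw [hz, map_mul, map_inv, D.ci_cg hA0, D.ci_cg hA1, D.ci_cg hA0, hanti, map_inv, map_inv, map_inv,
      map_inv, D.cg3 hA1, inv_inv, (D.comm hA1 (inv_mem hA2)).eq]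
  have hzz : CentAt t (z * z) := by
    have h := D.centAt_mul_ii hzA
    rwa [← D.ci_apply, hzci] at h
  have hzero : (z * z) ^ e = 1 := by
    obtain ⟨a, ha⟩ := D.centAt_mem (mem_Cen.2 (hzz.comm.symm).eq) hzz
    obtain ⟨f, hf⟩ := hd
    rw [← ha, ← map_pow, Prod.pow_mk, D.φ_diag_iff, ← pow_mul, hf, show e * (d * f) = d * e * f by ring, pow_mul,
      ← he, ← D.T.cardS, pow_card_eq_one', one_pow]
  have hz' : z ^ e = D.cg y * (D.cg (D.cg y))⁻¹ := by
    rw [hz, (D.comm hA1 (inv_mem hA2)).mul_pow, inv_pow, ← map_pow D.cg (D.cg (D.anti σ)) e, ← map_pow D.cg (D.anti σ) e, ← hy]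
  have hzo : Odd (orderOf (z ^ e)) := by
    refine D.kk_odd.of_dvd_nat (dvd_trans (orderOf_dvd_of_pow_eq_one ?_) hd)
    rw [hz', (D.comm (D.cg_mem hyA) (inv_mem (D.cg_mem (D.cg_mem hyA)))).mul_pow, inv_pow, ← map_pow, ← map_pow,
      ← map_pow, ← hyo, pow_orderOf_eq_one, map_one, map_one, inv_one, one_mul]
  have hze : z ^ e = 1 := eq_one_of_odd_sq hzo (by rw [← (Commute.refl z).mul_pow]; exact hzero)
  exact ⟨y, hyA, (D.cg_inj (mul_inv_eq_one.1 (hz'.symm.trans hze))).symm, hyo⟩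

/-- The exceptional case. -/
theorem exceptional_kernel (T : Tw D) (hC : T.fx.IsFive) (hodd : Odd Q) : (Q - 1).natAbs = 2 * D.kk := by
  haveI := D.finS
  obtain ⟨σ, hσ⟩ := D.exists_gen
  set x := D.φ (σ, σ) with hx
  have hxA : x ∈ D.A := ⟨_, rfl⟩
  have hc : CentAt t (x ^ 2) := fun y hy => (D.centAt_φ σ y hy).pow_right 2
  have h1 : x ^ 2 = 1 := D.eq_one_of_centAt_conj hc
    (mul_inv_eq_iff_eq_mul.2 (hC.sq_central x hxA _ T.fx.g_mem).symm.eq)
  rw [hx, ← map_pow, Prod.pow_mk, D.φ_diag_iff, ← pow_mul, ← orderOf_dvd_iff_pow_eq_one, hσ] at h1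
  refine Nat.dvd_antisymm h1 (Nat.Coprime.mul_dvd_of_dvd_of_dvd (Nat.coprime_two_left.2 D.kk_odd) ?_ D.kk_dvd)
  obtain ⟨i, hi⟩ := hodd
  rw [hi]
  omega

/-- `k ∣ 3` outside the exceptional case. -/
theorem kk_cases (hodd : Odd Q) (K : Kit t Q D.T.τ) :
    D.kk ∣ 3 ∨ ((Q - 1).natAbs = 2 * D.kk ∧ (D.kk = 5 ∨ D.kk = 15) ∧ ∃ T : Tw D, T.r = 5 ∧ T.fx.IsFive) := by
  have hex : ∀ (r j : ℕ), r.Prime → r ≠ 2 → 1 ≤ j → (r = 3 → j = 2) → r ^ j ∣ D.kk →
      ∃ T : Tw D, T.r = r ∧ T.j = j := fun r j hr hr2 hj h3 hd => by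
    obtain ⟨x, hx, hf, ho⟩ := D.exists_fixed hd
    exact ⟨⟨r, j, x, hr, hr2, hj, h3, hx, hf, ho⟩, rfl, rfl⟩
  have hr2 : ∀ r : ℕ, r ∣ D.kk → r ≠ 2 := fun r hd h =>
    Nat.not_even_iff_odd.2 D.kk_odd (even_iff_two_dvd.2 (h ▸ hd))
  have h9 : ¬ 3 ^ 2 ∣ D.kk := fun hd => by
    obtain ⟨T, h1, h2⟩ := hex 3 2 Nat.prime_three (by norm_num) (by norm_num) (fun _ => rfl) hd
    have := (T.exceptional hodd K).1
    omega
  have h25 : ¬ 5 ^ 2 ∣ D.kk := fun hd => by
    obtain ⟨T, h1, h2⟩ := hex 5 2 (by norm_num) (by norm_num) (by norm_num) (by norm_num) hd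
    have := (T.exceptional hodd K).2.1
    omega
  have hprimes : ∀ r : ℕ, r.Prime → r ∣ D.kk → r = 3 ∨ r = 5 := fun r hr hd => by
    by_cases h3 : r = 3
    · exact Or.inl h3
    obtain ⟨T, h1, -⟩ := hex r 1 hr (hr2 r hd) le_rfl (fun h => absurd h h3) (by rwa [pow_one])
    exact Or.inr (h1.symm.trans (T.exceptional hodd K).1)
  have hpos : D.kk ≠ 0 := by
    haveI := D.finS
    exact Nat.card_pos.ne'
  have h15 : D.kk ∣ 3 * 5 := by
    rw [← Nat.factorization_le_iff_dvd hpos (by norm_num)]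
    intro r
    by_cases hr : r.Prime
    swap
    · simp [Nat.factorization_eq_zero_of_not_prime _ hr]
    by_cases hd : r ∣ D.kk
    swap
    · simp [Nat.factorization_eq_zero_of_not_dvd hd]
    have hle : D.kk.factorization r ≤ 1 := by
      by_contra h
      have h2 := (hr.pow_dvd_iff_le_factorization hpos).2 (show 2 ≤ D.kk.factorization r by omega)
      rcases hprimes r hr hd with rfl | rfl
      · exact h9 h2
      · exact h25 h2
    refine hle.trans ((hr.pow_dvd_iff_le_factorization (by norm_num)).1 ?_)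
    rcases hprimes r hr hd with rfl | rfl <;> norm_num
  by_cases h5 : 5 ∣ D.kk
  · obtain ⟨T, h1, h2⟩ := hex 5 1 (by norm_num) (by norm_num) le_rfl (by norm_num) (by rwa [pow_one])
    obtain ⟨-, -, hC⟩ := T.exceptional hodd K
    refine Or.inr ⟨D.exceptional_kernel T hC hodd, ?_, T, h1, hC⟩
    obtain ⟨c, hc⟩ := h5
    have := Nat.le_of_dvd (by norm_num) h15
    have : c = 1 ∨ c = 2 ∨ c = 3 := by
      rcases Nat.eq_zero_or_pos c with rfl | hcp
      · omega
      · omega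
    rcases this with rfl | rfl | rfl
    · exact Or.inl (by omega)
    · exact absurd D.kk_odd (by rw [hc]; decide)
    · exact Or.inr (by omega)
  · exact Or.inl ((Nat.Coprime.dvd_of_dvd_mul_right ((Nat.Prime.coprime_iff_not_dvd (by norm_num)).2 h5).symm h15))

end TSetup

end Cfsg.Agent.Invol.BrauerL3
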