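import Cfsg.Agent.Lib.Invol.BrauerL3.TwistElt
import Cfsg.Agent.Lib.Invol.GW.Consumers.DGroupEven

/-!
# The centraliser of a fixed element of odd order of the torus

Its involutions form one class and have abelian centralisers, `A` being that of `t`.  Hence it is `A ∪ gA ∪ g²A`, or
`SL₂(4) × Z` with `A` the product of a four group and `Z`.
-/

set_option autoImplicit false
set_option linter.unusedSectionVars false

namespace Cfsg.Agent.Invol.BrauerL3

open Subgroup

universe u v

variable {G : Type u} [Group G] [Fintype G] {t : G} {p : ℕ} {Q : ℤ}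

/-- A fixed element of odd order. -/
structure Fx {F : Frame (Cen t) (tc t) p Q} {S : Type v} [CommGroup S] (D : TSetup F S) where
  /-- the element -/
  a : G
  mem : a ∈ D.A
  fix : D.g * a * D.g⁻¹ = a
  odd : Odd (orderOf a)
  ne : a ≠ 1

/-- The element of order `r` of a twist. -/
def Tw.fx {F : Frame (Cen t) (tc t) p Q} {S : Type v} [CommGroup S] {D : TSetup F S} (T : Tw D) : Fx D :=
  ⟨T.a₁, T.mem₁, T.fix₁, by rw [T.ord₁]; exact T.rodd, T.ne₁⟩

theorem sq_of_two {M : Type*} [Group M] {x : M} (h : orderOf x = 2) : x * x = 1 := by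
  rw [← pow_two, ← h, pow_orderOf_eq_one]

theorem eq_one_of_odd_sq' {M : Type} [Group M] {x : M} (ho : Odd (orderOf x)) (h : x * x = 1) : x = 1 := by
  obtain ⟨n, hn⟩ := ho
  have h1 := pow_orderOf_eq_one x
  rwa [hn, pow_succ, pow_mul, pow_two, h, one_pow, one_mul] at h1

namespace TSetup

variable {F : Frame (Cen t) (tc t) p Q} {S : Type v} [CommGroup S] (D : TSetup F S)

theorem invol_A {x : G} (hx : x ∈ D.A) (ho : orderOf x = 2) : x = t ∨ x = F.w ∨ x = t * (F.w : G) := by
  classical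
  haveI := D.T.cyc
  haveI := D.finS
  haveI := Fintype.ofFinite S
  have hS : (Finset.univ.filter fun a : S => a ^ 2 = 1).card ≤ 2 := IsCyclic.card_pow_eq_one_le two_pos
  set M := (((Finset.univ.filter fun a : S => a ^ 2 = 1) ×ˢ (Finset.univ.filter fun a : S => a ^ 2 = 1)).image
    D.φ).erase 1 with hM
  have hcard : M.card ≤ 3 := by
    have h1 : (((Finset.univ.filter fun a : S => a ^ 2 = 1) ×ˢ (Finset.univ.filter fun a : S => a ^ 2 = 1)).image
        D.φ).card ≤ 4 := Finset.card_image_le.trans (by rw [Finset.card_product]; nlinarith)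
    have h2 : (1 : G) ∈ ((Finset.univ.filter fun a : S => a ^ 2 = 1) ×ˢ
        (Finset.univ.filter fun a : S => a ^ 2 = 1)).image D.φ :=
      Finset.mem_image.2 ⟨(1, 1), Finset.mem_product.2 ⟨by simp, by simp⟩, map_one _⟩
    rw [hM, Finset.card_erase_of_mem h2]
    omega
  have hmem : ∀ {y : G}, y ∈ D.A → orderOf y = 2 → y ∈ M := by
    intro y hy hy2
    obtain ⟨⟨a, b⟩, hab⟩ := hy
    refine Finset.mem_erase.2 ⟨ne_one_of_orderOf_two hy2, ?_⟩
    have hk : D.T.τ ((a, b) * (a, b)) = 1 := Subtype.ext (by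
      rw [map_mul]
      show D.φ (a, b) * D.φ (a, b) = 1
      rw [hab, ← pow_two, ← hy2, pow_orderOf_eq_one])
    have he : a * a = b * b := D.T.ker_diag _ hk
    -- a square root of `(a², b²)` in the kernel
    obtain ⟨n, hn⟩ : Odd (orderOf (a * a)) := by
      have h1 := Subgroup.orderOf_dvd_natCard D.T.τ.ker (MonoidHom.mem_ker.2 hk)
      rw [show orderOf ((a, b) * (a, b)) = orderOf (a * a) by
        rw [Prod.mk_mul_mk, Prod.orderOf_mk, ← he, Nat.lcm_self]] at h1
      exact D.T.ker_odd.of_dvd_nat h1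
    set d := (a * a) ^ (n + 1) with hd
    have hdd : d * d = a * a := by
      rw [hd, ← pow_add, show n + 1 + (n + 1) = orderOf (a * a) + 1 by omega, pow_succ, pow_orderOf_eq_one, one_mul]
    have hdk : D.φ (d, d) = 1 := by
      have h1 : D.T.τ (d, d) = 1 := by
        rw [show (d, d) = ((a, b) * (a, b)) ^ (n + 1) by rw [Prod.mk_mul_mk, ← he]; rfl, map_pow, hk, one_pow]
      exact congrArg Subtype.val h1
    refine Finset.mem_image.2 ⟨(a * d⁻¹, b * d⁻¹), Finset.mem_product.2 ⟨?_, ?_⟩, ?_⟩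
    · refine Finset.mem_filter.2 ⟨Finset.mem_univ _, ?_⟩
      rw [mul_pow, inv_pow, pow_two d, hdd, pow_two, mul_inv_cancel]
    · refine Finset.mem_filter.2 ⟨Finset.mem_univ _, ?_⟩
      rw [mul_pow, inv_pow, pow_two d, hdd, pow_two, ← he, mul_inv_cancel]
    · rw [← hab, show (a * d⁻¹, b * d⁻¹) = (a, b) * (d, d)⁻¹ from rfl, map_mul, map_inv, hdk, inv_one, mul_one]
  have htwo : orderOf (t * (F.w : G)) = 2 := by
    rw [← D.ii_w, orderOf_conj_eq, F.wG]
  have htw : t * (F.w : G) ∈ D.A := mul_mem D.t_mem_A D.w_mem_A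
  have hne1 : t ≠ t * (F.w : G) := fun h => ne_one_of_orderOf_two F.wG (mul_eq_left.1 h.symm)
  have hne2 : (F.w : G) ≠ t * (F.w : G) := fun h => ne_one_of_orderOf_two F.tG (mul_eq_right.1 h.symm)
  have h3 : ({t, (F.w : G), t * (F.w : G)} : Finset G).card = 3 :=
    Finset.card_eq_three.2 ⟨_, _, _, F.w_neG.symm, hne1, hne2, rfl⟩
  have hsub : ({t, (F.w : G), t * (F.w : G)} : Finset G) ⊆ M := by
    intro y hy
    simp only [Finset.mem_insert, Finset.mem_singleton] at hy
    rcases hy with rfl | rfl | rfl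
    · exact hmem D.t_mem_A F.tG
    · exact hmem D.w_mem_A F.wG
    · exact hmem htw htwo
  have h := hmem hx ho
  rw [← Finset.eq_of_subset_of_card_le hsub (by omega)] at h
  simpa using h

end TSetup

namespace Fx

variable {F : Frame (Cen t) (tc t) p Q} {S : Type v} [CommGroup S] {D : TSetup F S} (T : Fx D)

/-- The centraliser. -/
def L : Subgroup G := centralizer ({T.a} : Set G)

theorem mem_L {x : G} : x ∈ T.L ↔ Commute x T.a := mem_centralizer_singleton_iff

theorem A_le : D.A ≤ T.L := fun _ hx => T.mem_L.2 (D.comm hx T.mem)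

theorem g_mem : D.g ∈ T.L := T.mem_L.2 (mul_inv_eq_iff_eq_mul.1 T.fix)

theorem tL : t ∈ T.L := T.A_le D.t_mem_A

theorem wL : (F.w : G) ∈ T.L := T.A_le D.w_mem_A

theorem pow_g (i : ℕ) {x : G} (hx : x ∈ D.A) : D.g ^ i * x * (D.g ^ i)⁻¹ ∈ D.A := by
  induction i with
  | zero => simpa using hx
  | succ i ih =>
    rw [show D.g ^ (i + 1) * x * (D.g ^ (i + 1))⁻¹ = D.g * (D.g ^ i * x * (D.g ^ i)⁻¹) * D.g⁻¹ by
      rw [pow_succ']; group]
    exact D.conj_g ih

variable [IsSimpleGroup G]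

theorem ci_a : D.ci T.a = T.a⁻¹ := D.fixed_inverted T.mem T.odd T.fix

theorem conj_L {l : G} (hl : l ∈ T.L) : D.ii * l * D.ii⁻¹ ∈ T.L := by
  have h := commute_conj D.ii (T.mem_L.1 hl)
  rw [show D.ii * T.a * D.ii⁻¹ = T.a⁻¹ from T.ci_a] at h
  exact T.mem_L.2 (Commute.inv_right_iff.1 h)

theorem ii_notMem : D.ii ∉ T.L := fun h => by
  have h1 : D.ci T.a = T.a := mul_inv_eq_iff_eq_mul.2 (T.mem_L.1 h).eq
  exact T.ne (eq_one_of_odd_sq T.odd (mul_eq_one_iff_eq_inv.2 (h1.symm.trans T.ci_a)))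

/-- An element of `L` commuting with `t` is in `A`. -/
theorem mem_A_of_commute {x : G} (hx : x ∈ T.L) (hxt : Commute x t) : x ∈ D.A := by
  refine D.mem_A.2 ⟨hxt, ?_⟩
  refine F.cent_comm_at F.tG ((D.mem_A.1 T.mem).1) (fun h => ?_) hxt (T.mem_L.1 hx) F.wt
    (D.comm D.w_mem_A T.mem)
  exact T.ne (D.eq_one_of_centAt_conj h T.fix)

/-- An involution commuting with `a` has no `a` in the centre of its centraliser. -/
theorem not_centAt {i : G} (hi : orderOf i = 2) (hc : Commute i T.a) : ¬ CentAt i T.a := by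
  intro h
  obtain ⟨h₀, rfl⟩ := isConj_iff.1 (F.one_classG i hi)
  have hz : CentAt t (h₀⁻¹ * T.a * h₀) := by
    have h1 := h.conj h₀⁻¹
    rwa [inv_inv, show h₀⁻¹ * (h₀ * t * h₀⁻¹) * h₀ = t by group] at h1
  have hz1 : h₀⁻¹ * T.a * h₀ ≠ 1 := fun e => T.ne (by
    have := congrArg (fun y => h₀ * y * h₀⁻¹) e
    simpa [mul_assoc] using this)
  have key : ∀ {x : G}, x ∈ T.L → Commute x (h₀ * t * h₀⁻¹) := by
    intro x hx
    have h2 : Commute (h₀⁻¹ * x * h₀) (h₀⁻¹ * T.a * h₀) := by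
      have := commute_conj h₀⁻¹ (T.mem_L.1 hx)
      rwa [inv_inv] at this
    have h3 := commute_conj h₀ (show Commute (h₀⁻¹ * x * h₀) t from
      mem_Cen.1 (F.centralizer_central hz hz1 (mem_centralizer_singleton_iff.2 h2.eq)))
    rwa [show h₀ * (h₀⁻¹ * x * h₀) * h₀⁻¹ = x by group] at h3
  set i := h₀ * t * h₀⁻¹
  have hiA : i ∈ D.A := D.mem_A.2 ⟨(key T.tL).symm, (key T.wL).symm⟩
  have hg : D.g * i * D.g⁻¹ = i := mul_inv_eq_iff_eq_mul.2 (key T.g_mem).eq
  rcases D.invol_A hiA hi with e | e | e <;> rw [e] at hg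
  · exact F.w_neG (D.gt.symm.trans hg)
  · rw [D.gw, mul_eq_right] at hg
    exact ne_one_of_orderOf_two F.tG hg
  · rw [D.g_tw, left_eq_mul] at hg
    exact ne_one_of_orderOf_two F.wG hg

/-- The centralisers of the involutions of `L` are commutative. -/
theorem comm_cent {i x y : G} (hi : orderOf i = 2) (hiL : i ∈ T.L) (hx : x ∈ T.L) (hy : y ∈ T.L)
    (hxi : Commute x i) (hyi : Commute y i) : Commute x y :=
  F.cent_comm_at hi (T.mem_L.1 hiL).symm (T.not_centAt hi (T.mem_L.1 hiL)) hxi (T.mem_L.1 hx) hyi (T.mem_L.1 hy)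

theorem AI_L : Fus.AbInv.AI T.L := by
  intro i hi x y hx hy
  exact Subtype.ext (T.comm_cent (i := (i : G)) (by rwa [Subgroup.orderOf_coe]) i.2 x.2 y.2
    (congrArg Subtype.val hx.eq) (congrArg Subtype.val hy.eq)).eq

/-- The involutions of `L` are conjugate under `L`. -/
theorem exists_conj {i : G} (hiL : i ∈ T.L) (hi : orderOf i = 2) : ∃ l ∈ T.L, l * t * l⁻¹ = i := by
  rcases (T.AI_L).commute_or_odd (s := (⟨t, T.tL⟩ : T.L)) (w := ⟨i, hiL⟩)
    (by rw [Subgroup.orderOf_mk]; exact F.tG) (by rw [Subgroup.orderOf_mk]; exact hi) with h | h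
  · have hc : Commute t i := congrArg Subtype.val h.eq
    rcases D.invol_A (T.mem_A_of_commute hiL hc.symm) hi with rfl | rfl | rfl
    · exact ⟨1, one_mem _, by group⟩
    · exact ⟨D.g, T.g_mem, D.gt⟩
    · refine ⟨D.g * D.g, mul_mem T.g_mem T.g_mem, ?_⟩
      rw [show D.g * D.g * t * (D.g * D.g)⁻¹ = D.g * (D.g * t * D.g⁻¹) * D.g⁻¹ by group, D.gt, D.gw]
  · rw [← Subgroup.orderOf_coe] at h
    obtain ⟨k, hk, e⟩ := Bender.Cor.exists_conj_of_odd F.tG hi h
    exact ⟨k, Subgroup.zpowers_le.2 (mul_mem T.tL hiL) hk, e⟩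

/-- The involutions of `L`. -/
noncomputable def invols : Finset G := by classical exact Finset.univ.filter fun i => orderOf i = 2 ∧ i ∈ T.L

theorem card_L : Nat.card T.L = T.invols.card * Nat.card D.A := by
  classical
  choose c hcL hc using fun i : {i // i ∈ T.invols} =>
    T.exists_conj (Finset.mem_filter.1 i.2).2.2 (Finset.mem_filter.1 i.2).2.1
  have hA : ∀ {x : G}, x ∈ D.A → x * t * x⁻¹ = t := fun hx => mul_inv_eq_iff_eq_mul.2 (D.comm hx D.t_mem_A).eq
  let f : {i // i ∈ T.invols} × D.A → T.L := fun z => ⟨c z.1 * z.2, mul_mem (hcL _) (T.A_le z.2.2)⟩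
  have hval : ∀ z, ((f z : T.L) : G) * t * ((f z : T.L) : G)⁻¹ = z.1 := fun z => by
    show c z.1 * z.2 * t * (c z.1 * z.2)⁻¹ = _
    rw [show c z.1 * z.2 * t * (c z.1 * z.2)⁻¹ = c z.1 * ((z.2 : G) * t * (z.2 : G)⁻¹) * (c z.1)⁻¹ by group,
      hA z.2.2, hc]
  have hf : Function.Bijective f := by
    constructor
    · intro z z' h
      have h1 : z.1 = z'.1 := Subtype.ext (by rw [← hval z, h, hval z'])
      have h2 : c z.1 * (z.2 : G) = c z'.1 * (z'.2 : G) := congrArg Subtype.val h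
      rw [h1] at h2
      exact Prod.ext h1 (Subtype.ext (mul_left_cancel h2))
    · intro l
      have hi : (l : G) * t * (l : G)⁻¹ ∈ T.invols := Finset.mem_filter.2 ⟨Finset.mem_univ _,
        by rw [orderOf_conj_eq, F.tG], mul_mem (mul_mem l.2 T.tL) (inv_mem l.2)⟩
      set i : {i // i ∈ T.invols} := ⟨_, hi⟩
      have hx : (c i)⁻¹ * (l : G) ∈ D.A := by
        refine T.mem_A_of_commute (mul_mem (inv_mem (hcL i)) l.2) (mul_inv_eq_iff_eq_mul.1 ?_)
        calc (c i)⁻¹ * (l : G) * t * ((c i)⁻¹ * (l : G))⁻¹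
            = (c i)⁻¹ * ((l : G) * t * (l : G)⁻¹) * c i := by group
          _ = t := by rw [show (l : G) * t * (l : G)⁻¹ = c i * t * (c i)⁻¹ from (hc i).symm]; group
      exact ⟨(i, ⟨_, hx⟩), Subtype.ext (mul_inv_cancel_left _ _)⟩
  rw [← Nat.card_eq_of_bijective f hf, Nat.card_prod, Nat.card_eq_finsetCard]

/-- The normal case. -/
def IsCyc : Prop := ∀ l ∈ T.L, ∃ i : ℕ, ∃ x ∈ D.A, l = D.g ^ i * x

/-- The other case. -/
structure IsFive : Prop where
  five : T.invols.card = 15
  pow_mul : ∀ x ∈ T.L, ∀ y ∈ T.L, (x * y) ^ 60 = x ^ 60 * y ^ 60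
  pow_central : ∀ x ∈ T.L, ∀ y ∈ T.L, Commute (x ^ 60) y
  sq_central : ∀ x ∈ D.A, ∀ y ∈ T.L, Commute (x ^ 2) y
  odd_central : ∀ x ∈ D.A, Odd (orderOf x) → ∀ y ∈ T.L, Commute x y

theorem invols_three (h : ∀ i ∈ T.L, orderOf i = 2 → Commute i t) : T.invols.card = 3 ∧ T.IsCyc := by
  classical
  constructor
  · refine Finset.card_eq_three.2 ⟨t, F.w, t * (F.w : G), F.w_neG.symm,
      fun e => ne_one_of_orderOf_two F.wG (mul_eq_left.1 e.symm),
      fun e => ne_one_of_orderOf_two F.tG (mul_eq_right.1 e.symm), ?_⟩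
    ext i
    simp only [invols, Finset.mem_filter, Finset.mem_univ, true_and, Finset.mem_insert, Finset.mem_singleton]
    constructor
    · rintro ⟨hi, hiL⟩
      exact D.invol_A (T.mem_A_of_commute hiL (h i hiL hi)) hi
    · rintro (rfl | rfl | rfl)
      · exact ⟨F.tG, T.tL⟩
      · exact ⟨F.wG, T.wL⟩
      · exact ⟨by rw [← D.ii_w, orderOf_conj_eq, F.wG], mul_mem T.tL T.wL⟩
  · intro l hl
    have ho : orderOf (l * t * l⁻¹) = 2 := by rw [orderOf_conj_eq, F.tG]
    have hL : l * t * l⁻¹ ∈ T.L := mul_mem (mul_mem hl T.tL) (inv_mem hl)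
    have hk : ∀ k ∈ T.L, k * t * k⁻¹ = l * t * l⁻¹ → k⁻¹ * l ∈ D.A := fun k hk e => by
      refine T.mem_A_of_commute (mul_mem (inv_mem hk) hl) (mul_inv_eq_iff_eq_mul.1 ?_)
      calc k⁻¹ * l * t * (k⁻¹ * l)⁻¹ = k⁻¹ * (l * t * l⁻¹) * k := by group
        _ = t := by rw [← e]; group
    have key : ∀ i : ℕ, D.g ^ i * t * (D.g ^ i)⁻¹ = l * t * l⁻¹ → ∃ j : ℕ, ∃ x ∈ D.A, l = D.g ^ j * x :=
      fun i e => ⟨i, _, hk _ (pow_mem T.g_mem _) e, (mul_inv_cancel_left _ _).symm⟩
    rcases D.invol_A (T.mem_A_of_commute hL (h _ hL ho)) ho with e | e | e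
    · exact key 0 (by rw [e]; group)
    · exact key 1 (by rw [e, pow_one, D.gt])
    · refine key 2 ?_
      rw [e, show D.g ^ 2 * t * (D.g ^ 2)⁻¹ = D.g * (D.g * t * D.g⁻¹) * D.g⁻¹ by rw [pow_two]; group, D.gt, D.gw]

set_option maxHeartbeats 800000 in
/-- The case `SL₂(F) × Z`. -/
theorem isFive {K : Type} [Field K] [Fintype K] (hchar : CharP K 2) {A' : Type} [CommGroup A'] [Finite A']
    (hA' : Odd (Nat.card A')) (e : T.L ≃* Matrix.SpecialLinearGroup (Fin 2) K × A') : T.IsFive := by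
  classical
  set t' : T.L := ⟨t, T.tL⟩
  set w' : T.L := ⟨(F.w : G), T.wL⟩
  have ht' : orderOf t' = 2 := by rw [Subgroup.orderOf_mk]; exact F.tG
  have hw' : orderOf w' = 2 := by rw [Subgroup.orderOf_mk]; exact F.wG
  have hne : t' ≠ w' := fun e => F.w_neG (congrArg Subtype.val e).symm
  haveI := hchar
  -- involutions have trivial second component
  have hinv : ∀ {y : T.L}, y * y = 1 → (e y).2 = 1 := fun {y} hy => by
    have h1 : (e y).2 * (e y).2 = 1 := by rw [← Prod.snd_mul, ← map_mul, hy, map_one, Prod.snd_one]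
    exact eq_one_of_odd_sq' (hA'.of_dvd_nat (orderOf_dvd_natCard _)) h1
  have hmul : ∀ {y : T.L}, orderOf y = 2 → y * y = 1 := fun {y} hy => sq_of_two hy
  have hfst : ∀ {y : T.L}, orderOf y = 2 → orderOf (e y).1 = 2 := fun {y} hy => by
    have h1 := hinv (hmul hy)
    rw [← MulEquiv.orderOf_eq e y, Prod.orderOf, h1, orderOf_one, Nat.lcm_one_right] at hy
    exact hy
  have hcomm : ∀ y z : T.L, Commute (e y).1 (e z).1 → Commute y z := fun y z h =>
    e.injective (by rw [map_mul, map_mul]; exact Prod.ext h.eq (mul_comm _ _))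
  set t1 := (e t').1 with ht1
  have hc4 := GW.SLTwo_card_centralizer (hfst ht')
  have hmem : ∀ y : T.L, (y : G) ∈ D.A ↔ (e y).1 ∈ centralizer ({t1} : Set _) := by
    intro y
    rw [mem_centralizer_singleton_iff]
    constructor
    · intro hy
      have h : Commute y t' := Subtype.ext (D.comm hy D.t_mem_A).eq
      exact congrArg Prod.fst (show e y * e t' = e t' * e y by rw [← map_mul, ← map_mul, h.eq])
    · exact fun hy => T.mem_A_of_commute y.2 (congrArg Subtype.val (hcomm y t' hy).eq)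
  -- the upper unitriangular involutions
  have hK : Fintype.card K = 4 := by
    have h2le : Fintype.card K ≠ 2 := by
      intro h2
      rw [h2] at hc4
      have h3 : (⟨(e w').1, (hmem w').1 D.w_mem_A⟩ : centralizer ({t1} : Set _)) = ⟨t1, (hmem t').1 D.t_mem_A⟩ := by
        haveI := Fintype.ofFinite (centralizer ({t1} : Set (Matrix.SpecialLinearGroup (Fin 2) K)))
        rw [Nat.card_eq_fintype_card] at hc4
        by_contra hne'
        have h5 : ({1, ⟨(e w').1, (hmem w').1 D.w_mem_A⟩, ⟨t1, (hmem t').1 D.t_mem_A⟩} :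
            Finset (centralizer ({t1} : Set (Matrix.SpecialLinearGroup (Fin 2) K)))).card ≤ 2 :=
          (Finset.card_le_univ _).trans hc4.le
        rw [Finset.card_eq_three.2 ⟨_, _, _, fun h => ne_one_of_orderOf_two (hfst hw') (congrArg Subtype.val h).symm,
          fun h => ne_one_of_orderOf_two (hfst ht') (congrArg Subtype.val h).symm, hne', rfl⟩] at h5
        omega
      exact hne (e.injective (Prod.ext (congrArg Subtype.val h3)
        ((hinv (hmul hw')).trans (hinv (hmul ht')).symm))).symm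
    set u : K → T.L := fun b => e.symm (Block.AbTwo.SLTwo.upper b, 1) with hu
    have hu2 : ∀ b, u b * u b = 1 := fun b => by
      rw [hu, ← map_mul, Prod.mk_mul_mk, Block.AbTwo.SLTwo.upper_sq, one_mul]; exact map_one _
    have huinj : Function.Injective u := fun a b h =>
      Block.AbTwo.SLTwo.upper_injective (congrArg Prod.fst (e.symm.injective h))
    have hu0 : u 0 = 1 := by
      have h := Block.AbTwo.SLTwo.upper_add (0 : K) 0
      rw [add_zero] at h
      rw [hu]
      show e.symm (Block.AbTwo.SLTwo.upper 0, 1) = 1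
      rw [left_eq_mul.1 h]
      exact map_one _
    have huo : ∀ b, b ≠ 0 → orderOf (u b) = 2 := fun b hb =>
      Invol.orderOf_two_iff.2 ⟨hu2 b, fun h => hb (huinj (h.trans hu0.symm))⟩
    obtain ⟨l, hlL, hl⟩ := T.exists_conj (u 1).2 (by rw [Subgroup.orderOf_coe]; exact huo 1 one_ne_zero)
    have himg : (Finset.univ.erase (0 : K)).image (fun b => l⁻¹ * (u b : G) * l) ⊆
        {t, (F.w : G), t * (F.w : G)} := by
      intro z hz
      obtain ⟨b, hb, rfl⟩ := Finset.mem_image.1 hz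
      have hb0 : b ≠ 0 := (Finset.mem_erase.1 hb).1
      have hc : Commute (u b : G) (u 1) := by
        refine congrArg Subtype.val (hcomm (u b) (u 1) ?_).eq
        rw [hu, MulEquiv.apply_symm_apply, MulEquiv.apply_symm_apply]
        show Block.AbTwo.SLTwo.upper b * Block.AbTwo.SLTwo.upper 1 = _
        rw [← Block.AbTwo.SLTwo.upper_add, add_comm, Block.AbTwo.SLTwo.upper_add]
      have h1 := commute_conj l⁻¹ hc
      rw [inv_inv, show l⁻¹ * (u 1 : G) * l = t by rw [← hl]; group] at h1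
      have ho : orderOf (l⁻¹ * (u b : G) * l) = 2 := by
        rw [show l⁻¹ * (u b : G) * l = l⁻¹ * (u b : G) * l⁻¹⁻¹ by rw [inv_inv], orderOf_conj_eq,
          Subgroup.orderOf_coe, huo b hb0]
      have := D.invol_A (T.mem_A_of_commute (mul_mem (mul_mem (inv_mem hlL) (u b).2) hlL) h1) ho
      simpa using this
    have hle : Fintype.card K - 1 ≤ 3 := by
      have h1 := (Finset.card_le_card himg).trans Finset.card_le_three
      rwa [Finset.card_image_of_injective _ (fun a b h => huinj (Subtype.ext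
        (mul_left_cancel (mul_right_cancel h)))), Finset.card_erase_of_mem (Finset.mem_univ _),
        Finset.card_univ] at h1
    obtain ⟨k, hk, hkK⟩ := FiniteField.card K 2
    have hk2 : (k : ℕ) ≤ 2 := by
      by_contra hcon
      have h8 : 2 ^ 3 ≤ Fintype.card K := hkK ▸ Nat.pow_le_pow_right (by omega) (by omega)
      omega
    have hk1 : 1 ≤ (k : ℕ) := k.2
    rcases (show (k : ℕ) = 1 ∨ (k : ℕ) = 2 by omega) with h | h <;> rw [h] at hkK <;> omega
  have hA : Nat.card D.A = 4 * Nat.card A' := by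
    rw [hK] at hc4
    rw [← hc4, ← Nat.card_prod]
    refine Nat.card_congr ?_
    exact
      { toFun := fun x => (⟨(e ⟨x, T.A_le x.2⟩).1, (hmem _).1 x.2⟩, (e ⟨x, T.A_le x.2⟩).2)
        invFun := fun z => ⟨e.symm ((z.1 : Matrix.SpecialLinearGroup (Fin 2) K), z.2),
          (hmem _).2 (by rw [MulEquiv.apply_symm_apply]; exact z.1.2)⟩
        left_inv := fun x => Subtype.ext (by simp)
        right_inv := fun z => by ext <;> simp }
  have hSL : Nat.card (Matrix.SpecialLinearGroup (Fin 2) K) = 60 := by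
    rw [Fus.PSLTwo.natCard_SL_two, hK]
  have hp60 : ∀ y : T.L, (e (y ^ 60)).1 = 1 := fun y => by
    rw [map_pow, Prod.pow_fst, ← hSL, pow_card_eq_one']
  refine ⟨?_, ?_, ?_, ?_, ?_⟩
  · have hL := T.card_L
    rw [Nat.card_congr e.toEquiv, Nat.card_prod, hSL, hA] at hL
    have hpos : 0 < Nat.card A' := Nat.card_pos
    nlinarith
  · intro x hx y hy
    refine congrArg Subtype.val (show ((⟨x, hx⟩ : T.L) * ⟨y, hy⟩) ^ 60 = ⟨x, hx⟩ ^ 60 * ⟨y, hy⟩ ^ 60 from ?_)
    refine e.injective (Prod.ext ?_ ?_)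
    · rw [map_mul, Prod.fst_mul, hp60, hp60, hp60, one_mul]
    · simp only [map_pow, map_mul, Prod.pow_snd, Prod.snd_mul, mul_pow]
  · intro x hx y hy
    exact congrArg Subtype.val (hcomm (⟨x, hx⟩ ^ 60 : T.L) ⟨y, hy⟩ (by rw [hp60]; exact Commute.one_left _)).eq
  · intro x hx y hy
    set X : T.L := ⟨x, T.A_le hx⟩
    refine congrArg Subtype.val (hcomm (X ^ 2) ⟨y, hy⟩ ?_).eq
    haveI := Fintype.ofFinite (centralizer ({t1} : Set (Matrix.SpecialLinearGroup (Fin 2) K)))
    rw [hK, Nat.card_eq_fintype_card] at hc4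
    set a : centralizer ({t1} : Set (Matrix.SpecialLinearGroup (Fin 2) K)) := ⟨t1, (hmem t').1 D.t_mem_A⟩
    set b : centralizer ({t1} : Set (Matrix.SpecialLinearGroup (Fin 2) K)) := ⟨(e w').1, (hmem w').1 D.w_mem_A⟩
    have ha : orderOf a = 2 := by rw [← Subgroup.orderOf_coe]; exact hfst ht'
    have hb : orderOf b = 2 := by rw [← Subgroup.orderOf_coe]; exact hfst hw'
    have hab : Commute a b := Subtype.ext (mem_centralizer_singleton_iff.1 b.2).symm
    have hne' : a ≠ b := fun h => hne (e.injective (Prod.ext (congrArg Subtype.val h)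
      ((hinv (hmul ht')).trans (hinv (hmul hw')).symm)))
    have hall : ({1, a, b, a * b} : Finset (centralizer ({t1} : Set (Matrix.SpecialLinearGroup (Fin 2) K)))) =
        Finset.univ := by
      refine Finset.eq_univ_of_card _ ?_
      rw [hc4, Finset.card_insert_of_notMem, Finset.card_eq_three.2 ⟨a, b, a * b, hne', ?_, ?_, rfl⟩]
      · exact fun h => ne_one_of_orderOf_two hb (mul_eq_left.1 h.symm)
      · exact fun h => ne_one_of_orderOf_two ha (mul_eq_right.1 h.symm)
      · simp only [Finset.mem_insert, Finset.mem_singleton]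
        rintro (h | h | h)
        · exact ne_one_of_orderOf_two ha h.symm
        · exact ne_one_of_orderOf_two hb h.symm
        · exact hne' ((eq_inv_of_mul_eq_one_left h.symm).trans (inv_eq_of_mul_eq_one_right (sq_of_two hb)))
    have hsq : ∀ z : centralizer ({t1} : Set (Matrix.SpecialLinearGroup (Fin 2) K)), z * z = 1 := by
      intro z
      have hz := Finset.mem_univ z
      rw [← hall] at hz
      simp only [Finset.mem_insert, Finset.mem_singleton] at hz
      rcases hz with rfl | rfl | rfl | rfl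
      · exact one_mul 1
      · exact sq_of_two ha
      · exact sq_of_two hb
      · rw [hab.symm.mul_mul_mul_comm, sq_of_two ha, sq_of_two hb, one_mul]
    have h1 : (e (X ^ 2)).1 = 1 := by
      rw [map_pow, Prod.pow_fst, pow_two]
      exact congrArg Subtype.val (hsq ⟨(e X).1, (hmem X).1 hx⟩)
    rw [h1]; exact Commute.one_left _
  · intro x hx ho y hy
    refine congrArg Subtype.val (hcomm (⟨x, T.A_le hx⟩ : T.L) ⟨y, hy⟩ ?_).eq
    rw [hK] at hc4
    have h1 : (e ⟨x, T.A_le hx⟩).1 = 1 := by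
      have h4 : orderOf (e ⟨x, T.A_le hx⟩).1 ∣ 4 := by
        have := orderOf_dvd_natCard (⟨_, (hmem ⟨x, T.A_le hx⟩).1 hx⟩ : centralizer ({t1} : Set _))
        rwa [← Subgroup.orderOf_coe, hc4] at this
      have h5 : orderOf (e ⟨x, T.A_le hx⟩).1 ∣ orderOf x := by
        rw [← Subgroup.orderOf_mk x (T.A_le hx), ← MulEquiv.orderOf_eq e]
        exact orderOf_map_dvd (MonoidHom.fst (Matrix.SpecialLinearGroup (Fin 2) K) A') _
      exact orderOf_eq_one_iff.1 (Nat.eq_one_of_dvd_coprimes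
        ((Nat.Coprime.pow_left 2 (Nat.coprime_two_left.2 ho))) h4 h5)
    rw [h1]; exact Commute.one_left _

/-- The two cases. -/
theorem classify : (T.invols.card = 3 ∧ T.IsCyc) ∨ T.IsFive := by
  classical
  haveI : Fact (Nat.Prime 2) := ⟨Nat.prime_two⟩
  have heven : Even (Nat.card T.L) := even_iff_two_dvd.2 (F.tG ▸ Subgroup.orderOf_dvd_natCard T.L T.tL)
  set t' : T.L := ⟨t, T.tL⟩
  set w' : T.L := ⟨(F.w : G), T.wL⟩
  have ht' : orderOf t' = 2 := by rw [Subgroup.orderOf_mk]; exact F.tG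
  have hw' : orderOf w' = 2 := by rw [Subgroup.orderOf_mk]; exact F.wG
  have htw' : Commute t' w' := Subtype.ext F.wt.symm.eq
  have hne : t' ≠ w' := fun e => F.w_neG (congrArg Subtype.val e).symm
  -- the four group in a Sylow subgroup
  let V : Subgroup T.L :=
    { carrier := {x | (x : G) ∈ D.A ∧ x * x = 1}
      mul_mem' := by
        rintro x y ⟨hx, hx2⟩ ⟨hy, hy2⟩
        refine ⟨mul_mem hx hy, ?_⟩
        have hc : Commute y x := Subtype.ext (D.comm hy hx).eq
        rw [hc.mul_mul_mul_comm, hx2, hy2, one_mul]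
      one_mem' := ⟨one_mem _, one_mul 1⟩
      inv_mem' := by
        rintro x ⟨hx, hx2⟩
        exact ⟨inv_mem hx, by rw [← mul_inv_rev, hx2, inv_one]⟩ }
  have hVp : IsPGroup 2 V := fun x => ⟨1, by rw [pow_one, pow_two]; exact Subtype.ext x.2.2⟩
  obtain ⟨P, hP⟩ := hVp.exists_le_sylow
  have htV : t' ∈ V := ⟨D.t_mem_A, by exact sq_of_two ht'⟩
  have hwV : w' ∈ V := ⟨D.w_mem_A, by exact sq_of_two hw'⟩
  rcases Fus.AbInv.classify heven T.AI_L with hcyc | hnor | ⟨K, iK1, iK2, A', iA1, iA2, hchar, hA', ⟨e⟩⟩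
  · exfalso
    haveI := hcyc P
    have h2 := IsCyclic.card_pow_eq_one_le (α := (P : Subgroup T.L)) two_pos
    have hsub : ({1, ⟨t', hP htV⟩, ⟨w', hP hwV⟩} : Finset (P : Subgroup T.L)) ⊆
        Finset.univ.filter fun z => z ^ 2 = 1 := by
      intro z hz
      refine Finset.mem_filter.2 ⟨Finset.mem_univ _, ?_⟩
      simp only [Finset.mem_insert, Finset.mem_singleton] at hz
      rcases hz with rfl | rfl | rfl
      · exact one_pow _
      · exact Subtype.ext (by rw [SubgroupClass.coe_pow, OneMemClass.coe_one, pow_two]; exact sq_of_two ht')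
      · exact Subtype.ext (by rw [SubgroupClass.coe_pow, OneMemClass.coe_one, pow_two]; exact sq_of_two hw')
    have h3 := (Finset.card_le_card hsub).trans h2
    rw [Finset.card_eq_three.2 ⟨_, _, _, fun e => ne_one_of_orderOf_two ht' (congrArg Subtype.val e).symm,
      fun e => ne_one_of_orderOf_two hw' (congrArg Subtype.val e).symm,
      fun e => hne (congrArg Subtype.val e), rfl⟩] at h3
    omega
  · refine Or.inl (T.invols_three fun i hiL hi => ?_)
    haveI := hnor P
    set i' : T.L := ⟨i, hiL⟩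
    have hi' : orderOf i' = 2 := by rw [Subgroup.orderOf_mk]; exact hi
    have hk : i' ∈ (P : Subgroup T.L) := by
      obtain ⟨R, hR⟩ := (IsPGroup.of_card (n := 1) (show Nat.card (zpowers i') = 2 ^ 1 by
        rw [Nat.card_zpowers, hi', pow_one])).exists_le_sylow
      haveI := P.unique_of_normal (hnor P)
      rw [Subsingleton.elim P R]
      exact hR (mem_zpowers i')
    rcases T.AI_L.commute_or_odd hi' ht' with h | h
    · exact congrArg Subtype.val h.eq
    · obtain ⟨n, hn⟩ := IsPGroup.iff_orderOf.1 P.isPGroup' ⟨i' * t', mul_mem hk (hP htV)⟩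
      rw [← Subgroup.orderOf_coe] at hn
      simp only at hn
      obtain _ | n := n
      · have h1 := orderOf_eq_one_iff.1 (hn.trans (pow_zero 2))
        have h2 : Commute i' t' := by
          rw [eq_inv_of_mul_eq_one_left h1]; exact (Commute.refl t').inv_left
        exact congrArg Subtype.val h2.eq
      · rw [hn, pow_succ] at h
        exact absurd h (Nat.not_odd_iff_even.2 (even_two.mul_left _))
  · exact Or.inr (T.isFive hchar hA' e)

end Fx

end Cfsg.Agent.Invol.BrauerL3
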