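import Cfsg.Agent.Lib.Invol.BrauerL3.TwistEta
import Cfsg.Agent.Lib.Invol.BrauerL3.TwistCore

/-!
# There are no twisted elements

A fixed element of `A` of order `r ^ j` (`r` an odd prime, `j = 2` for `r = 3`) exists only for `r ^ j = 5` with
`SL₂(4) × Z` as centraliser: the two equations give `μ² (a + 1) (Q + 1) = n (a - 1) (Q - 1)` with `n` the number of
involutions of the centraliser `L` and `μ` the number of those fixed by `s`.
-/

set_option autoImplicit false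
set_option linter.unusedSectionVars false

open scoped Classical

namespace Cfsg.Agent.Invol.BrauerL3

open Cfsg Subgroup

universe u v

variable {G : Type u} [Group G] [Fintype G] {t : G} {p : ℕ} {Q : ℤ}

/-- The functions of `C(t)` used against a twist. -/
structure Kit (t : G) (Q : ℤ) {S : Type v} [CommGroup S] (τ : S × S →* Cen t) where
  k : ℕ
  X : Set (Cen t)
  hX : TI t X
  gram : Fin k → Fin k → ℤ
  tr : Fin k → ℤ
  val : Fin k → ℤ
  pr : Fin k → ℚ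
  funs : Funs (Cen t) X ⟨t, t_mem t⟩ (((Q * (Q + 1) : ℤ) : ℚ) ^ 2 / Nat.card (Cen t)) gram tr val pr
  iA : Fin k
  i0 : Fin k
  iT : Fin 3 → Fin k
  five : Vecs.Five (gram := gram) (tr := tr) iA i0 iT
  hv0 : val (iT 0) = 0
  hv1 : val (iT 1) = 2 * (1 - Q)
  hp0 : pr (iT 0) = ((Q : ℚ) - 1) / Q
  hp1 : pr (iT 1) = ((Q : ℚ) - 1) / Q
  van : ∀ (j : Fin 3) (z : S × S), z.1 ≠ z.2 → ∀ c : Cen t, funs.f (iT j) (c * τ z * c⁻¹) = 0

/-- A fixed point free involutive map of a finite set. -/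
theorem even_card_of_involutive {α : Type*} (s : Finset α) (f : α → α) (h1 : ∀ x ∈ s, f x ∈ s)
    (h2 : ∀ x ∈ s, f (f x) = x) (h3 : ∀ x ∈ s, f x ≠ x) : Even s.card := by
  have h : (∑ _x ∈ s, (1 : ZMod 2)) = 0 :=
    Finset.sum_involution (fun x _ => f x) (fun x _ => by decide) (fun x hx _ => h3 x hx) h1 h2
  rw [Finset.sum_const, nsmul_eq_mul, mul_one, ZMod.natCast_eq_zero_iff_even] at h
  exact h

namespace TSetup

variable {F : Frame (Cen t) (tc t) p Q} {S : Type v} [CommGroup S] (D : TSetup F S)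

theorem ker_φ : D.φ.ker = D.T.τ.ker := by
  rw [TSetup.φ, MonoidHom.ker_comp_of_injective _ _ (Cen t).subtype_injective]

theorem card_A : (Nat.card D.A : ℤ) * (Nat.card D.T.τ.ker : ℤ) = (Q - 1) ^ 2 := by
  have h : Nat.card D.A * Nat.card D.T.τ.ker = Nat.card (S × S) := by
    rw [← D.ker_φ, TSetup.A, ← Subgroup.index_ker, Subgroup.index_mul_card]
  rw [Nat.card_prod, D.T.cardS] at h
  have h' := congrArg (fun n : ℕ => (n : ℤ)) h
  push_cast [Int.natCast_natAbs] at h'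
  rw [h', abs_mul_abs_self, pow_two]

theorem card_anti : Nat.card D.anti.range = (Q - 1).natAbs := by
  rw [← D.T.cardS]
  refine (Nat.card_congr (MonoidHom.ofInjective (f := D.anti) ?_).toEquiv).symm
  refine (injective_iff_map_eq_one _).2 fun a ha => ?_
  have hk : D.T.τ (a, a⁻¹) = 1 := Subtype.ext ha
  have h2 : a = a⁻¹ := D.T.ker_diag _ hk
  have h3 : Odd (orderOf ((a, a⁻¹) : S × S)) :=
    D.T.ker_odd.of_dvd_nat (Subgroup.orderOf_dvd_natCard D.T.τ.ker (MonoidHom.mem_ker.2 hk))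
  rw [← h2, Prod.orderOf_mk, Nat.lcm_self] at h3
  obtain ⟨n, hn⟩ := h3
  have h4 := pow_orderOf_eq_one a
  have h5 : a * a = 1 := mul_eq_one_iff_eq_inv.2 h2
  rwa [hn, pow_succ, pow_mul, pow_two, h5, one_pow, one_mul] at h4

theorem dvd_m {x : G} (hx : x ∈ D.A) : orderOf x ∣ (Q - 1).natAbs := by
  refine orderOf_dvd_of_pow_eq_one ?_
  exact congrArg Subtype.val (F.A_exp ⟨x, mem_Cen.2 (D.mem_A.1 hx).1.eq⟩ (Subtype.ext (D.mem_A.1 hx).2.eq))

end TSetup

namespace Tw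

variable {F : Frame (Cen t) (tc t) p Q} {S : Type v} [CommGroup S] {D : TSetup F S} (T : Tw D)

variable [IsSimpleGroup G]

theorem norm_L {x : G} (h : x * T.a₁ * x⁻¹ ∈ zpowers T.a₁) : x ∈ T.fx.L ∨ D.ii * x ∈ T.fx.L := by
  have ho : orderOf (x * T.a₁ * x⁻¹) = T.r := by rw [orderOf_conj_eq, T.ord₁]
  have h' : T.a₁ ∈ zpowers (x * T.a₁ * x⁻¹) :=
    Twist.mem_of_conj.mem_zpowers_of_orderOf_eq h (mem_zpowers _) (T.ord₁.trans ho.symm)
  have hcomm : ∀ {y : G}, Commute y (x * T.a₁ * x⁻¹) → y ∈ T.fx.L := fun {y} hy => by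
    obtain ⟨k, hk⟩ := Subgroup.mem_zpowers_iff.1 h'
    refine T.fx.mem_L.2 ?_
    show Commute y T.a₁
    rw [← hk]
    exact hy.zpow_right k
  have hiL : x * t * x⁻¹ ∈ T.fx.L := hcomm (commute_conj x ((D.mem_A.1 T.mem₁).1.symm))
  obtain ⟨l, hl, el⟩ := T.fx.exists_conj hiL (by rw [orderOf_conj_eq, F.tG])
  set c := l⁻¹ * x with hc
  have hct : c * t * c⁻¹ = t := by
    rw [hc, show l⁻¹ * x * t * (l⁻¹ * x)⁻¹ = l⁻¹ * (x * t * x⁻¹) * l by group, ← el]; group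
  have hu : x * (F.w : G) * x⁻¹ ∈ T.fx.L := hcomm (commute_conj x ((D.mem_A.1 T.mem₁).2.symm))
  have hucm : Commute (c * (F.w : G) * c⁻¹) t := by
    have := commute_conj c F.wt
    rwa [hct] at this
  have huL : c * (F.w : G) * c⁻¹ ∈ T.fx.L := by
    rw [hc, show l⁻¹ * x * (F.w : G) * (l⁻¹ * x)⁻¹ = l⁻¹ * (x * (F.w : G) * x⁻¹) * l by group]
    exact mul_mem (mul_mem (inv_mem hl) hu) hl
  have hx : x = l * c := by rw [hc, mul_inv_cancel_left]
  rcases D.invol_A (T.fx.mem_A_of_commute huL hucm) (by rw [orderOf_conj_eq, F.wG]) with e | e | e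
  · exact absurd (mul_left_cancel (mul_right_cancel (e.trans hct.symm))) F.w_neG
  · left
    rw [hx]
    exact mul_mem hl (T.fx.A_le (D.mem_A.2 ⟨mul_inv_eq_iff_eq_mul.1 hct, mul_inv_eq_iff_eq_mul.1 e⟩))
  · right
    rw [hx, show D.ii * (l * c) = D.ii * l * D.ii⁻¹ * (D.ii * c) by group]
    refine mul_mem (T.fx.conj_L hl) (T.fx.A_le (D.mem_A.2 ⟨mul_inv_eq_iff_eq_mul.1 ?_, mul_inv_eq_iff_eq_mul.1 ?_⟩))
    · rw [show D.ii * c * t * (D.ii * c)⁻¹ = D.ii * (c * t * c⁻¹) * D.ii⁻¹ by group, hct, D.ii_t]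
    · rw [show D.ii * c * (F.w : G) * (D.ii * c)⁻¹ = D.ii * (c * (F.w : G) * c⁻¹) * D.ii⁻¹ by group, e,
        ← conj_mul, D.ii_t, D.ii_w, ← mul_assoc, D.tt, one_mul]

theorem exists_twist {f : T.fx.L →* D.A} (hf : T.Good f) :
    ∃ W : Twist G, W.L = T.fx.L ∧ W.s = D.ii ∧ W.a₁ = T.a₁ := by
  obtain ⟨η, h1, h2, h3, h4⟩ := T.exists_eta hf
  exact ⟨{
    L := T.fx.L, s := D.ii, a₁ := T.a₁, a₀ := T.a, η := η, s2 := D.ii_mul, sL := T.fx.ii_notMem,
    conjL := fun l hl => T.fx.conj_L hl, norm := fun _ h => T.norm_L h, a₁_odd := by rw [T.ord₁]; exact T.rodd,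
    a₁_ne := T.ne₁, inv := h1, supp := h2, odd := h3, mem₀ := T.fx.A_le T.mem, comm₀ := hf.central,
    s_a₀ := T.inv₀, η₀ := h4 }, rfl, rfl, rfl⟩

theorem support_conj {l : G} (hl : l ∈ T.fx.L) (h : T.a₁ ∈ zpowers l) {x : Cen t} {y : G}
    (e : (x : G) = y * l * y⁻¹) : ∃ (c : Cen t) (z : S × S), z.1 ≠ z.2 ∧ x = c * D.T.τ z * c⁻¹ := by
  obtain ⟨i, hi⟩ := Subgroup.mem_zpowers_iff.1 h
  have hxi : Commute (y * T.a₁ * y⁻¹) t := by
    rw [← hi, ← conj_zpow, ← e]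
    exact (show Commute (x : G) t from mem_Cen.1 x.2).zpow_left i
  have hu : Commute (y⁻¹ * t * y) T.a₁ := by
    have := commute_conj y⁻¹ hxi.symm
    rwa [inv_inv, show y⁻¹ * (y * T.a₁ * y⁻¹) * y = T.a₁ by group] at this
  obtain ⟨k, hk, ek⟩ := T.fx.exists_conj (T.fx.mem_L.2 hu)
    (by rw [show y⁻¹ * t * y = y⁻¹ * t * y⁻¹⁻¹ by rw [inv_inv], orderOf_conj_eq, F.tG])
  have hct : y * k ∈ Cen t := mem_Cen.2 (mul_inv_eq_iff_eq_mul.1 (by
    rw [show y * k * t * (y * k)⁻¹ = y * (k * t * k⁻¹) * y⁻¹ by group, ek]; group))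
  set c : Cen t := ⟨y * k, hct⟩
  have hy : ((c⁻¹ * x * c : Cen t) : G) = k⁻¹ * l * k := by
    simp only [Subgroup.coe_mul, Subgroup.coe_inv, c, e]; group
  have hA : k⁻¹ * l * k ∈ D.A :=
    T.fx.mem_A_of_commute (mul_mem (mul_mem (inv_mem hk) hl) hk) (hy ▸ mem_Cen.1 (c⁻¹ * x * c).2)
  obtain ⟨⟨a, b⟩, hab⟩ := hA
  refine ⟨c, (a, b), fun hd => ?_, ?_⟩
  · obtain rfl : a = b := hd
    have hcent := D.centAt_φ a
    rw [hab] at hcent
    have h1 : CentAt t T.a₁ := by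
      have e1 : T.a₁ = (k⁻¹ * l * k) ^ i := by
        have e2 : (k⁻¹ * l * k) ^ i = k⁻¹ * l ^ i * k := by
          have := conj_zpow (i := i) (a := k⁻¹) (b := l)
          simpa only [inv_inv] using this
        rw [e2, hi, mul_assoc, (show Commute T.a₁ k from (T.fx.mem_L.1 hk).symm).eq, ← mul_assoc]
        show T.a₁ = k⁻¹ * k * T.a₁
        rw [inv_mul_cancel, one_mul]
      rw [e1]
      exact fun z hz => (hcent z hz).zpow_right i
    exact T.ne₁ (D.eq_one_of_centAt_conj h1 T.fix₁)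
  · have e' : c⁻¹ * x * c = D.T.τ (a, b) := Subtype.ext (hy.trans hab.symm)
    rw [← e']; group

/-- The involutions in `sL`. -/
noncomputable def outs : Finset G := by
  classical exact Finset.univ.filter fun i => orderOf i = 2 ∧ D.ii * i ∈ T.fx.L

theorem mem_outs {i : G} : i ∈ T.outs ↔ orderOf i = 2 ∧ D.ii * i ∈ T.fx.L := by
  classical simp [outs]

theorem mem_invols {i : G} : i ∈ T.fx.invols ↔ orderOf i = 2 ∧ i ∈ T.fx.L := by
  classical simp [Fx.invols]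

theorem conj_outs {i k : G} (hi : i ∈ T.outs) (hk : k ∈ T.fx.L) : k * i * k⁻¹ ∈ T.outs := by
  obtain ⟨h1, h2⟩ := T.mem_outs.1 hi
  refine T.mem_outs.2 ⟨by rw [orderOf_conj_eq, h1], ?_⟩
  rw [show D.ii * (k * i * k⁻¹) = D.ii * k * D.ii⁻¹ * (D.ii * i) * k⁻¹ by group]
  exact mul_mem (mul_mem (T.fx.conj_L hk) h2) (inv_mem hk)

theorem outs_t [DecidableEq G] (i : G) :
    (i ∈ T.outs ∧ Commute i t) ↔ ∃ x ∈ D.anti.range, D.ii * x = i := by
  constructor
  · rintro ⟨hi, hit⟩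
    obtain ⟨h1, h2⟩ := T.mem_outs.1 hi
    have hst : Commute D.ii t := mul_inv_eq_iff_eq_mul.1 D.ii_t
    refine ⟨D.ii * i, D.mem_anti.2 ⟨T.fx.mem_A_of_commute h2 (hst.mul_left hit), ?_⟩,
      by rw [← mul_assoc, D.ii_mul, one_mul]⟩
    rw [mul_inv_rev, inv_eq_of_mul_eq_one_right (sq_of_two h1), ← mul_assoc, D.ii_mul, one_mul]
  · rintro ⟨x, hx, rfl⟩
    obtain ⟨hxA, hxi⟩ := D.mem_anti.1 hx
    have h2 : D.ii * x * (D.ii * x) = 1 := by
      rw [show D.ii * x * (D.ii * x) = D.ii * x * D.ii * x by group]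
      nth_rewrite 2 [← D.ii_inv]
      rw [hxi, inv_mul_cancel]
    refine ⟨T.mem_outs.2 ⟨Invol.orderOf_two_iff.2 ⟨h2, fun e => T.fx.ii_notMem ?_⟩, ?_⟩,
      (show Commute D.ii t from mul_inv_eq_iff_eq_mul.1 D.ii_t).mul_left (D.mem_A.1 hxA).1⟩
    · rw [eq_inv_of_mul_eq_one_left e]; exact inv_mem (T.fx.A_le hxA)
    · rw [← mul_assoc, D.ii_mul, one_mul]; exact T.fx.A_le hxA

/-- Each involution of `sL` centralising an involution of `L` is conjugate to `s`. -/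
theorem conj_ii [DecidableEq G] {i u : G} (hi : i ∈ T.outs) (hu : u ∈ T.fx.invols) (h : Commute i u) :
    ∃ k ∈ T.fx.L, k * D.ii * k⁻¹ = i := by
  obtain ⟨hu2, huL⟩ := T.mem_invols.1 hu
  obtain ⟨k, hk, ek⟩ := T.fx.exists_conj huL hu2
  have h1 : Commute (k⁻¹ * i * k) t := by
    have := commute_conj k⁻¹ h
    rwa [inv_inv, show k⁻¹ * u * k = t by rw [← ek]; group] at this
  have h2 : k⁻¹ * i * k ∈ T.outs := by
    have := T.conj_outs hi (inv_mem hk)
    rwa [inv_inv] at this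
  obtain ⟨x, ⟨b, rfl⟩, ex⟩ := (T.outs_t _).1 ⟨h2, h1⟩
  set z := D.φ (b⁻¹, 1) with hzdef
  have hz : z ∈ D.A := ⟨_, rfl⟩
  refine ⟨k * z, mul_mem hk (T.fx.A_le hz), ?_⟩
  have e : z * D.ii * z⁻¹ = D.ii * D.anti b := by
    have h3 : D.ii * z * D.ii⁻¹ = D.φ (1, b⁻¹) := D.ii_φ _ _
    calc z * D.ii * z⁻¹ = D.ii * (D.ii⁻¹ * z * D.ii) * z⁻¹ := by group
      _ = D.ii * (D.φ (1, b⁻¹) * (D.φ (b⁻¹, 1))⁻¹) := by
        rw [show D.ii⁻¹ * z * D.ii = D.ii * z * D.ii⁻¹ by rw [D.ii_inv], h3, mul_assoc, hzdef]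
      _ = D.ii * D.anti b := by
        rw [← map_inv, ← map_mul, D.anti_apply, Prod.inv_mk, Prod.mk_mul_mk, inv_inv, inv_one, one_mul, mul_one]
  calc k * z * D.ii * (k * z)⁻¹ = k * (z * D.ii * z⁻¹) * k⁻¹ := by group
    _ = i := by rw [e, ex]; group

/-- The counting equation. -/
theorem count : ∃ μ : ℕ, μ ≤ T.fx.invols.card ∧
    (Odd T.fx.invols.card → Odd μ ∧ T.outs.card * μ = T.fx.invols.card * (Q - 1).natAbs) ∧
    (T.fx.invols.card = 3 → μ = 1) := by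
  classical
  set μ := (T.fx.invols.filter fun u => Commute D.ii u).card with hμ
  refine ⟨μ, Finset.card_filter_le _ _, fun hodd => ?_, fun h3 => ?_⟩
  · have hpar : ∀ i ∈ T.outs, Odd (T.fx.invols.filter fun u => Commute i u).card := by
      intro i hi
      obtain ⟨hi2, hiL⟩ := T.mem_outs.1 hi
      have hii : i⁻¹ = i := inv_eq_of_mul_eq_one_right (sq_of_two hi2)
      have hmem : ∀ {x : G}, x ∈ T.fx.L → i * x * i⁻¹ ∈ T.fx.L := fun {x} hx => by
        rw [show i * x * i⁻¹ = D.ii⁻¹ * ((D.ii * i) * x * (D.ii * i)⁻¹) * D.ii by group,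
          show D.ii⁻¹ * ((D.ii * i) * x * (D.ii * i)⁻¹) * D.ii = D.ii * ((D.ii * i) * x * (D.ii * i)⁻¹) * D.ii⁻¹ by
            rw [D.ii_inv]]
        exact T.fx.conj_L (mul_mem (mul_mem hiL hx) (inv_mem hiL))
      have he : Even (T.fx.invols.filter fun u => ¬ Commute i u).card := by
        refine even_card_of_involutive _ (fun u => i * u * i⁻¹) (fun u hu => ?_) (fun u _ => ?_) (fun u hu e => ?_)
        · obtain ⟨hu1, hu2⟩ := Finset.mem_filter.1 hu
          obtain ⟨h1, h2⟩ := T.mem_invols.1 hu1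
          refine Finset.mem_filter.2 ⟨T.mem_invols.2 ⟨by rw [orderOf_conj_eq, h1], hmem h2⟩, fun hc => hu2 ?_⟩
          have := commute_conj i⁻¹ hc
          rwa [inv_inv, show i⁻¹ * i * i = i by group, show i⁻¹ * (i * u * i⁻¹) * i = u by group] at this
        · rw [show i * (i * u * i⁻¹) * i⁻¹ = i * i * u * (i * i)⁻¹ by group, sq_of_two hi2]; group
        · exact (Finset.mem_filter.1 hu).2 (mul_inv_eq_iff_eq_mul.1 e)
      have hs := Finset.card_filter_add_card_filter_not (s := T.fx.invols) (fun u => Commute i u)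
      rw [← hs, Nat.odd_add] at hodd
      exact hodd.2 he
    have hsi : D.ii ∈ T.outs := T.mem_outs.2
      ⟨Invol.orderOf_two_iff.2 ⟨D.ii_mul, fun e => T.fx.ii_notMem (e ▸ one_mem _)⟩,
        by rw [D.ii_mul]; exact one_mem _⟩
    refine ⟨hμ ▸ hpar _ hsi, ?_⟩
    have hfib : ∀ i ∈ T.outs, (T.fx.invols.filter fun u => Commute i u).card = μ := by
      intro i hi
      obtain ⟨u, hu⟩ := Finset.card_pos.1 (hpar i hi).pos
      obtain ⟨hu1, hu2⟩ := Finset.mem_filter.1 hu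
      obtain ⟨k, hk, ek⟩ := T.conj_ii hi hu1 hu2
      refine (Finset.card_bij (fun x _ => k * x * k⁻¹) (fun x hx => ?_)
        (fun x _ y _ h => mul_left_cancel (mul_right_cancel h)) fun y hy => ⟨k⁻¹ * y * k, ?_, by group⟩).symm
      · obtain ⟨h1, h2⟩ := Finset.mem_filter.1 hx
        obtain ⟨h3, h4⟩ := T.mem_invols.1 h1
        exact Finset.mem_filter.2 ⟨T.mem_invols.2 ⟨by rw [orderOf_conj_eq, h3], mul_mem (mul_mem hk h4) (inv_mem hk)⟩,
          ek ▸ commute_conj k h2⟩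
      · obtain ⟨h1, h2⟩ := Finset.mem_filter.1 hy
        obtain ⟨h3, h4⟩ := T.mem_invols.1 h1
        refine Finset.mem_filter.2 ⟨T.mem_invols.2 ⟨?_, mul_mem (mul_mem (inv_mem hk) h4) hk⟩, ?_⟩
        · rw [show k⁻¹ * y * k = k⁻¹ * y * k⁻¹⁻¹ by rw [inv_inv], orderOf_conj_eq, h3]
        · have := commute_conj k⁻¹ h2
          rwa [inv_inv, show k⁻¹ * i * k = D.ii by rw [← ek]; group] at this
    have hcol : ∀ u ∈ T.fx.invols, (T.outs.filter fun i => Commute i u).card = (Q - 1).natAbs := by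
      intro u hu
      obtain ⟨hu2, huL⟩ := T.mem_invols.1 hu
      obtain ⟨k, hk, ek⟩ := T.fx.exists_conj huL hu2
      rw [← D.card_anti, Nat.card_eq_fintype_card, ← Finset.card_univ]
      refine (Finset.card_bij (s := (Finset.univ : Finset D.anti.range))
        (t := T.outs.filter fun i => Commute i u) (fun x _ => k * (D.ii * (x : G)) * k⁻¹) (fun x _ => ?_)
        (fun x _ y _ h => Subtype.ext ?_) fun i hi => ?_).symm
      · obtain ⟨h1, h2⟩ := (T.outs_t _).2 ⟨x, x.2, rfl⟩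
        exact Finset.mem_filter.2 ⟨T.conj_outs h1 hk, ek ▸ commute_conj k h2⟩
      · exact mul_left_cancel (mul_left_cancel (mul_right_cancel h))
      · obtain ⟨h1, h2⟩ := Finset.mem_filter.1 hi
        have h3 : Commute (k⁻¹ * i * k) t := by
          have := commute_conj k⁻¹ h2
          rwa [inv_inv, show k⁻¹ * u * k = t by rw [← ek]; group] at this
        have h4 : k⁻¹ * i * k ∈ T.outs := by
          have := T.conj_outs h1 (inv_mem hk)
          rwa [inv_inv] at this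
        obtain ⟨x, hx, ex⟩ := (T.outs_t _).1 ⟨h4, h3⟩
        exact ⟨⟨x, hx⟩, Finset.mem_univ _, by rw [ex]; group⟩
    have hd := Finset.sum_card_bipartiteAbove_eq_sum_card_bipartiteBelow (s := T.outs) (t := T.fx.invols)
      (fun i u => Commute i u)
    simp only [Finset.bipartiteAbove, Finset.bipartiteBelow] at hd
    rw [Finset.sum_congr rfl hfib, Finset.sum_congr rfl hcol, Finset.sum_const, Finset.sum_const, smul_eq_mul,
      smul_eq_mul] at hd
    exact hd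
  · have hne1 : t ≠ t * (F.w : G) := fun e => ne_one_of_orderOf_two F.wG (mul_eq_left.1 e.symm)
    have hne2 : (F.w : G) ≠ t * (F.w : G) := fun e => ne_one_of_orderOf_two F.tG (mul_eq_right.1 e.symm)
    have hsub : ({t, (F.w : G), t * (F.w : G)} : Finset G) ⊆ T.fx.invols := by
      intro i hi
      simp only [Finset.mem_insert, Finset.mem_singleton] at hi
      rcases hi with rfl | rfl | rfl
      · exact T.mem_invols.2 ⟨F.tG, T.fx.tL⟩
      · exact T.mem_invols.2 ⟨F.wG, T.fx.wL⟩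
      · exact T.mem_invols.2 ⟨by rw [← D.ii_w, orderOf_conj_eq, F.wG], mul_mem T.fx.tL T.fx.wL⟩
    have heq := Finset.eq_of_subset_of_card_le hsub
      (by rw [h3, Finset.card_eq_three.2 ⟨_, _, _, F.w_neG.symm, hne1, hne2, rfl⟩])
    rw [hμ, ← heq, Finset.card_eq_one]
    refine ⟨t, Finset.ext fun u => ?_⟩
    simp only [Finset.mem_filter, Finset.mem_insert, Finset.mem_singleton]
    constructor
    · rintro ⟨rfl | rfl | rfl, hc⟩
      · rfl
      · have e := D.ii_w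
        rw [hc.eq, mul_inv_cancel_right] at e
        exact absurd e hne2
      · have e := D.ii_tw
        rw [hc.eq, mul_inv_cancel_right] at e
        exact absurd e.symm hne2
    · rintro rfl
      exact ⟨Or.inl rfl, mul_inv_eq_iff_eq_mul.1 D.ii_t⟩

/-- The ratio of the two equations. -/
theorem ratio {f : T.fx.L →* D.A} (hf : T.Good f) (K : Kit t Q D.T.τ) (h0 : Q ≠ 0) (h1 : Q ≠ 1) (h2 : Q ≠ -1)
    {μ : ℕ} (hμ : T.outs.card * μ = T.fx.invols.card * (Q - 1).natAbs) (hn : T.fx.invols.card ≠ 0) :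
    ∃ a : ℤ, a ≠ 0 ∧ a ≠ 1 ∧ a ≠ -1 ∧ |Q| ≤ |a| ∧
      (μ : ℤ) ^ 2 * (a + 1) * (Q + 1) = (T.fx.invols.card : ℤ) * (a - 1) * (Q - 1) := by
  obtain ⟨W, hWL, hWs, hWa⟩ := T.exists_twist hf
  have hna : ¬ IsMulCommutative G := fun h => F.not_comm h
  have hout : W.outer = T.outs := by
    ext i
    rw [T.mem_outs, Twist.outer, Finset.mem_filter, hWL, hWs]
    simp
  have hN : ((Q * (Q + 1) : ℤ) : ℚ) ^ 2 / Nat.card (Cen t) ≠ 0 :=
    div_ne_zero (pow_ne_zero 2 (Int.cast_ne_zero.2 (mul_ne_zero h0 (fun e => h2 (by omega)))))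
      (Nat.cast_ne_zero.2 Nat.card_pos.ne')
  obtain ⟨a, ha0, ha1, ha2, haQ, e1, e2⟩ := W.eqs hna F.tG F.one_classG K.hX hN K.funs K.five h1 K.hv0 K.hv1 K.hp0 K.hp1
    fun j x l y hl e => by
      obtain ⟨c, z, hz, hc⟩ := T.support_conj (hWL ▸ l.2) (hWa ▸ W.supp l hl) e
      rw [hc]
      exact K.van j z hz c
  refine ⟨a, ha0, ha1, ha2, haQ, ?_⟩
  rw [hout, hWL, T.fx.card_L] at e2
  set n := T.fx.invols.card
  have hc : (Nat.card (Cen t) : ℚ) * (Nat.card D.T.τ.ker : ℚ) = (Q : ℚ) * ((Q : ℚ) ^ 2 - 1) * ((Q : ℚ) - 1) := by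
    exact_mod_cast D.T.cardC
  have hA : (Nat.card D.A : ℚ) * (Nat.card D.T.τ.ker : ℚ) = ((Q : ℚ) - 1) ^ 2 := by exact_mod_cast D.card_A
  have hO : ((T.outs.card : ℚ) * μ) ^ 2 = ((n : ℚ) * ((Q : ℚ) - 1)) ^ 2 := by
    have h' : ((T.outs.card : ℚ) * μ) = (n : ℚ) * (((Q - 1).natAbs : ℤ) : ℚ) := by exact_mod_cast hμ
    rw [h', mul_pow, mul_pow, Int.natCast_natAbs, Int.cast_abs, sq_abs, Int.cast_sub, Int.cast_one]
  have hq0 : (Q : ℚ) ≠ 0 := by exact_mod_cast h0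
  have hq1 : (Q : ℚ) - 1 ≠ 0 := sub_ne_zero.2 (by exact_mod_cast h1)
  have hq2 : (Q : ℚ) + 1 ≠ 0 := fun e => h2 (by
    have : ((Q : ℤ) : ℚ) = ((-1 : ℤ) : ℚ) := by push_cast; linarith
    exact_mod_cast this)
  have hC0 : (Nat.card (Cen t) : ℚ) ≠ 0 := Nat.cast_ne_zero.2 Nat.card_pos.ne'
  have hG0 : (Nat.card G : ℚ) ≠ 0 := Nat.cast_ne_zero.2 Nat.card_pos.ne'
  have hA0 : (Nat.card D.A : ℚ) ≠ 0 := Nat.cast_ne_zero.2 Nat.card_pos.ne'
  have hn0 : (n : ℚ) ≠ 0 := Nat.cast_ne_zero.2 hn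
  have hk0 : (Nat.card D.T.τ.ker : ℚ) ≠ 0 := by
    haveI := D.finS
    exact Nat.cast_ne_zero.2 Nat.card_pos.ne'
  have ha0' : (a : ℚ) ≠ 0 := by exact_mod_cast ha0
  have ha1' : (a : ℚ) - 1 ≠ 0 := sub_ne_zero.2 (by exact_mod_cast ha1)
  have ha2' : (a : ℚ) + 1 ≠ 0 := fun e => ha2 (by
    have : ((a : ℤ) : ℚ) = ((-1 : ℤ) : ℚ) := by push_cast; linarith
    exact_mod_cast this)
  push_cast at e1 e2
  set c : ℚ := (Nat.card (Cen t) : ℚ)
  set A : ℚ := (Nat.card D.A : ℚ)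
  set O : ℚ := (T.outs.card : ℚ)
  set k : ℚ := (Nat.card D.T.τ.ker : ℚ)
  set g : ℚ := (Nat.card G : ℚ)
  -- both give `(a + Q)² / a`
  have e3 : c ^ 2 / g * (((Q : ℚ) * (Q + 1)) ^ 2 / c) * (((Q : ℚ) - 1) / Q) * (a + 1) =
      c ^ 2 / g * (O ^ 2 / ((n : ℚ) * A)) * (a - 1) := by
    rw [← e1, ← e2]
    field_simp
  have e4 : ((Q : ℚ) + 1) ^ 2 * Q * ((Q : ℚ) - 1) * ((n : ℚ) * A) * (a + 1) = c * O ^ 2 * (a - 1) := by
    field_simp at e3
    linear_combination e3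
  have e5 : ((μ : ℚ) ^ 2 * (a + 1) * (Q + 1)) = (n : ℚ) * (a - 1) * (Q - 1) := by
    refine mul_left_cancel₀ (show (Q : ℚ) * ((Q : ℚ) + 1) * ((Q : ℚ) - 1) ^ 3 * n ≠ 0 by
      exact mul_ne_zero (mul_ne_zero (mul_ne_zero hq0 hq2) (pow_ne_zero 3 hq1)) hn0) ?_
    linear_combination ((μ : ℚ) ^ 2 * k) * e4 - ((Q : ℚ) + 1) ^ 2 * Q * ((Q : ℚ) - 1) * n * (a + 1) * (μ : ℚ) ^ 2 * hA +
      c * k * (a - 1) * hO + ((n : ℚ) * ((Q : ℚ) - 1)) ^ 2 * (a - 1) * hc
  exact_mod_cast e5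

/-- Twisted elements occur only with `r ^ j = 5`. -/
theorem exceptional (hQ : Odd Q) (K : Kit t Q D.T.τ) : T.r = 5 ∧ T.j = 1 ∧ T.fx.IsFive := by
  have hQ2 : ∃ i, Q = 2 * i + 1 := hQ
  obtain ⟨i, hi⟩ := hQ2
  have hm : T.r ^ T.j ∣ (Q - 1).natAbs := T.ord ▸ D.dvd_m T.mem
  have hm2 : 2 * T.r ^ T.j ∣ (Q - 1).natAbs := by
    refine Nat.Coprime.mul_dvd_of_dvd_of_dvd (Nat.coprime_two_left.2 T.rodd.pow) ?_ hm
    rw [hi]; omega
  have hQ1 : Q ≠ 1 := fun e => by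
    haveI := D.finS
    have h1 : Nat.card S = (Q - 1).natAbs := D.T.cardS
    rw [e] at h1
    exact Nat.card_pos.ne' h1
  have hbig : 5 ≤ T.r ^ T.j := by
    by_cases h3 : T.r = 3
    · rw [h3, T.h3 h3]; norm_num
    · have h5 : 5 ≤ T.r := by
        have := T.hr.two_le
        have := T.hr2
        by_contra hlt
        have h4 : T.r = 4 := by omega
        exact (by norm_num : ¬ Nat.Prime 4) (h4 ▸ T.hr)
      exact h5.trans (Nat.le_self_pow (by have := T.hj; omega) _)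
  have hmpos : 0 < (Q - 1).natAbs := Int.natAbs_pos.2 (sub_ne_zero.2 hQ1)
  have hmge := Nat.le_of_dvd hmpos hm2
  obtain ⟨μ, hμle, hμ, hμ1⟩ := T.count
  have h0 : Q ≠ 0 := by omega
  have h2 : Q ≠ -1 := by omega
  rcases T.fx.classify with ⟨h3, hC⟩ | hC
  · exfalso
    obtain ⟨f, hf⟩ := T.exists_hom_cyc hC
    obtain ⟨-, hcount⟩ := hμ (h3 ▸ (by decide))
    obtain ⟨a, -, -, -, -, e⟩ := T.ratio hf K h0 hQ1 h2 hcount (by omega)
    rw [hμ1 h3, h3] at e
    push_cast at e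
    have h4 : (a - 2) * (Q - 2) = 3 := by linarith
    have h5 : (Q - 2) ∣ 3 := Dvd.intro_left _ h4
    have h6 := Int.le_of_dvd (by norm_num) h5
    have h7 := Int.le_of_dvd (by norm_num) (neg_dvd.2 h5)
    omega
  · by_cases h5 : T.r = 5 ∧ T.j = 1
    · exact ⟨h5.1, h5.2, hC⟩
    exfalso
    obtain ⟨f, hf⟩ := T.exists_hom_five hC h5
    obtain ⟨hμo, hcount⟩ := hμ (hC.five ▸ (by decide))
    obtain ⟨a, -, -, -, haQ, e⟩ := T.ratio hf K h0 hQ1 h2 hcount (by rw [hC.five]; omega)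
    rw [hC.five] at hμle e
    push_cast at e
    have h7 : 7 ≤ T.r ^ T.j := by
      by_contra hlt
      have hodd : Odd (T.r ^ T.j) := T.rodd.pow
      have h55 : T.r ^ T.j = 5 := by
        obtain ⟨c, hc⟩ := hodd
        omega
      have hdvd : T.r ∣ 5 := h55 ▸ dvd_pow_self T.r (by have := T.hj; omega)
      have hr5 := (Nat.prime_dvd_prime_iff_eq T.hr (by norm_num)).1 hdvd
      refine h5 ⟨hr5, ?_⟩
      rw [hr5] at h55
      exact Nat.pow_right_injective (by norm_num) (h55.trans (pow_one 5).symm)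
    have hQ13 : 13 ≤ |Q| := by
      have h14 : 14 ≤ (Q - 1).natAbs := by omega
      rcases abs_cases Q with h | h <;> omega
    have ha13 : 13 ≤ |a| := hQ13.trans haQ
    have e' := congrArg Int.natAbs e
    have ea := abs_add_le a 1
    have ea' := abs_sub a 1
    rw [abs_one] at ea ea'
    have eb : |a| - 1 ≤ |a + 1| := by rcases abs_cases a with h | h <;> rcases abs_cases (a + 1) with h' | h' <;> omega
    have eb' : |a| - 1 ≤ |a - 1| := by rcases abs_cases a with h | h <;> rcases abs_cases (a - 1) with h' | h' <;> omega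
    have ec : |Q + 1| ≤ |Q| + 1 := (abs_add_le Q 1).trans (by rw [abs_one])
    have ec' : |Q - 1| ≤ |Q| + 1 := (abs_sub Q 1).trans (by rw [abs_one])
    have ed : |Q| - 1 ≤ |Q + 1| := by rcases abs_cases Q with h | h <;> rcases abs_cases (Q + 1) with h' | h' <;> omega
    have ed' : |Q| - 1 ≤ |Q - 1| := by rcases abs_cases Q with h | h <;> rcases abs_cases (Q - 1) with h' | h' <;> omega
    have eabs : (μ : ℤ) ^ 2 * (|a + 1| * |Q + 1|) = 15 * (|a - 1| * |Q - 1|) := by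
      have := congrArg abs e
      rw [abs_mul, abs_mul, abs_mul, abs_mul, abs_pow, Nat.abs_cast] at this
      rw [show |(15 : ℤ)| = 15 by norm_num] at this
      linarith
    have hxy : 0 ≤ (|a| - 13) * (|Q| - 13) := mul_nonneg (by linarith) (by linarith)
    rcases (show μ ≤ 3 ∨ 5 ≤ μ by obtain ⟨c, hc⟩ := hμo; omega) with hμs | hμs
    · have h9 : (μ : ℤ) ^ 2 ≤ 9 := by
        have : (μ : ℤ) ≤ 3 := by exact_mod_cast hμs
        nlinarith
      have hl : (μ : ℤ) ^ 2 * (|a + 1| * |Q + 1|) ≤ 9 * ((|a| + 1) * (|Q| + 1)) :=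
        mul_le_mul h9 (mul_le_mul ea ec (abs_nonneg _) (by positivity)) (by positivity) (by norm_num)
      have hr : (|a| - 1) * (|Q| - 1) ≤ |a - 1| * |Q - 1| := mul_le_mul eb' ed' (by linarith) (abs_nonneg _)
      linarith
    · have h25 : 25 ≤ (μ : ℤ) ^ 2 := by
        have : (5 : ℤ) ≤ μ := by exact_mod_cast hμs
        nlinarith
      have hl : 25 * ((|a| - 1) * (|Q| - 1)) ≤ (μ : ℤ) ^ 2 * (|a + 1| * |Q + 1|) :=
        mul_le_mul h25 (mul_le_mul eb ed (by linarith) (abs_nonneg _))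
          (mul_nonneg (by linarith) (by linarith)) (by positivity)
      have hr : |a - 1| * |Q - 1| ≤ (|a| + 1) * (|Q| + 1) := mul_le_mul ea' ec' (abs_nonneg _) (by positivity)
      linarith

end Tw

end Cfsg.Agent.Invol.BrauerL3
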