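import Cfsg.Agent.Lib.Invol.BrauerL3.TwistKer

/-!
# `3` divides the kernel if it divides `Q - 1`

Otherwise some fixed element of order three has centraliser `L = A ∪ gA ∪ g²A`; `x ↦ (x · sxs⁻¹) ^ (m / 3)` extends
to a homomorphism of `L`, and its transfer to `G` is nontrivial on a generator of the centre of `C(t)`, against
simplicity.
-/

set_option autoImplicit false
set_option linter.unusedSectionVars false

open scoped Classical

namespace Cfsg.Agent.Invol.BrauerL3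

open Cfsg Subgroup

universe u v

variable {G : Type u} [Group G] [Fintype G] {t : G} {p : ℕ} {Q : ℤ}

namespace TSetup

variable {F : Frame (Cen t) (tc t) p Q} {S : Type v} [CommGroup S] (D : TSetup F S)

theorem centAt_pow' {z : G} (hz : CentAt t z) (n : ℕ) : CentAt t (z ^ n) := fun y hy => (hz y hy).pow_right n

variable [IsSimpleGroup G]

/-- A fixed element of order three. -/
theorem exists_fixed_three (h : 3 ∣ (Q - 1).natAbs) : ∃ a ∈ D.A, D.cg a = a ∧ orderOf a = 3 := by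
  haveI := D.finS
  haveI : Fact (Nat.Prime 3) := ⟨Nat.prime_three⟩
  obtain ⟨σ, hσ⟩ := D.exists_gen
  obtain ⟨e, he⟩ := h
  have he0 : 0 < e := Nat.pos_of_ne_zero fun h0 => D.m_pos.ne' (by rw [he, h0, mul_zero])
  set y := D.anti (σ ^ e) with hy
  have hyA : y ∈ D.A := ⟨(σ ^ e, (σ ^ e)⁻¹), rfl⟩
  have hy3 : orderOf y = 3 := by
    rw [hy, D.orderOf_anti, orderOf_pow, hσ, he, Nat.gcd_eq_right (dvd_mul_left _ _), Nat.mul_div_cancel _ he0]
  have hyc : y ^ 3 = 1 := by rw [← hy3, pow_orderOf_eq_one]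
  have hyi : D.ci y = y⁻¹ := (D.mem_anti.1 ⟨σ ^ e, rfl⟩).2
  have hp1 : D.cg y ^ 3 = 1 := (map_pow D.cg y 3).symm.trans (by rw [hyc, map_one])
  have hp2 : D.cg (D.cg y) ^ 3 = 1 := (map_pow D.cg (D.cg y) 3).symm.trans (by rw [hp1, map_one])
  have hNc : D.Nm y ^ 3 = 1 := by
    rw [TSetup.Nm, (D.comm (mul_mem hyA (D.cg_mem hyA)) (D.cg_mem (D.cg_mem hyA))).mul_pow,
      (D.comm hyA (D.cg_mem hyA)).mul_pow, hyc, hp1, hp2, one_mul, one_mul]
  by_cases hN : D.Nm y = 1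
  swap
  · exact ⟨_, D.Nm_mem hyA, D.cg_Nm hyA, orderOf_eq_prime hNc hN⟩
  refine ⟨y, hyA, ?_, hy3⟩
  have h1A := D.cg_mem hyA
  have h2A := D.cg_mem h1A
  set z := D.cg y * (D.cg (D.cg y))⁻¹ with hz
  have hzA : z ∈ D.A := mul_mem h1A (inv_mem h2A)
  have hz3 : z ^ 3 = 1 := by
    rw [hz, (D.comm h1A (inv_mem h2A)).mul_pow, inv_pow, hp1, hp2, inv_one, one_mul]
  have hzo : Odd (orderOf z) := (show Odd 3 by decide).of_dvd_nat (orderOf_dvd_of_pow_eq_one hz3)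
  have hzc : CentAt t z := D.centAt_of_fixed hzA hzo (by
    show D.ci z = z
    rw [hz, map_mul, map_inv, D.ci_cg hyA, D.ci_cg h1A, D.ci_cg hyA, hyi, map_inv, map_inv, map_inv, map_inv,
      D.cg3 h1A, inv_inv, (D.comm h1A (inv_mem h2A)).eq])
  have hzf : D.cg z * (D.cg (D.cg z))⁻¹ = 1 := by
    simp only [hz, map_mul, map_inv, D.cg3 hyA, D.cg3 h1A]
    rw [mul_inv_rev, inv_inv, (D.comm (inv_mem hyA) h1A).mul_mul_mul_comm]
    rw [show y⁻¹ * y⁻¹ = y by rw [← mul_inv_rev]; exact inv_eq_of_mul_eq_one_right (by rw [← pow_two, ← pow_succ, hyc]),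
      (D.comm (mul_mem h2A h1A) hyA).eq, (D.comm h2A h1A).eq, ← mul_assoc]
    exact hN
  have hzg : D.cg z = z := (D.cg_inj (mul_inv_eq_one.1 hzf)).symm
  have hz1 : z = 1 := D.eq_one_of_centAt_conj hzc hzg
  exact (D.cg_inj (mul_inv_eq_one.1 hz1)).symm

/-- `3 ∣ Q - 1` gives `3 ∣ k`. -/
theorem three_dvd (hm : 3 ∣ (Q - 1).natAbs) (h0 : Q ≠ 0) : 3 ∣ D.kk := by
  by_contra hk
  haveI := D.finS
  haveI : Fact (Nat.Prime 3) := ⟨Nat.prime_three⟩
  obtain ⟨a, haA, haf, ha3⟩ := D.exists_fixed_three hm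
  obtain ⟨σ, hσ⟩ := D.exists_gen
  obtain ⟨e, he⟩ := hm
  have he0 : 0 < e := Nat.pos_of_ne_zero fun h0' => D.m_pos.ne' (by rw [he, h0', mul_zero])
  let W : Fx D := ⟨a, haA, haf, by rw [ha3]; decide, fun h => by rw [h, orderOf_one] at ha3; omega⟩
  set x₀ := D.φ (σ, σ) with hx₀
  have hx₀A : x₀ ∈ D.A := ⟨_, rfl⟩
  have hx₀c : CentAt t x₀ := D.centAt_φ σ
  rcases W.classify with ⟨-, hC⟩ | hC
  swap
  · have h1 : x₀ ^ 2 = 1 := D.eq_one_of_centAt_conj (centAt_pow' hx₀c 2)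
      (mul_inv_eq_iff_eq_mul.2 (hC.sq_central x₀ hx₀A _ W.g_mem).symm.eq)
    rw [hx₀, ← map_pow, Prod.pow_mk, D.φ_diag_iff, ← pow_mul, ← orderOf_dvd_iff_pow_eq_one, hσ, he] at h1
    exact hk ((Nat.Coprime.dvd_of_dvd_mul_left (by norm_num) ((dvd_mul_right 3 e).trans h1)))
  letI := D.commA
  have hexp : ∀ {x : G}, x ∈ D.A → (x ^ e) ^ 3 = 1 := fun {x} hx => by
    rw [← pow_mul, mul_comm, ← he]
    exact orderOf_dvd_iff_pow_eq_one.1 (D.dvd_m hx)
  -- the invariant homomorphism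
  let θ : D.A →* D.A := MonoidHom.mk' (fun x => ⟨((x : G) * D.ci x) ^ e, pow_mem (mul_mem x.2 (D.ci_mem x.2)) e⟩)
    fun x y => Subtype.ext (by
      show ((x : G) * y * D.ci ((x : G) * y)) ^ e = ((x : G) * D.ci x) ^ e * ((y : G) * D.ci y) ^ e
      rw [map_mul, (D.comm y.2 (D.ci_mem x.2)).mul_mul_mul_comm,
        (D.comm (mul_mem x.2 (D.ci_mem x.2)) (mul_mem y.2 (D.ci_mem y.2))).mul_pow])
  have hθ : ∀ x : D.A, (θ x : G) = (x : G) ^ e * D.ci ((x : G) ^ e) := fun x => by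
    show ((x : G) * D.ci x) ^ e = _
    rw [map_pow, (D.comm x.2 (D.ci_mem x.2)).mul_pow]
  have hinvfix : ∀ {d : G}, d ∈ D.A → d ^ 3 = 1 → D.ci d = d⁻¹ → D.cg d = d := fun {d} hd h3 hi => by
    obtain ⟨k, hk'⟩ := Subgroup.mem_zpowers_iff.1 (D.mem_zpowers_of_inverted hd haA hi
      (D.fixed_inverted haA (by rw [ha3]; decide) haf) (ha3 ▸ orderOf_dvd_of_pow_eq_one h3))
    rw [← hk', map_zpow, haf]
  have hθg : ∀ x : D.A, θ ⟨D.g * x * D.g⁻¹, D.conj_g x.2⟩ = θ x := fun x => Subtype.ext (by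
    rw [hθ, hθ]
    show (D.cg (x : G)) ^ e * D.ci (D.cg (x : G) ^ e) = _
    rw [← map_pow]
    set y := (x : G) ^ e
    have hyA : y ∈ D.A := pow_mem x.2 e
    have hy3 : y ^ 3 = 1 := hexp x.2
    have hcA := D.ci_mem hyA
    set d := y * (D.ci y)⁻¹ with hd
    set u := y * D.ci y with hu
    have hdA : d ∈ D.A := mul_mem hyA (inv_mem hcA)
    have huA : u ∈ D.A := mul_mem hyA hcA
    have hd3 : d ^ 3 = 1 := by
      rw [hd, (D.comm hyA (inv_mem hcA)).mul_pow, inv_pow, ← map_pow, hy3, map_one, inv_one, one_mul]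
    have hu3 : u ^ 3 = 1 := by rw [hu, (D.comm hyA hcA).mul_pow, ← map_pow, hy3, map_one, one_mul]
    have huo : Odd (orderOf u) := (show Odd 3 by decide).of_dvd_nat (orderOf_dvd_of_pow_eq_one hu3)
    have hdi : D.ci d = d⁻¹ := by rw [hd, map_mul, map_inv, D.ci_ci, mul_inv_rev, inv_inv]
    have hdf : D.cg d = d := hinvfix hdA hd3 hdi
    have huc : CentAt t u := D.centAt_mul_ii hyA
    have e1 : y = u⁻¹ * d⁻¹ := by
      have h : u * d = y⁻¹ := by
        rw [hu, hd, (D.comm hcA hyA).mul_mul_mul_comm, mul_inv_cancel, mul_one]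
        exact eq_inv_of_mul_eq_one_left (by rw [← pow_two, ← pow_succ, hy3])
      rw [← mul_inv_rev, (D.comm hdA huA).eq, h, inv_inv]
    have e2 : D.ci y = u⁻¹ * d := by
      rw [e1, map_mul, map_inv, map_inv, D.centAt_ci huc, hdi, inv_inv]
    rw [D.ci_cg hyA, e2, map_mul, map_mul, map_inv, map_inv, hdf, hdf, e1, map_mul, map_inv, map_inv, hdf,
      (D.comm (inv_mem hdA) (inv_mem (D.cg_mem (D.cg_mem huA)))).mul_mul_mul_comm, inv_mul_cancel, mul_one,
      ← mul_inv_rev]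
    refine inv_eq_of_mul_eq_one_right ?_
    rw [(D.comm (mul_mem (D.cg_mem (D.cg_mem huA)) (D.cg_mem huA)) huA).eq,
      (D.comm (D.cg_mem (D.cg_mem huA)) (D.cg_mem huA)).eq, ← mul_assoc]
    exact D.norm_eq_one huc huo)
  have hθn : ∀ n : ℕ, ∀ h : D.g ^ n ∈ D.A, θ ⟨D.g ^ n, h⟩ = (1 : D.A) ^ n := fun n h => Subtype.ext (by
    rw [hθ, one_pow, Subgroup.coe_one]
    have hf : D.cg ((D.g ^ n) ^ e) = (D.g ^ n) ^ e := by
      rw [D.cg_apply, ← pow_mul, (Commute.self_pow D.g _).eq, mul_inv_cancel_right]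
    rw [D.fixed_inverted (pow_mem h e)
      ((show Odd 3 by decide).of_dvd_nat (orderOf_dvd_of_pow_eq_one (hexp h))) hf, mul_inv_cancel])
  obtain ⟨χ, hχA, -⟩ := W.exists_ext hC θ 1 hθg hθn
  -- the value at `x₀`
  set v := θ ⟨x₀, hx₀A⟩ with hv
  have hv1 : v ≠ 1 := by
    intro h
    have h1 : (v : G) = 1 := congrArg Subtype.val h
    rw [hv, hθ] at h1
    simp only at h1
    rw [D.centAt_ci (centAt_pow' hx₀c e), ← pow_two, ← pow_mul, hx₀, ← map_pow, Prod.pow_mk, D.φ_diag_iff,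
      ← pow_mul, ← orderOf_dvd_iff_pow_eq_one, hσ, he] at h1
    have h2 : 3 ∣ 2 * D.kk := by
      refine Nat.dvd_of_mul_dvd_mul_right he0 (h1.trans (dvd_of_eq ?_))
      ring
    exact hk (Nat.Coprime.dvd_of_dvd_mul_left (by norm_num) h2)
  have hv3 : v ^ 3 = 1 := Subtype.ext (by
    rw [SubgroupClass.coe_pow, Subgroup.coe_one, hv]
    show (((x₀ : G) * D.ci x₀) ^ e) ^ 3 = 1
    exact hexp (mul_mem hx₀A (D.ci_mem hx₀A)))
  -- the transfer
  set V := MonoidHom.transfer χ with hV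
  have hV1 : V x₀ = 1 := by
    rcases (MonoidHom.normal_ker V).eq_bot_or_eq_top with h | h
    · refine absurd ?_ F.not_comm
      exact ⟨⟨fun x y => (MonoidHom.ker_eq_bot_iff V).1 h (by rw [map_mul, map_mul, mul_comm])⟩⟩
    · exact MonoidHom.mem_ker.1 (h ▸ Subgroup.mem_top x₀)
  haveI := Fintype.ofFinite (Quotient (MulAction.orbitRel (zpowers x₀) (G ⧸ W.L)))
  haveI := Fintype.ofFinite (G ⧸ W.L)
  rw [hV, MonoidHom.transfer_eq_prod_quotient_orbitRel_zpowers_quot] at hV1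
  let P : G ⧸ W.L → Prop := fun q => ∃ c : G, Commute c t ∧ (c : G ⧸ W.L) = q
  have hPfix : ∀ q, P q → x₀ • q = q := by
    rintro q ⟨c, hc, rfl⟩
    rw [MulAction.Quotient.smul_coe, smul_eq_mul, QuotientGroup.eq,
      show (x₀ * c)⁻¹ * c = x₀⁻¹ by rw [← (hx₀c c hc).eq, mul_inv_rev, inv_mul_cancel_right]]
    exact inv_mem (W.A_le hx₀A)
  have hterm : ∀ q : Quotient (MulAction.orbitRel (zpowers x₀) (G ⧸ W.L)),
      χ ⟨q.out.out⁻¹ * x₀ ^ Function.minimalPeriod (x₀ • ·) q.out * q.out.out,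
        QuotientGroup.out_conj_pow_minimalPeriod_mem W.L x₀ q.out⟩ = if P q.out then v else 1 := by
    intro q
    set y := q.out.out with hy
    set l := Function.minimalPeriod (x₀ • ·) q.out
    have hyq : ((y : G) : G ⧸ W.L) = q.out := Quotient.out_eq _
    have hmem := QuotientGroup.out_conj_pow_minimalPeriod_mem W.L x₀ q.out
    split_ifs with hP
    · have hl : l = 1 := Function.minimalPeriod_eq_one_iff_isFixedPt.2 (hPfix _ hP)
      obtain ⟨c, hc, hcq⟩ := hP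
      have hk' : c⁻¹ * y ∈ W.L := QuotientGroup.eq.1 (hcq.trans hyq.symm)
      set k : W.L := ⟨c⁻¹ * y, hk'⟩
      rw [show (⟨y⁻¹ * x₀ ^ l * y, hmem⟩ : W.L) = k⁻¹ * ⟨x₀, W.A_le hx₀A⟩ * k from Subtype.ext (by
        simp only [hl, pow_one, Subgroup.coe_mul, Subgroup.coe_inv, k]
        have e1 : c * x₀ * c⁻¹ = x₀ := mul_inv_eq_iff_eq_mul.2 (hx₀c c hc).eq
        conv_lhs => rw [← e1]
        group), map_mul, map_mul, hχA ⟨x₀, hx₀A⟩, map_inv, ← hv, mul_comm (χ k)⁻¹ v, inv_mul_cancel_right]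
    · rw [← map_one χ]
      refine congrArg χ (Subtype.ext ?_)
      show y⁻¹ * x₀ ^ l * y = 1
      by_contra hne
      have hl1 : x₀ ^ l ≠ 1 := fun h => hne (by rw [h, mul_one, inv_mul_cancel])
      refine hP ?_
      have h1 : Commute (y * W.a * y⁻¹) (x₀ ^ l) := by
        have := commute_conj y (W.mem_L.1 hmem).symm
        rwa [show y * (y⁻¹ * x₀ ^ l * y) * y⁻¹ = x₀ ^ l by group] at this
      have h2 : Commute (y * W.a * y⁻¹) t := mem_Cen.1
        (F.centralizer_central (centAt_pow' hx₀c l) hl1 (mem_centralizer_singleton_iff.2 h1.eq))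
      have h3 : y⁻¹ * t * y ∈ W.L := by
        refine W.mem_L.2 ?_
        have := commute_conj y⁻¹ h2.symm
        rwa [inv_inv, show y⁻¹ * (y * W.a * y⁻¹) * y = W.a by group] at this
      obtain ⟨k, hk', ek⟩ := W.exists_conj h3
        (by rw [show y⁻¹ * t * y = y⁻¹ * t * y⁻¹⁻¹ by rw [inv_inv], orderOf_conj_eq, F.tG])
      refine ⟨y * k, mul_inv_eq_iff_eq_mul.1 ?_, ?_⟩
      · rw [show y * k * t * (y * k)⁻¹ = y * (k * t * k⁻¹) * y⁻¹ by group, ek]; group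
      · rw [← hyq]
        exact QuotientGroup.eq.2 (by rw [mul_inv_rev, inv_mul_cancel_right]; exact inv_mem hk')
  rw [Finset.prod_congr rfl fun q _ => hterm q, Finset.prod_ite, Finset.prod_const, Finset.prod_const_one,
    mul_one] at hV1
  have hout : ∀ q, P q → (Quotient.mk (MulAction.orbitRel (zpowers x₀) (G ⧸ W.L)) q).out = q := by
    intro q hq
    obtain ⟨⟨z, hz⟩, e⟩ := MulAction.orbitRel_apply.1
      (Quotient.mk_out (s := MulAction.orbitRel (zpowers x₀) (G ⧸ W.L)) q)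
    obtain ⟨i, rfl⟩ := Subgroup.mem_zpowers_iff.1 hz
    rw [← e]
    show x₀ ^ i • q = q
    exact MulAction.mem_stabilizer_iff.1
      (Subgroup.zpow_mem _ (MulAction.mem_stabilizer_iff.2 (hPfix q hq)) i)
  have hcount : (Finset.univ.filter fun q : Quotient (MulAction.orbitRel (zpowers x₀) (G ⧸ W.L)) => P q.out).card *
      Nat.card D.A = Nat.card (Cen t) := by
    have h1 : (Finset.univ.filter fun q : G ⧸ W.L => P q).card =
        (Finset.univ.filter fun q : Quotient (MulAction.orbitRel (zpowers x₀) (G ⧸ W.L)) => P q.out).card := by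
      refine Finset.card_bij (fun q _ => Quotient.mk _ q) (fun q hq => ?_) (fun q hq q' hq' h => ?_) fun q hq => ?_
      · have hP : P q := (Finset.mem_filter.1 hq).2
        exact Finset.mem_filter.2 ⟨Finset.mem_univ _, (hout q hP).symm ▸ hP⟩
      · rw [← hout q (Finset.mem_filter.1 hq).2, h, hout q' (Finset.mem_filter.1 hq').2]
      · exact ⟨q.out, Finset.mem_filter.2 ⟨Finset.mem_univ _, (Finset.mem_filter.1 hq).2⟩, Quotient.out_eq q⟩
    rw [← h1, ← Nat.card_eq_finsetCard, ← Nat.card_prod]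
    choose c hc hcq using fun q : ↥(Finset.univ.filter fun q : G ⧸ W.L => P q) => (Finset.mem_filter.1 q.2).2
    refine Nat.card_eq_of_bijective (fun z => (⟨c z.1 * z.2,
      mem_Cen.2 ((hc z.1).mul_left (D.mem_A.1 z.2.2).1).eq⟩ : Cen t)) ⟨fun z z' h => ?_, fun x => ?_⟩
    · have h' : c z.1 * (z.2 : G) = c z'.1 * (z'.2 : G) := congrArg Subtype.val h
      have e1 : z.1 = z'.1 := by
        refine Subtype.ext ?_
        rw [← hcq z.1, ← hcq z'.1]
        refine QuotientGroup.eq.2 ?_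
        rw [show (c z.1)⁻¹ * c z'.1 = (z.2 : G) * (z'.2 : G)⁻¹ from eq_mul_inv_iff_mul_eq.2 (by
          rw [mul_assoc, ← h', inv_mul_cancel_left])]
        exact mul_mem (W.A_le z.2.2) (inv_mem (W.A_le z'.2.2))
      rw [e1] at h'
      exact Prod.ext e1 (Subtype.ext (mul_left_cancel h'))
    · have hx : Commute (x : G) t := mem_Cen.1 x.2
      set q : ↥(Finset.univ.filter fun q : G ⧸ W.L => P q) :=
        ⟨((x : G) : G ⧸ W.L), Finset.mem_filter.2 ⟨Finset.mem_univ _, x, hx, rfl⟩⟩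
      have hA : (c q)⁻¹ * (x : G) ∈ D.A :=
        W.mem_A_of_commute (QuotientGroup.eq.1 (hcq q)) ((hc q).inv_left.mul_left hx)
      exact ⟨(q, ⟨_, hA⟩), Subtype.ext (mul_inv_cancel_left _ _)⟩
  set N := (Finset.univ.filter fun q : Quotient (MulAction.orbitRel (zpowers x₀) (G ⧸ W.L)) => P q.out).card
  have hN : (N : ℤ) = Q * (Q + 1) := by
    have h1 : ((N : ℤ) * Nat.card D.A) = Nat.card (Cen t) := by exact_mod_cast hcount
    have hQ1 : Q - 1 ≠ 0 := Int.natAbs_ne_zero.1 D.m_pos.ne'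
    refine mul_right_cancel₀ (pow_ne_zero 2 hQ1) ?_
    rw [← D.card_A]
    have h2 := D.T.cardC
    rw [← h1] at h2
    have h3 := D.card_A
    linear_combination h2 - Q * (Q + 1) * h3
  have hd : orderOf v = 3 := orderOf_eq_prime hv3 hv1
  have h3N : 3 ∣ N := hd ▸ orderOf_dvd_of_pow_eq_one hV1
  have h3N' : (3 : ℤ) ∣ Q * (Q + 1) := hN ▸ Int.natCast_dvd_natCast.2 h3N
  have h3Q : (3 : ℤ) ∣ Q - 1 := Int.natCast_dvd.2 ⟨e, he⟩
  have h6 : (3 : ℤ) ∣ 2 := by
    obtain ⟨c1, hc1⟩ := h3N'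
    obtain ⟨c2, hc2⟩ := h3Q
    exact ⟨c1 - c2 * (Q + 2), by linear_combination hc1 - (Q + 2) * hc2⟩
  norm_num at h6

end TSetup

end Cfsg.Agent.Invol.BrauerL3
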