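import Cfsg.Agent.Lib.Invol.BrauerL3.UnitaryModel
import Cfsg.Agent.Lib.Invol.BrauerL3.UnitaryKernel
import Cfsg.Agent.Lib.Invol.GW.Klein.ThreeClassBasic
import Cfsg.Agent.Lib.Invol.JankoWard.CaseDModule
import Cfsg.Agent.Lib.Fus.SmallSimple
import Cfsg.Agent.Lib.Lie.UThreeOdd.BN

/-!
# The normaliser of a root group in the unitary case

`USet.exists_kernel`: the normaliser of `R` is `K T`, `K` normal of order `q³`, `K ∩ T = 1`, `C_K(t) = R`.
-/

set_option autoImplicit false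
set_option linter.unusedSectionVars false
set_option linter.style.haveILetI false

namespace Cfsg.Agent.Invol.BrauerL3

open Subgroup

universe u

/-- The setting without the order: the centraliser data and the centralisers of torus elements of odd prime order. -/
structure UBase {G : Type u} [Group G] {t : G} {q d : ℕ} (D : UData t q d) (p n : ℕ) : Prop where
  hp : p.Prime
  hp2 : p ≠ 2
  hn : 1 ≤ n
  hq : q = p ^ n
  ht : orderOf t = 2
  hT : ∀ y ∈ D.T, (orderOf y).Prime → Odd (orderOf y) → centralizer ({y} : Set G) ≤ centralizer ({t} : Set G)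

/-- The setting, with the order. -/
structure USet {G : Type u} [Group G] {t : G} {q : ℕ} (D : UData t q (Nat.gcd 3 (q + 1))) (p n : ℕ) : Prop
    extends UBase D p n where
  hord : Nat.card G = Nat.card ↥(centralizer ({t} : Set G)) * (q ^ 2 * (q ^ 2 - q + 1))

namespace UBase

variable {G : Type u} [Group G] [Finite G] {t : G} {q d : ℕ} {D : UData t q d} {p n : ℕ}
  (S : UBase D p n)
include S

theorem odd_q : Odd q := S.hq ▸ (S.hp.odd_of_ne_two S.hp2).pow

theorem three_le_q : 3 ≤ q := by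
  have h := Nat.le_self_pow (n := n) (by have := S.hn; omega) p
  rw [← S.hq] at h
  have h3 : 3 ≤ p := lt_of_le_of_ne S.hp.two_le (Ne.symm S.hp2)
  exact h3.trans h

theorem tt : t * t = 1 := by rw [← pow_two, ← S.ht, pow_orderOf_eq_one]

theorem t1 : t ≠ 1 := fun e => by have := S.ht; rw [e, orderOf_one] at this; omega

theorem mem_Tt {x : G} (hx : x ∈ D.T) : Commute x t := mem_centralizer_singleton_iff.1 (D.TC hx)

theorem mem_Rt {x : G} (hx : x ∈ D.R) : Commute x t := mem_centralizer_singleton_iff.1 (D.RC hx)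

theorem p_dvd_q : p ∣ q := by rw [S.hq]; exact dvd_pow_self p (by have := S.hn; omega)

theorem p_not_dvd_T : ¬ p ∣ Nat.card D.T := fun h => by
  have h1 : p ∣ q ^ 2 - 1 := D.cardT ▸ h.mul_left _
  have h2 : p ∣ q ^ 2 := S.p_dvd_q.trans (dvd_pow_self q two_ne_zero)
  have h3 := Nat.dvd_sub h2 h1
  have : 1 ≤ q ^ 2 := Nat.one_le_pow _ _ (by have := S.three_le_q; omega)
  rw [show q ^ 2 - (q ^ 2 - 1) = 1 by omega] at h3
  exact S.hp.not_dvd_one h3

theorem coprime_RT : (Nat.card D.R).Coprime (Nat.card D.T) := by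
  obtain rfl := S.hq
  rw [D.cardR]
  exact (S.hp.coprime_iff_not_dvd.2 S.p_not_dvd_T).pow_left n

theorem q_cube : q ^ 3 = p ^ (3 * n) := by rw [S.hq, ← pow_mul, mul_comm]

theorem RT_one {x : G} (h1 : x ∈ D.R) (h2 : x ∈ D.T) : x = 1 := by
  have h := Nat.dvd_gcd (D.R.orderOf_dvd_natCard h1) (D.T.orderOf_dvd_natCard h2)
  rw [Nat.coprime_iff_gcd_eq_one.1 S.coprime_RT] at h
  exact orderOf_eq_one_iff.1 (Nat.dvd_one.1 h)

theorem T_invol {i : G} (hi : i ∈ D.T) (hi2 : i * i = 1) (hi1 : i ≠ 1) : i = t := by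
  haveI := D.Tcyc
  have ho : orderOf (⟨i, hi⟩ : ↥D.T) = 2 :=
    (Subgroup.orderOf_mk i hi).trans (orderOf_eq_prime (by rw [pow_two]; exact hi2) hi1)
  have hot : orderOf (⟨t, D.tT⟩ : ↥D.T) = 2 := (Subgroup.orderOf_mk t D.tT).trans S.ht
  have e := Lie.UThreeOdd.cyclic_eq_of_card (K := zpowers (⟨i, hi⟩ : ↥D.T)) (L := zpowers ⟨t, D.tT⟩)
    (by rw [Nat.card_zpowers, Nat.card_zpowers, ho, hot])
  obtain ⟨k, hk⟩ := mem_zpowers_iff.1 (e ▸ mem_zpowers (⟨i, hi⟩ : ↥D.T))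
  have hk' : t ^ k = i := congrArg Subtype.val hk
  rcases Int.even_or_odd k with ⟨j, rfl⟩ | ⟨j, rfl⟩
  · rw [← mul_two, zpow_mul, zpow_ofNat, ← zpow_natCast, ← zpow_mul, mul_comm, zpow_mul, zpow_natCast, pow_two,
      S.tt, one_zpow] at hk'
    exact absurd hk'.symm hi1
  · rw [zpow_add, zpow_mul, zpow_ofNat, pow_two, S.tt, one_zpow, one_mul, zpow_one] at hk'
    exact hk'.symm

/-- The centraliser of the root group has odd kernel `W`, and its involutions are conjugate under `W` to `t`. -/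
theorem exists_W : ∃ W : Subgroup G, Odd (Nat.card W) ∧ (∀ x ∈ W, ∀ r ∈ D.R, Commute x r) ∧
    (∀ x : G, (∀ r ∈ D.R, Commute x r) → Odd (orderOf x) → x ∈ W) ∧
    ∀ i : G, (∀ r ∈ D.R, Commute i r) → orderOf i = 2 → ∃ w ∈ W, w * t * w⁻¹ = i := by
  classical
  haveI : Fact (Nat.Prime 2) := ⟨Nat.prime_two⟩
  set X := centralizer (D.R : Set G) with hX
  have hXmem : ∀ x : G, x ∈ X ↔ ∀ r ∈ D.R, Commute x r := fun x =>
    ⟨fun h r hr => (mem_centralizer_iff.1 h r hr).symm, fun h => mem_centralizer_iff.2 fun r hr => (h r hr).symm.eq⟩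
  have htX : t ∈ X := (hXmem t).2 fun r hr => (S.mem_Rt hr).symm
  set tX : ↥X := ⟨t, htX⟩
  have htX1 : tX ≠ 1 := fun e => S.t1 (congrArg Subtype.val e)
  have htp : IsPGroup 2 ↥(zpowers tX) := IsPGroup.of_card (n := 1) (by
    rw [Nat.card_zpowers, Subgroup.orderOf_mk, pow_one, S.ht])
  obtain ⟨P, hP⟩ := htp.exists_le_sylow
  have htP : tX ∈ (P : Subgroup ↥X) := hP (mem_zpowers tX)
  have hPC : ∀ x ∈ (P : Subgroup ↥X), Commute (x : G) t → (x : G) ∈ D.T := by
    intro x hx hxt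
    obtain ⟨r, hr, z, hz, hzc, e⟩ := D.cent _ (mem_centralizer_singleton_iff.2 hxt.eq) ((hXmem _).1 x.2)
    obtain ⟨k, hk⟩ := P.isPGroup' ⟨x, hx⟩
    have hk' : (x : G) ^ 2 ^ k = 1 := congrArg (fun y : ↥(P : Subgroup ↥X) => ((y : ↥X) : G)) hk
    rw [e, ((hzc r (D.RC hr)).symm).mul_pow] at hk'
    have h1 : r ^ 2 ^ k = 1 := S.RT_one (pow_mem hr _) (eq_inv_of_mul_eq_one_left hk' ▸ inv_mem (pow_mem hz _))
    have h2 : r = 1 := by
      have ho := Nat.dvd_gcd (orderOf_dvd_of_pow_eq_one h1) (D.R.orderOf_dvd_natCard hr)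
      rw [D.cardR, Nat.coprime_iff_gcd_eq_one.1 ((Nat.coprime_two_left.2 S.odd_q).pow_left k)] at ho
      exact orderOf_eq_one_iff.1 (Nat.dvd_one.1 ho)
    rw [e, h2, one_mul]; exact hz
  have hall : ∀ x ∈ (P : Subgroup ↥X), Commute (x : G) t := by
    by_contra hno
    haveI : Group.IsNilpotent ↥(P : Subgroup ↥X) := P.isPGroup'.isNilpotent
    set Q := (centralizer ({(⟨tX, htP⟩ : ↥(P : Subgroup ↥X))} : Set ↥(P : Subgroup ↥X))) with hQ
    have hQt : ∀ y : ↥(P : Subgroup ↥X), y ∈ Q ↔ Commute ((y : ↥X) : G) t := fun y => by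
      rw [hQ, mem_centralizer_singleton_iff]
      exact ⟨fun h => congrArg (fun z : ↥(P : Subgroup ↥X) => ((z : ↥X) : G)) h,
        fun h => Subtype.ext (Subtype.ext h.eq)⟩
    have hQ1 : Q < ⊤ := lt_top_iff_ne_top.2 fun e => hno fun x hx => (hQt ⟨x, hx⟩).1 (e ▸ mem_top _)
    obtain ⟨g, hgN, hgQ⟩ := SetLike.exists_of_lt (Group.normalizerCondition_of_isNilpotent Q hQ1)
    refine hgQ ((hQt g).2 ?_)
    have h1 : g * ⟨tX, htP⟩ * g⁻¹ ∈ Q := (mem_normalizer_iff.1 hgN _).1 ((hQt _).2 (Commute.refl t))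
    have h2 : Commute (((g : ↥X) : G) * t * ((g : ↥X) : G)⁻¹) t := (hQt _).1 h1
    have h3 := hPC _ ((g * ⟨tX, htP⟩ * g⁻¹).2) h2
    refine mul_inv_eq_iff_eq_mul.1 (S.T_invol h3 ?_ fun e => S.t1 (conj_eq_one_iff.1 e))
    show ((g : ↥X) : G) * t * ((g : ↥X) : G)⁻¹ * (((g : ↥X) : G) * t * ((g : ↥X) : G)⁻¹) = 1
    rw [conj_mul, S.tt, mul_one, mul_inv_cancel]
  haveI := D.Tcyc
  haveI hcyc : IsCyclic ↥(P : Subgroup ↥X) := by
    let f : ↥(P : Subgroup ↥X) →* ↥D.T := (X.subtype.comp (P : Subgroup ↥X).subtype).codRestrict D.T fun x =>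
      hPC x x.2 (hall x x.2)
    exact isCyclic_of_injective f fun a b h =>
      Subtype.ext (Subtype.ext (congrArg (fun z : ↥D.T => (z : G)) h))
  have hN := IsCyclic.normalizer_le_centralizer (P := P) (hP := hcyc)
    ((Nat.minFac_eq_two_iff _).2 (by
      rw [← orderOf_eq_prime (p := 2) (x := tX) (Subtype.ext (by rw [Subgroup.coe_pow, pow_two]; exact S.tt)) htX1]
      exact orderOf_dvd_natCard tX))
  set V := MonoidHom.transferSylow P hN
  refine ⟨V.ker.map X.subtype, ?_, ?_, fun x hx ho => ?_, fun i hi ho => ?_⟩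
  · rw [Subgroup.card_map_of_injective X.subtype_injective, ← Nat.not_even_iff_odd, even_iff_two_dvd]
    exact MonoidHom.not_dvd_card_ker_transferSylow P hN
  · rintro _ ⟨x, -, rfl⟩
    exact (hXmem _).1 x.2
  · refine ⟨⟨x, (hXmem x).2 hx⟩, ?_, rfl⟩
    rw [SetLike.mem_coe, MonoidHom.mem_ker, ← orderOf_eq_one_iff]
    have h1 : orderOf (V ⟨x, (hXmem x).2 hx⟩) ∣ orderOf x :=
      Subgroup.orderOf_mk x ((hXmem x).2 hx) ▸ orderOf_map_dvd V _
    obtain ⟨k, hk⟩ := IsPGroup.iff_orderOf.1 P.isPGroup' (V ⟨x, (hXmem x).2 hx⟩)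
    rw [hk] at h1 ⊢
    by_contra hne
    have h2 : k ≠ 0 := fun e => hne (by rw [e, pow_zero])
    exact Nat.not_even_iff_odd.2 ho (even_iff_two_dvd.2 ((dvd_pow_self 2 h2).trans h1))
  · set iX : ↥X := ⟨i, (hXmem i).2 hi⟩
    have hip : IsPGroup 2 ↥(zpowers iX) := IsPGroup.of_card (n := 1) (by
      rw [Nat.card_zpowers, Subgroup.orderOf_mk, pow_one, ho])
    obtain ⟨P', hP'⟩ := hip.exists_le_sylow
    obtain ⟨g, hg⟩ := MulAction.exists_smul_eq ↥X P P'
    have h1 : iX ∈ (P' : Subgroup ↥X) := hP' (mem_zpowers iX)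
    rw [← hg, Sylow.coe_subgroup_smul] at h1
    obtain ⟨y, hy, he⟩ := h1
    have he' : (g : G) * (y : G) * (g : G)⁻¹ = i := congrArg Subtype.val he
    have hyt : (y : G) = t := by
      refine S.T_invol (hPC y hy (hall y hy)) ?_ fun e => ?_
      · have h2 : i * i = 1 := by rw [← pow_two, ← ho, pow_orderOf_eq_one]
        rw [← he', conj_mul] at h2
        exact conj_eq_one_iff.1 h2
      · rw [e, mul_one, mul_inv_cancel] at he'
        rw [← he', orderOf_one] at ho; omega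
    have hc := MonoidHom.ker_transferSylow_isComplement' P hN
    obtain ⟨⟨⟨w, hw⟩, ⟨s, hs⟩⟩, hws⟩ := hc.2 g
    refine ⟨w, ⟨w, hw, rfl⟩, ?_⟩
    have hg' : (g : G) = (w : G) * s := (congrArg Subtype.val hws).symm
    rw [← he', hyt, hg', show (w : G) * s * t * ((w : G) * s)⁻¹ = w * ((s : G) * t * (s : G)⁻¹) * (w : G)⁻¹ by group,
      (hall s hs).eq, mul_inv_cancel_right]

/-- The inverted part of the centraliser of `R`, modulo `R`. -/
theorem exists_K : ∃ K : Subgroup G, D.R ≤ K ∧ Odd (Nat.card K) ∧ (∀ x ∈ K, ∀ r ∈ D.R, Commute x r) ∧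
    (∀ x ∈ K, ∀ y ∈ K, x * y * x⁻¹ * y⁻¹ ∈ D.R) ∧ (∀ x ∈ K, Commute x t → x ∈ D.R) ∧
    (∀ x ∈ K, t * x * t⁻¹ * x ∈ D.R) ∧ normalizer (D.R : Set G) ≤ normalizer (K : Set G) ∧
    K ≤ normalizer (D.R : Set G) ∧
    (∀ g ∈ normalizer (D.R : Set G), ∃ k ∈ K, ∃ s ∈ D.T, g = k * s) := by
  classical
  obtain ⟨W, hWodd, hWR, hWmem, hWconj⟩ := S.exists_W
  have hRW : D.R ≤ W := fun r hr => hWmem r (D.Rab r hr)
    (S.odd_q.of_dvd_nat (D.cardR ▸ D.R.orderOf_dvd_natCard hr))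
  have hWN : ∀ g ∈ normalizer (D.R : Set G), ∀ x ∈ W, g * x * g⁻¹ ∈ W := by
    intro g hg x hx
    refine hWmem _ (fun r hr => ?_) ?_
    · have h1 := (hWR x hx _ (GW.ThreeClass.conj_mem' hg hr)).map (MulAut.conj g).toMonoidHom
      simpa [mul_assoc] using h1
    · rw [show g * x * g⁻¹ = (MulAut.conj g).toMonoidHom x from rfl, orderOf_injective _ (MulAut.conj g).injective]
      exact hWodd.of_dvd_nat (W.orderOf_dvd_natCard hx)
  have htN : t ∈ normalizer (D.R : Set G) := GW.ThreeClass.mem_normalizer_of fun r hr => by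
    rwa [(S.mem_Rt hr).symm.eq, mul_inv_cancel_right]
  set R' := D.R.subgroupOf W with hR'
  have hR'n : R'.Normal := ⟨fun r hr x => by
    rw [hR', mem_subgroupOf] at hr ⊢
    rwa [Subgroup.coe_mul, Subgroup.coe_mul, (hWR x x.2 r hr).eq, InvMemClass.coe_inv, mul_inv_cancel_right]⟩
  haveI := hR'n
  set π := QuotientGroup.mk' R'
  have hπ : ∀ x : ↥W, π x = 1 ↔ (x : G) ∈ D.R := fun x => QuotientGroup.eq_one_iff x
  let α0 : ↥W →* ↥W := MonoidHom.mk' (fun x => ⟨t * x * t⁻¹, hWN t htN x x.2⟩) fun x y => Subtype.ext (by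
    show t * ((x : G) * y) * t⁻¹ = t * x * t⁻¹ * (t * y * t⁻¹)
    group)
  let α : ↥W ⧸ R' →* ↥W ⧸ R' := QuotientGroup.map R' R' α0 fun x hx => by
    rw [hR', mem_subgroupOf] at hx
    show t * (x : G) * t⁻¹ ∈ D.R
    rwa [(S.mem_Rt hx).symm.eq, mul_inv_cancel_right]
  have hαv : ∀ x : ↥W, α (π x) = π (α0 x) := fun x => rfl
  have hα2 : ∀ x, α (α x) = x := fun x => by
    obtain ⟨x, rfl⟩ := QuotientGroup.mk'_surjective R' x
    rw [hαv, hαv]
    congr 1
    exact Subtype.ext (GW.ThreeClass.conj_conj S.tt (x : G))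
  -- fixed points lift
  have hlift : ∀ x : ↥W, α (π x) = π x → Commute (x : G) t := by
    intro x hx
    rw [hαv] at hx
    have hr : (x : G)⁻¹ * (t * x * t⁻¹) ∈ D.R := by
      have h := (hπ (x⁻¹ * α0 x)).1 (by rw [map_mul, map_inv, hx, inv_mul_cancel])
      exact h
    set r := (x : G)⁻¹ * (t * x * t⁻¹) with hr_def
    have h1 : t * x * t⁻¹ = x * r := by rw [hr_def, mul_inv_cancel_left]
    have h2 : (x : G) = x * r * r := by
      conv_lhs => rw [← GW.ThreeClass.conj_conj S.tt (x : G), h1, show t * ((x : G) * r) * t⁻¹ =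
        t * x * t⁻¹ * (t * r * t⁻¹) by group, h1, (S.mem_Rt hr).symm.eq, mul_inv_cancel_right]
    have h3 : r * r = 1 := by
      have := congrArg ((x : G)⁻¹ * ·) h2
      simpa [mul_assoc] using this.symm
    have h4 : r = 1 := by
      have h5 : (⟨r, hr⟩ : ↥D.R) = 1 := eq_one_of_self_inv (D.cardR.symm ▸ S.odd_q) (Subtype.ext h3)
      exact congrArg Subtype.val h5
    rw [h4, mul_one] at h1
    exact (mul_inv_eq_iff_eq_mul.1 h1).symm
  obtain ⟨Kb, hKn, hKmem, hKc, hKdec⟩ := exists_inverted_kernel (G := ↥W ⧸ R') (by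
      rw [← Nat.card_congr (Equiv.refl _)]
      exact hWodd.of_dvd_nat (Subgroup.card_quotient_dvd_card R')) α hα2 (by
    intro a ha ha1 g hga
    obtain ⟨a, rfl⟩ := QuotientGroup.mk'_surjective R' a
    obtain ⟨g, rfl⟩ := QuotientGroup.mk'_surjective R' g
    obtain ⟨r, hr, z, hzT, hzc, e⟩ := D.cent (a : G) (mem_centralizer_singleton_iff.2 (hlift a ha).eq) (hWR a a.2)
    have hz1 : z ≠ 1 := fun h => ha1 ((hπ a).2 (by rw [e, h, mul_one]; exact hr))
    have hzW : z ∈ W := by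
      rw [show z = r⁻¹ * (a : G) by rw [e, inv_mul_cancel_left]]
      exact mul_mem (inv_mem (hRW hr)) a.2
    have hrg : (g : G) * z * (g : G)⁻¹ * z⁻¹ ∈ D.R := by
      have h := (hπ (g * a * g⁻¹ * a⁻¹)).1 (by
        rw [map_mul, map_mul, map_mul, map_inv, map_inv, show π g * π a = π a * π g from hga.symm.eq.symm,
          mul_inv_cancel_right, mul_inv_cancel])
      simp only [Subgroup.coe_mul, InvMemClass.coe_inv, e] at h
      rwa [show (g : G) * (r * z) * (g : G)⁻¹ * (r * z)⁻¹ = ((g : G) * r * (g : G)⁻¹) * ((g : G) * z * (g : G)⁻¹ *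
        z⁻¹) * r⁻¹ by group, (hWR g g.2 r hr).eq, mul_inv_cancel_right,
        Subgroup.mul_mem_cancel_right _ (inv_mem hr), Subgroup.mul_mem_cancel_left _ hr] at h
    set r' := (g : G) * z * (g : G)⁻¹ * z⁻¹ with hr'
    have hgz : Commute (g : G) z := by
      refine mul_inv_eq_iff_eq_mul.1 (mul_inv_eq_one.1 (show r' = 1 from ?_))
      have h1 : (g : G) * z * (g : G)⁻¹ = r' * z := by rw [hr', inv_mul_cancel_right]
      have h2 := congrArg (fun y => y ^ orderOf z) h1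
      simp only [conj_pow, pow_orderOf_eq_one, mul_one, mul_inv_cancel,
        ((hzc r' (D.RC hrg)).symm).mul_pow] at h2
      have ho := Nat.dvd_gcd (D.R.orderOf_dvd_natCard hrg)
        ((orderOf_dvd_of_pow_eq_one h2.symm).trans (D.T.orderOf_dvd_natCard hzT))
      rw [Nat.coprime_iff_gcd_eq_one.1 S.coprime_RT] at ho
      exact orderOf_eq_one_iff.1 (Nat.dvd_one.1 ho)
    obtain ⟨l, hl, hlo⟩ := Nat.exists_prime_and_dvd (n := orderOf z) fun h => hz1 (orderOf_eq_one_iff.1 h)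
    set y := z ^ (orderOf z / l)
    have hyo : orderOf y = l := orderOf_pow_orderOf_div (orderOf_pos z).ne' hlo
    have hgC := S.hT y (pow_mem hzT _) (hyo ▸ hl)
      (hyo ▸ (hWodd.of_dvd_nat (W.orderOf_dvd_natCard hzW)).of_dvd_nat hlo)
      (mem_centralizer_singleton_iff.2 (hgz.pow_right _).eq)
    rw [hαv]
    refine congrArg π (Subtype.ext ?_)
    show t * (g : G) * t⁻¹ = g
    rw [(show Commute (g : G) t from mem_centralizer_singleton_iff.1 hgC).symm.eq, mul_inv_cancel_right])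
  haveI := hKn
  set K := (Kb.comap π).map W.subtype
  have hmem : ∀ x : G, x ∈ K ↔ x ∈ W ∧ t * x * t⁻¹ * x ∈ D.R := by
    intro x
    constructor
    · rintro ⟨x, hx, rfl⟩
      refine ⟨x.2, ?_⟩
      have h1 := (hKmem _).1 hx
      rw [hαv, eq_inv_iff_mul_eq_one, ← map_mul, hπ] at h1
      exact h1
    · rintro ⟨hxW, hx⟩
      refine ⟨⟨x, hxW⟩, (hKmem _).2 ?_, rfl⟩
      rw [hαv, eq_inv_iff_mul_eq_one, ← map_mul, hπ]
      exact hx
  have hRK : D.R ≤ K := fun r hr => (hmem r).2 ⟨hRW hr, by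
    rw [(S.mem_Rt hr).symm.eq, mul_inv_cancel_right]; exact mul_mem hr hr⟩
  have hKodd : Odd (Nat.card K) := hWodd.of_dvd_nat (Subgroup.card_dvd_of_le (Subgroup.map_subtype_le _))
  have hKR : ∀ x ∈ K, ∀ r ∈ D.R, Commute x r := fun x hx => hWR x ((hmem x).1 hx).1
  have hKnorm : ∀ g ∈ W, ∀ x ∈ K, g * x * g⁻¹ ∈ K := by
    rintro g hg _ ⟨x, hx, rfl⟩
    refine ⟨⟨g, hg⟩ * x * ⟨g, hg⟩⁻¹, ?_, rfl⟩
    rw [SetLike.mem_coe, mem_comap, map_mul, map_mul, map_inv]
    exact hKn.conj_mem _ hx _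
  have hTnorm : ∀ g ∈ D.T, g ∈ normalizer (D.R : Set G) := fun g hg =>
    GW.ThreeClass.mem_normalizer_of (D.TR g hg)
  -- `N ⊆ K T`
  have hsplit : ∀ g ∈ normalizer (D.R : Set G), ∃ k ∈ K, ∃ s ∈ D.T, g = k * s := by
    intro g hg
    obtain ⟨w, hw, hwe⟩ := hWconj (g * t * g⁻¹) (fun r hr => by
        have h1 := ((S.mem_Rt (GW.ThreeClass.conj_mem' hg hr)).symm).map (MulAut.conj g).toMonoidHom
        simpa [mul_assoc] using h1)
      (by rw [show g * t * g⁻¹ = (MulAut.conj g).toMonoidHom t from rfl,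
        orderOf_injective _ (MulAut.conj g).injective, S.ht])
    have hc : w⁻¹ * g ∈ centralizer ({t} : Set G) := mem_centralizer_singleton_iff.2 (mul_inv_eq_iff_eq_mul.1 (by
      rw [show w⁻¹ * g * t * (w⁻¹ * g)⁻¹ = w⁻¹ * (g * t * g⁻¹) * w by group, ← hwe]; group))
    obtain ⟨r, hr, s, hs, e⟩ := D.norm _ hc (fun r hr => by
      have hwN : w ∈ normalizer (D.R : Set G) := GW.ThreeClass.mem_normalizer_of fun x hx => by
        rwa [(hWR w hw x hx).eq, mul_inv_cancel_right]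
      exact GW.ThreeClass.conj_mem (mul_mem (inv_mem hwN) hg) hr)
    obtain ⟨k, hk, a, ha, he⟩ := hKdec (π ⟨w * r, mul_mem hw (hRW hr)⟩)
    obtain ⟨a, rfl⟩ := QuotientGroup.mk'_surjective R' a
    obtain ⟨k, rfl⟩ := QuotientGroup.mk'_surjective R' k
    have hrest : ((k * a)⁻¹ * ⟨w * r, mul_mem hw (hRW hr)⟩ : ↥W).1 ∈ D.R :=
      (hπ _).1 (by rw [map_mul, map_inv, map_mul, he, inv_mul_cancel])
    obtain ⟨r1, hr1, z, hz, -, e1⟩ := D.cent (a : G) (mem_centralizer_singleton_iff.2 (hlift a ha).eq) (hWR a a.2)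
    set r2 := ((k * a)⁻¹ * ⟨w * r, mul_mem hw (hRW hr)⟩ : ↥W).1 with hr2
    have e2 : w * r = (k : G) * a * r2 := by
      rw [hr2, Subgroup.coe_mul, InvMemClass.coe_inv, Subgroup.coe_mul, mul_inv_cancel_left]
    refine ⟨(k : G) * r1 * (z * r2 * z⁻¹), mul_mem (mul_mem ⟨k, hk, rfl⟩ (hRK hr1))
      (hRK (D.TR z hz r2 hrest)), z * s, mul_mem hz hs, ?_⟩
    calc g = w * r * s := by rw [mul_assoc w, ← e, mul_inv_cancel_left]
      _ = (k : G) * (r1 * z) * r2 * s := by rw [e2, e1]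
      _ = _ := by group
  refine ⟨K, hRK, hKodd, hKR, ?_, fun x hx hxt => ?_, fun x hx => ((hmem x).1 hx).2, fun g hg => ?_,
    fun x hx => GW.ThreeClass.mem_normalizer_of fun r hr => ?_, hsplit⟩
  · rintro _ ⟨x, hx, rfl⟩ _ ⟨y, hy, rfl⟩
    have h := (hπ (x * y * x⁻¹ * y⁻¹)).1 (by
      rw [map_mul, map_mul, map_mul, map_inv, map_inv, (hKc _ hx _ hy).eq, mul_inv_cancel_right, mul_inv_cancel])
    exact h
  · obtain ⟨hxW, h1⟩ := (hmem x).1 hx
    rw [hxt.symm.eq, mul_inv_cancel_right] at h1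
    obtain ⟨k, hk⟩ := GW.ThreeClass.exists_sqrt (hWodd.of_dvd_nat (W.orderOf_dvd_natCard hxW))
    rw [← hk, ← (Commute.refl x).mul_pow]
    exact pow_mem h1 k
  · refine GW.ThreeClass.mem_normalizer_of fun x hx => ?_
    obtain ⟨k, hk, s, hs, rfl⟩ := hsplit g hg
    rw [show k * s * x * (k * s)⁻¹ = k * (s * x * s⁻¹) * k⁻¹ by group]
    refine hKnorm k ((hmem k).1 hk).1 _ ((hmem _).2 ⟨hWN s (hTnorm s hs) x ((hmem x).1 hx).1, ?_⟩)
    have hst := S.mem_Tt hs
    rw [show t * (s * x * s⁻¹) * t⁻¹ = (t * s) * x * (t * s)⁻¹ by group, ← hst.eq,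
      show s * t * x * (s * t)⁻¹ * (s * x * s⁻¹) = s * (t * x * t⁻¹ * x) * s⁻¹ by group]
    exact D.TR s hs _ ((hmem x).1 hx).2
  · rwa [(hKR x hx r hr).eq, mul_inv_cancel_right]

/-- The kernel `K` of the normaliser of `R`: its `p`-part and the congruences from the free action of the torus. -/
theorem exists_core : ∃ (K : Subgroup G) (a D0 : ℕ), (∀ x ∈ K, ∀ r ∈ D.R, Commute x r) ∧
    (∀ x ∈ K, Commute x t → x ∈ D.R) ∧
    K ≤ normalizer (D.R : Set G) ∧ normalizer (D.R : Set G) ≤ normalizer (K : Set G) ∧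
    D.T ≤ normalizer (D.R : Set G) ∧ (∀ g ∈ normalizer (D.R : Set G), ∃ k ∈ K, ∃ s ∈ D.T, g = k * s) ∧
    (∀ x, x ∈ K → x ∈ D.T → x = 1) ∧
    Nat.card ↥(normalizer (D.R : Set G)) = Nat.card K * Nat.card D.T ∧
    Nat.card K = p ^ a * D0 ∧ ¬ p ∣ D0 ∧ D0 ≡ 1 [MOD Nat.card D.T] ∧ n ≤ a ∧
    p ^ (a - n) ≡ 1 [MOD Nat.card D.T] ∧ (p ^ (n + 1) ∣ Nat.card G → a ≠ n) := by
  classical
  obtain ⟨K, hRK, hKodd, hKR, hKcomm, hKt, hKinv, hNK, hKN, hsplit⟩ := S.exists_K
  haveI : Fact p.Prime := ⟨S.hp⟩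
  have hTN : D.T ≤ normalizer (D.R : Set G) := fun g hg => GW.ThreeClass.mem_normalizer_of (D.TR g hg)
  -- the torus is free outside `R`
  have hfree : ∀ y ∈ D.T, y ≠ 1 → ∀ x ∈ K, Commute y x → x ∈ D.R := by
    intro y hy hy1 x hx hyx
    set x' := x⁻¹ * (t * x * t⁻¹) with hx'
    have hyt := S.mem_Tt hy
    have hyx' : Commute y x' := hyx.inv_right.mul_right ((hyt.mul_right hyx).mul_right hyt.inv_right)
    have hx'K : x' ∈ K := mul_mem (inv_mem hx) (GW.ThreeClass.conj_mem (hNK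
      (GW.ThreeClass.mem_normalizer_of fun r hr => by rwa [(S.mem_Rt hr).symm.eq, mul_inv_cancel_right])) hx)
    have hinv : t * x' * t⁻¹ = x'⁻¹ := by
      rw [hx', show t * (x⁻¹ * (t * x * t⁻¹)) * t⁻¹ = (t * x * t⁻¹)⁻¹ * (t * (t * x * t⁻¹) * t⁻¹) by group,
        GW.ThreeClass.conj_conj S.tt]
      group
    have hkill : Commute x' t → x ∈ D.R := fun h => by
      rw [h.symm.eq, mul_inv_cancel_right, eq_inv_iff_mul_eq_one] at hinv
      have h1 : (⟨x', hx'K⟩ : ↥K) = 1 := eq_one_of_self_inv hKodd (Subtype.ext hinv)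
      have h2 : x' = 1 := congrArg Subtype.val h1
      rw [hx', inv_mul_eq_one] at h2
      exact hKt x hx (mul_inv_eq_iff_eq_mul.1 h2.symm).symm
    obtain ⟨l, hl, hlo⟩ := Nat.exists_prime_and_dvd (n := orderOf y) fun h => hy1 (orderOf_eq_one_iff.1 h)
    set z := y ^ (orderOf y / l)
    have hzo : orderOf z = l := orderOf_pow_orderOf_div (orderOf_pos y).ne' hlo
    have hzx : Commute x' z := hyx'.symm.pow_right _
    rcases hl.eq_two_or_odd' with rfl | hodd
    · have hzt : z = t := S.T_invol (pow_mem hy _) (by rw [← pow_two, ← hzo, pow_orderOf_eq_one])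
        (fun e => by rw [e, orderOf_one] at hzo; omega)
      exact hkill (hzt ▸ hzx)
    · exact hkill (mem_centralizer_singleton_iff.1 (S.hT z (pow_mem hy _) (hzo ▸ hl) (hzo ▸ hodd)
        (mem_centralizer_singleton_iff.2 hzx.eq)))
  have hcount : ∀ U : Subgroup G, D.R ≤ U → U ≤ K → (∀ y ∈ D.T, ∀ x ∈ U, y * x * y⁻¹ ∈ U) →
      ∃ e, Nat.card U = q * e ∧ e ≡ 1 [MOD Nat.card D.T] := by
    intro U hRU hUK hTU
    obtain ⟨e, he⟩ := Subgroup.card_dvd_of_le hRU
    rw [D.cardR] at he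
    refine ⟨e, he, ?_⟩
    let Xs := {x : G // x ∈ U ∧ x ∉ D.R}
    letI : MulAction ↥D.T Xs :=
      { smul := fun y x => ⟨(y : G) * x * (y : G)⁻¹, hTU y y.2 x x.2.1, fun h => x.2.2 (by
          have h' := D.TR _ (inv_mem y.2) _ h
          simpa [mul_assoc] using h')⟩
        one_smul := fun x => Subtype.ext (by show (1 : G) * (x : G) * (1 : G)⁻¹ = x; simp)
        mul_smul := fun a b x => Subtype.ext (by
          show ((a : G) * b) * (x : G) * ((a : G) * b)⁻¹ = (a : G) * ((b : G) * x * (b : G)⁻¹) * (a : G)⁻¹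
          group) }
    have hd := JankoWard.CaseD.card_dvd_of_free (A := ↥D.T) (X := Xs) fun x => (Subgroup.eq_bot_iff_forall _).2 fun y hy => by
      by_contra hy1
      exact x.2.2 (hfree y y.2 (fun h => hy1 (Subtype.ext h)) x (hUK x.2.1)
        (mul_inv_eq_iff_eq_mul.1 (congrArg Subtype.val hy)))
    have hX : Nat.card Xs = q * e - q := by
      rw [← he]
      have h1 : Nat.card Xs = ((U : Set G) \ (D.R : Set G)).ncard := Nat.card_coe_set_eq ((U : Set G) \ (D.R : Set G))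
      rw [h1, Set.ncard_diff (show (D.R : Set G) ⊆ U from hRU), ← Nat.card_coe_set_eq, ← Nat.card_coe_set_eq]
      exact congrArg₂ (· - ·) rfl D.cardR
    rw [hX, show q * e - q = q * (e - 1) by rw [Nat.mul_sub, mul_one]] at hd
    have hco : (Nat.card D.T).Coprime q := by
      have h := S.coprime_RT.symm
      rwa [D.cardR] at h
    have he1 : 1 ≤ e := Nat.pos_of_ne_zero fun h0 => by
      rw [h0, mul_zero] at he; exact Nat.card_pos.ne' he
    exact ((Nat.modEq_iff_dvd' he1).2 (hco.dvd_of_dvd_mul_left hd)).symm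
  -- the Sylow subgroup
  obtain ⟨P⟩ : Nonempty (Sylow p ↥K) := inferInstance
  haveI hKnil : Group.IsNilpotent ↥K := Grp.isNilpotent_of_commutator_le_center (by
    rw [_root_.commutator_def, Subgroup.commutator_le]
    intro x _ y _
    refine mem_center_iff.2 fun g => Subtype.ext ?_
    exact (hKR g g.2 _ (hKcomm x x.2 y y.2)).eq)
  haveI hPn : (P : Subgroup ↥K).Normal :=
    Sylow.normal_of_normalizerCondition Group.normalizerCondition_of_isNilpotent P
  set P0 := (P : Subgroup ↥K).map K.subtype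
  have hPK : P0 ≤ K := Subgroup.map_subtype_le _
  have hRP : D.R ≤ P0 := fun r hr => by
    have hp' : IsPGroup p ↥(D.R.subgroupOf K) := IsPGroup.of_card (n := n) (by
      rw [Nat.card_congr (subgroupOfEquivOfLe hRK).toEquiv, D.cardR, S.hq])
    obtain ⟨Q, hQ⟩ := hp'.exists_le_sylow
    haveI : Subsingleton (Sylow p ↥K) := (Sylow.unique_of_normal P inferInstance).instSubsingleton
    rw [Subsingleton.elim Q P] at hQ
    exact ⟨⟨r, hRK hr⟩, hQ hr, rfl⟩
  have hTP : ∀ y ∈ D.T, ∀ x ∈ P0, y * x * y⁻¹ ∈ P0 := by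
    rintro y hy _ ⟨x, hx, rfl⟩
    have hyK : y * (x : G) * y⁻¹ ∈ K := GW.ThreeClass.conj_mem (hNK (hTN hy)) x.2
    refine ⟨⟨_, hyK⟩, ?_, rfl⟩
    obtain ⟨j, hj⟩ := P.isPGroup' ⟨x, hx⟩
    have hj' : (x : G) ^ p ^ j = 1 := congrArg (fun z : ↥(P : Subgroup ↥K) => ((z : ↥K) : G)) hj
    have hp' : IsPGroup p ↥(zpowers (⟨_, hyK⟩ : ↥K)) := by
      have hy' : (y * (x : G) * y⁻¹) ^ p ^ j = 1 := by rw [conj_pow, hj', mul_one, mul_inv_cancel]
      obtain ⟨i, -, hi⟩ := (Nat.dvd_prime_pow S.hp).1 (orderOf_dvd_of_pow_eq_one hy')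
      exact IsPGroup.of_card (n := i) (by rw [Nat.card_zpowers, Subgroup.orderOf_mk, hi])
    obtain ⟨Q, hQ⟩ := hp'.exists_le_sylow
    haveI : Subsingleton (Sylow p ↥K) := (Sylow.unique_of_normal P inferInstance).instSubsingleton
    rw [Subsingleton.elim Q P] at hQ
    exact hQ (mem_zpowers _)
  obtain ⟨e1, he1, hm1⟩ := hcount P0 hRP hPK hTP
  obtain ⟨e2, he2, hm2⟩ := hcount K hRK le_rfl fun y hy x hx => GW.ThreeClass.conj_mem (hNK (hTN hy)) hx
  obtain ⟨D0, hD0⟩ := Subgroup.card_dvd_of_le hPK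
  have hPc : Nat.card P0 = Nat.card (P : Subgroup ↥K) := Subgroup.card_map_of_injective K.subtype_injective
  have hD0p : ¬ p ∣ D0 := fun h => P.not_dvd_index (by
    have h1 := (P : Subgroup ↥K).card_mul_index
    rw [← hPc, hD0] at h1
    rwa [Nat.eq_of_mul_eq_mul_left Nat.card_pos h1])
  have he2' : e2 = e1 * D0 := Nat.eq_of_mul_eq_mul_left (show 0 < q by have := S.three_le_q; omega)
    (by rw [← he2, hD0, he1, mul_assoc])
  have hmD : D0 ≡ 1 [MOD Nat.card D.T] := by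
    have h := hm1.mul_right D0
    rw [← he2', one_mul] at h
    exact h.symm.trans hm2
  obtain ⟨a, ha⟩ := IsPGroup.iff_card.1 P.isPGroup'
  have hPa : Nat.card P0 = p ^ a := hPc.trans ha
  have han : n ≤ a := by
    have h1 := Subgroup.card_dvd_of_le hRP
    rw [D.cardR, S.hq, hPa] at h1
    exact (Nat.pow_dvd_pow_iff_le_right S.hp.one_lt).1 h1
  have he1' : e1 = p ^ (a - n) := by
    refine Nat.eq_of_mul_eq_mul_left (show 0 < q by have := S.three_le_q; omega) ?_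
    rw [← he1, hPa, S.hq, ← pow_add]; congr 1; omega
  have hT1 : ∀ x, x ∈ K → x ∈ D.T → x = 1 := fun x hx hxT => S.RT_one (hKt x hx (S.mem_Tt hxT)) hxT
  have hNcard : Nat.card ↥(normalizer (D.R : Set G)) = Nat.card K * Nat.card D.T := by
    rw [← Nat.card_prod]
    refine (Nat.card_eq_of_bijective (fun x : ↥K × ↥D.T =>
      (⟨(x.1 : G) * x.2, mul_mem (hKN x.1.2) (hTN x.2.2)⟩ : ↥(normalizer (D.R : Set G)))) ⟨?_, ?_⟩).symm
    · rintro ⟨k, s⟩ ⟨k', s'⟩ h
      have h' : (k : G) * s = k' * s' := congrArg Subtype.val h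
      have h1 : (k' : G)⁻¹ * k = s' * (s : G)⁻¹ := by
        rw [eq_mul_inv_iff_mul_eq, mul_assoc, h', inv_mul_cancel_left]
      have h2 := hT1 _ (mul_mem (inv_mem k'.2) k.2) (h1 ▸ mul_mem s'.2 (inv_mem s.2))
      have h3 : (k : G) = k' := (inv_mul_eq_one.1 h2).symm
      rw [h3] at h'
      exact Prod.ext (Subtype.ext h3) (Subtype.ext (mul_left_cancel h'))
    · rintro ⟨g, hg⟩
      obtain ⟨k, hk, s, hs, rfl⟩ := hsplit g hg
      exact ⟨(⟨k, hk⟩, ⟨s, hs⟩), rfl⟩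
  have hane : p ^ (n + 1) ∣ Nat.card G → a ≠ n := by
    intro hdvd hae
    obtain ⟨Q, hQ⟩ := (IsPGroup.of_card (n := n) (G := ↥D.R) (p := p) (by rw [D.cardR, S.hq])).exists_le_sylow
    have hQc : p ^ (n + 1) ≤ Nat.card Q := Nat.le_of_dvd Nat.card_pos (Q.pow_dvd_card_of_pow_dvd_card hdvd)
    haveI : Group.IsNilpotent ↥(Q : Subgroup G) := Q.isPGroup'.isNilpotent
    have hlt : D.R.subgroupOf Q < ⊤ := lt_top_iff_ne_top.2 fun e => by
      have h1 := Subgroup.card_le_of_le (subgroupOf_eq_top.1 e)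
      rw [D.cardR, S.hq] at h1
      have : p ^ n < p ^ (n + 1) := Nat.pow_lt_pow_right S.hp.one_lt (by omega)
      omega
    obtain ⟨g, hgN, hgR⟩ := SetLike.exists_of_lt (Group.normalizerCondition_of_isNilpotent _ hlt)
    have hgn : (g : G) ∈ normalizer (D.R : Set G) := GW.ThreeClass.mem_normalizer_of fun r hr => by
      have h := (mem_normalizer_iff.1 hgN ⟨r, hQ hr⟩).1 hr
      exact h
    have hlt' : D.R < normalizer (D.R : Set G) ⊓ (Q : Subgroup G) :=
      lt_of_le_of_ne (le_inf le_normalizer hQ) fun e => hgR (e.symm ▸ (⟨hgn, g.2⟩ :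
        (g : G) ∈ normalizer (D.R : Set G) ⊓ (Q : Subgroup G)) : (g : G) ∈ D.R)
    obtain ⟨j, hj⟩ := IsPGroup.iff_card.1 (Q.isPGroup'.to_le
      (inf_le_right : normalizer (D.R : Set G) ⊓ (Q : Subgroup G) ≤ Q))
    have h2 : p ^ j ∣ p ^ a * D0 * Nat.card D.T := by
      rw [← hPa, ← hD0, ← hNcard, ← hj]; exact Subgroup.card_dvd_of_le inf_le_left
    rw [mul_assoc] at h2
    have hnd : ¬ p ∣ D0 * Nat.card D.T := fun h => (S.hp.dvd_mul.1 h).elim hD0p S.p_not_dvd_T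
    have h3 := Nat.Coprime.dvd_of_dvd_mul_right ((S.hp.coprime_iff_not_dvd.2 hnd).pow_left j) h2
    have h4 : Nat.card D.R < Nat.card ↥(normalizer (D.R : Set G) ⊓ (Q : Subgroup G)) := by
      refine lt_of_le_of_ne (Subgroup.card_le_of_le hlt'.le) fun e => hlt'.ne ?_
      exact Subgroup.eq_of_le_of_card_ge hlt'.le e.ge
    rw [hj, D.cardR, S.hq, ← hae] at h4
    have := Nat.le_of_dvd (pow_pos S.hp.pos _) h3
    omega
  exact ⟨K, a, D0, hKR, hKt, hKN, hNK, hTN, hsplit, hT1, hNcard, by rw [hD0, hPa], hD0p, hmD, han,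
    he1' ▸ hm1, hane⟩

end UBase

namespace USet

variable {G : Type u} [Group G] [Finite G] {t : G} {q : ℕ} {D : UData t q (Nat.gcd 3 (q + 1))} {p n : ℕ}
  (S : USet D p n)
include S

/-- `K` has order `q³` and the torus of the Borel subgroup complements it in the normaliser of `R`. -/
theorem exists_kernel [IsSimpleGroup G] : ∃ K : Subgroup G, Nat.card K = q ^ 3 ∧
    (∀ x ∈ K, ∀ r ∈ D.R, Commute x r) ∧ (∀ x ∈ K, Commute x t → x ∈ D.R) ∧
    K ≤ normalizer (D.R : Set G) ∧ normalizer (D.R : Set G) ≤ normalizer (K : Set G) ∧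
    D.T ≤ normalizer (D.R : Set G) ∧ (∀ g ∈ normalizer (D.R : Set G), ∃ k ∈ K, ∃ s ∈ D.T, g = k * s) ∧
    (∀ x, x ∈ K → x ∈ D.T → x = 1) ∧
    Nat.card ↥(normalizer (D.R : Set G)) = q ^ 3 * Nat.card D.T := by
  classical
  obtain ⟨K, a, D0, hKR, hKt, hKN, hNK, hTN, hsplit, hT1, hNcard, hKc, hD0p, hmD, han, hm1, hane'⟩ :=
    S.toUBase.exists_core
  -- orders
  have hTcard := D.cardT
  have hC : Nat.card ↥(centralizer ({t} : Set G)) = q * Nat.card D.T * (q + 1) := by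
    refine Nat.eq_of_mul_eq_mul_left (show 0 < Nat.gcd 3 (q + 1) from Nat.gcd_pos_of_pos_left _ (by norm_num)) ?_
    rw [D.cardC, ← hTcard]; ring
  have hG : Nat.card G = q ^ 3 * (Nat.card D.T * ((q + 1) * (q ^ 2 - q + 1))) := by rw [S.hord, hC]; ring
  have hrest : ¬ p ∣ Nat.card D.T * ((q + 1) * (q ^ 2 - q + 1)) := by
    intro h
    rcases S.hp.dvd_mul.1 h with h | h
    · exact S.p_not_dvd_T h
    rcases S.hp.dvd_mul.1 h with h | h
    · exact S.hp.not_dvd_one ((Nat.dvd_add_right S.p_dvd_q).1 h)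
    · exact S.hp.not_dvd_one ((Nat.dvd_add_right (Nat.dvd_sub (S.p_dvd_q.trans (dvd_pow_self q two_ne_zero))
        S.p_dvd_q)).1 h)
  have hKG : p ^ a * D0 ∣ q ^ 3 * (Nat.card D.T * ((q + 1) * (q ^ 2 - q + 1))) := by
    rw [← hKc, ← hG]; exact Subgroup.card_subgroup_dvd_card K
  have ha3 : a ≤ 3 * n := by
    have h1 := (Nat.Coprime.dvd_of_dvd_mul_right ((S.hp.coprime_iff_not_dvd.2 hrest).pow_left a)
      (dvd_of_mul_right_dvd hKG))
    rw [S.hq, ← pow_mul] at h1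
    have := (Nat.pow_dvd_pow_iff_le_right S.hp.one_lt).1 h1
    omega
  have hane : a ≠ n := hane' (by
    rw [hG, S.q_cube]
    exact (pow_dvd_pow p (by have := S.hn; omega)).trans (dvd_mul_right _ _))
  have ha' : a = 3 * n := by
    rcases pow_mod_cases S.hp S.hp2 S.hn (by rw [← S.hq]; exact hTcard) (show a - n ≤ 2 * n by omega)
      hm1 with h | h <;> omega
  have hP3 : p ^ a = q ^ 3 := by rw [ha', S.hq, ← pow_mul, mul_comm]
  have hD1 : D0 = 1 := by
    have hco : D0.Coprime (Nat.card D.T) := by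
      show Nat.gcd D0 (Nat.card D.T) = 1
      rw [Nat.ModEq.gcd_eq hmD, Nat.gcd_one_left]
    have hdd : D0 ∣ (q + 1) * (q ^ 2 - q + 1) := by
      refine hco.dvd_of_dvd_mul_left ?_
      rw [hP3] at hKG
      exact Nat.dvd_of_mul_dvd_mul_left (pow_pos (by have := S.three_le_q; omega) 3) hKG
    rcases cofactor_cases S.odd_q S.three_le_q hTcard hdd hco hmD with h | ⟨h5, h9⟩
    · exact h
    exfalso
    subst h5
    obtain ⟨N, hN⟩ : ∃ N, normalizer (D.R : Set G) = N := ⟨_, rfl⟩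
    have hTd : Nat.card D.T = 8 := by norm_num at hTcard; omega
    have hNc : Nat.card N = 9000 := by rw [← hN, hNcard, hKc, hP3, h9, hTd]; norm_num
    have hGc : Nat.card G = 126000 := by rw [hG, hTd]; norm_num
    have hidx : N.index = 14 := by
      have := N.card_mul_index
      rw [hNc, hGc] at this
      omega
    have hne : N ≠ ⊤ := fun e => by rw [e, index_top] at hidx; omega
    have h14 := Fus.card_dvd_factorial_index hne
    rw [hGc, hidx] at h14
    norm_num [Nat.factorial] at h14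
  have hK3 : Nat.card K = q ^ 3 := by rw [hKc, hP3, hD1, mul_one]
  exact ⟨K, hK3, hKR, hKt, hKN, hNK, hTN, hsplit, hT1, by rw [hNcard, hK3]⟩

end USet

end Cfsg.Agent.Invol.BrauerL3
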