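import Cfsg.Agent.Lib.Invol.TwoSylowGLTwo
import Cfsg.Prelude.Def_LieClassical

/-!
# The centraliser of type `GU(2, q)` in a basis of isotropic vectors

`UData`: what is used of such a centraliser: a root group `R`, a torus `T` of its Borel subgroup and an element `w`.
-/

set_option autoImplicit false
set_option linter.unusedSectionVars false
set_option linter.style.haveILetI false

namespace Cfsg.Agent.Invol.BrauerL3

open Subgroup Matrix Cfsg

universe u v

/-- An element of the quotient coming from a matrix that fixes two isotropic lines that are not orthogonal. -/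
def IsTorusElt {F : Type v} [Field F] (q : ℕ) (Z : Subgroup (GU 2 F q)) [Z.Normal] (x : GU 2 F q ⧸ Z) : Prop :=
  ∃ g : GU 2 F q, QuotientGroup.mk' Z g = x ∧ ∃ v v' : Fin 2 → F,
    hermForm 2 F q v v = 0 ∧ hermForm 2 F q v' v' = 0 ∧ hermForm 2 F q v v' ≠ 0 ∧
      ∃ a a' : F, ((g : GL (Fin 2) F) : Matrix (Fin 2) (Fin 2) F) *ᵥ v = a • v ∧
        ((g : GL (Fin 2) F) : Matrix (Fin 2) (Fin 2) F) *ᵥ v' = a' • v'

/-- What is used of a centraliser of type `GU(2, q)`, the kernel having order `d`. -/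
structure UData {G : Type u} [Group G] (t : G) (q d : ℕ) where
  /-- a root group -/
  R : Subgroup G
  /-- a torus of the Borel subgroup -/
  T : Subgroup G
  /-- an element normalising `T` that moves `R` to the opposite root group -/
  w : G
  RC : R ≤ centralizer ({t} : Set G)
  TC : T ≤ centralizer ({t} : Set G)
  wC : w ∈ centralizer ({t} : Set G)
  cardC : d * Nat.card ↥(centralizer ({t} : Set G)) = q * (q ^ 2 - 1) * (q + 1)
  cardR : Nat.card ↥R = q
  cardT : d * Nat.card ↥T = q ^ 2 - 1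
  Tcyc : IsCyclic ↥T
  tT : t ∈ T
  TR : ∀ x ∈ T, ∀ r ∈ R, x * r * x⁻¹ ∈ R
  Rab : ∀ r ∈ R, ∀ r' ∈ R, Commute r r'
  cent : ∀ c ∈ centralizer ({t} : Set G), (∀ r ∈ R, Commute c r) →
    ∃ r ∈ R, ∃ z ∈ T, (∀ x ∈ centralizer ({t} : Set G), Commute z x) ∧ c = r * z
  norm : ∀ c ∈ centralizer ({t} : Set G), (∀ r ∈ R, c * r * c⁻¹ ∈ R) → ∃ r ∈ R, ∃ x ∈ T, c = r * x
  wT : ∀ x ∈ T, w * x * w⁻¹ ∈ T
  tgen : t ∈ R ⊔ R.map (MulAut.conj w).toMonoidHom
  Rw : ∀ r ∈ R, w * r * w⁻¹ ∈ R → r = 1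

section Model

variable (F : Type v) [Field F] (q : ℕ)

/-- The form in a basis of isotropic vectors. -/
def isoForm (x y : Fin 2 → F) : F := x 0 * y 1 ^ q + x 1 * y 0 ^ q

/-- Its group. -/
def IsoGU : Subgroup (GL (Fin 2) F) := preserving (Units.coeHom (Matrix (Fin 2) (Fin 2) F)) (isoForm F q)

variable {F q}
variable [Fintype F] (hF : Fintype.card F = q ^ 2)
include hF

theorem q_pos : 0 < q := by
  have h := Fintype.card_pos (α := F)
  rw [hF] at h
  exact Nat.pos_of_ne_zero fun e => by rw [e] at h; simp at h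

theorem zero_powq : (0 : F) ^ q = 0 := zero_pow (q_pos hF).ne'

theorem powq_powq (x : F) : (x ^ q) ^ q = x := by
  rw [← pow_mul, ← pow_two, ← hF, FiniteField.pow_card]

theorem mem_isoGU {g : GL (Fin 2) F} {a b c d : F}
    (hg : (g : Matrix (Fin 2) (Fin 2) F) = !![a, b; c, d]) :
    g ∈ IsoGU F q ↔ a * c ^ q + c * a ^ q = 0 ∧ b * d ^ q + d * b ^ q = 0 ∧
      a * d ^ q + c * b ^ q = 1 ∧ b * c ^ q + d * a ^ q = 1 := by
  constructor
  · intro h
    have e := fun u v => h u v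
    simp only [Units.coeHom_apply, hg, isoForm] at e
    have e00 := e ![1, 0] ![1, 0]
    have e11 := e ![0, 1] ![0, 1]
    have e01 := e ![1, 0] ![0, 1]
    have e10 := e ![0, 1] ![1, 0]
    simp [Matrix.mulVec, dotProduct, Fin.sum_univ_two, zero_powq hF] at e00 e11 e01 e10
    exact ⟨e00, e11, e01, e10⟩
  · rintro ⟨h1, h2, h3, h4⟩ u v
    simp only [Units.coeHom_apply, hg, isoForm, Matrix.mulVec, dotProduct, Fin.sum_univ_two, Matrix.cons_val_zero,
      Matrix.cons_val_one, Classical.add_pow_q hF, mul_pow, Matrix.of_apply]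
    linear_combination u 0 * v 0 ^ q * h1 + u 1 * v 1 ^ q * h2 + u 0 * v 1 ^ q * h3 + u 1 * v 0 ^ q * h4

omit [Fintype F] hF in
theorem eta (g : GL (Fin 2) F) : (g : Matrix (Fin 2) (Fin 2) F) =
    !![(g : Matrix (Fin 2) (Fin 2) F) 0 0, (g : Matrix (Fin 2) (Fin 2) F) 0 1;
      (g : Matrix (Fin 2) (Fin 2) F) 1 0, (g : Matrix (Fin 2) (Fin 2) F) 1 1] := by
  ext i j; fin_cases i <;> fin_cases j <;> rfl

end Model

section Elements

variable {F : Type v} [Field F]

/-- Upper unipotent matrices. -/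
def upU (a : F) : GL (Fin 2) F :=
  ⟨!![1, a; 0, 1], !![1, -a; 0, 1], by ext i j; fin_cases i <;> fin_cases j <;> simp,
    by ext i j; fin_cases i <;> fin_cases j <;> simp⟩

/-- Lower unipotent matrices. -/
def loU (a : F) : GL (Fin 2) F :=
  ⟨!![1, 0; a, 1], !![1, 0; -a, 1], by ext i j; fin_cases i <;> fin_cases j <;> simp,
    by ext i j; fin_cases i <;> fin_cases j <;> simp⟩

theorem upU_val (a : F) : ((upU a : GL (Fin 2) F) : Matrix (Fin 2) (Fin 2) F) = !![1, a; 0, 1] := rfl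

theorem loU_val (a : F) : ((loU a : GL (Fin 2) F) : Matrix (Fin 2) (Fin 2) F) = !![1, 0; a, 1] := rfl

theorem upU_add (a b : F) : upU (a + b) = upU a * upU b := by
  ext i j; fin_cases i <;> fin_cases j <;> simp [upU_val, add_comm]

theorem swap_upU (a : F) : TwoSylowGLTwo.swap * upU a * (TwoSylowGLTwo.swap : GL (Fin 2) F)⁻¹ = loU a := by
  rw [mul_inv_eq_iff_eq_mul]
  ext i j; fin_cases i <;> fin_cases j <;> simp [upU_val, loU_val, TwoSylowGLTwo.swap_val]

end Elements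

variable {G : Type u} [Group G] [Finite G] {F : Type v} [Field F] [Fintype F] {q : ℕ}

set_option maxHeartbeats 1600000 in
-- the matrix computations are long
/-- The data exist; a torus element of odd prime order has order dividing `q - 1` or is central. -/
theorem exists_udata (hq : Odd q) (hF : Fintype.card F = q ^ 2) (Z : Subgroup (GU 2 F q)) [Z.Normal]
    (hZc : Z ≤ Subgroup.center (GU 2 F q)) (hZo : Odd (Nat.card Z)) {t : G} (ht : orderOf t = 2)
    (e : ↥(centralizer ({t} : Set G)) ≃* GU 2 F q ⧸ Z) :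
    ∃ D : UData t q (Nat.card Z), ∀ y : ↥(centralizer ({t} : Set G)), (y : G) ∈ D.T → (orderOf y).Prime →
      IsTorusElt q Z (e y) ∧ (orderOf y ∣ q - 1 ∨ y ∈ Subgroup.center ↥(centralizer ({t} : Set G))) := by
  classical
  obtain ⟨hq0, h2, hu⟩ := TwoSylowGLTwo.q_facts hF hq
  have hpq : ∀ x : F, (x ^ q) ^ q = x := powq_powq hF
  have h0q : (0 : F) ^ q = 0 := zero_powq hF
  have hadd := fun x y : F => Classical.add_pow_q (q := q) hF x y
  have h2q : (2 : F) ^ q = 2 := by rw [show (2 : F) = 1 + 1 by norm_num, hadd, one_pow]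
  -- the basis
  obtain ⟨ε, hε⟩ : ∃ ε : F, ε ^ (q + 1) = -1 := by
    obtain ⟨g, hg⟩ := TwoSylowGLTwo.exists_order (F := F) (N := 2 * (q + 1)) (by
      rw [hu]
      obtain ⟨k, hk⟩ := hq
      exact ⟨k, by rw [hk, show 2 * k + 1 - 1 = 2 * k by omega]; ring⟩)
    refine ⟨g, ?_⟩
    have h1 : ((g : F) ^ (q + 1)) * ((g : F) ^ (q + 1)) = 1 := by
      rw [← pow_add, ← Units.val_pow_eq_pow_val, Units.val_eq_one, ← orderOf_dvd_iff_pow_eq_one, hg]
      exact ⟨1, by ring⟩
    refine (mul_self_eq_one_iff.1 h1).resolve_left fun h => ?_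
    rw [← Units.val_pow_eq_pow_val, Units.val_eq_one, ← orderOf_dvd_iff_pow_eq_one, hg] at h
    have := Nat.le_of_dvd (by omega) h
    omega
  have hε0 : ε ≠ 0 := fun h => by
    rw [h, zero_pow (by omega)] at hε
    exact one_ne_zero (neg_eq_zero.1 hε.symm)
  obtain ⟨h, hh⟩ : ∃ h : F, 2 * h = 1 := ⟨2⁻¹, mul_inv_cancel₀ h2⟩
  have hhq : h ^ q = h := by
    have h1 : 2 * h ^ q = 1 := by rw [← h2q, ← mul_pow, hh, one_pow]
    exact mul_left_cancel₀ h2 (h1.trans hh.symm)
  have hnegq : ∀ x : F, (-x) ^ q = -x ^ q := fun x => hq.neg_pow x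
  let M : GL (Fin 2) F := GeneralLinearGroup.mkOfDetNeZero !![1, h; ε, -(ε * h)] (by
    rw [Matrix.det_fin_two_of]
    intro h1
    exact hε0 (by linear_combination -h1 - ε * hh))
  have hM : ∀ x y, hermForm 2 F q ((M : Matrix (Fin 2) (Fin 2) F) *ᵥ x) ((M : Matrix (Fin 2) (Fin 2) F) *ᵥ y) =
      isoForm F q x y := by
    intro x y
    have hεq : ε * ε ^ q = -1 := by rw [← pow_succ', hε]
    show hermForm 2 F q (!![1, h; ε, -(ε * h)] *ᵥ x) (!![1, h; ε, -(ε * h)] *ᵥ y) = _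
    simp only [hermForm, isoForm, Matrix.mulVec, dotProduct, Fin.sum_univ_two, Matrix.cons_val_zero,
      Matrix.cons_val_one, Matrix.of_apply, hadd, mul_pow, hnegq, one_mul, hhq, one_pow]
    linear_combination (x 0 - h * x 1) * (y 0 ^ q - h * y 1 ^ q) * hεq + (x 0 * y 1 ^ q + x 1 * y 0 ^ q) * hh
  have hMi : ∀ x, (M : Matrix (Fin 2) (Fin 2) F) *ᵥ (((M⁻¹ : GL (Fin 2) F) : Matrix (Fin 2) (Fin 2) F) *ᵥ x) = x :=
    fun x => by rw [Matrix.mulVec_mulVec, ← Units.val_mul, mul_inv_cancel, Units.val_one, Matrix.one_mulVec]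
  have hiM : ∀ x, ((M⁻¹ : GL (Fin 2) F) : Matrix (Fin 2) (Fin 2) F) *ᵥ ((M : Matrix (Fin 2) (Fin 2) F) *ᵥ x) = x :=
    fun x => by rw [Matrix.mulVec_mulVec, ← Units.val_mul, inv_mul_cancel, Units.val_one, Matrix.one_mulVec]
  have hmemf : ∀ g ∈ IsoGU F q, M * g * M⁻¹ ∈ GU 2 F q := fun g hg => by
    intro u v
    show hermForm 2 F q (((M * g * M⁻¹ : GL (Fin 2) F) : Matrix (Fin 2) (Fin 2) F) *ᵥ u)
      (((M * g * M⁻¹ : GL (Fin 2) F) : Matrix (Fin 2) (Fin 2) F) *ᵥ v) = hermForm 2 F q u v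
    rw [Units.val_mul, Units.val_mul, ← Matrix.mulVec_mulVec, ← Matrix.mulVec_mulVec, ← Matrix.mulVec_mulVec,
      ← Matrix.mulVec_mulVec, hM]
    refine (hg _ _).trans ?_
    rw [← hM, hMi, hMi]
  have hmemb : ∀ g ∈ GU 2 F q, M⁻¹ * g * M ∈ IsoGU F q := fun g hg => by
    intro u v
    show isoForm F q (((M⁻¹ * g * M : GL (Fin 2) F) : Matrix (Fin 2) (Fin 2) F) *ᵥ u)
      (((M⁻¹ * g * M : GL (Fin 2) F) : Matrix (Fin 2) (Fin 2) F) *ᵥ v) = isoForm F q u v
    rw [← hM, Units.val_mul, Units.val_mul, ← Matrix.mulVec_mulVec, ← Matrix.mulVec_mulVec, ← Matrix.mulVec_mulVec,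
      ← Matrix.mulVec_mulVec, hMi, hMi]
    exact (hg _ _).trans (hM u v)
  let ρ : ↥(IsoGU F q) →* ↥(GU 2 F q) :=
    ((MulAut.conj M).toMonoidHom.comp (IsoGU F q).subtype).codRestrict _ fun g => hmemf g g.2
  have hρ : Function.Bijective ρ := by
    refine ⟨fun a b hab => Subtype.ext ((MulAut.conj M).injective (congrArg Subtype.val hab)), fun g => ?_⟩
    refine ⟨⟨M⁻¹ * g * M, hmemb g g.2⟩, Subtype.ext ?_⟩
    show M * (M⁻¹ * (g : GL (Fin 2) F) * M) * M⁻¹ = g
    group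
  let θ : ↥(IsoGU F q) →* G := (centralizer ({t} : Set G)).subtype.comp (e.symm.toMonoidHom.comp ((QuotientGroup.mk' Z).comp ρ))
  have hθC : ∀ g, θ g ∈ (centralizer ({t} : Set G)) := fun g => (e.symm _).2
  have hθsur : ∀ c ∈ (centralizer ({t} : Set G)), ∃ g, θ g = c := fun c hc => by
    obtain ⟨a, ha⟩ := QuotientGroup.mk'_surjective Z (e ⟨c, hc⟩)
    obtain ⟨g, rfl⟩ := hρ.2 a
    exact ⟨g, congrArg Subtype.val (e.symm_apply_eq.2 ha)⟩
  have hθ1 : ∀ g, θ g = 1 ↔ ρ g ∈ Z := fun g => by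
    constructor
    · intro hg
      exact (QuotientGroup.eq_one_iff _).1 (e.symm.map_eq_one_iff.1 (Subtype.ext hg))
    · intro hg
      show ((e.symm (QuotientGroup.mk' Z (ρ g))) : G) = 1
      rw [show QuotientGroup.mk' Z (ρ g) = 1 from (QuotientGroup.eq_one_iff _).2 hg, map_one]
      rfl
  -- elements of the model
  have hnegU : ∀ {a : F}, a ^ q = -a → upU a ∈ IsoGU F q := fun {a} ha =>
    (mem_isoGU hF (upU_val a)).2 ⟨by simp [h0q], by simp [ha], by simp [h0q], by simp [h0q]⟩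
  have hnegL : ∀ {a : F}, a ^ q = -a → loU a ∈ IsoGU F q := fun {a} ha =>
    (mem_isoGU hF (loU_val a)).2 ⟨by simp [ha], by simp [h0q], by simp [h0q], by simp [h0q]⟩
  have hsw : TwoSylowGLTwo.swap ∈ IsoGU F q :=
    (mem_isoGU hF TwoSylowGLTwo.swap_val).2 ⟨by simp [h0q], by simp [h0q], by simp [h0q], by simp [h0q]⟩
  let dg : Fˣ →* GL (Fin 2) F := TwoSylowGLTwo.dia.comp (MonoidHom.prod (MonoidHom.id Fˣ) (powMonoidHom q)⁻¹)
  have hdg : ∀ l : Fˣ, ((dg l : GL (Fin 2) F) : Matrix (Fin 2) (Fin 2) F) = !![(l : F), 0; 0, ((l : F) ^ q)⁻¹] :=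
    fun l => by
      show !![(l : F), 0; 0, ((((powMonoidHom q)⁻¹ : Fˣ →* Fˣ) l : Fˣ) : F)] = _
      simp
  have hdgm : ∀ l, dg l ∈ IsoGU F q := fun l => (mem_isoGU hF (hdg l)).2 ⟨by simp [h0q], by simp [h0q], by
    simp [inv_pow, hpq], by simp⟩
  let δ : Fˣ →* ↥(IsoGU F q) := dg.codRestrict _ hdgm
  -- the skew elements
  let φ : F →+ F := AddMonoidHom.mk' (fun x => x ^ q + x) fun x y => by rw [hadd]; ring
  have hφ : ∀ a : F, a ∈ φ.ker ↔ a ^ q = -a := fun a => by
    rw [AddMonoidHom.mem_ker, eq_neg_iff_add_eq_zero]; rfl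
  have hcardK : Nat.card φ.ker = q := by
    have hq2 : 1 < q := by
      have := Classical.two_le_q hF; omega
    have hroot : ∀ c : F, Nat.card {x : F // x ^ q = c * x} ≤ q := fun c => by
      set P : Polynomial F := Polynomial.X ^ q - Polynomial.C c * Polynomial.X
      have hdeg : P.natDegree = q := by
        rw [Polynomial.natDegree_sub_eq_left_of_natDegree_lt]
        · simp
        · simp only [Polynomial.natDegree_X_pow]
          exact lt_of_le_of_lt (Polynomial.natDegree_C_mul_le _ _) (by simp [hq2])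
      have hP : P ≠ 0 := fun e => by rw [e, Polynomial.natDegree_zero] at hdeg; omega
      have hsub : {x : F | x ^ q = c * x} ⊆ (P.roots.toFinset : Set F) := fun x hx => by
        simp only [Finset.mem_coe, Multiset.mem_toFinset, Polynomial.mem_roots', ne_eq, hP, not_false_eq_true,
          true_and, Polynomial.IsRoot.def, P, Polynomial.eval_sub, Polynomial.eval_pow, Polynomial.eval_X,
          Polynomial.eval_mul, Polynomial.eval_C]
        exact sub_eq_zero.2 hx
      calc Nat.card {x : F // x ^ q = c * x} ≤ Nat.card (P.roots.toFinset : Set F) :=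
            Nat.card_mono (Finset.finite_toSet _) hsub
        _ = P.roots.toFinset.card := by rw [Nat.card_coe_set_eq, Set.ncard_coe_finset]
        _ ≤ q := (Multiset.toFinset_card_le _).trans ((Polynomial.card_roots' P).trans hdeg.le)
    refine le_antisymm ?_ ?_
    · refine le_trans (Nat.card_le_card_of_injective
        (fun x : φ.ker => (⟨x, by rw [(hφ x).1 x.2]; ring⟩ : {y : F // y ^ q = (-1) * y})) fun x y h =>
          Subtype.ext (congrArg (fun z : {y : F // y ^ q = (-1) * y} => (z : F)) h)) (hroot (-1))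
    · have hr : Nat.card φ.range ≤ q := by
        refine le_trans (Nat.card_le_card_of_injective
          (fun x : φ.range => (⟨x, by
            obtain ⟨y, hy⟩ := x.2
            rw [← hy, one_mul]
            show (y ^ q + y) ^ q = y ^ q + y
            rw [hadd, hpq, add_comm]⟩ : {y : F // y ^ q = 1 * y})) fun x y h =>
            Subtype.ext (congrArg (fun z : {y : F // y ^ q = 1 * y} => (z : F)) h)) (hroot 1)
      have h1 := φ.ker.card_mul_index
      rw [AddSubgroup.index_ker, Nat.card_eq_fintype_card (α := F), hF, pow_two] at h1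
      by_contra hlt
      have h3 : Nat.card φ.ker * Nat.card φ.range ≤ (q - 1) * q := Nat.mul_le_mul (by omega) hr
      rw [h1, Nat.sub_one_mul] at h3
      have : 0 < q * q := Nat.mul_pos hq0 hq0
      omega
  let μ : Multiplicative φ.ker →* ↥(IsoGU F q) :=
    MonoidHom.mk' (fun a => ⟨upU ((Multiplicative.toAdd a : φ.ker) : F), hnegU ((hφ _).1 (Multiplicative.toAdd a).2)⟩)
      fun a b => Subtype.ext (upU_add _ _)
  have hμv : ∀ a : F, ∀ ha : a ∈ φ.ker, ((μ (Multiplicative.ofAdd ⟨a, ha⟩) : ↥(IsoGU F q)) : GL (Fin 2) F) = upU a :=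
    fun a ha => rfl
  -- scalars
  have hscal : ∀ g : ↥(IsoGU F q), (∀ x, Commute g x) →
      ∃ s : F, ((g : GL (Fin 2) F) : Matrix (Fin 2) (Fin 2) F) = !![s, 0; 0, s] := by
    intro g hg
    haveI : Nontrivial φ.ker := Finite.one_lt_card_iff_nontrivial.1 (by
      rw [hcardK]; have := Classical.two_le_q hF; omega)
    obtain ⟨⟨a, ha⟩, ha0⟩ := exists_ne (0 : φ.ker)
    have ha' : a ≠ 0 := fun h => ha0 (Subtype.ext h)
    have e1 := congrArg (fun z : ↥(IsoGU F q) => ((z : GL (Fin 2) F) : Matrix (Fin 2) (Fin 2) F))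
      (hg ⟨upU a, hnegU ((hφ a).1 ha)⟩).eq
    have e2 := congrArg (fun z : ↥(IsoGU F q) => ((z : GL (Fin 2) F) : Matrix (Fin 2) (Fin 2) F))
      (hg ⟨loU a, hnegL ((hφ a).1 ha)⟩).eq
    simp only [Subgroup.coe_mul, Units.val_mul, upU_val, loU_val] at e1 e2
    rw [eta (g : GL (Fin 2) F), Matrix.mul_fin_two, Matrix.mul_fin_two] at e1 e2
    have f1 := congrFun (congrFun e1 0) 0
    have f2 := congrFun (congrFun e2 0) 0
    have f3 := congrFun (congrFun e1 0) 1
    simp [ha'] at f1 f2 f3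
    refine ⟨((g : GL (Fin 2) F) : Matrix (Fin 2) (Fin 2) F) 0 0, ?_⟩
    conv_lhs => rw [eta (g : GL (Fin 2) F)]
    have f4 : ((g : GL (Fin 2) F) : Matrix (Fin 2) (Fin 2) F) 1 1 =
        ((g : GL (Fin 2) F) : Matrix (Fin 2) (Fin 2) F) 0 0 := by
      refine mul_left_cancel₀ ha' ?_
      linear_combination -f3
    rw [f1, f2, f4]
  have hkscal : ∀ g, θ g = 1 → ∃ s : F, ((g : GL (Fin 2) F) : Matrix (Fin 2) (Fin 2) F) = !![s, 0; 0, s] :=
    fun g hg => hscal g fun x => hρ.1 (by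
      rw [map_mul, map_mul]
      exact (Subgroup.mem_center_iff.1 (hZc ((hθ1 g).1 hg)) (ρ x)).symm)
  have hscalar_comm : ∀ (g x : ↥(IsoGU F q)) (s : F),
      ((g : GL (Fin 2) F) : Matrix (Fin 2) (Fin 2) F) = !![s, 0; 0, s] → Commute g x := fun g x s hs => by
    refine Subtype.ext (Units.ext ?_)
    simp only [Subgroup.coe_mul, Units.val_mul, hs]
    rw [eta (x : GL (Fin 2) F), Matrix.mul_fin_two, Matrix.mul_fin_two]
    ext i j; fin_cases i <;> fin_cases j <;> simp [mul_comm]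
  have hscal_δ : ∀ (g : ↥(IsoGU F q)) (s : F), ((g : GL (Fin 2) F) : Matrix (Fin 2) (Fin 2) F) = !![s, 0; 0, s] →
      ∃ l : Fˣ, δ l = g := fun g s hs => by
    obtain ⟨-, -, h3, -⟩ := (mem_isoGU hF hs).1 g.2
    rw [h0q, mul_zero, add_zero] at h3
    refine ⟨Units.mk0 s (fun e => by simp [e] at h3), Subtype.ext (Units.ext ?_)⟩
    show ((dg _ : GL (Fin 2) F) : Matrix (Fin 2) (Fin 2) F) = _
    rw [hdg, hs, Units.val_mk0, ← eq_inv_of_mul_eq_one_left h3]
  set R := (θ.comp μ).range with hR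
  set T := (θ.comp δ).range with hT
  set w : G := θ ⟨TwoSylowGLTwo.swap, hsw⟩ with hw
  -- orders
  have hd : ∀ {H : Type v} [Group H] (f : H →* ↥(IsoGU F q)), Function.Injective f →
      (∀ g, θ g = 1 → g ∈ f.range) → Nat.card ↥(θ.comp f).ker = Nat.card ↥θ.ker := by
    intro H _ f hf hin
    refine Nat.card_eq_of_bijective (fun x => ⟨f x.1, x.2⟩) ⟨fun x y hxy => ?_, fun g => ?_⟩
    · exact Subtype.ext (hf (congrArg Subtype.val hxy))
    · obtain ⟨x, hx⟩ := hin g.1 g.2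
      exact ⟨⟨x, show θ (f x) = 1 by rw [hx]; exact g.2⟩, Subtype.ext hx⟩
  have hkerθ : Nat.card ↥θ.ker = Nat.card Z := by
    refine Nat.card_eq_of_bijective (fun x => ⟨ρ x.1, (hθ1 _).1 x.2⟩) ⟨fun x y hxy => ?_, fun z => ?_⟩
    · exact Subtype.ext (hρ.1 (congrArg Subtype.val hxy))
    · obtain ⟨g, hg⟩ := hρ.2 z.1
      exact ⟨⟨g, (hθ1 g).2 (hg ▸ z.2)⟩, Subtype.ext hg⟩
  have hδinj : Function.Injective δ := fun a b hab => by
    have e1 := congrArg (fun z : ↥(IsoGU F q) => ((z : GL (Fin 2) F) : Matrix (Fin 2) (Fin 2) F) 0 0) hab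
    simp only [show ∀ l, ((δ l : ↥(IsoGU F q)) : GL (Fin 2) F) = dg l from fun l => rfl, hdg] at e1
    exact Units.ext (by simpa using e1)
  have hθrange : θ.range = (centralizer ({t} : Set G)) := le_antisymm (by rintro _ ⟨g, rfl⟩; exact hθC g) fun c hc => hθsur c hc
  have hcardC : Nat.card Z * Nat.card (centralizer ({t} : Set G)) = q * (q ^ 2 - 1) * (q + 1) := by
    rw [← hkerθ, ← hθrange, ← Subgroup.index_ker, θ.ker.card_mul_index, Nat.card_eq_of_bijective ρ hρ]
    refine Nat.cast_injective (R := ℤ) ((TwoSylowGLTwo.card_GU_two hF).trans ?_)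
    have h1 : 1 ≤ q ^ 2 := Nat.one_le_pow _ _ hq0
    push_cast [h1]
    ring
  have hcardR : Nat.card R = q := by
    have hinj : Function.Injective (θ.comp μ) := (injective_iff_map_eq_one _).2 fun a ha => by
      obtain ⟨s, hs⟩ := hkscal _ ha
      have e1 := congrFun (congrFun ((upU_val _).symm.trans hs) 0) 1
      simp at e1
      exact e1
    rw [hR, ← Nat.card_congr (MonoidHom.ofInjective hinj).toEquiv, Nat.card_congr Multiplicative.toAdd, hcardK]
  have hcardT : Nat.card Z * Nat.card T = q ^ 2 - 1 := by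
    rw [← hkerθ, ← hd δ hδinj fun g hg => by
        obtain ⟨s, hs⟩ := hkscal g hg
        exact hscal_δ g s hs,
      hT, ← Subgroup.index_ker, (θ.comp δ).ker.card_mul_index, hu, ← Nat.sq_sub_sq, one_pow]
  -- `t`
  obtain ⟨gt, hgt⟩ := hθsur t (Subgroup.mem_centralizer_singleton_iff.2 rfl)
  have hgtc : ∀ x, Commute gt x := by
    intro x
    have h1 : θ (gt * x * gt⁻¹ * x⁻¹) = 1 := by
      rw [map_mul, map_mul, map_mul, map_inv, map_inv, hgt,
        ← Subgroup.mem_centralizer_singleton_iff.1 (hθC x), mul_inv_cancel_right, mul_inv_cancel]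
    obtain ⟨s, hs⟩ := hkscal _ h1
    have h3 : ((gt * x * gt⁻¹ * x⁻¹ : ↥(IsoGU F q)) : GL (Fin 2) F) ^ 2 = 1 := by
      refine Units.ext ?_
      have hdet := congrArg Matrix.det hs
      simp only [Subgroup.coe_mul, InvMemClass.coe_inv, Units.val_mul, Matrix.det_mul, Matrix.det_fin_two_of] at hdet
      rw [Units.val_pow_eq_pow_val, hs, pow_two, Matrix.mul_fin_two, Units.val_one, Matrix.one_fin_two]
      have e : s * s = 1 := by
        rw [show s * s = s * s - 0 * 0 by ring, ← hdet,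
          show ∀ a b a' b' : F, a * b * a' * b' = (a * a') * (b * b') from fun _ _ _ _ => by ring,
          ← Matrix.det_mul, ← Matrix.det_mul, ← Units.val_mul, ← Units.val_mul, mul_inv_cancel, mul_inv_cancel,
          Units.val_one, Matrix.det_one, one_mul]
      ext i j; fin_cases i <;> fin_cases j <;> simp [e]
    have h4 : gt * x * gt⁻¹ * x⁻¹ = 1 := by
      obtain ⟨k, hk⟩ := hZo
      have h5 : (gt * x * gt⁻¹ * x⁻¹) ^ (2 * k + 1) = 1 := hρ.1 (by
        rw [map_pow, map_one, ← hk]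
        exact congrArg Subtype.val (pow_card_eq_one' (x := (⟨_, (hθ1 _).1 h1⟩ : Z))))
      rwa [pow_succ, pow_mul, show (gt * x * gt⁻¹ * x⁻¹) ^ 2 = 1 from Subtype.ext h3, one_pow, one_mul] at h5
    exact mul_inv_eq_iff_eq_mul.1 (mul_inv_eq_one.1 h4)
  have ht2 : t ^ 2 = 1 := ht ▸ pow_orderOf_eq_one t
  obtain ⟨gn, hgnv, hgn⟩ : ∃ gn : ↥(IsoGU F q),
      ((gn : GL (Fin 2) F) : Matrix (Fin 2) (Fin 2) F) = !![-1, 0; 0, -1] ∧ θ gn = t := by
    refine ⟨gt ^ Nat.card Z, ?_, ?_⟩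
    swap
    · obtain ⟨k, hk⟩ := hZo
      rw [map_pow, hgt, hk, pow_succ, pow_mul, ht2, one_pow, one_mul]
    · have hsq : (gt ^ Nat.card Z) ^ 2 = 1 := hρ.1 (by
        rw [← pow_mul, mul_comm, pow_mul, map_pow, map_one]
        exact congrArg Subtype.val (pow_card_eq_one' (x := (⟨_, (hθ1 (gt ^ 2)).1 (by
          rw [map_pow, hgt, ht2])⟩ : Z))))
      have hne : gt ^ Nat.card Z ≠ 1 := fun h => by
        obtain ⟨k, hk⟩ := hZo
        have h1 := congrArg θ h
        rw [map_pow, hgt, hk, pow_succ, pow_mul, ht2, one_pow, one_mul, map_one] at h1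
        rw [h1, orderOf_one] at ht; omega
      obtain ⟨s, hs⟩ := hscal _ fun x => (hgtc x).pow_left _
      have h1 : s * s = 1 := by
        have e1 := congrArg (fun z : ↥(IsoGU F q) => ((z : GL (Fin 2) F) : Matrix (Fin 2) (Fin 2) F)) hsq
        simp only [Subgroup.coe_pow, Units.val_pow_eq_pow_val, OneMemClass.coe_one, Units.val_one] at e1
        rw [← Units.val_pow_eq_pow_val, ← Subgroup.coe_pow, hs, pow_two, Matrix.mul_fin_two] at e1
        simpa using congrFun (congrFun e1 0) 0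
      rcases mul_self_eq_one_iff.1 h1 with rfl | rfl
      · exact absurd (Subtype.ext (Units.ext (hs.trans Matrix.one_fin_two.symm))) hne
      · exact hs
  -- trace argument
  have hconjU : ∀ (g : ↥(IsoGU F q)) {a b : F} (ha : a ∈ φ.ker) (hb : b ∈ φ.ker),
      θ g * θ (μ (Multiplicative.ofAdd ⟨a, ha⟩)) * (θ g)⁻¹ = θ (μ (Multiplicative.ofAdd ⟨b, hb⟩)) →
      ((g : GL (Fin 2) F) : Matrix (Fin 2) (Fin 2) F) * !![1, a; 0, 1] =
        !![1, b; 0, 1] * ((g : GL (Fin 2) F) : Matrix (Fin 2) (Fin 2) F) := by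
    intro g a b ha hb hab
    set A := μ (Multiplicative.ofAdd ⟨a, ha⟩)
    set B := μ (Multiplicative.ofAdd ⟨b, hb⟩)
    have h1 : θ (B⁻¹ * (g * A * g⁻¹)) = 1 := by
      rw [map_mul, map_mul, map_mul, map_inv, map_inv, hab, inv_mul_cancel]
    obtain ⟨s, hs⟩ := hkscal _ h1
    have h2' : ((g * A * g⁻¹ : ↥(IsoGU F q)) : GL (Fin 2) F).1 = !![1, b; 0, 1] * !![s, 0; 0, s] := by
      rw [← hs, show !![1, b; 0, 1] = ((B : GL (Fin 2) F) : Matrix (Fin 2) (Fin 2) F) from rfl, ← Units.val_mul,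
        ← Subgroup.coe_mul, mul_inv_cancel_left]
    have htr : ((g * A * g⁻¹ : ↥(IsoGU F q)) : GL (Fin 2) F).1.trace = 2 := by
      rw [Subgroup.coe_mul, Subgroup.coe_mul, InvMemClass.coe_inv, Units.val_mul, Matrix.trace_mul_comm,
        ← Units.val_mul, inv_mul_cancel_left]
      show (!![1, a; 0, 1] : Matrix (Fin 2) (Fin 2) F).trace = 2
      rw [Matrix.trace_fin_two_of]; norm_num
    rw [h2', Matrix.mul_fin_two, Matrix.trace_fin_two_of] at htr
    simp only [one_mul, mul_zero, add_zero, zero_mul, zero_add] at htr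
    have hs1 : s = 1 := mul_left_cancel₀ h2 (by linear_combination htr)
    rw [hs1, ← Matrix.one_fin_two, mul_one] at h2'
    have e : g * A * g⁻¹ = B := Subtype.ext (Units.ext h2')
    have e2 := congrArg (fun z : ↥(IsoGU F q) => ((z : GL (Fin 2) F) : Matrix (Fin 2) (Fin 2) F))
      (mul_inv_eq_iff_eq_mul.1 e)
    simp only [Subgroup.coe_mul, Units.val_mul] at e2
    exact e2
  have hborel : ∀ (g : ↥(IsoGU F q)), ((g : GL (Fin 2) F) : Matrix (Fin 2) (Fin 2) F) 1 0 = 0 →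
      ∃ r ∈ R, ∃ x ∈ T, θ g = r * x ∧ (((g : GL (Fin 2) F) : Matrix (Fin 2) (Fin 2) F) 0 0 =
        ((g : GL (Fin 2) F) : Matrix (Fin 2) (Fin 2) F) 1 1 → ∀ c ∈ (centralizer ({t} : Set G)), Commute x c) := by
    intro g hg0
    set a := ((g : GL (Fin 2) F) : Matrix (Fin 2) (Fin 2) F) 0 0
    set b := ((g : GL (Fin 2) F) : Matrix (Fin 2) (Fin 2) F) 0 1
    set d := ((g : GL (Fin 2) F) : Matrix (Fin 2) (Fin 2) F) 1 1
    have hgv : ((g : GL (Fin 2) F) : Matrix (Fin 2) (Fin 2) F) = !![a, b; 0, d] := by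
      rw [← hg0]; exact eta _
    obtain ⟨-, h2g, h3g, h4g⟩ := (mem_isoGU hF hgv).1 g.2
    rw [zero_mul, add_zero] at h3g
    rw [h0q, mul_zero, zero_add] at h4g
    have ha0 : a ≠ 0 := fun e => by rw [e, zero_mul] at h3g; exact zero_ne_one h3g
    have hd0 : d ≠ 0 := fun e => by rw [e, zero_mul] at h4g; exact zero_ne_one h4g
    have hbd : b / d ∈ φ.ker := (hφ _).2 (by
      rw [div_pow]
      field_simp
      linear_combination h2g)
    refine ⟨_, ⟨Multiplicative.ofAdd ⟨b / d, hbd⟩, rfl⟩, _, ⟨Units.mk0 a ha0, rfl⟩, ?_, ?_⟩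
    · show _ = θ (μ _) * θ (δ _)
      rw [← map_mul]
      refine congrArg θ (Subtype.ext (Units.ext ?_))
      show _ = (!![1, b / d; 0, 1] : Matrix (Fin 2) (Fin 2) F) *
        ((dg (Units.mk0 a ha0) : GL (Fin 2) F) : Matrix (Fin 2) (Fin 2) F)
      rw [hdg, hgv, Units.val_mk0, Matrix.mul_fin_two, ← eq_inv_of_mul_eq_one_left h4g]
      ext i j; fin_cases i <;> fin_cases j <;> simp [hd0]
    · intro had c hc
      obtain ⟨x, rfl⟩ := hθsur c hc
      refine Commute.map (hscalar_comm _ x a ?_) θ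
      show ((dg (Units.mk0 a ha0) : GL (Fin 2) F) : Matrix (Fin 2) (Fin 2) F) = _
      rw [hdg, Units.val_mk0, ← eq_inv_of_mul_eq_one_left h4g, ← had]
  have hskew0 : ∃ a : F, a ∈ φ.ker ∧ a ≠ 0 := by
    haveI : Nontrivial φ.ker := Finite.one_lt_card_iff_nontrivial.1 (by
      rw [hcardK]; have := Classical.two_le_q hF; omega)
    obtain ⟨⟨a, ha⟩, ha0⟩ := exists_ne (0 : φ.ker)
    exact ⟨a, ha, fun h => ha0 (Subtype.ext h)⟩
  have hTcyc : IsCyclic ↥T := by
    rw [hT]
    exact isCyclic_of_surjective _ (MonoidHom.rangeRestrict_surjective (θ.comp δ))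
  let D : UData t q (Nat.card Z) :=
    { R := R
      T := T
      w := w
      RC := by rintro _ ⟨a, rfl⟩; exact hθC _
      TC := by rintro _ ⟨a, rfl⟩; exact hθC _
      wC := hθC _
      cardC := hcardC
      cardR := hcardR
      cardT := hcardT
      Tcyc := hTcyc
      tT := by
        obtain ⟨l, hl⟩ := hscal_δ gn (-1) hgnv
        exact ⟨l, by rw [MonoidHom.comp_apply, hl, hgn]⟩
      TR := by
        rintro _ ⟨l, rfl⟩ _ ⟨a, rfl⟩
        obtain ⟨⟨a, ha⟩, rfl⟩ := Multiplicative.ofAdd.surjective a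
        have hb : (l : F) * (l : F) ^ q * a ∈ φ.ker := (hφ _).2 (by
          rw [mul_pow, mul_pow, hpq, (hφ a).1 ha]; ring)
        refine ⟨Multiplicative.ofAdd ⟨_, hb⟩, ?_⟩
        simp only [MonoidHom.comp_apply, ← map_inv θ, ← map_mul θ]
        refine congrArg θ (eq_mul_inv_of_mul_eq (Subtype.ext (Units.ext ?_)))
        show (!![1, (l : F) * (l : F) ^ q * a; 0, 1] : Matrix (Fin 2) (Fin 2) F) *
          ((dg l : GL (Fin 2) F) : Matrix (Fin 2) (Fin 2) F) = ((dg l : GL (Fin 2) F) : Matrix (Fin 2) (Fin 2) F) *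
            !![1, a; 0, 1]
        rw [hdg, Matrix.mul_fin_two, Matrix.mul_fin_two]
        ext i j; fin_cases i <;> fin_cases j <;> simp
        field_simp
      Rab := by
        rintro _ ⟨a, rfl⟩ _ ⟨b, rfl⟩
        exact (Commute.all a b).map _
      cent := by
        intro c hc hcom
        obtain ⟨g, rfl⟩ := hθsur c hc
        obtain ⟨a, ha, ha0⟩ := hskew0
        have e1 := hconjU g ha ha (by
          rw [(hcom _ ⟨Multiplicative.ofAdd ⟨a, ha⟩, rfl⟩ : Commute (θ g) (θ (μ (Multiplicative.ofAdd ⟨a, ha⟩)))).eq,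
            mul_inv_cancel_right])
        rw [eta (g : GL (Fin 2) F), Matrix.mul_fin_two, Matrix.mul_fin_two] at e1
        have f1 := congrFun (congrFun e1 0) 0
        have f2 := congrFun (congrFun e1 0) 1
        simp [ha0] at f1 f2
        obtain ⟨r, hr, x, hx, e2, hz⟩ := hborel g f1
        refine ⟨r, hr, x, hx, fun y hy => hz ?_ y hy, e2⟩
        exact mul_left_cancel₀ ha0 (by linear_combination f2)
      norm := by
        intro c hc hn
        obtain ⟨g, rfl⟩ := hθsur c hc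
        obtain ⟨a, ha, ha0⟩ := hskew0
        obtain ⟨b, hb⟩ := hn _ ⟨Multiplicative.ofAdd ⟨a, ha⟩, rfl⟩
        obtain ⟨⟨b, hbk⟩, rfl⟩ := Multiplicative.ofAdd.surjective b
        have e1 := hconjU g ha hbk hb.symm
        have hb0 : b ≠ 0 := fun h0 => by
          rw [h0, ← Matrix.one_fin_two, one_mul] at e1
          have e2 := congrArg (fun X => ((g⁻¹ : ↥(IsoGU F q)) : GL (Fin 2) F).1 * X) e1
          simp only [← mul_assoc, InvMemClass.coe_inv, ← Units.val_mul, inv_mul_cancel, Units.val_one, one_mul] at e2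
          have e3 := congrFun (congrFun e2 0) 1
          simp at e3
          exact ha0 e3
        rw [eta (g : GL (Fin 2) F), Matrix.mul_fin_two, Matrix.mul_fin_two] at e1
        have f1 := congrFun (congrFun e1 0) 0
        simp [hb0] at f1
        obtain ⟨r, hr, x, hx, e2, -⟩ := hborel g f1
        exact ⟨r, hr, x, hx, e2⟩
      wT := by
        rintro _ ⟨l, rfl⟩
        refine ⟨(l ^ q)⁻¹, ?_⟩
        simp only [hw, MonoidHom.comp_apply, ← map_inv θ, ← map_mul θ]
        refine congrArg θ (eq_mul_inv_of_mul_eq (Subtype.ext (Units.ext ?_)))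
        show ((dg (l ^ q)⁻¹ : GL (Fin 2) F) : Matrix (Fin 2) (Fin 2) F) * (TwoSylowGLTwo.swap : GL (Fin 2) F).1 =
          (TwoSylowGLTwo.swap : GL (Fin 2) F).1 * ((dg l : GL (Fin 2) F) : Matrix (Fin 2) (Fin 2) F)
        rw [hdg, hdg, TwoSylowGLTwo.swap_val, Matrix.mul_fin_two, Matrix.mul_fin_two]
        ext i j; fin_cases i <;> fin_cases j <;> simp [inv_pow, hpq]
      tgen := by
        obtain ⟨a, ha, ha0⟩ := hskew0
        have hb : -a⁻¹ ∈ φ.ker := (hφ _).2 (by rw [hnegq, inv_pow, (hφ a).1 ha, inv_neg])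
        set U := μ (Multiplicative.ofAdd ⟨a, ha⟩)
        set U' := μ (Multiplicative.ofAdd ⟨-a⁻¹, hb⟩)
        set s := (⟨TwoSylowGLTwo.swap, hsw⟩ : ↥(IsoGU F q))
        have e : gn = U * (s * U' * s⁻¹) * U * (U * (s * U' * s⁻¹) * U) := by
          refine Subtype.ext (Units.ext ?_)
          simp only [Subgroup.coe_mul, InvMemClass.coe_inv, U, U', s, hμv, swap_upU, Units.val_mul, upU_val, loU_val,
            hgnv, Matrix.mul_fin_two]
          ext i j; fin_cases i <;> fin_cases j <;> simp [ha0]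
        have h1 : θ U ∈ R ⊔ R.map (MulAut.conj w).toMonoidHom := Subgroup.mem_sup_left ⟨_, rfl⟩
        have h2 : θ (s * U' * s⁻¹) ∈ R ⊔ R.map (MulAut.conj w).toMonoidHom :=
          Subgroup.mem_sup_right ⟨θ U', ⟨_, rfl⟩, by simp [hw, s]⟩
        rw [← hgn, e, map_mul, map_mul, map_mul]
        exact mul_mem (mul_mem (mul_mem h1 h2) h1) (mul_mem (mul_mem h1 h2) h1)
      Rw := by
        rintro _ ⟨a, rfl⟩ ⟨b, hb⟩
        obtain ⟨⟨a, ha⟩, rfl⟩ := Multiplicative.ofAdd.surjective a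
        obtain ⟨⟨b, hbk⟩, rfl⟩ := Multiplicative.ofAdd.surjective b
        have e1 := hconjU ⟨TwoSylowGLTwo.swap, hsw⟩ ha hbk hb.symm
        simp only [TwoSylowGLTwo.swap_val, Matrix.mul_fin_two] at e1
        have f1 := congrFun (congrFun e1 1) 1
        simp at f1
        subst f1
        rw [show (⟨(0 : F), ha⟩ : φ.ker) = 0 from rfl, ofAdd_zero, map_one] }
  refine ⟨D, fun y hy hp => ?_⟩
  obtain ⟨l, hl⟩ := hy
  have hey : e y = QuotientGroup.mk' Z (ρ (δ l)) := by
    rw [show y = e.symm (QuotientGroup.mk' Z (ρ (δ l))) from Subtype.ext hl.symm, e.apply_symm_apply]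
  refine ⟨⟨ρ (δ l), hey.symm, (M : Matrix (Fin 2) (Fin 2) F) *ᵥ ![1, 0], (M : Matrix (Fin 2) (Fin 2) F) *ᵥ ![0, 1],
    ?_, ?_, ?_, (l : F), ((l : F) ^ q)⁻¹, ?_, ?_⟩, ?_⟩
  · rw [hM]; simp [isoForm, h0q]
  · rw [hM]; simp [isoForm, h0q]
  · rw [hM]; simp [isoForm, h0q]
  · show ((M * dg l * M⁻¹ : GL (Fin 2) F) : Matrix (Fin 2) (Fin 2) F) *ᵥ _ = _
    rw [Units.val_mul, Units.val_mul, ← Matrix.mulVec_mulVec, hiM, ← Matrix.mulVec_mulVec, hdg, ← Matrix.mulVec_smul]
    congr 1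
    ext i; fin_cases i <;> simp [Matrix.mulVec, dotProduct, Fin.sum_univ_two]
  · show ((M * dg l * M⁻¹ : GL (Fin 2) F) : Matrix (Fin 2) (Fin 2) F) *ᵥ _ = _
    rw [Units.val_mul, Units.val_mul, ← Matrix.mulVec_mulVec, hiM, ← Matrix.mulVec_mulVec, hdg, ← Matrix.mulVec_smul]
    congr 1
    ext i; fin_cases i <;> simp [Matrix.mulVec, dotProduct, Fin.sum_univ_two]
  · by_cases hs : orderOf y ∣ q - 1
    · exact Or.inl hs
    · refine Or.inr (Subgroup.mem_center_iff.2 fun x => Subtype.ext ?_)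
      set m := l ^ (q - 1)
      have hm1 : (m : F) ^ (q + 1) = 1 := by
        rw [← Units.val_pow_eq_pow_val, Units.val_eq_one, ← pow_mul, mul_comm (q - 1), ← hu]
        exact pow_card_eq_one'
      have hmv : ((δ m : ↥(IsoGU F q)) : GL (Fin 2) F).1 = !![(m : F), 0; 0, (m : F)] := by
        show ((dg m : GL (Fin 2) F) : Matrix (Fin 2) (Fin 2) F) = _
        rw [hdg, inv_eq_of_mul_eq_one_right (show (m : F) ^ q * (m : F) = 1 by rw [← pow_succ, hm1])]
      obtain ⟨gx, hgx⟩ := hθsur x.1 x.2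
      have h1 : Commute ((y : G) ^ (q - 1)) x := by
        rw [← hgx, ← hl, ← map_pow]
        exact (hscalar_comm _ gx _ hmv).map θ
      have hco : (q - 1).Coprime (orderOf (y : G)) := by
        rw [Subgroup.orderOf_coe]
        exact ((hp.coprime_iff_not_dvd).2 hs).symm
      obtain ⟨k, hk⟩ := exists_pow_eq_self_of_coprime hco
      have h2 := h1.pow_left k
      rw [hk] at h2
      exact h2.symm.eq

end Cfsg.Agent.Invol.BrauerL3
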